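import Groth.Agent.H7Lim.IdealSystem
import Mathlib.AlgebraicGeometry.AffineTransitionLimit
import Mathlib.RingTheory.Noetherian.Nilpotent
import Mathlib.Tactic.LinearCombination

/-!
# A thickening of an affine scheme is affine

First-order thickenings are handled by an explicit Čech computation, nilpotent ones by induction,
and the general case by writing the kernel as a union of ideal sheaves of finite type.
-/

set_option autoImplicit false
set_option backward.isDefEq.respectTransparency false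
set_option backward.defeqAttrib.useBackward true

universe u

open AlgebraicGeometry CategoryTheory Limits TopologicalSpace

namespace Groth.Agent.H7Lim

variable {X X' : Scheme.{u}} (t : X ⟶ X')

theorem app_rs {W V : X'.Opens} (h : W ≤ V) (a : Γ(X', V)) :
    t.app W (rs h a) = rs ((Opens.map t.base).map (homOfLE h)).le (t.app V a) :=
  ConcreteCategory.congr_hom (t.naturality (homOfLE h).op) a

theorem preimage_injective (ht : Function.Surjective t) {U V : X'.Opens} (h : t ⁻¹ᵁ U = t ⁻¹ᵁ V) :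
    U = V := by
  ext x
  obtain ⟨y, rfl⟩ := ht x
  exact Iff.of_eq (congrArg (fun W : X.Opens => y ∈ W) h)

variable (hsq : ∀ (W : X'.Opens) (a b : Γ(X', W)), t.app W a = 0 → t.app W b = 0 → a * b = 0)

include hsq in
theorem mul_eq_of_app_eq {W : X'.Opens} {a b c : Γ(X', W)} (hab : t.app W a = t.app W b)
    (hc : t.app W c = 0) : a * c = b * c := by
  have := hsq W (a - b) c (by rw [map_sub, hab, sub_self]) hc
  rwa [sub_mul, sub_eq_zero] at this

variable [IsClosedImmersion t] [IsAffine X]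

include hsq in
/-- For a first order thickening of an affine scheme, global sections lift. -/
theorem appTop_surjective_of_sq_zero (ht : Function.Surjective t) :
    Function.Surjective t.appTop := by
  classical
  intro g₀
  -- a finite cover of `X'` by affine opens whose preimages are standard opens
  have hloc : ∀ x : X, ∃ (g : Γ(X, ⊤)) (U : X'.Opens), IsAffineOpen U ∧ t ⁻¹ᵁ U = X.basicOpen g ∧ t x ∈ U := by
    intro x
    obtain ⟨A, hA, hxA, -⟩ := exists_isAffineOpen_mem_and_subset (Set.mem_univ (t x)) (U := (⊤ : X'.Opens))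
    obtain ⟨g, hgA, hxg⟩ := (isAffineOpen_top X).exists_basicOpen_le (V := t ⁻¹ᵁ A) ⟨x, hxA⟩ trivial
    obtain ⟨G, hG⟩ := t.app_surjective A hA (rs le_top g)
    have heq : t ⁻¹ᵁ X'.basicOpen G = X.basicOpen g := by
      rw [Scheme.preimage_basicOpen, hG]
      exact (X.basicOpen_res g (homOfLE le_top).op).trans (inf_eq_right.2 hgA)
    refine ⟨g, X'.basicOpen G, hA.basicOpen G, heq, ?_⟩
    show x ∈ t ⁻¹ᵁ X'.basicOpen G
    rw [heq]; exact hxg
  choose gx Ux hUx heqx hmemx using hloc
  obtain ⟨s, hs⟩ := isCompact_univ.elim_finite_subcover (fun x => (X.basicOpen (gx x) : Set X))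
    (fun x => (X.basicOpen (gx x)).2) (fun x _ => Set.mem_iUnion.2 ⟨x, by
      show x ∈ X.basicOpen (gx x)
      rw [← heqx x]; exact hmemx x⟩)
  let U : s → X'.Opens := fun i => Ux i.1
  let g : s → Γ(X, ⊤) := fun i => gx i.1
  have hU : ∀ i, IsAffineOpen (U i) := fun i => hUx i.1
  have heq : ∀ i, t ⁻¹ᵁ U i = X.basicOpen (g i) := fun i => heqx i.1
  have hspan : Ideal.span (Set.range g) = ⊤ := by
    rw [← (isAffineOpen_top X).iSup_basicOpen_eq_self_iff]
    refine le_antisymm le_top fun x _ => ?_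
    obtain ⟨i, hi⟩ : ∃ i : s, x ∈ X.basicOpen (g i) := by
      have := hs (Set.mem_univ x); simpa [g] using this
    exact Opens.mem_iSup.2 ⟨⟨g i, i, rfl⟩, hi⟩
  have hcover : (⊤ : X'.Opens) ≤ iSup U := by
    intro x' _
    obtain ⟨x, rfl⟩ := ht x'
    obtain ⟨i, hi⟩ : ∃ i : s, x ∈ X.basicOpen (g i) := by
      have := hs (Set.mem_univ x); simpa [g] using this
    exact Opens.mem_iSup.2 ⟨i, by rw [← heq i] at hi; exact hi⟩
  -- restriction of a global section of `X` to the preimage of an open of `X'`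
  let φ : ∀ W : X'.Opens, Γ(X, ⊤) →+* Γ(X, t ⁻¹ᵁ W) := fun W => rs le_top
  have hφ : ∀ {W V : X'.Opens} (h : W ≤ V) (a : Γ(X, ⊤)),
      rs ((Opens.map t.base).map (homOfLE h)).le (φ V a) = φ W a := fun h a => rs_rs _ _ a
  have hlift : ∀ {V : X'.Opens} {a : Γ(X', V)} {b : Γ(X, ⊤)} (_ : t.app V a = φ V b) {W : X'.Opens}
      (h : W ≤ V), t.app W (rs h a) = φ W b := by
    intro V a b hab W h
    rw [app_rs, hab, hφ h]
  have hkres : ∀ {W V : X'.Opens} (h : W ≤ V) {a : Γ(X', V)}, t.app V a = 0 → t.app W (rs h a) = 0 := by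
    intro W V h a ha
    rw [app_rs, ha, map_zero]
  choose G hG using fun i k => t.app_surjective (U i) (hU i) (φ (U i) (g k))
  choose h₀ hh₀ using fun i => t.app_surjective (U i) (hU i) (φ (U i) g₀)
  have hUG : ∀ i k, X'.basicOpen (G i k) = U i ⊓ U k := by
    intro i k
    apply preimage_injective t ht
    rw [Scheme.preimage_basicOpen, hG]
    refine (X.basicOpen_res (g k) (homOfLE le_top).op).trans ?_
    rw [← heq k]; rfl
  let c : ∀ i j, Γ(X', U i ⊓ U j) := fun i j => rs inf_le_left (h₀ i) - rs inf_le_right (h₀ j)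
  have hc : ∀ i j, t.app _ (c i j) = 0 := by
    intro i j
    rw [map_sub, hlift (hh₀ i), hlift (hh₀ j), sub_self]
  -- extend `g_k ^ N * c_ik` from `U_i ⊓ U_k` to `U_i`
  have hext : ∀ i k, ∃ n : ℕ, ∀ N, n ≤ N → ∃ d : Γ(X', U i), t.app _ d = 0 ∧
      rs inf_le_left d = rs inf_le_left (G i k ^ N) * c i k := by
    intro i k
    let h1 : U i ⊓ U k ≤ X'.basicOpen (G i k) := (hUG i k).ge
    let h2 : X'.basicOpen (G i k) ≤ U i ⊓ U k := (hUG i k).le
    have hloc' := (hU i).isLocalization_basicOpen (G i k)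
    have hmem : rs h2 (c i k) ∈
        (t.ker.ideal ⟨U i, hU i⟩).map (rs (X'.basicOpen_le (G i k))) := by
      have := t.ker.map_ideal_basicOpen ⟨U i, hU i⟩ (G i k)
      change (t.ker.ideal ⟨U i, hU i⟩).map (rs (X'.basicOpen_le (G i k))) = _ at this
      rw [this, Scheme.Hom.ker_apply]
      exact hkres h2 (hc i k)
    obtain ⟨⟨⟨d, hd⟩, ⟨_, n, rfl⟩⟩, hdn⟩ := (IsLocalization.mem_map_algebraMap_iff
      (Submonoid.powers (G i k)) Γ(X', X'.basicOpen (G i k))).1 hmem
    refine ⟨n, fun N hN => ⟨G i k ^ (N - n) * d, ?_, ?_⟩⟩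
    · rw [Scheme.Hom.ker_apply] at hd
      rw [map_mul, show t.app _ d = 0 from hd, mul_zero]
    · replace hdn : rs h2 (c i k) * rs (X'.basicOpen_le (G i k)) (G i k ^ n) =
          rs (X'.basicOpen_le (G i k)) d := hdn
      have := congrArg (rs h1) hdn
      rw [map_mul, rs_rs, rs_rs, rs_rs] at this
      rw [map_mul, ← this]
      conv_rhs => rw [← Nat.sub_add_cancel hN, pow_add, map_mul]
      have hcc : rs (le_refl (U i ⊓ U k)) (c i k) = c i k := by simp [rs]
      rw [hcc]
      ring
  choose n hn using hext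
  let N := ∑ i, ∑ k, n i k
  have hN : ∀ i k, n i k ≤ N := fun i k =>
    (Finset.single_le_sum (f := fun k => n i k) (fun _ _ => Nat.zero_le _) (Finset.mem_univ k)).trans
      (Finset.single_le_sum (f := fun i => ∑ k, n i k) (fun _ _ => Nat.zero_le _) (Finset.mem_univ i))
  choose d hd0 hd using fun i k => hn i k N (hN i k)
  let e : ∀ i j k, Γ(X', U i ⊓ U j) := fun i j k =>
    rs inf_le_left (d i k) - rs inf_le_right (d j k) - rs inf_le_left (G i k ^ N) * c i j
  have he : ∀ i j k, ∃ m : ℕ, ∀ M, m ≤ M → rs inf_le_left (G i k ^ M) * e i j k = 0 := by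
    intro i j k
    have haff : IsAffineOpen (U i ⊓ U j) := (hUG i j) ▸ (hU i).basicOpen _
    let G' : Γ(X', U i ⊓ U j) := rs inf_le_left (G i k)
    have hb : X'.basicOpen G' ≤ U k := by
      show X'.basicOpen (X'.presheaf.map (homOfLE (inf_le_left : U i ⊓ U j ≤ U i)).op (G i k)) ≤ _
      rw [Scheme.basicOpen_res, hUG]
      exact inf_le_right.trans inf_le_right
    have hbi : X'.basicOpen G' ≤ U i := (X'.basicOpen_le _).trans inf_le_left
    have hbj : X'.basicOpen G' ≤ U j := (X'.basicOpen_le _).trans inf_le_right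
    have hzero : rs (X'.basicOpen_le G') (e i j k) = 0 := by
      have h1 := congrArg (rs (le_inf hbi hb)) (hd i k)
      have h2 := congrArg (rs (le_inf hbj hb)) (hd j k)
      simp only [map_mul, map_sub, c, rs_rs] at h1 h2
      simp only [e, c, map_sub, map_mul, rs_rs]
      rw [h1, h2]
      have h3 := mul_eq_of_app_eq t hsq (W := X'.basicOpen G') (a := rs hbj (G j k ^ N))
        (b := rs hbi (G i k ^ N)) (c := rs hbj (h₀ j) - rs hb (h₀ k))
        (by rw [hlift (b := g k ^ N) (by rw [map_pow, map_pow, hG]), hlift (b := g k ^ N) (by rw [map_pow, map_pow, hG])])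
        (by rw [map_sub, hlift (hh₀ j), hlift (hh₀ k), sub_self])
      linear_combination -h3
    have hloc' := haff.isLocalization_basicOpen G'
    obtain ⟨⟨_, m, rfl⟩, hm⟩ :=
      (IsLocalization.map_eq_zero_iff (Submonoid.powers G') Γ(X', X'.basicOpen G') (e i j k)).1 hzero
    refine ⟨m, fun M hM => ?_⟩
    rw [← Nat.sub_add_cancel hM, pow_add, map_mul, mul_assoc, map_pow _ (G i k) m, hm, mul_zero]
  choose m hm using he
  let M := ∑ i, ∑ j, ∑ k, m i j k
  have hM : ∀ i j k, m i j k ≤ M := fun i j k =>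
    ((Finset.single_le_sum (f := fun k => m i j k) (fun _ _ => Nat.zero_le _) (Finset.mem_univ k)).trans
      (Finset.single_le_sum (f := fun j => ∑ k, m i j k) (fun _ _ => Nat.zero_le _) (Finset.mem_univ j))).trans
      (Finset.single_le_sum (f := fun i => ∑ j, ∑ k, m i j k) (fun _ _ => Nat.zero_le _) (Finset.mem_univ i))
  -- a partition of unity
  obtain ⟨a, ha⟩ : ∃ a : s → Γ(X, ⊤), ∑ k, a k * g k ^ (N + M) = 1 := by
    have := Ideal.span_pow_eq_top _ hspan (N + M)
    rw [← Set.range_comp, Ideal.eq_top_iff_one, Ideal.mem_span_range_iff_exists_fun] at this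
    exact this
  choose A hA using fun i k => t.app_surjective (U i) (hU i) (φ (U i) (a k))
  let τ : ∀ i, Γ(X', U i) := fun i => h₀ i - ∑ k, A i k * G i k ^ M * d i k
  have hτ : ∀ i, t.app _ (τ i) = φ (U i) g₀ := by
    intro i
    simp [τ, map_sum, hd0, hh₀]
  have hcompat : ∀ i j, rs (inf_le_left : U i ⊓ U j ≤ U i) (τ i) = rs inf_le_right (τ j) := by
    intro i j
    have key : ∀ k, rs (inf_le_left : U i ⊓ U j ≤ U i) (A i k * G i k ^ M * d i k) -
        rs inf_le_right (A j k * G j k ^ M * d j k) =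
        rs inf_le_left (A i k * G i k ^ (N + M)) * c i j := by
      intro k
      have h1 := mul_eq_of_app_eq t hsq (W := U i ⊓ U j)
        (a := rs inf_le_right (A j k * G j k ^ M)) (b := rs inf_le_left (A i k * G i k ^ M))
        (c := rs inf_le_right (d j k))
        (by rw [hlift (b := a k * g k ^ M) (by simp [map_pow, hA, hG]),
          hlift (b := a k * g k ^ M) (by simp [map_pow, hA, hG])])
        (hkres _ (hd0 j k))
      have h2 := hm i j k M (hM i j k)
      simp only [e, map_mul, map_pow] at h1 h2 ⊢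
      rw [pow_add]
      linear_combination (rs (inf_le_left : U i ⊓ U j ≤ U i) (A i k)) * h2 - h1
    have hsum : (∑ k, rs (inf_le_left : U i ⊓ U j ≤ U i) (A i k * G i k ^ (N + M))) * c i j = c i j := by
      refine (mul_eq_of_app_eq t hsq (b := 1) ?_ (hc i j)).trans (one_mul _)
      rw [map_sum, map_one]
      rw [Finset.sum_congr rfl (fun k _ => hlift (V := U i) (b := a k * g k ^ (N + M))
        (by simp [map_pow, hA, hG]) inf_le_left), ← map_sum, ha, map_one]
    simp only [τ, map_sub, map_sum]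
    have : ∑ k, rs (inf_le_left : U i ⊓ U j ≤ U i) (A i k * G i k ^ M * d i k) -
        ∑ k, rs inf_le_right (A j k * G j k ^ M * d j k) = c i j := by
      rw [← Finset.sum_sub_distrib, Finset.sum_congr rfl (fun k _ => key k), ← Finset.sum_mul, hsum]
    simp only [c] at this
    linear_combination -this
  obtain ⟨F, hF, -⟩ := X'.sheaf.existsUnique_gluing' U ⊤ (fun i => homOfLE le_top) hcover τ
    (fun i j => hcompat i j)
  refine ⟨F, X.sheaf.eq_of_locally_eq' (fun i => t ⁻¹ᵁ U i) ⊤ (fun i => homOfLE le_top) ?_ _ _ fun i => ?_⟩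
  · intro x _
    obtain ⟨i, hi⟩ := Opens.mem_iSup.1 (hcover (show t x ∈ (⊤ : X'.Opens) from trivial))
    exact Opens.mem_iSup.2 ⟨i, hi⟩
  · show rs le_top (t.app ⊤ F) = φ (U i) g₀
    rw [← hτ i]
    have := congrArg (t.app (U i)) (hF i)
    refine Eq.trans ?_ this
    exact (app_rs t le_top F).symm

include hsq in
/-- A first order thickening of an affine scheme is affine. -/
theorem isAffine_of_sq_zero (ht : Function.Surjective t) : IsAffine X' := by
  refine isAffine_of_isAffineOpen_basicOpen {F : Γ(X', ⊤) | IsAffineOpen (X'.basicOpen F)} ?_ (fun F hF => hF)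
  have hsurj := appTop_surjective_of_sq_zero t hsq ht
  set T : Set Γ(X', ⊤) := {F | IsAffineOpen (X'.basicOpen F)} with hT
  have himg : (Ideal.span T).map t.appTop.hom = ⊤ := by
    rw [Ideal.map_span, ← (isAffineOpen_top X).iSup_basicOpen_eq_self_iff]
    refine le_antisymm le_top fun x _ => ?_
    obtain ⟨A, hA, hxA, -⟩ := exists_isAffineOpen_mem_and_subset (Set.mem_univ (t x)) (U := (⊤ : X'.Opens))
    obtain ⟨g, hgA, hxg⟩ := (isAffineOpen_top X).exists_basicOpen_le (V := t ⁻¹ᵁ A) ⟨x, hxA⟩ trivial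
    obtain ⟨F, hF⟩ := hsurj g
    have hpre : t ⁻¹ᵁ X'.basicOpen F = X.basicOpen g := by
      rw [Scheme.preimage_basicOpen_top, hF]
    have hle : X'.basicOpen F ≤ A := by
      intro y hy
      obtain ⟨z, rfl⟩ := ht y
      exact hgA (by rw [← hpre]; exact hy)
    have hFaff : IsAffineOpen (X'.basicOpen F) := by
      have : X'.basicOpen (rs (le_top : A ≤ ⊤) F) = X'.basicOpen F :=
        (X'.basicOpen_res F (homOfLE le_top).op).trans (inf_eq_right.2 hle)
      exact this ▸ hA.basicOpen _
    exact Opens.mem_iSup.2 ⟨⟨g, F, hFaff, hF⟩, hxg⟩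
  have h1 : (1 : Γ(X, ⊤)) ∈ (Ideal.span T).map t.appTop.hom := himg ▸ Submodule.mem_top
  obtain ⟨v, hv, hv1⟩ := (Ideal.mem_map_iff_of_surjective _ hsurj).1 h1
  refine Ideal.eq_top_of_isUnit_mem _ hv ?_
  have hk : t.app ⊤ (v - 1) = 0 := by
    rw [map_sub, map_one, sub_eq_zero]; exact hv1
  have hnil : IsNilpotent (v - 1) := ⟨2, by rw [sq]; exact hsq ⊤ _ _ hk hk⟩
  have := hnil.isUnit_one_add
  rwa [add_sub_cancel] at this

omit [IsClosedImmersion t] [IsAffine X] in
/-- Being a first order thickening is local. -/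
theorem sq_zero_of_locally
    (h : ∀ (W : X'.Opens), ∀ y ∈ W, ∃ B ≤ W, y ∈ B ∧
      ∀ a b : Γ(X', B), t.app B a = 0 → t.app B b = 0 → a * b = 0)
    (W : X'.Opens) (a b : Γ(X', W)) (ha : t.app W a = 0) (hb : t.app W b = 0) : a * b = 0 := by
  choose B hBW hmem hB using h W
  refine X'.sheaf.eq_of_locally_eq' (fun y : W => B y.1 y.2) W (fun y => homOfLE (hBW y.1 y.2))
    (fun y hy => Opens.mem_iSup.2 ⟨⟨y, hy⟩, hmem y hy⟩) _ _ fun y => ?_
  show rs (hBW y.1 y.2) (a * b) = rs (hBW y.1 y.2) 0
  rw [map_mul, map_zero]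
  exact hB y.1 y.2 _ _ (by rw [app_rs, ha, map_zero]) (by rw [app_rs, hb, map_zero])

/-- The powers of an ideal sheaf. -/
def powSheaf {Y : Scheme.{u}} (K : Y.IdealSheafData) (n : ℕ) : Y.IdealSheafData where
  ideal U := K.ideal U ^ n
  map_ideal_basicOpen U f := by rw [Ideal.map_pow, K.map_ideal_basicOpen]

omit [IsClosedImmersion t] [IsAffine X] in
/-- A nilpotent thickening of an affine scheme is affine. -/
theorem isAffine_of_pow_eq_bot : ∀ (n : ℕ) {X X' : Scheme.{u}} (t : X ⟶ X') [IsClosedImmersion t] [IsAffine X]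
    (_ : Function.Surjective t) (_ : powSheaf t.ker (2 ^ n) = ⊥), IsAffine X' := by
  intro n
  induction n with
  | zero =>
    intro X X' t _ _ ht hn
    have hker : t.ker = ⊥ := by
      ext U : 2
      have := congrFun (congrArg Scheme.IdealSheafData.ideal hn) U
      simpa [powSheaf] using this
    refine isAffine_of_sq_zero t (sq_zero_of_locally t fun W y hy => ?_) ht
    obtain ⟨U, hU, hyU, hUW⟩ := exists_isAffineOpen_mem_and_subset hy
    refine ⟨U, hUW, hyU, fun a b ha _ => ?_⟩
    have ha' : a ∈ t.ker.ideal ⟨U, hU⟩ := by rw [Scheme.Hom.ker_apply]; exact ha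
    rw [hker, Scheme.IdealSheafData.ideal_bot] at ha'
    rw [show a = 0 from ha', zero_mul]
  | succ n ih =>
    intro X X' t _ _ ht hn
    obtain ⟨L, hL⟩ : ∃ L, L = powSheaf t.ker 2 := ⟨_, rfl⟩
    have hle : L ≤ t.ker := by
      rw [hL]; exact fun U => Ideal.pow_le_self two_ne_zero
    have hLU : ∀ U, L.ideal U = t.ker.ideal U ^ 2 := fun U => by rw [hL]; rfl
    obtain ⟨t', hfac⟩ : ∃ t' : X ⟶ L.subscheme, t' ≫ L.subschemeι = t :=
      ⟨IsClosedImmersion.lift L.subschemeι t (le_of_eq_of_le L.ker_subschemeι hle),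
        IsClosedImmersion.lift_fac _ _ _⟩
    haveI : IsClosedImmersion (t' ≫ L.subschemeι) := hfac.symm ▸ inferInstance
    haveI : IsClosedImmersion t' := IsClosedImmersion.of_comp_isClosedImmersion _ L.subschemeι
    have hιsurj : Function.Surjective L.subschemeι := fun y => by
      obtain ⟨x, rfl⟩ := ht y
      exact ⟨t' x, congrArg (fun φ => φ x) hfac⟩
    have ht' : Function.Surjective t' := fun y => by
      obtain ⟨x, hx⟩ := ht (L.subschemeι y)
      refine ⟨x, L.subschemeι.isClosedEmbedding.injective ?_⟩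
      exact (congrArg (fun φ => φ x) hfac).trans hx
    haveI : IsAffine L.subscheme := by
      suffices hloc : ∀ (W : L.subscheme.Opens), ∀ y ∈ W, ∃ B ≤ W, y ∈ B ∧
          ∀ a b : Γ(L.subscheme, B), t'.app B a = 0 → t'.app B b = 0 → a * b = 0 from
        isAffine_of_sq_zero t' (sq_zero_of_locally t' hloc) ht'
      intro W y hy
      obtain ⟨W', hW', hWW'⟩ := L.subschemeι.isClosedEmbedding.isInducing.isOpen_iff.1 W.2
      have hy' : L.subschemeι y ∈ (⟨W', hW'⟩ : X'.Opens) := by
        have hy'' : y ∈ L.subschemeι ⁻¹' W' := hWW'.symm ▸ hy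
        exact hy''
      obtain ⟨U, hU, hyU, hUW⟩ := exists_isAffineOpen_mem_and_subset hy'
      refine ⟨L.subschemeι ⁻¹ᵁ U, fun z hz => ?_, hyU, fun a b ha hb => ?_⟩
      · show z ∈ W.carrier
        rw [← hWW']; exact hUW hz
      obtain ⟨α, rfl⟩ := L.subschemeι.app_surjective U hU a
      obtain ⟨β, rfl⟩ := L.subschemeι.app_surjective U hU b
      have key : ∀ γ : Γ(X', U), t'.app _ (L.subschemeι.app U γ) = 0 → γ ∈ t.ker.ideal ⟨U, hU⟩ := by
        intro γ hγ
        rw [Scheme.Hom.ker_apply, RingHom.mem_ker]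
        have h2 := Scheme.Hom.congr_app hfac.symm U
        rw [h2]
        simp [hγ]
      have : α * β ∈ L.ideal ⟨U, hU⟩ := by
        rw [hLU, sq]; exact Ideal.mul_mem_mul (key α ha) (key β hb)
      rw [← Scheme.IdealSheafData.ker_subschemeι_app] at this
      rw [← map_mul]; exact this
    refine ih L.subschemeι hιsurj ?_
    rw [Scheme.IdealSheafData.ker_subschemeι]
    refine Eq.trans ?_ hn
    ext U : 2
    simp only [hL, powSheaf, ← pow_mul]
    rw [pow_succ']

/-- A scheme receiving a surjective closed immersion from an affine scheme is affine. -/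
theorem isAffine_of_surjective_closedImmersion (ht : Function.Surjective t) : IsAffine X' := by
  have hhomeo : IsHomeomorph t := isHomeomorph_iff_isEmbedding_surjective.2 ⟨t.isClosedEmbedding.isEmbedding, ht⟩
  haveI : CompactSpace X' := ⟨by rw [← ht.range_eq]; exact isCompact_range t.continuous⟩
  haveI : QuasiSeparatedSpace X' := hhomeo.homeomorph.symm.isOpenEmbedding.quasiSeparatedSpace
  haveI : IsAffine t.ker.subscheme := .of_isIso (inv t.toImage)
  let D := ftSystem t.ker
  haveI : ∀ {i j} (f : i ⟶ j), IsAffineHom (D.map f) := fun {i j} f =>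
    haveI := isClosedImmersion_ftSystem_map t.ker f; inferInstance
  haveI : ∀ i, CompactSpace (D.obj i) := fun i =>
    QuasiCompact.compactSpace_of_compactSpace i.unop.1.subschemeι
  haveI : ∀ i, QuasiSeparatedSpace (D.obj i) := fun i =>
    quasiSeparatedSpace_of_quasiSeparated i.unop.1.subschemeι
  haveI : IsAffine (ftCone t.ker).pt := ‹IsAffine t.ker.subscheme›
  obtain ⟨J, hJ⟩ := Scheme.exists_isAffine_of_isLimit D (ftCone t.ker) (isLimitFtCone t.ker)
  obtain ⟨⟨J, hJle, hJfg⟩⟩ := J
  haveI : IsAffine J.subscheme := hJ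
  -- `J` is nilpotent
  have hnil : ∀ U : X'.affineOpens, J.ideal U ≤ nilradical _ := by
    intro U a ha
    rw [mem_nilradical, Scheme.isNilpotent_iff_basicOpen_eq_bot_of_isCompact U.2.isCompact]
    refine preimage_injective t ht ?_
    have ha' := hJle U ha
    rw [Scheme.Hom.ker_apply] at ha'
    rw [Scheme.preimage_basicOpen, show t.app U a = 0 from ha', Scheme.basicOpen_zero]
    rfl
  have hpow : ∀ U : X'.affineOpens, ∃ n, J.ideal U ^ n = ⊥ := fun U => by
    obtain ⟨n, hn⟩ := (Ideal.FG.isNilpotent_iff_le_nilradical (hJfg U)).2 (hnil U)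
    exact ⟨n, hn⟩
  choose n hn using hpow
  obtain ⟨S, hS, hSeq⟩ := isCompact_iff_finite_and_eq_biUnion_affineOpens.1
    (show IsCompact ((⊤ : X'.Opens) : Set X') from isCompact_univ)
  let m := ∑ U ∈ hS.toFinset, n U
  have hιsurj : Function.Surjective J.subschemeι := fun y => by
    obtain ⟨x, rfl⟩ := ht y
    have hfac : t.toImage ≫ Scheme.IdealSheafData.inclusion hJle ≫ J.subschemeι = t := by
      rw [Scheme.IdealSheafData.inclusion_subschemeι]
      exact t.toImage_imageι
    exact ⟨(t.toImage ≫ Scheme.IdealSheafData.inclusion hJle) x,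
      congrArg (fun φ => φ x) ((Category.assoc _ _ _).trans hfac)⟩
  refine isAffine_of_pow_eq_bot m J.subschemeι hιsurj ?_
  rw [Scheme.IdealSheafData.ker_subschemeι]
  refine Scheme.IdealSheafData.ext_of_iSup_eq_top (fun U : S => U.1)
    (by rw [iSup_subtype']at hSeq; exact hSeq.symm) fun U => ?_
  have hle : n U.1 ≤ 2 ^ m :=
    (Finset.single_le_sum (f := n) (fun _ _ => Nat.zero_le _) (hS.mem_toFinset.2 U.2)).trans
      (Nat.lt_two_pow_self).le
  refine le_bot_iff.1 ?_
  exact (Ideal.pow_le_pow_right hle).trans (hn U.1).le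

end Groth.Agent.H7Lim
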