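import Groth.Agent.H7Lim.Topology
import Mathlib.AlgebraicGeometry.Morphisms.Flat
import Mathlib.RingTheory.Flat.EquationalCriterion

/-!
# Sections of the structure sheaf of a cofiltered limit over affine opens of a stage
-/

set_option autoImplicit false
set_option backward.isDefEq.respectTransparency false
set_option backward.defeqAttrib.useBackward true

universe u

open CategoryTheory Limits AlgebraicGeometry TopologicalSpace

namespace Groth.Agent.H7Lim

variable {I : Type u} [Category.{u} I] {D : I ⥤ Scheme.{u}} {c : Cone D}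

lemma π_preimage_le {i j : I} (φ : j ⟶ i) (U : (D.obj i).Opens) :
    c.π.app i ⁻¹ᵁ U ≤ c.π.app j ⁻¹ᵁ D.map φ ⁻¹ᵁ U := by
  rw [← Scheme.Hom.comp_preimage, c.w φ]

lemma map_preimage_le {i j k : I} (φ : j ⟶ i) (ψ : k ⟶ j) (U : (D.obj i).Opens) :
    D.map (ψ ≫ φ) ⁻¹ᵁ U ≤ D.map ψ ⁻¹ᵁ D.map φ ⁻¹ᵁ U := by
  rw [← Scheme.Hom.comp_preimage, D.map_comp]

/-- Restriction of sections on the preimage of `U` from stage `j` to the limit. -/
noncomputable def secπ {i j : I} (φ : j ⟶ i) (U : (D.obj i).Opens) :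
    Γ(D.obj j, D.map φ ⁻¹ᵁ U) ⟶ Γ(c.pt, c.π.app i ⁻¹ᵁ U) :=
  (c.π.app j).appLE _ _ (π_preimage_le φ U)

/-- Restriction of sections on the preimage of `U` from stage `j` to stage `k`. -/
noncomputable def secMap {i j k : I} (φ : j ⟶ i) (ψ : k ⟶ j) (U : (D.obj i).Opens) :
    Γ(D.obj j, D.map φ ⁻¹ᵁ U) ⟶ Γ(D.obj k, D.map (ψ ≫ φ) ⁻¹ᵁ U) :=
  (D.map ψ).appLE _ _ (map_preimage_le φ ψ U)

@[reassoc (attr := simp)]
lemma secMap_secπ {i j k : I} (φ : j ⟶ i) (ψ : k ⟶ j) (U : (D.obj i).Opens) :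
    secMap φ ψ U ≫ secπ (c := c) (ψ ≫ φ) U = secπ φ U := by
  simp [secMap, secπ, Scheme.Hom.appLE_comp_appLE]

lemma secπ_secMap_apply {i j k : I} (φ : j ⟶ i) (ψ : k ⟶ j) (U : (D.obj i).Opens)
    (s : Γ(D.obj j, D.map φ ⁻¹ᵁ U)) :
    secπ (c := c) (ψ ≫ φ) U (secMap φ ψ U s) = secπ (c := c) φ U s := by
  rw [← CommRingCat.comp_apply, secMap_secπ]

variable [IsCofiltered I] [∀ (i j : I) (f : i ⟶ j), IsAffineHom (D.map f)] (hc : IsLimit c)

include hc in
/-- Every section over the preimage of an affine open comes from some stage. -/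
lemma exists_secπ_eq {i : I} {U : (D.obj i).Opens} (hU : IsAffineOpen U)
    (s : Γ(c.pt, c.π.app i ⁻¹ᵁ U)) :
    ∃ (j : I) (φ : j ⟶ i) (t : Γ(D.obj j, D.map φ ⁻¹ᵁ U)), secπ φ U t = s := by
  have (j : Over i) : IsAffine ((opensDiagram D i U).obj j) := hU.preimage (D.map _)
  obtain ⟨j, t, ht⟩ := exists_appTop_π_eq_of_isAffine_of_isLimit _ _
    (isLimitOpensCone D c hc i U) ((c.π.app i ⁻¹ᵁ U).topIso.inv s)
  refine ⟨j.left, j.hom, (D.map j.hom ⁻¹ᵁ U).topIso.hom t, ?_⟩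
  have := congrArg (c.π.app i ⁻¹ᵁ U).topIso.hom ht
  simpa [opensCone, Scheme.Hom.appTop, secπ, ← ConcreteCategory.comp_apply] using this

include hc in
/-- Sections over the preimage of a quasi-compact open agreeing in the limit agree at a stage. -/
lemma exists_secMap_eq {i j : I} (φ : j ⟶ i) {U : (D.obj i).Opens}
    (hU : IsCompact (U : Set (D.obj i))) (s t : Γ(D.obj j, D.map φ ⁻¹ᵁ U))
    (h : secπ (c := c) φ U s = secπ (c := c) φ U t) :
    ∃ (k : I) (ψ : k ⟶ j), secMap φ ψ U s = secMap φ ψ U t := by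
  obtain ⟨k, ψ, hk⟩ := exists_app_map_eq_map_of_isLimit D c hc (i := j)
    (QuasiCompact.isCompact_preimage (f := D.map φ) _ U.2 hU) s t (by
      have := congrArg (c.pt.presheaf.map (eqToHom (show c.π.app j ⁻¹ᵁ D.map φ ⁻¹ᵁ U =
        c.π.app i ⁻¹ᵁ U by rw [← Scheme.Hom.comp_preimage, c.w φ])).op) h
      simpa [secπ, Scheme.Hom.app_eq_appLE, ← ConcreteCategory.comp_apply] using this)
  refine ⟨k, ψ, ?_⟩
  have := congrArg ((D.obj k).presheaf.map (homOfLE (map_preimage_le φ ψ U)).op) hk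
  simpa [secMap, Scheme.Hom.app_eq_appLE, ← ConcreteCategory.comp_apply] using this

include hc in
/-- Finitely many sections come from a common stage. -/
lemma exists_secπ_eq_finite {i : I} {U : (D.obj i).Opens} (hU : IsAffineOpen U) {κ : Type*}
    [Finite κ] (s : κ → Γ(c.pt, c.π.app i ⁻¹ᵁ U)) :
    ∃ (j : I) (φ : j ⟶ i) (t : κ → Γ(D.obj j, D.map φ ⁻¹ᵁ U)), ∀ a, secπ φ U (t a) = s a := by
  choose j φ t ht using fun a ↦ exists_secπ_eq hc hU (s a)
  obtain ⟨n, ⟨e⟩⟩ := Finite.exists_equiv_fin κ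
  obtain ⟨k, φk, ψ, hψ⟩ := IsCofiltered.wideCospan fun b ↦ φ (e.symm b)
  refine ⟨k, φk, fun a ↦ (D.obj k).presheaf.map
    (homOfLE (show D.map φk ⁻¹ᵁ U ≤ D.map (ψ (e a) ≫ φ (e.symm (e a))) ⁻¹ᵁ U by rw [hψ])).op
      (secMap (φ (e.symm (e a))) (ψ (e a)) U (t (e.symm (e a)))), fun a ↦ ?_⟩
  conv_rhs => rw [← e.symm_apply_apply a, ← ht]
  simp [secπ, secMap, ← ConcreteCategory.comp_apply, Scheme.Hom.appLE_comp_appLE]

include hc in
/-- A projection from the limit is flat if all transition maps into that stage are. -/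
lemma flat_π_app (i : I) (hf : ∀ (j : I) (φ : j ⟶ i), Flat (D.map φ)) : Flat (c.π.app i) := by
  have := isAffineHom_π_app D c hc i
  rw [IsZariskiLocalAtTarget.iff_of_iSup_eq_top (P := @Flat) _ (iSup_affineOpens_eq_top _)]
  intro U
  have : IsAffine (c.π.app i ⁻¹ᵁ (U : (D.obj i).Opens) : Scheme) := U.2.preimage (c.π.app i)
  have : IsAffine ((U : (D.obj i).Opens) : Scheme) := U.2
  rw [HasRingHomProperty.iff_of_isAffine (P := @Flat), ← Scheme.Hom.resLE_eq_morphismRestrict,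
    Scheme.Hom.appTop, Scheme.Hom.resLE_app_top, CommRingCat.hom_comp,
    RingHom.Flat.respectsIso.cancel_left_isIso, CommRingCat.hom_comp,
    RingHom.Flat.respectsIso.cancel_right_isIso]
  let f := (c.π.app i).appLE (U : (D.obj i).Opens) _ le_rfl
  algebraize [f.hom]
  refine Module.Flat.of_forall_isTrivialRelation fun {l r x} hx ↦ ?_
  obtain ⟨j, φ, t, ht⟩ := exists_secπ_eq_finite hc U.2 x
  let g {k : I} (ψ : k ⟶ i) := (D.map ψ).appLE (U : (D.obj i).Opens) _ le_rfl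
  have hg {k : I} (ψ : k ⟶ i) (a : Γ(D.obj i, U)) :
      secπ (c := c) ψ (U : (D.obj i).Opens) (g ψ a) = f a := by
    simp [secπ, g, f, ← ConcreteCategory.comp_apply, Scheme.Hom.appLE_comp_appLE]
  have hx' : secπ (c := c) φ (U : (D.obj i).Opens) (∑ a, g φ (r a) * t a) =
      secπ (c := c) φ (U : (D.obj i).Opens) 0 := by
    simpa [map_sum, hg, ht, RingHom.algebraMap_toAlgebra, Algebra.smul_def] using hx
  obtain ⟨k, ψ, hk⟩ := exists_secMap_eq hc φ U.2.isCompact _ _ hx'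
  have hg' (a : Γ(D.obj i, U)) :
      secMap φ ψ (U : (D.obj i).Opens) (g φ a) = g (ψ ≫ φ) a := by
    rw [← CommRingCat.comp_apply]
    simp [secMap, g,
      Scheme.Hom.appLE_comp_appLE]
  let F := g (ψ ≫ φ)
  algebraize [F.hom]
  have : Module.Flat Γ(D.obj i, U) Γ(D.obj k, D.map (ψ ≫ φ) ⁻¹ᵁ (U : (D.obj i).Opens)) :=
    HasRingHomProperty.appLE (P := @Flat) _ (hf k (ψ ≫ φ)) U ⟨_, U.2.preimage _⟩ le_rfl
  obtain ⟨n, a, y, hay, hra⟩ :=
    Module.Flat.isTrivialRelation_of_sum_smul_eq_zero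
      (f := r) (x := fun a ↦ secMap φ ψ (U : (D.obj i).Opens) (t a)) (by
      simpa [map_sum, hg', F, RingHom.algebraMap_toAlgebra, Algebra.smul_def] using hk)
  refine ⟨n, a, fun b ↦ secπ (ψ ≫ φ) (U : (D.obj i).Opens) (y b), fun b ↦ ?_, hra⟩
  rw [← ht b, ← secπ_secMap_apply φ ψ]
  simp [hay b, map_sum, hg, F, f, RingHom.algebraMap_toAlgebra, Algebra.smul_def]

end Groth.Agent.H7Lim
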