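import Groth.Agent.H7Lim.Basic
import Mathlib.AlgebraicGeometry.Morphisms.FinitePresentation
import Mathlib.RingTheory.Spectrum.Prime.ConstructibleSet

/-!
# Topology of cofiltered limits of schemes with affine transition maps

`QCImage E`: `E` is a finite union of images of quasi-compact schemes. If the preimage of such a
set in the limit is empty, it is empty at some stage; the descent of constructible, open and
locally closed sets follows.
-/

set_option autoImplicit false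
set_option backward.isDefEq.respectTransparency false

universe u

open CategoryTheory Limits AlgebraicGeometry Topology TopologicalSpace

namespace Groth.Agent.H7Lim

variable {X Y : Scheme.{u}}

/-- A finite union of images of quasi-compact schemes. -/
def QCImage (E : Set X) : Prop :=
  ∃ (κ : Type) (_ : Finite κ) (T : κ → Scheme.{u}) (a : ∀ k, T k ⟶ X),
    (∀ k, CompactSpace (T k)) ∧ ⋃ k, Set.range (a k) = E

lemma qcImage_range {T : Scheme.{u}} [CompactSpace T] (a : T ⟶ X) : QCImage (Set.range a) :=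
  ⟨Unit, inferInstance, fun _ ↦ T, fun _ ↦ a, fun _ ↦ inferInstance, Set.iUnion_const _⟩

lemma qcImage_iUnion {ι : Type} [Finite ι] {E : ι → Set X} (h : ∀ i, QCImage (E i)) :
    QCImage (⋃ i, E i) := by
  choose κ hκ T a hT ha using h
  exact ⟨Σ i, κ i, inferInstance, fun p ↦ T p.1 p.2, fun p ↦ a p.1 p.2, fun p ↦ hT p.1 p.2,
    by rw [Set.iUnion_sigma]; exact Set.iUnion_congr ha⟩

lemma qcImage_biUnion {ι : Type*} {s : Set ι} (hs : s.Finite) {E : ι → Set X}
    (h : ∀ i ∈ s, QCImage (E i)) : QCImage (⋃ i ∈ s, E i) := by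
  have : Finite s := hs
  obtain ⟨n, ⟨e⟩⟩ := Finite.exists_equiv_fin s
  rw [Set.biUnion_eq_iUnion, ← e.symm.surjective.iUnion_comp fun i : s ↦ E i]
  exact qcImage_iUnion fun k ↦ h _ (e.symm k).2

lemma QCImage.union {E F : Set X} (hE : QCImage E) (hF : QCImage F) : QCImage (E ∪ F) := by
  rw [Set.union_eq_iUnion]
  exact qcImage_iUnion fun b ↦ by cases b <;> assumption

lemma QCImage.inter_isClosed {E Z : Set X} (hE : QCImage E) (hZ : IsClosed Z) :
    QCImage (E ∩ Z) := by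
  obtain ⟨κ, _, T, a, hT, rfl⟩ := hE
  rw [Set.iUnion_inter]
  refine qcImage_iUnion fun k ↦ ?_
  have := hT k
  let W : Closeds (T k) := ⟨a k ⁻¹' Z, hZ.preimage (a k).continuous⟩
  let J := Scheme.IdealSheafData.vanishingIdeal W
  have hr : Set.range J.subschemeι = (W : Set (T k)) := by
    rw [Scheme.IdealSheafData.range_subschemeι]; simp [J]
  have : CompactSpace J.subscheme := QuasiCompact.compactSpace_of_compactSpace J.subschemeι
  have := qcImage_range (J.subschemeι ≫ a k)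
  rwa [show Set.range (J.subschemeι ≫ a k) = Set.range (a k) ∩ Z by
    rw [Scheme.Hom.comp_base, TopCat.coe_comp, Set.range_comp, hr]
    exact Set.image_preimage_eq_range_inter ..] at this

lemma QCImage.isCompact {E : Set X} (hE : QCImage E) : IsCompact E := by
  obtain ⟨κ, _, T, a, hT, rfl⟩ := hE
  exact isCompact_iUnion fun k ↦ isCompact_range (a k).continuous

lemma QCImage.preimage {E : Set Y} (hE : QCImage E) (g : X ⟶ Y) [QuasiCompact g] :
    QCImage (g ⁻¹' E) := by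
  obtain ⟨κ, _, T, a, hT, rfl⟩ := hE
  rw [Set.preimage_iUnion]
  refine qcImage_iUnion fun k ↦ ?_
  have := hT k
  have : CompactSpace ↥(pullback (a k) g) :=
    QuasiCompact.compactSpace_of_compactSpace (pullback.fst (a k) g)
  rw [← Scheme.Pullback.range_snd (a k) g]
  exact qcImage_range _

lemma isLocallyConstructible_preimage {E : Set Y} (hE : IsLocallyConstructible E) (f : X ⟶ Y) :
    IsLocallyConstructible (f ⁻¹' E) := by
  intro x
  obtain ⟨U, hxU, hU, hUE⟩ := hE (f x)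
  refine ⟨f ⁻¹' U, f.continuous.continuousAt.preimage_mem_nhds hxU, hU.preimage f.continuous, ?_⟩
  have h := Scheme.Hom.isConstructible_preimage (f ∣_ ⟨U, hU⟩) (s := Subtype.val ⁻¹' E) hUE
  have e : (Subtype.val ⁻¹' (f ⁻¹' E) : Set ↥(f ⁻¹' U)) =
      (f ∣_ ⟨U, hU⟩) ⁻¹' (Subtype.val ⁻¹' E) := by
    ext y
    exact (iff_of_eq (congrArg (· ∈ E) (morphismRestrict_base_coe f ⟨U, hU⟩ y))).symm
  exact e ▸ h

lemma isLocallyConstructible_compl {E : Set X} (hE : IsLocallyConstructible E) :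
    IsLocallyConstructible Eᶜ := fun x ↦
  let ⟨U, h₁, h₂, h₃⟩ := hE x
  ⟨U, h₁, h₂, h₃.compl⟩

lemma qcImage_inter_isAffineOpen {E : Set X} (hE : IsLocallyConstructible E) {U : X.Opens}
    (hU : IsAffineOpen U) : QCImage ((U : Set X) ∩ E) := by
  have hc : IsConstructible (hU.fromSpec ⁻¹' E) :=
    (hE.preimage_of_isOpenEmbedding hU.fromSpec.isOpenEmbedding).isConstructible
  obtain ⟨S, _, φ, hφ⟩ := PrimeSpectrum.exists_range_eq_of_isConstructible hc
  have h : QCImage (Set.range (Spec.map (CommRingCat.ofHom φ) ≫ hU.fromSpec)) := qcImage_range _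
  rw [Scheme.Hom.comp_base, TopCat.coe_comp, Set.range_comp] at h
  rw [← hU.range_fromSpec, ← Set.image_preimage_eq_range_inter, ← hφ]
  exact h

lemma qcImage_inter_of_isCompact {E : Set X} (hE : IsLocallyConstructible E) {U : Set X}
    (hU : IsOpen U) (hU' : IsCompact U) : QCImage (U ∩ E) := by
  obtain ⟨s, hs, rfl⟩ :=
    isCompact_and_isOpen_iff_finite_and_eq_biUnion_affineOpens.mp ⟨hU', hU⟩
  rw [Set.iUnion₂_inter]
  exact qcImage_biUnion hs fun V _ ↦ qcImage_inter_isAffineOpen hE V.2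

lemma qcImage_of_isOpen_isCompact {U : Set X} (hU : IsOpen U) (hU' : IsCompact U) : QCImage U := by
  simpa using qcImage_inter_of_isCompact IsLocallyConstructible.univ hU hU'

lemma qcImage_of_isLocallyConstructible [CompactSpace X] {E : Set X}
    (hE : IsLocallyConstructible E) : QCImage E := by
  simpa using qcImage_inter_of_isCompact hE isOpen_univ isCompact_univ

variable {I : Type u} [Category.{u} I] [IsCofiltered I] {D : I ⥤ Scheme.{u}} {c : Cone D}
  (hc : IsLimit c)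

omit [IsCofiltered I] in
lemma preimage_map_map {i j k : I} (φ : j ⟶ i) (ψ : k ⟶ j) (E : Set (D.obj i)) :
    D.map ψ ⁻¹' (D.map φ ⁻¹' E) = D.map (ψ ≫ φ) ⁻¹' E := by
  rw [D.map_comp, Scheme.Hom.comp_base, TopCat.coe_comp, Set.preimage_comp]

omit [IsCofiltered I] in
lemma preimage_π_map {i j : I} (φ : j ⟶ i) (E : Set (D.obj i)) :
    c.π.app j ⁻¹' (D.map φ ⁻¹' E) = c.π.app i ⁻¹' E := by
  rw [← c.w φ, Scheme.Hom.comp_base, TopCat.coe_comp, Set.preimage_comp]; rfl

variable [∀ (i j : I) (f : i ⟶ j), IsAffineHom (D.map f)]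

include hc in
lemma QCImage.exists_preimage_eq_empty {i : I} {E : Set (D.obj i)} (hE : QCImage E)
    (h : c.π.app i ⁻¹' E = ∅) : ∃ (j : I) (φ : j ⟶ i), D.map φ ⁻¹' E = ∅ := by
  obtain ⟨κ, _, T, a, hT, rfl⟩ := hE
  simp only [Set.preimage_iUnion, Set.iUnion_eq_empty] at h ⊢
  have (k : κ) : ∃ (j : I) (φ : j ⟶ i), D.map φ ⁻¹' Set.range (a k) = ∅ := by
    have := hT k
    obtain ⟨j, φ, hφ⟩ := exists_isEmpty_pullback D i (a k) hc <| by
      rw [← Set.range_eq_empty_iff (f := pullback.snd (a k) (c.π.app i)),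
        Scheme.Pullback.range_snd]
      exact h k
    refine ⟨j, φ, ?_⟩
    rw [← Scheme.Pullback.range_snd, Set.range_eq_empty_iff]
    exact hφ
  choose j φ hφ using this
  cases nonempty_fintype κ
  obtain ⟨j', φ', ψ, hψ⟩ := IsCofiltered.wideCospan φ
  refine ⟨j', φ', fun k ↦ ?_⟩
  rw [← hψ k, ← preimage_map_map, hφ, Set.preimage_empty]

include hc in
lemma QCImage.exists_preimage_subset {i : I} {E F : Set (D.obj i)} (hE : QCImage (E ∩ Fᶜ))
    (h : c.π.app i ⁻¹' E ⊆ c.π.app i ⁻¹' F) :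
    ∃ (j : I) (φ : j ⟶ i), D.map φ ⁻¹' E ⊆ D.map φ ⁻¹' F := by
  obtain ⟨j, φ, hφ⟩ := hE.exists_preimage_eq_empty hc <| by
    rw [Set.preimage_inter, Set.preimage_compl, ← Set.sdiff_eq, Set.sdiff_eq_empty]
    exact h
  refine ⟨j, φ, ?_⟩
  rwa [Set.preimage_inter, Set.preimage_compl, ← Set.sdiff_eq, Set.sdiff_eq_empty] at hφ

omit [IsCofiltered I] in
lemma compactSpace_pt_of_isAffineHom [IsCofiltered I] (hc : IsLimit c) (i : I)
    [CompactSpace (D.obj i)] : CompactSpace c.pt := by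
  have := isAffineHom_π_app D c hc i
  exact QuasiCompact.compactSpace_of_compactSpace (c.π.app i)

include hc in
lemma quasiSeparatedSpace_pt (i : I) [QuasiSeparatedSpace (D.obj i)] :
    QuasiSeparatedSpace c.pt := by
  have := isAffineHom_π_app D c hc i
  exact quasiSeparatedSpace_of_quasiSeparated (c.π.app i)

include hc in
lemma exists_isCompact_isOpen_preimage_eq (i₀ : I) {U : Set c.pt} (hU : IsOpen U)
    (hU' : IsCompact U) :
    ∃ (i : I) (_ : i ⟶ i₀) (V : Set (D.obj i)),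
      IsOpen V ∧ IsCompact V ∧ c.π.app i ⁻¹' V = U := by
  obtain ⟨i, V, hV, hVU⟩ := exists_preimage_eq D c hc ⟨U, hU⟩ hU'
  obtain ⟨k, f, g, -⟩ := IsCofilteredOrEmpty.cone_objs i i₀
  refine ⟨k, g, D.map f ⁻¹' (V : Set (D.obj i)), V.2.preimage (D.map f).continuous,
    QuasiCompact.isCompact_preimage _ V.2 hV, ?_⟩
  rw [preimage_π_map]
  exact congrArg SetLike.coe hVU

include hc in
lemma exists_isConstructible_preimage (i₀ : I) [CompactSpace (D.obj i₀)]
    [QuasiSeparatedSpace (D.obj i₀)] {Z : Set c.pt} (hZ : IsConstructible Z) :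
    ∃ (i : I) (_ : i ⟶ i₀) (Zi : Set (D.obj i)),
      IsConstructible Zi ∧ c.π.app i ⁻¹' Zi = Z := by
  have := compactSpace_pt_of_isAffineHom hc i₀
  induction hZ using IsConstructible.empty_union_induction with
  | open_retrocompact U hU hU' =>
    obtain ⟨i, φ, V, hV, hV', e⟩ :=
      exists_isCompact_isOpen_preimage_eq hc i₀ hU hU'.isCompact
    have := quasiSeparatedSpace_of_hom D φ
    exact ⟨i, φ, V, hV'.isConstructible hV, e⟩
  | union s _ t _ hs ht =>
    obtain ⟨i, φ, A, hA, rfl⟩ := hs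
    obtain ⟨j, ψ, B, hB, rfl⟩ := ht
    obtain ⟨k, f, g, -⟩ := IsCofilteredOrEmpty.cone_objs i j
    refine ⟨k, f ≫ φ, D.map f ⁻¹' A ∪ D.map g ⁻¹' B,
      ((D.map f).isConstructible_preimage hA).union ((D.map g).isConstructible_preimage hB), ?_⟩
    rw [Set.preimage_union, preimage_π_map, preimage_π_map]
  | compl s _ hs =>
    obtain ⟨i, φ, A, hA, rfl⟩ := hs
    exact ⟨i, φ, Aᶜ, hA.compl, Set.preimage_compl⟩

include hc in
/-- `V ∩ E` with `V` quasi-compact open and `E` locally constructible is eventually open if it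
is open in the limit. -/
lemma exists_isOpen_preimage {i : I} {V E : Set (D.obj i)} (hV : IsOpen V) (hV' : IsCompact V)
    (hE : IsLocallyConstructible E) (h : IsOpen (c.π.app i ⁻¹' (V ∩ E))) :
    ∃ (j : I) (φ : j ⟶ i), IsOpen (D.map φ ⁻¹' (V ∩ E)) := by
  have := isAffineHom_π_app D c hc i
  obtain ⟨j, φ, W, hW, hW', e⟩ := exists_isCompact_isOpen_preimage_eq hc i h
    ((qcImage_inter_of_isCompact hE hV hV').preimage (c.π.app i)).isCompact
  rw [← preimage_π_map φ] at e
  have hVj : IsCompact (D.map φ ⁻¹' V) := QuasiCompact.isCompact_preimage _ hV hV'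
  have hVo : IsOpen (D.map φ ⁻¹' V) := hV.preimage (D.map φ).continuous
  have hEj := isLocallyConstructible_preimage hE (D.map φ)
  obtain ⟨j₁, φ₁, h₁⟩ := QCImage.exists_preimage_subset hc (F := W)
    (E := D.map φ ⁻¹' (V ∩ E))
    (by
      rw [Set.preimage_inter]
      exact (qcImage_inter_of_isCompact hEj hVo hVj).inter_isClosed hW.isClosed_compl) e.ge
  obtain ⟨j₂, φ₂, h₂⟩ := QCImage.exists_preimage_subset hc (F := D.map φ ⁻¹' (V ∩ E))
    (E := W)
    (by
      rw [Set.preimage_inter, Set.compl_inter, Set.inter_union_distrib_left]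
      exact ((qcImage_of_isOpen_isCompact hW hW').inter_isClosed hVo.isClosed_compl).union
        (qcImage_inter_of_isCompact (isLocallyConstructible_compl hEj) hW hW')) e.le
  obtain ⟨k, f, g, hfg⟩ := IsCofiltered.cospan φ₁ φ₂
  refine ⟨k, f ≫ φ₁ ≫ φ, ?_⟩
  have : D.map (f ≫ φ₁ ≫ φ) ⁻¹' (V ∩ E) = D.map (f ≫ φ₁) ⁻¹' W := by
    rw [← Category.assoc, ← preimage_map_map φ]
    refine Set.Subset.antisymm ?_ ?_
    · rw [← preimage_map_map φ₁, ← preimage_map_map φ₁]
      exact Set.preimage_mono h₁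
    · rw [hfg, ← preimage_map_map φ₂, ← preimage_map_map φ₂]
      exact Set.preimage_mono h₂
  rw [this]
  exact hW.preimage (D.map _).continuous

include hc in
/-- Descent of local closedness of a constructible set. -/
lemma exists_isLocallyClosed_preimage {i : I} [CompactSpace (D.obj i)] {Z : Set (D.obj i)}
    (hZ : IsLocallyConstructible Z) (h : IsLocallyClosed (c.π.app i ⁻¹' Z)) :
    ∃ (j : I) (φ : j ⟶ i), IsLocallyClosed (D.map φ ⁻¹' Z) := by
  classical
  have := isAffineHom_π_app D c hc i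
  have hCc := ((qcImage_of_isLocallyConstructible hZ).preimage (c.π.app i)).isCompact
  set C := c.π.app i ⁻¹' Z with hC
  have hO : IsOpen (coborder C) := h.isOpen_coborder
  have hb : ∀ x ∈ C, ∃ (l : I) (_ : l ⟶ i) (V : (D.obj l).Opens),
      IsAffineOpen V ∧ x ∈ c.π.app l ⁻¹ᵁ V ∧
      (c.π.app l ⁻¹' (V : Set (D.obj l))) ⊆ coborder C := fun x hx ↦ by
    obtain ⟨_, ⟨l, V, hV, rfl⟩, hxV, hVO⟩ := Opens.isBasis_iff_nbhd.mp
      (isBasis_preimage_isAffineOpen D c hc) (U := ⟨coborder C, hO⟩) (subset_coborder hx)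
    obtain ⟨k, f, g, -⟩ := IsCofilteredOrEmpty.cone_objs l i
    have := preimage_π_map (c := c) f (V : Set (D.obj l))
    exact ⟨k, g, D.map f ⁻¹ᵁ V, hV.preimage _,
      this.ge hxV, this.le.trans hVO⟩
  choose l gl V hV hxV hVO using hb
  obtain ⟨s, hs⟩ := hCc.elim_finite_subcover (fun x : C ↦ c.π.app (l x.1 x.2) ⁻¹' (V x.1 x.2 : Set (D.obj (l x.1 x.2))))
    (fun x ↦ (V x.1 x.2).2.preimage (c.π.app _).continuous)
    (fun x hx ↦ Set.mem_iUnion.mpr ⟨⟨x, hx⟩, hxV x hx⟩)
  obtain ⟨m, φm, ψ, hψ⟩ := IsCofiltered.wideCospan (fun x : s ↦ gl x.1.1 x.1.2)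
  let U : s → (D.obj m).Opens := fun x ↦ D.map (ψ x) ⁻¹ᵁ V x.1.1 x.1.2
  have hU (x : s) : IsAffineOpen (U x) := (hV _ _).preimage _
  have hUπ (x : s) : c.π.app m ⁻¹' (U x : Set (D.obj m)) =
      c.π.app (l x.1.1 x.1.2) ⁻¹' (V x.1.1 x.1.2 : Set (D.obj (l x.1.1 x.1.2))) :=
    preimage_π_map (ψ x) _
  set Zm := D.map φm ⁻¹' Z with hZm
  have hZm' : IsLocallyConstructible Zm := isLocallyConstructible_preimage hZ _
  have hCm : c.π.app m ⁻¹' Zm = C := preimage_π_map φm Z
  have key (x : s) : ∃ (j : I) (φ : j ⟶ m), IsOpen (D.map φ ⁻¹' ((U x : Set _) ∩ Zmᶜ)) := by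
    refine exists_isOpen_preimage hc (U x).2 (hU x).isCompact (isLocallyConstructible_compl hZm') ?_
    have : c.π.app m ⁻¹' ((U x : Set (D.obj m)) ∩ Zmᶜ) =
        c.π.app m ⁻¹' (U x : Set (D.obj m)) ∩ (closure C)ᶜ := by
      rw [Set.preimage_inter, Set.preimage_compl, hCm]
      refine Set.Subset.antisymm (fun y hy ↦ ⟨hy.1, fun hy' ↦ hy.2 ?_⟩)
        (fun y hy ↦ ⟨hy.1, fun hy' ↦ hy.2 (subset_closure hy')⟩)
      exact (coborder_inter_closure (s := C)).le ⟨hVO _ _ ((hUπ x).le hy.1), hy'⟩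
    rw [this]
    exact ((U x).2.preimage (c.π.app m).continuous).inter isClosed_closure.isOpen_compl
  have cov : ∃ (j : I) (φ : j ⟶ m), D.map φ ⁻¹' Zm ⊆ D.map φ ⁻¹' (⋃ x, (U x : Set (D.obj m))) := by
    have := compactSpace_of_hom D φm
    refine QCImage.exists_preimage_subset hc
      ((qcImage_of_isLocallyConstructible hZm').inter_isClosed
        (isOpen_iUnion fun x ↦ (U x).2).isClosed_compl) ?_
    rw [hCm, Set.preimage_iUnion]
    simp only [hUπ]
    exact hs.trans (Set.iUnion₂_subset fun x hx ↦ Set.subset_iUnion_of_subset ⟨x, hx⟩ subset_rfl)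
  choose j φ hφ using key
  obtain ⟨j₀, φ₀, hcov⟩ := cov
  obtain ⟨k, φk, ψk, hψk⟩ := IsCofiltered.wideCospan
    (fun o : Option s ↦ (o.rec ⟨j₀, φ₀⟩ fun x ↦ ⟨j x, φ x⟩ : Σ j, j ⟶ m).2)
  refine ⟨k, φk ≫ φm, ?_⟩
  rw [← preimage_map_map, ← hZm]
  have hW : IsOpen (⋃ x, D.map φk ⁻¹' (U x : Set (D.obj m))) :=
    isOpen_iUnion fun x ↦ (U x).2.preimage (D.map φk).continuous
  have hWZ : IsOpen (⋃ x, D.map φk ⁻¹' ((U x : Set (D.obj m)) ∩ Zmᶜ)) := by
    refine isOpen_iUnion fun x ↦ ?_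
    rw [← hψk (some x), ← preimage_map_map]
    exact (hφ x).preimage (D.map _).continuous
  refine ⟨_, _, hW, hWZ.isClosed_compl, Set.ext fun y ↦ ?_⟩
  have hy : y ∈ D.map φk ⁻¹' Zm → y ∈ ⋃ x, D.map φk ⁻¹' (U x : Set (D.obj m)) := fun hy ↦ by
    rw [← hψk none, ← preimage_map_map] at hy
    rw [← Set.preimage_iUnion, ← hψk none, ← preimage_map_map]
    exact Set.preimage_mono hcov hy
  simp only [Set.mem_inter_iff, Set.mem_compl_iff, Set.mem_iUnion, Set.mem_preimage] at hy ⊢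
  grind

include hc in
lemma range_π_eq_iInter (i : I) :
    Set.range (c.π.app i) = ⋂ (j : I) (φ : j ⟶ i), Set.range (D.map φ) := by
  refine Set.Subset.antisymm (Set.subset_iInter₂ fun j φ ↦ ?_) fun s hs ↦ ?_
  · rw [← c.w φ, Scheme.Hom.comp_base, TopCat.coe_comp]
    exact Set.range_comp_subset_range _ _
  · by_contra hsn
    obtain ⟨j, φ, hφ⟩ := QCImage.exists_preimage_eq_empty hc
      (qcImage_range ((D.obj i).fromSpecResidueField s)) <| by
      rw [Scheme.range_fromSpecResidueField]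
      exact Set.eq_empty_of_forall_notMem fun x hx ↦ hsn ⟨x, hx⟩
    obtain ⟨y, hy⟩ := Set.mem_iInter₂.mp hs j φ
    rw [Scheme.range_fromSpecResidueField] at hφ
    exact hφ.le (show y ∈ D.map φ ⁻¹' {s} from hy)

end Groth.Agent.H7Lim
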