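import Groth.Agent.H11Ample.AmpleOn
import Mathlib.AlgebraicGeometry.AffineTransitionLimit

/-!
# Ampleness descends to a stage of an affine cofiltered limit
-/

set_option autoImplicit false
set_option backward.isDefEq.respectTransparency false
set_option linter.style.haveILetI false

noncomputable section

universe u

open CategoryTheory CategoryTheory.Limits AlgebraicGeometry Opposite TopologicalSpace
open Groth.Agent.H11Tilde Groth.Agent.H11Ample

namespace Groth.Agent.H7Lim.AmpleDescent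

variable {I : Type u} [SmallCategory I] [IsCofiltered I]

theorem exists_common {i₀ : I} {A : Type*} [Finite A] (P : A → ∀ j, (j ⟶ i₀) → Prop)
    (hP : ∀ a (j j' : I) (φ : j ⟶ i₀) (χ : j' ⟶ j), P a j φ → P a j' (χ ≫ φ))
    (h : ∀ a, ∃ j φ, P a j φ) : ∃ j φ, ∀ a, P a j φ := by
  classical
  haveI := Fintype.ofFinite A
  suffices ∀ F : Finset A, ∃ j φ, ∀ a ∈ F, P a j φ by
    obtain ⟨j, φ, hj⟩ := this Finset.univ
    exact ⟨j, φ, fun a => hj a (Finset.mem_univ a)⟩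
  intro F
  induction F using Finset.induction with
  | empty => exact ⟨i₀, 𝟙 _, fun a ha => absurd ha (Finset.notMem_empty a)⟩
  | insert a F _ ih =>
    obtain ⟨j, φ, hj⟩ := ih
    obtain ⟨j', φ', hj'⟩ := h a
    let m := IsCofiltered.min j j'
    obtain ⟨n, χ, hχ⟩ : ∃ (n : I) (χ : n ⟶ m), χ ≫ IsCofiltered.minToLeft j j' ≫ φ = χ ≫ IsCofiltered.minToRight j j' ≫ φ' :=
      ⟨_, IsCofiltered.eqHom _ _, IsCofiltered.eq_condition _ _⟩
    refine ⟨n, χ ≫ IsCofiltered.minToLeft j j' ≫ φ, fun b hb => ?_⟩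
    rcases Finset.mem_insert.1 hb with rfl | hb
    · rw [hχ, ← Category.assoc]; exact hP _ _ _ _ _ hj'
    · rw [← Category.assoc]; exact hP _ _ _ _ _ (hj b hb)

variable {D : I ⥤ Scheme.{u}} {c : Cone D} (hc : IsLimit c)
  [∀ {i j} (f : i ⟶ j), IsAffineHom (D.map f)]

/-- Shorthand for the map induced on sections. -/
abbrev fn {X Y : Scheme.{u}} (f : X ⟶ Y) (U : Y.Opens) (W : X.Opens) (h : W ≤ f ⁻¹ᵁ U) (a : Γ(Y, U)) : Γ(X, W) :=
  f.appLE U W h a

theorem fn_comp {X Y Z : Scheme.{u}} (f : X ⟶ Y) (g : Y ⟶ Z) {k : X ⟶ Z} (hk : f ≫ g = k) (U : Z.Opens)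
    (V : Y.Opens) (W : X.Opens) (h₁ : V ≤ g ⁻¹ᵁ U) (h₂ : W ≤ f ⁻¹ᵁ V) (h₃ : W ≤ k ⁻¹ᵁ U) (a : Γ(Z, U)) :
    fn f V W h₂ (fn g U V h₁ a) = fn k U W h₃ a := by
  subst hk
  exact ConcreteCategory.congr_hom (Scheme.Hom.appLE_comp_appLE f g U V W h₁ h₂) a

theorem fn_res {X Y : Scheme.{u}} (f : X ⟶ Y) {U U' : Y.Opens} (hU : U' ≤ U) (W : X.Opens) (h : W ≤ f ⁻¹ᵁ U')
    (a : Γ(Y, U)) : fn f U' W h (Y.presheaf.map (homOfLE hU).op a) = fn f U W (h.trans (f.preimage_mono hU)) a :=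
  ConcreteCategory.congr_hom (Scheme.Hom.map_appLE f h (homOfLE hU).op) a

theorem res_fn {X Y : Scheme.{u}} (f : X ⟶ Y) {U : Y.Opens} {W W' : X.Opens} (hW : W' ≤ W) (h : W ≤ f ⁻¹ᵁ U)
    (a : Γ(Y, U)) : X.presheaf.map (homOfLE hW).op (fn f U W h a) = fn f U W' (hW.trans h) a :=
  ConcreteCategory.congr_hom (Scheme.Hom.appLE_map f h (homOfLE hW).op) a

theorem app_eq_fn {X Y : Scheme.{u}} (f : X ⟶ Y) (U : Y.Opens) (a : Γ(Y, U)) :
    f.app U a = fn f U (f ⁻¹ᵁ U) le_rfl a := by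
  simp [fn, Scheme.Hom.app_eq_appLE]

theorem preimage_map_preimage {i j : I} (φ : j ⟶ i) (U : (D.obj i).Opens) :
    c.π.app j ⁻¹ᵁ (D.map φ ⁻¹ᵁ U) = c.π.app i ⁻¹ᵁ U := by
  rw [← Scheme.Hom.comp_preimage, c.w]

include hc in
/-- A function on the preimage of a quasi-compact open comes from a stage. -/
theorem exists_fn_π_eq {i : I} {U : (D.obj i).Opens} (hU : IsCompact (U : Set (D.obj i)))
    [QuasiSeparatedSpace (D.obj i)] (g : Γ(c.pt, c.π.app i ⁻¹ᵁ U)) :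
    ∃ (j : I) (φ : j ⟶ i) (t : Γ(D.obj j, D.map φ ⁻¹ᵁ U)),
      fn (c.π.app j) _ (c.π.app i ⁻¹ᵁ U) (preimage_map_preimage φ U).ge t = g := by
  haveI : ∀ j : Over i, CompactSpace ((opensDiagram D i U).obj j) := fun j =>
    isCompact_iff_compactSpace.1 ((D.map j.hom).isCompact_preimage hU)
  haveI : ∀ j : Over i, QuasiSeparatedSpace ((opensDiagram D i U).obj j) := fun j =>
    haveI : QuasiSeparatedSpace (D.obj j.left) := quasiSeparatedSpace_of_quasiSeparated (D.map j.hom)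
    quasiSeparatedSpace_of_quasiSeparated ((D.map j.hom ⁻¹ᵁ U).ι)
  obtain ⟨j, t, ht⟩ := exists_appTop_π_eq_of_isLimit (opensDiagram D i U) _ (isLimitOpensCone D c hc i U)
    ((c.π.app i ⁻¹ᵁ U).topIso.inv g)
  refine ⟨j.left, j.hom, (D.map j.hom ⁻¹ᵁ U).topIso.hom t, ?_⟩
  have h1 : ((c.π.app j.left).resLE (D.map j.hom ⁻¹ᵁ U) (c.π.app i ⁻¹ᵁ U)
      (preimage_map_preimage j.hom U).ge).app ⊤ t = (c.π.app i ⁻¹ᵁ U).topIso.inv g := ht.symm
  rw [Scheme.Hom.resLE_app_top] at h1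
  exact ((ConcreteCategory.bijective_of_isIso (c.π.app i ⁻¹ᵁ U).topIso.inv).1 h1)

/-- Transition between two generators. -/
theorem coeff_unique {X : Scheme.{u}} {M : X.Modules} {V : X.Opens} {e : Γ(M, V)} (he : IsGen M e)
    {a b : Γ(X, V)} (h : a • e = b • e) : a = b :=
  (he.bijective le_rfl).1 (show a • M.presheaf.map (homOfLE le_rfl).op e = b • M.presheaf.map (homOfLE le_rfl).op e by
    rw [H10Coh.mres_self]; exact h)

theorem pullSect_res' {X Y : Scheme.{u}} (f : X ⟶ Y) (M : Y.Modules) {V U : Y.Opens} (h : V ≤ U) (m : Γ(M, U)) :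
    OmegaSh.pullSect f M V (M.presheaf.map (homOfLE h).op m) =
      ((Scheme.Modules.pullback f).obj M).presheaf.map (homOfLE (f.preimage_mono h)).op (OmegaSh.pullSect f M U m) :=
  pullSect_res f M h m

include hc in
/-- The locus of generation of a section over the limit comes from a section at a stage. -/
theorem exists_gen_stage {i : I} [CompactSpace (D.obj i)] [QuasiSeparatedSpace (D.obj i)]
    {M : (D.obj i).Modules} (hM : PicF.IsInvertible M) (s : Γ((Scheme.Modules.pullback (c.π.app i)).obj M, ⊤)) :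
    ∃ (j : I) (φ : j ⟶ i) (t : Γ((Scheme.Modules.pullback (D.map φ)).obj M, ⊤)),
      c.π.app j ⁻¹ᵁ gen _ t = gen _ s := by
  classical
  let p : c.pt ⟶ D.obj i := c.π.app i
  change Γ((Scheme.Modules.pullback p).obj M, ⊤) at s
  suffices ∃ (j : I) (φ : j ⟶ i) (t : Γ((Scheme.Modules.pullback (D.map φ)).obj M, ⊤)),
      (c.π.app j ⁻¹ᵁ gen _ t : c.pt.Opens) = gen ((Scheme.Modules.pullback p).obj M) s from this
  obtain ⟨A, _, V, e, hV, he, hcov⟩ := exists_finite_gen_cover hM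
  choose g hg using fun a => exists_coeff (IsGen.pullSect p (he a))
    (((Scheme.Modules.pullback p).obj M).presheaf.map (homOfLE le_top).op s)
  -- descend the coefficients
  obtain ⟨j₁, φ₁, hj₁⟩ := exists_common (i₀ := i)
    (fun a j φ => ∃ t : Γ(D.obj j, D.map φ ⁻¹ᵁ V a),
      fn (c.π.app j) _ (p ⁻¹ᵁ V a) (preimage_map_preimage φ (V a)).ge t = g a)
    (fun a j j' φ χ ⟨t, ht⟩ => ⟨fn (D.map χ) _ _ (by rw [← Scheme.Hom.comp_preimage, ← D.map_comp]) t, by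
      rw [fn_comp (c.π.app j') (D.map χ) (c.w χ)]; exact ht⟩)
    (fun a => exists_fn_π_eq hc (hV a).isCompact (g a))
  choose t ht using hj₁
  -- the transition functions
  choose v hv using fun a b => transition (ei := e a) (Vi := V a) (he b)
  have hgv : ∀ a b, c.pt.presheaf.map (homOfLE (p.preimage_mono (inf_le_left : V a ⊓ V b ≤ V a))).op (g a) *
      fn p (V a ⊓ V b) (p ⁻¹ᵁ (V a ⊓ V b)) le_rfl (v a b) =
        c.pt.presheaf.map (homOfLE (p.preimage_mono (inf_le_right : V a ⊓ V b ≤ V b))).op (g b) := by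
    intro a b
    let P := (Scheme.Modules.pullback p).obj M
    refine coeff_unique (M := P) ((IsGen.pullSect p (he b)).res (p.preimage_mono (inf_le_right : V a ⊓ V b ≤ V b))) ?_
    have h1 := congrArg (OmegaSh.pullSect p M (V a ⊓ V b)) (hv a b)
    rw [pullSect_res', OmegaSh.pullSect_smul, pullSect_res', app_eq_fn] at h1
    rw [mul_smul]
    refine ((congrArg (c.pt.presheaf.map (homOfLE (p.preimage_mono (inf_le_left : V a ⊓ V b ≤ V a))).op (g a) • ·)
      h1.symm)).trans ?_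
    rw [← Scheme.Modules.map_smul, ← Scheme.Modules.map_smul, ← hg a, ← hg b, H10Coh.mres_mres, H10Coh.mres_mres]
  let q := D.map φ₁
  haveI : CompactSpace (D.obj j₁) := QuasiCompact.compactSpace_of_compactSpace q
  haveI : QuasiSeparatedSpace (D.obj j₁) := quasiSeparatedSpace_of_quasiSeparated q
  let W : A × A → (D.obj j₁).Opens := fun ab => q ⁻¹ᵁ (V ab.1 ⊓ V ab.2)
  let lhs : ∀ ab, Γ(D.obj j₁, W ab) := fun ab =>
    (D.obj j₁).presheaf.map (homOfLE (q.preimage_mono (inf_le_left : V ab.1 ⊓ V ab.2 ≤ V ab.1))).op (t ab.1) *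
      fn q (V ab.1 ⊓ V ab.2) (W ab) le_rfl (v ab.1 ab.2)
  let rhs : ∀ ab, Γ(D.obj j₁, W ab) := fun ab => (D.obj j₁).presheaf.map (homOfLE (q.preimage_mono (inf_le_right : V ab.1 ⊓ V ab.2 ≤ V ab.2))).op (t ab.2)
  obtain ⟨j₂, χ, hj₂⟩ := exists_common (i₀ := j₁)
    (fun ab j χ => fn (D.map χ) _ (D.map χ ⁻¹ᵁ W ab) le_rfl (lhs ab) = fn (D.map χ) _ _ le_rfl (rhs ab))
    (fun ab j j' χ ξ h => by
      have h' := congrArg (fn (D.map ξ) _ (D.map (ξ ≫ χ) ⁻¹ᵁ W ab)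
        (le_of_eq (by rw [D.map_comp ξ χ, Scheme.Hom.comp_preimage]))) h
      rwa [fn_comp (D.map ξ) (D.map χ) (D.map_comp ξ χ).symm,
        fn_comp (D.map ξ) (D.map χ) (D.map_comp ξ χ).symm] at h')
    (fun ab => by
      have hW : IsCompact (W ab : Set (D.obj j₁)) := QuasiSeparatedSpace.inter_isCompact _ _ (q ⁻¹ᵁ V ab.1).2
        ((hV ab.1).preimage q).isCompact (q ⁻¹ᵁ V ab.2).2 ((hV ab.2).preimage q).isCompact
      obtain ⟨j, χ, hχ⟩ := exists_app_map_eq_map_of_isLimit D c hc hW (lhs ab) (rhs ab) (by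
        have e1 : (c.π.app j₁ ⁻¹ᵁ W ab : c.pt.Opens) = p ⁻¹ᵁ (V ab.1 ⊓ V ab.2) :=
          preimage_map_preimage φ₁ _
        have key : ∀ (Z : c.pt.Opens) (hZ₁ : Z ≤ p ⁻¹ᵁ (V ab.1 ⊓ V ab.2)) (hZ : Z ≤ c.π.app j₁ ⁻¹ᵁ W ab),
            fn (c.π.app j₁) _ Z hZ (lhs ab) = fn (c.π.app j₁) _ Z hZ (rhs ab) := by
          intro Z hZ₁ hZ
          have h1 := congrArg (c.pt.presheaf.map (homOfLE hZ₁).op) (hgv ab.1 ab.2)
          rw [← ht ab.1, ← ht ab.2, map_mul, res_fn, res_fn, res_fn, res_fn, res_fn] at h1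
          simp only [lhs, rhs, fn, map_mul]
          change fn (c.π.app j₁) _ Z hZ _ * fn (c.π.app j₁) _ Z hZ _ = fn (c.π.app j₁) _ Z hZ _
          rw [fn_res, fn_res, fn_comp (c.π.app j₁) q (c.w φ₁)]
          exact h1
        rw [app_eq_fn, app_eq_fn]
        exact key _ e1.le le_rfl)
      exact ⟨j, χ, by rw [← app_eq_fn, ← app_eq_fn]; exact hχ⟩)
  -- glue
  let r := D.map (χ ≫ φ₁)
  let P := (Scheme.Modules.pullback r).obj M
  have hle : ∀ a, r ⁻¹ᵁ V a ≤ D.map χ ⁻¹ᵁ (q ⁻¹ᵁ V a) := fun a => by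
    rw [← Scheme.Hom.comp_preimage, ← D.map_comp]
  let σ : ∀ a, Γ(P, r ⁻¹ᵁ V a) := fun a => fn (D.map χ) _ _ (hle a) (t a) • OmegaSh.pullSect r M (V a) (e a)
  have hcompat : ∀ a b, P.presheaf.map (homOfLE (r.preimage_mono (inf_le_left : V a ⊓ V b ≤ V a))).op (σ a) =
      P.presheaf.map (homOfLE (r.preimage_mono (inf_le_right : V a ⊓ V b ≤ V b))).op (σ b) := by
    intro a b
    have hW : r ⁻¹ᵁ (V a ⊓ V b) ≤ D.map χ ⁻¹ᵁ W (a, b) := fun y hy => ⟨hle a hy.1, hle b hy.2⟩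
    have h1 := congrArg (OmegaSh.pullSect r M (V a ⊓ V b)) (hv a b)
    rw [pullSect_res', OmegaSh.pullSect_smul, pullSect_res', app_eq_fn] at h1
    have h2 := congrArg ((D.obj j₂).presheaf.map (homOfLE hW).op) (hj₂ (a, b))
    simp only [lhs, rhs, fn, map_mul] at h2
    change (D.obj j₂).presheaf.map (homOfLE hW).op (fn (D.map χ) _ _ le_rfl _) *
      (D.obj j₂).presheaf.map (homOfLE hW).op (fn (D.map χ) _ _ le_rfl (fn q _ _ le_rfl _)) = _ at h2
    rw [res_fn, res_fn, fn_res, fn_comp (D.map χ) q (D.map_comp χ φ₁).symm] at h2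
    change _ = (D.obj j₂).presheaf.map (homOfLE hW).op (fn (D.map χ) _ _ le_rfl _) at h2
    rw [res_fn, fn_res] at h2
    simp only [σ, Scheme.Modules.map_smul, res_fn]
    refine (congrArg (fn (D.map χ) _ _ _ (t a) • ·) h1).trans ?_
    rw [← mul_smul, ← h2]
  let F : TopCat.Sheaf Ab.{u} (D.obj j₂).toTopCat := ⟨P.presheaf, P.isSheaf⟩
  obtain ⟨T, hT, -⟩ := F.existsUnique_gluing' (fun a => r ⁻¹ᵁ V a) ⊤ (fun a => homOfLE le_top)
    (fun y _ => by obtain ⟨a, ha⟩ := hcov (r y); exact Opens.mem_iSup.2 ⟨a, ha⟩) σ hcompat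
  refine ⟨j₂, χ ≫ φ₁, T, ?_⟩
  ext y
  obtain ⟨a, ha⟩ := hcov (p y)
  have h1 := gen_inf_eq_basicOpen (IsGen.pullSect r (he a)) T _ (hT a)
  have h2 := gen_inf_eq_basicOpen (IsGen.pullSect p (he a)) s _ (hg a)
  have hry : y ∈ c.π.app j₂ ⁻¹ᵁ (r ⁻¹ᵁ V a) := by rw [preimage_map_preimage]; exact ha
  have h3 : c.π.app j₂ ⁻¹ᵁ (D.obj j₂).basicOpen (fn (D.map χ) _ _ (hle a) (t a)) = c.pt.basicOpen (g a) := by
    rw [Scheme.preimage_basicOpen, app_eq_fn, fn_comp (c.π.app j₂) (D.map χ) (c.w χ) _ _ _ _ _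
      ((preimage_map_preimage (c := c) (χ ≫ φ₁) (V a)).trans_le (preimage_map_preimage φ₁ (V a)).ge), ← ht a]
    have e1 := preimage_map_preimage (c := c) (χ ≫ φ₁) (V a)
    refine (congrArg (fun z => c.pt.basicOpen z)
      (res_fn (c.π.app j₁) (U := D.map φ₁ ⁻¹ᵁ V a) (W := p ⁻¹ᵁ V a) e1.le (preimage_map_preimage φ₁ (V a)).ge
        (t a)).symm).trans ((Scheme.basicOpen_res _ _ _).trans ?_)
    exact inf_eq_right.2 ((c.pt.basicOpen_le _).trans e1.ge)
  constructor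
  · intro hy
    exact (h2.ge (h3.le (h1.le ⟨hy, hry⟩))).1
  · intro hy
    exact (h1.ge (h3.ge (h2.le ⟨hy, ha⟩))).1

include hc in
/-- An invertible module which is ample on the limit is ample at some stage. -/
theorem exists_isAmple_stage {i : I} [CompactSpace (D.obj i)] [QuasiSeparatedSpace (D.obj i)]
    {L : (D.obj i).Modules} (hL : PicF.IsInvertible L)
    (h : CohB1.IsAmple ((Scheme.Modules.pullback (c.π.app i)).obj L)) :
    ∃ (j : I) (φ : j ⟶ i), CohB1.IsAmple ((Scheme.Modules.pullback (D.map φ)).obj L) := by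
  classical
  obtain ⟨-, hcpt, hA⟩ := isAmple_iff.1 h
  haveI : CompactSpace c.pt := hcpt
  let p : c.pt ⟶ D.obj i := c.π.app i
  -- each point has a neighbourhood which is an affine locus of generation defined at a stage
  let P : c.pt.Opens → ∀ j, (j ⟶ i) → Prop := fun U j φ =>
    ∃ (k : ℕ) (s : Γ((Scheme.Modules.pullback (D.map φ)).obj (CohB1.tensorPow L k), ⊤)), 0 < k ∧
      IsAffineOpen (gen _ s) ∧ (c.π.app j ⁻¹ᵁ gen _ s : c.pt.Opens) = U
  have hmono : ∀ U (j j' : I) (φ : j ⟶ i) (χ : j' ⟶ j), P U j φ → P U j' (χ ≫ φ) := by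
    rintro U j j' φ χ ⟨k, s, hk, hs, hsU⟩
    let e := (Scheme.Modules.pullbackComp (D.map χ) (D.map φ)).app (CohB1.tensorPow L k) ≪≫
      (Scheme.Modules.pullbackCongr (D.map_comp χ φ).symm).app (CohB1.tensorPow L k)
    have hinv := isInvertible_pullback (D.map φ) (isInvertible_tensorPow hL k)
    have hgen : gen _ (e.hom.app ⊤ (pullTop (D.map χ) s)) = D.map χ ⁻¹ᵁ gen _ s := by
      rw [gen_iso]
      have := gen_smul_pullSect (D.map χ) hinv s (isUnit_one (M := Γ(D.obj j', ⊤)))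
      rwa [one_smul] at this
    refine ⟨k, e.hom.app ⊤ (pullTop (D.map χ) s), hk, ?_, ?_⟩ <;> rw [hgen]
    · exact hs.preimage _
    · rw [← hsU, preimage_map_preimage]
  have hloc : ∀ x : c.pt, ∃ U : c.pt.Opens, x ∈ U ∧ ∃ j φ, P U j φ := by
    intro x
    obtain ⟨k, s, hk, hxs, hs⟩ := hA x
    obtain ⟨e⟩ := exists_iso_pullback_tensorPow p hL k
    obtain ⟨s', hs'⟩ : ∃ s' : Γ((Scheme.Modules.pullback p).obj (CohB1.tensorPow L k), ⊤),
        gen _ s' = gen _ s := ⟨e.inv.app ⊤ s, gen_iso _ _⟩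
    obtain ⟨j, φ, t, ht⟩ := exists_gen_stage hc (isInvertible_tensorPow hL k) s'
    haveI : CompactSpace (D.obj j) := QuasiCompact.compactSpace_of_compactSpace (D.map φ)
    haveI : QuasiSeparatedSpace (D.obj j) := quasiSeparatedSpace_of_quasiSeparated (D.map φ)
    -- make the locus affine at a later stage
    let G := gen _ t
    have hGinv := isInvertible_pullback (D.map φ) (isInvertible_tensorPow hL k)
    haveI := isAffineHom_gen_ι hGinv t
    have hGc : IsCompact (G : Set (D.obj j)) := by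
      have h1 := (G.ι.isCompact_preimage (U := (⊤ : (D.obj j).Opens)) isCompact_univ).image G.ι.continuous
      convert! h1 using 1
      ext y
      exact ⟨fun hy => ⟨⟨y, hy⟩, trivial, rfl⟩, fun ⟨y', _, hy'⟩ => hy' ▸ y'.2⟩
    have hGa : IsAffineOpen (c.π.app j ⁻¹ᵁ G : c.pt.Opens) := by
      rw [show (c.π.app j ⁻¹ᵁ G : c.pt.Opens) = gen _ s from ht.trans hs']; exact hs
    haveI : ∀ l : Over j, CompactSpace ((opensDiagram D j G).obj l) := fun l =>
      isCompact_iff_compactSpace.1 ((D.map l.hom).isCompact_preimage hGc)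
    haveI : ∀ l : Over j, QuasiSeparatedSpace ((opensDiagram D j G).obj l) := fun l =>
      haveI : QuasiSeparatedSpace (D.obj l.left) := quasiSeparatedSpace_of_quasiSeparated (D.map l.hom)
      quasiSeparatedSpace_of_quasiSeparated ((D.map l.hom ⁻¹ᵁ G).ι)
    haveI : IsAffine (opensCone D c j G).pt := hGa
    obtain ⟨l, hl⟩ := Scheme.exists_isAffine_of_isLimit (opensDiagram D j G) _ (isLimitOpensCone D c hc j G)
    let e' := (Scheme.Modules.pullbackComp (D.map l.hom) (D.map φ)).app (CohB1.tensorPow L k) ≪≫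
      (Scheme.Modules.pullbackCongr (D.map_comp l.hom φ).symm).app (CohB1.tensorPow L k)
    have hgen : gen _ (e'.hom.app ⊤ (pullTop (D.map l.hom) t)) = D.map l.hom ⁻¹ᵁ G := by
      rw [gen_iso]
      have := gen_smul_pullSect (D.map l.hom) hGinv t (isUnit_one (M := Γ(D.obj l.left, ⊤)))
      rwa [one_smul] at this
    refine ⟨c.π.app j ⁻¹ᵁ G, ?_, l.left, l.hom ≫ φ, k, e'.hom.app ⊤ (pullTop (D.map l.hom) t), hk, ?_, ?_⟩
    · rw [ht, hs']; exact hxs
    · rw [hgen]; exact hl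
    · rw [hgen, preimage_map_preimage]
  choose U hxU hU using hloc
  obtain ⟨S, hS⟩ := isCompact_univ.elim_finite_subcover (fun x => (U x : Set c.pt)) (fun x => (U x).2)
    (fun x _ => Set.mem_iUnion.2 ⟨x, hxU x⟩)
  obtain ⟨j, φ, hj⟩ := exists_common (i₀ := i) (fun x : S => P (U x.1)) (fun x => hmono _) (fun x => hU x.1)
  choose k s hk hs hsU using hj
  haveI : CompactSpace (D.obj j) := QuasiCompact.compactSpace_of_compactSpace (D.map φ)
  haveI : ∀ l, IsAffineHom (c.π.app l) := fun l => isAffineHom_π_app D c hc l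
  haveI : ∀ l : Over j, CompactSpace ((Over.forget j ⋙ D).obj l) := fun l =>
    QuasiCompact.compactSpace_of_compactSpace (D.map l.hom)
  haveI : ∀ {a b : Over j} (f : a ⟶ b), IsAffineHom ((Over.forget j ⋙ D).map f) := fun {a b} f =>
    inferInstanceAs (IsAffineHom (D.map f.left))
  obtain ⟨l, ψ, hψ⟩ := exists_map_eq_top (Over.forget j ⋙ D) (c.whisker (Over.forget j))
    ((Functor.Initial.isLimitWhiskerEquiv (Over.forget j) c).symm hc) (i := Over.mk (𝟙 j))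
    (⨆ x : S, gen _ (s x)) (by
      refine top_le_iff.1 fun y _ => ?_
      obtain ⟨x, hxS, hyx⟩ := Set.mem_iUnion₂.1 (hS (Set.mem_univ y))
      rw [Scheme.Hom.preimage_iSup]
      exact Opens.mem_iSup.2 ⟨⟨x, hxS⟩, (hsU ⟨x, hxS⟩).ge hyx⟩)
  let χ : l.left ⟶ j := ψ.left
  haveI : CompactSpace (D.obj l.left) := QuasiCompact.compactSpace_of_compactSpace (D.map χ)
  refine ⟨l.left, χ ≫ φ, isAmple_iff.2 ⟨isInvertible_pullback _ hL, inferInstance, fun y => ?_⟩⟩
  obtain ⟨x, hx⟩ : ∃ x : S, y ∈ D.map χ ⁻¹ᵁ gen _ (s x) := by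
    have hy : y ∈ D.map χ ⁻¹ᵁ ⨆ x : S, gen _ (s x) := hψ.ge (Set.mem_univ y)
    rw [Scheme.Hom.preimage_iSup] at hy
    exact Opens.mem_iSup.1 hy
  obtain ⟨e⟩ := exists_iso_pullback_tensorPow (D.map (χ ≫ φ)) hL (k x)
  let e₁ := (Scheme.Modules.pullbackComp (D.map χ) (D.map φ)).app (CohB1.tensorPow L (k x)) ≪≫
    (Scheme.Modules.pullbackCongr (D.map_comp χ φ).symm).app (CohB1.tensorPow L (k x))
  have hgen : gen _ (e.hom.app ⊤ (e₁.hom.app ⊤ (pullTop (D.map χ) (s x)))) = D.map χ ⁻¹ᵁ gen _ (s x) := by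
    rw [gen_iso, gen_iso]
    have := gen_smul_pullSect (D.map χ) (isInvertible_pullback (D.map φ) (isInvertible_tensorPow hL (k x))) (s x)
      (isUnit_one (M := Γ(D.obj l.left, ⊤)))
    rwa [one_smul] at this
  refine ⟨k x, e.hom.app ⊤ (e₁.hom.app ⊤ (pullTop (D.map χ) (s x))), hk x, ?_, ?_⟩ <;> rw [hgen]
  · exact hx
  · exact (hs x).preimage _

end Groth.Agent.H7Lim.AmpleDescent
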