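import Groth.Agent.H7Lim.ThickeningQAff
import Groth.Agent.H7Lim.AmpleDescent

/-!
# Ampleness along homeomorphic closed immersions
-/

set_option autoImplicit false
set_option backward.isDefEq.respectTransparency false
set_option linter.style.haveILetI false

noncomputable section

universe u

open CategoryTheory CategoryTheory.Limits AlgebraicGeometry Opposite TopologicalSpace
open Groth.Agent.H11Tilde Groth.Agent.H11Ample

namespace Groth.Agent.H7Lim

variable {X X' : Scheme.{u}} (t : X ⟶ X') [IsClosedImmersion t]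
  (hsq : ∀ (W : X'.Opens) (a b : Γ(X', W)), t.app W a = 0 → t.app W b = 0 → a * b = 0)

/-- A section over `t ⁻¹ᵁ U` is divisible by a generator. -/
theorem app_coeff {M : X'.Modules} {U W : X'.Opens} {e : Γ(M, U)} (he : IsGen M e) (h : W ≤ U) (a b : Γ(X', W))
    (hab : OmegaSh.pullSect t M W (a • M.presheaf.map (homOfLE h).op e) =
      OmegaSh.pullSect t M W (b • M.presheaf.map (homOfLE h).op e)) : t.app W a = t.app W b := by
  rw [OmegaSh.pullSect_smul, OmegaSh.pullSect_smul] at hab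
  exact AmpleDescent.coeff_unique (IsGen.pullSect t (he.res h)) hab

include hsq in
/-- A power of a section with affine locus of generation lifts along a first order thickening. -/
theorem exists_gen_eq_of_sq_zero [CompactSpace X'] [QuasiSeparatedSpace X'] (ht : Function.Surjective t)
    {M : X'.Modules} (hM : PicF.IsInvertible M) (s : Γ((Scheme.Modules.pullback t).obj M, ⊤))
    (hs : IsAffineOpen (gen _ s)) :
    ∃ (K : ℕ) (F : Γ(CohB1.tensorPow M (K + 1), ⊤)), IsAffineOpen (gen _ F) ∧ t ⁻¹ᵁ gen _ F = gen _ s := by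
  classical
  have hhomeo : IsHomeomorph t := isHomeomorph_iff_isEmbedding_surjective.2 ⟨t.isClosedEmbedding.isEmbedding, ht⟩
  let U' : X'.Opens := ⟨t '' (gen _ s : Set X), hhomeo.isOpenMap _ (gen _ s).2⟩
  have hU'pre : t ⁻¹ᵁ U' = gen _ s :=
    SetLike.coe_injective (Set.preimage_image_eq _ t.isClosedEmbedding.injective)
  haveI hres : ∀ W : X'.Opens, IsClosedImmersion (t ∣_ W) := fun W => MorphismProperty.of_isPullback
    (isPullback_morphismRestrict t W).flip inferInstance
  have hU' : IsAffineOpen U' := by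
    haveI : IsAffine (t ⁻¹ᵁ U').toScheme := hU'pre ▸ hs
    exact isAffine_of_surjective_closedImmersion (t ∣_ U') (fun y => by
      obtain ⟨x, hx⟩ := ht y.1
      refine ⟨⟨x, show t x ∈ U' from hx ▸ y.2⟩, Subtype.ext ?_⟩
      exact (morphismRestrict_base_coe t U' _).trans hx)
  let P := (Scheme.Modules.pullback t).obj M
  obtain ⟨A, _, U, e, hU, he, hcov⟩ := exists_finite_gen_cover hM
  haveI := Fintype.ofFinite A
  choose g hg using fun a => exists_coeff (IsGen.pullSect t (he a))
    (P.presheaf.map (homOfLE (le_top : t ⁻¹ᵁ U a ≤ ⊤)).op s)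
  choose h₀ hh₀ using fun a => t.app_surjective (U a) (hU a) (g a)
  choose v hv using fun a b => exists_coeff ((he a).res (inf_le_left : U a ⊓ U b ≤ U a))
    (M.presheaf.map (homOfLE (inf_le_right : U a ⊓ U b ≤ U b)).op (e b))
  obtain ⟨H, hH⟩ := (H17.PullSect.isQuotOn_of_isAffineOpen t M (H28Mero.isQCoh_of_isInvertible hM) hU').1
    (P.presheaf.map (homOfLE (le_top : t ⁻¹ᵁ U' ≤ ⊤)).op s)
  choose H₀ hH₀ using fun a => exists_coeff ((he a).res (inf_le_left : U a ⊓ U' ≤ U a))
    (M.presheaf.map (homOfLE (inf_le_right : U a ⊓ U' ≤ U')).op H)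
  -- the coefficient of the local lift and that of the lift on `U'` agree modulo the kernel
  have hpull : ∀ a (W : X'.Opens) (h : W ≤ U a),
      OmegaSh.pullSect t M W (rs h (h₀ a) • M.presheaf.map (homOfLE h).op (e a)) =
        P.presheaf.map (homOfLE (le_top : t ⁻¹ᵁ W ≤ ⊤)).op s := by
    intro a W h
    rw [OmegaSh.pullSect_smul, AmpleDescent.pullSect_res', app_rs, hh₀]
    refine (Scheme.Modules.map_smul _ _ _ _).symm.trans ?_
    rw [← hg a, H10Coh.mres_mres]
  have hH₀g : ∀ a, t.app _ (H₀ a) = t.app _ (rs (inf_le_left : U a ⊓ U' ≤ U a) (h₀ a)) := by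
    intro a
    refine app_coeff t (he a) inf_le_left _ _ ?_
    rw [hpull, ← hH₀ a, AmpleDescent.pullSect_res', hH, H10Coh.mres_mres]
  have hcoef : ∀ a b, t.app _ (rs (inf_le_left : U a ⊓ U b ≤ U a) (h₀ a)) =
      t.app _ (rs inf_le_right (h₀ b) * v a b) := by
    intro a b
    refine app_coeff t (he a) inf_le_left _ _ ?_
    rw [hpull a _ inf_le_left]
    rw [mul_smul, ← hv a b, hpull b _ inf_le_right]
  have hUG : ∀ a, X'.basicOpen (h₀ a) = U a ⊓ U' := by
    intro a
    apply preimage_injective t ht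
    rw [Scheme.preimage_basicOpen, hh₀]
    refine (gen_inf_eq_basicOpen (IsGen.pullSect t (he a)) s (g a) (hg a)).symm.trans ?_
    rw [inf_comm, ← hU'pre]; rfl
  have hkres : ∀ {W V : X'.Opens} (h : W ≤ V) {a : Γ(X', V)}, t.app V a = 0 → t.app W (rs h a) = 0 := by
    intro W V h a ha
    rw [app_rs, ha, map_zero]
  have hext : ∀ a, ∃ n : ℕ, ∀ N, n ≤ N → ∃ d : Γ(X', U a), t.app _ d = 0 ∧
      rs inf_le_left d = rs inf_le_left (h₀ a ^ N) * (rs (inf_le_left : U a ⊓ U' ≤ U a) (h₀ a) - H₀ a) := by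
    intro a
    let e₀ : Γ(X', U a ⊓ U') := rs inf_le_left (h₀ a) - H₀ a
    have he₀ : t.app _ e₀ = 0 := by rw [map_sub, hH₀g, sub_self]
    let h1 : U a ⊓ U' ≤ X'.basicOpen (h₀ a) := (hUG a).ge
    let h2 : X'.basicOpen (h₀ a) ≤ U a ⊓ U' := (hUG a).le
    have hloc' := (hU a).isLocalization_basicOpen (h₀ a)
    have hmem : rs h2 e₀ ∈ (t.ker.ideal ⟨U a, hU a⟩).map (rs (X'.basicOpen_le (h₀ a))) := by
      have := t.ker.map_ideal_basicOpen ⟨U a, hU a⟩ (h₀ a)
      change (t.ker.ideal ⟨U a, hU a⟩).map (rs (X'.basicOpen_le (h₀ a))) = _ at this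
      rw [this, Scheme.Hom.ker_apply]
      exact hkres h2 he₀
    obtain ⟨⟨⟨d, hd⟩, ⟨_, n, rfl⟩⟩, hdn⟩ := (IsLocalization.mem_map_algebraMap_iff
      (Submonoid.powers (h₀ a)) Γ(X', X'.basicOpen (h₀ a))).1 hmem
    refine ⟨n, fun N hN => ⟨h₀ a ^ (N - n) * d, ?_, ?_⟩⟩
    · rw [Scheme.Hom.ker_apply] at hd
      rw [map_mul, show t.app _ d = 0 from hd, mul_zero]
    · replace hdn : rs h2 e₀ * rs (X'.basicOpen_le (h₀ a)) (h₀ a ^ n) =
          rs (X'.basicOpen_le (h₀ a)) d := hdn
      have := congrArg (rs h1) hdn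
      rw [map_mul, rs_rs, rs_rs, rs_rs] at this
      rw [map_mul, ← this]
      conv_rhs => rw [← Nat.sub_add_cancel hN, pow_add, map_mul]
      have hcc : rs (le_refl (U a ⊓ U')) e₀ = e₀ := by simp [rs]
      rw [hcc]
      simp only [e₀]
      ring
  choose n hn using hext
  let N := ∑ i, n i
  choose d hd0 hd using fun a => hn a N (Finset.single_le_sum (f := n) (fun _ _ => Nat.zero_le _) (Finset.mem_univ a))
  -- on `U a ⊓ U b ⊓ U'` the two coefficients of the lift on `U'` agree
  have hH₀c : ∀ (a b : A) (W : X'.Opens) (h1 : W ≤ U a ⊓ U') (h2 : W ≤ U b ⊓ U') (h3 : W ≤ U a ⊓ U b),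
      rs h1 (H₀ a) = rs h2 (H₀ b) * rs h3 (v a b) := by
    intro a b W h1 h2 h3
    refine AmpleDescent.coeff_unique ((he a).res (h1.trans inf_le_left)) ?_
    have e1 := congrArg (M.presheaf.map (homOfLE h1).op) (hH₀ a)
    have e2 := congrArg (M.presheaf.map (homOfLE h2).op) (hH₀ b)
    have e3 := congrArg (M.presheaf.map (homOfLE h3).op) (hv a b)
    rw [Scheme.Modules.map_smul, H10Coh.mres_mres, H10Coh.mres_mres] at e1 e2 e3
    change _ = rs h1 (H₀ a) • _ at e1
    change _ = rs h2 (H₀ b) • _ at e2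
    change _ = rs h3 (v a b) • _ at e3
    rw [mul_smul, ← e3, ← e1, ← e2]
  let E : ∀ a b, Γ(X', U a ⊓ U b) := fun a b =>
    rs inf_le_left (d a) - v a b ^ (N + 1) * rs inf_le_right (d b) -
      rs inf_le_left (h₀ a ^ N) * (rs inf_le_left (h₀ a) - rs inf_le_right (h₀ b) * v a b)
  have hE : ∀ a b, ∃ m : ℕ, ∀ L, m ≤ L → rs inf_le_left (h₀ a ^ L) * E a b = 0 := by
    intro a b
    let G' : Γ(X', U a ⊓ U b) := rs inf_le_left (h₀ a)
    have hb : X'.basicOpen G' ≤ U' := by
      show X'.basicOpen (X'.presheaf.map (homOfLE (inf_le_left : U a ⊓ U b ≤ U a)).op (h₀ a)) ≤ _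
      rw [Scheme.basicOpen_res, hUG]
      exact inf_le_right.trans inf_le_right
    have hba : X'.basicOpen G' ≤ U a := (X'.basicOpen_le _).trans inf_le_left
    have hbb : X'.basicOpen G' ≤ U b := (X'.basicOpen_le _).trans inf_le_right
    have hzero : rs (X'.basicOpen_le G') (E a b) = 0 := by
      have h1 := congrArg (rs (le_inf hba hb)) (hd a)
      have h2 := congrArg (rs (le_inf hbb hb)) (hd b)
      have h4 := hH₀c a b _ (le_inf hba hb) (le_inf hbb hb) (X'.basicOpen_le G')
      simp only [map_mul, map_sub, map_pow, rs_rs] at h1 h2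
      simp only [E, map_sub, map_mul, map_pow, rs_rs]
      rw [h1, h2, h4]
      have hc : t.app _ (rs hba (h₀ a)) = t.app _ (rs hbb (h₀ b) * rs (X'.basicOpen_le G') (v a b)) := by
        have := congrArg (rs ((Opens.map t.base).map (homOfLE (X'.basicOpen_le G'))).le) (hcoef a b)
        rw [← app_rs t (X'.basicOpen_le G'), ← app_rs t (X'.basicOpen_le G'), map_mul, rs_rs, rs_rs] at this
        exact this
      have h3 := mul_eq_of_app_eq t hsq (W := X'.basicOpen G')
        (a := (rs hbb (h₀ b) * rs (X'.basicOpen_le G') (v a b)) ^ N) (b := rs hba (h₀ a) ^ N)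
        (c := rs hbb (h₀ b) * rs (X'.basicOpen_le G') (v a b) -
          rs (le_inf hbb hb) (H₀ b) * rs (X'.basicOpen_le G') (v a b))
        (by rw [map_pow, map_pow, hc])
        (by
          rw [← sub_mul, map_mul, map_sub]
          have := congrArg (rs ((Opens.map t.base).map (homOfLE (le_inf hbb hb))).le) (hH₀g b)
          rw [← app_rs t (le_inf hbb hb), ← app_rs t (le_inf hbb hb), rs_rs] at this
          rw [this, sub_self, zero_mul])
      rw [mul_pow] at h3
      linear_combination -h3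
    have hcpt : IsCompact ((U a ⊓ U b : X'.Opens) : Set X') :=
      QuasiSeparatedSpace.inter_isCompact _ _ (U a).2 (hU a).isCompact (U b).2 (hU b).isCompact
    have hloc' := isLocalization_basicOpen_of_qcqs hcpt
      (isQuasiSeparated_univ.of_subset (Set.subset_univ _)) G'
    obtain ⟨⟨_, m, rfl⟩, hm⟩ :=
      (IsLocalization.map_eq_zero_iff (Submonoid.powers G') Γ(X', X'.basicOpen G') (E a b)).1 hzero
    refine ⟨m, fun L hL => ?_⟩
    rw [← Nat.sub_add_cancel hL, pow_add, map_mul, mul_assoc, map_pow _ (h₀ a) m, hm, mul_zero]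
  choose m hm using hE
  let L := ∑ a, ∑ b, m a b
  have hL : ∀ a b, m a b ≤ L := fun a b =>
    (Finset.single_le_sum (f := fun b => m a b) (fun _ _ => Nat.zero_le _) (Finset.mem_univ b)).trans
      (Finset.single_le_sum (f := fun a => ∑ b, m a b) (fun _ _ => Nat.zero_le _) (Finset.mem_univ a))
  obtain ⟨K, hK⟩ : ∃ K, K = N + L := ⟨_, rfl⟩
  let τ : ∀ a, Γ(X', U a) := fun a =>
    h₀ a ^ (K + 1) - ((K + 1 : ℕ) : Γ(X', U a)) * (h₀ a ^ L * d a)
  let Q := CohB1.tensorPow M (K + 1)
  let σ : ∀ a, Γ(Q, U a) := fun a => τ a • spow (e a) (K + 1)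
  have hτeq : ∀ a b, rs (inf_le_left : U a ⊓ U b ≤ U a) (τ a) = rs inf_le_right (τ b) * v a b ^ (K + 1) := by
    intro a b
    have hc0 : t.app (U a ⊓ U b) (rs inf_le_left (h₀ a) - rs inf_le_right (h₀ b) * v a b) = 0 := by
      rw [map_sub, hcoef, sub_self]
    have h1 := mul_eq_of_app_eq t hsq (W := U a ⊓ U b)
      (a := (rs inf_le_right (h₀ b) * v a b) ^ L) (b := rs inf_le_left (h₀ a) ^ L)
      (c := v a b ^ (N + 1) * rs inf_le_right (d b))
      (by rw [map_pow, map_pow, hcoef])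
      (by rw [map_mul, hkres _ (hd0 b), mul_zero])
    have h2 := hm a b L (hL a b)
    have h3 := pow_sub_pow_of_sq_zero (rs (inf_le_left : U a ⊓ U b ≤ U a) (h₀ a))
      (rs inf_le_right (h₀ b) * v a b) (hsq _ _ _ hc0 hc0) K
    simp only [E, map_pow] at h2
    rw [mul_pow] at h1 h3
    simp only [τ, map_sub, map_mul, map_pow, map_natCast]
    subst hK
    rw [pow_add _ N L] at h3
    linear_combination h3 - ((N + L + 1 : ℕ) : Γ(X', U a ⊓ U b)) * h2 + ((N + L + 1 : ℕ) : Γ(X', U a ⊓ U b)) * h1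
  have hcompat : ∀ a b, Q.presheaf.map (homOfLE (inf_le_left : U a ⊓ U b ≤ U a)).op (σ a) =
      Q.presheaf.map (homOfLE inf_le_right).op (σ b) := by
    intro a b
    simp only [σ, Scheme.Modules.map_smul]
    change rs inf_le_left (τ a) • _ = rs inf_le_right (τ b) • _
    rw [spow_res, spow_res, hv a b, spow_smul, ← mul_smul, hτeq]
  let F : TopCat.Sheaf Ab.{u} X'.toTopCat := ⟨Q.presheaf, Q.isSheaf⟩
  obtain ⟨T, hT, -⟩ := F.existsUnique_gluing' U ⊤ (fun a => homOfLE le_top)
    (fun y _ => by obtain ⟨a, ha⟩ := hcov y; exact Opens.mem_iSup.2 ⟨a, ha⟩) σ hcompat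
  have hgen : gen Q T = U' := by
    refine preimage_injective t ht (TopologicalSpace.Opens.ext (Set.ext fun x => ?_))
    obtain ⟨a, ha⟩ := hcov (t x)
    have h1 := gen_inf_eq_basicOpen (isGen_spow (he a) (K + 1)) T (τ a) (hT a)
    have h2 : t ⁻¹ᵁ X'.basicOpen (τ a) = t ⁻¹ᵁ (U a ⊓ U') := by
      rw [Scheme.preimage_basicOpen, ← hUG a, Scheme.preimage_basicOpen]
      simp only [τ, map_sub, map_mul, map_pow, hd0, mul_zero, sub_zero]
      exact Scheme.basicOpen_pow _ _ K.succ_pos
    constructor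
    · intro hx
      exact (h2.le (show t x ∈ X'.basicOpen (τ a) from h1.le ⟨hx, ha⟩)).2
    · intro hx
      exact (h1.ge (show t x ∈ X'.basicOpen (τ a) from h2.ge ⟨ha, hx⟩)).1
  exact ⟨K, T, hgen ▸ hU', by rw [hgen]; exact hU'pre⟩

include hsq in
/-- An invertible module which is ample on a first order thickening is ample. -/
theorem isAmple_of_sq_zero (ht : Function.Surjective t) {M : X'.Modules} (hM : PicF.IsInvertible M)
    (h : CohB1.IsAmple ((Scheme.Modules.pullback t).obj M)) : CohB1.IsAmple M := by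
  haveI := compactSpace_of_isAmple h
  haveI := quasiSeparatedSpace_of_isAmple h
  have hhomeo : IsHomeomorph t := isHomeomorph_iff_isEmbedding_surjective.2 ⟨t.isClosedEmbedding.isEmbedding, ht⟩
  haveI : CompactSpace X' := ⟨by rw [← ht.range_eq]; exact isCompact_range t.continuous⟩
  haveI : QuasiSeparatedSpace X' := hhomeo.homeomorph.symm.isOpenEmbedding.quasiSeparatedSpace
  refine isAmple_iff.2 ⟨hM, inferInstance, fun y => ?_⟩
  obtain ⟨x, rfl⟩ := ht y
  obtain ⟨k, s, hk, hxs, hs⟩ := (isAmple_iff.1 h).2.2 x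
  obtain ⟨e⟩ := exists_iso_pullback_tensorPow t hM k
  obtain ⟨K, F, hF, hFs⟩ := exists_gen_eq_of_sq_zero t hsq ht (isInvertible_tensorPow hM k) (e.inv.app ⊤ s)
    (by rw [gen_iso]; exact hs)
  rw [gen_iso] at hFs
  obtain ⟨φ, -⟩ := exists_iso_mul hM k (K + 1)
  refine ⟨k * (K + 1), φ.hom.app ⊤ F, Nat.mul_pos hk K.succ_pos, ?_, ?_⟩ <;> rw [gen_iso]
  · exact hFs.ge hxs
  · exact hF

/-- Ampleness is detected on a closed subscheme with the same underlying space. -/
theorem isAmple_of_surjective_closedImmersion {Z Y : Scheme.{u}} (i : Z ⟶ Y) [IsClosedImmersion i]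
    (hi : Function.Surjective i) {L : Y.Modules} (hL : PicF.IsInvertible L)
    (h : CohB1.IsAmple ((Scheme.Modules.pullback i).obj L)) : CohB1.IsAmple L := by
  haveI := compactSpace_of_isAmple h
  haveI := quasiSeparatedSpace_of_isAmple h
  have hhomeo : IsHomeomorph i := isHomeomorph_iff_isEmbedding_surjective.2 ⟨i.isClosedEmbedding.isEmbedding, hi⟩
  haveI : CompactSpace Y := ⟨by rw [← hi.range_eq]; exact isCompact_range i.continuous⟩
  haveI : QuasiSeparatedSpace Y := hhomeo.homeomorph.symm.isOpenEmbedding.quasiSeparatedSpace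
  have hP : ClimbsSqZero (B := Y) (fun X q => CohB1.IsAmple ((Scheme.Modules.pullback q).obj L)) := by
    intro X X' t q _ _ ht _ hsq h
    exact isAmple_of_sq_zero t hsq ht (isInvertible_pullback q hL) ((isAmple_pullback_comp_iff t q L).1 h)
  refine (isAmple_pullback_id_iff L).1 (hP.of_surjective_closedImmersion _
    (fun X Z' e q he h => ?_) i hi (fun h => ?_) h)
  · haveI := he
    exact (isAmple_pullback_iso_iff (asIso e) _).1 ((isAmple_pullback_comp_iff e q L).1 h)
  · let D := ftSystem i.ker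
    haveI : ∀ {j k} (f : j ⟶ k), IsAffineHom (D.map f) := fun {j k} f =>
      haveI := isClosedImmersion_ftSystem_map i.ker f; inferInstance
    haveI : ∀ J, CompactSpace (D.obj J) := fun J =>
      QuasiCompact.compactSpace_of_compactSpace J.unop.1.subschemeι
    haveI : ∀ J, QuasiSeparatedSpace (D.obj J) := fun J =>
      quasiSeparatedSpace_of_quasiSeparated J.unop.1.subschemeι
    let J₀ : (FTIdeal i.ker)ᵒᵖ := op ⟨⊥, bot_le, fun _ => Submodule.fg_bot⟩
    let ι₀ := J₀.unop.1.subschemeι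
    have h' : CohB1.IsAmple ((Scheme.Modules.pullback ((ftCone i.ker).π.app J₀)).obj
        ((Scheme.Modules.pullback ι₀).obj L)) := by
      rw [← isAmple_pullback_comp_iff]
      rw [show (ftCone i.ker).π.app J₀ ≫ ι₀ = i.ker.subschemeι from Scheme.IdealSheafData.inclusion_subschemeι _]
      exact h
    obtain ⟨J, φ, hJ⟩ := AmpleDescent.exists_isAmple_stage (isLimitFtCone i.ker) (isInvertible_pullback ι₀ hL) h'
    refine ⟨J.unop, ?_⟩
    rw [← isAmple_pullback_comp_iff] at hJ
    rwa [show D.map φ ≫ ι₀ = J.unop.1.subschemeι from Scheme.IdealSheafData.inclusion_subschemeι _] at hJ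

end Groth.Agent.H7Lim
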