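import Groth.Agent.H7Lim.DescendAffine
import Groth.Agent.H7Lim.Sections
import Mathlib.AlgebraicGeometry.Morphisms.Separated

/-!
# Separatedness descends along cofiltered limits of quasi-compact quasi-separated schemes
-/

set_option autoImplicit false
set_option backward.isDefEq.respectTransparency false
set_option backward.defeqAttrib.useBackward true

universe u

open CategoryTheory Limits AlgebraicGeometry TopologicalSpace

namespace Groth.Agent.H7Lim

variable {X : Scheme.{u}}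

/-- The sections over `W` coming by restriction from `U` or from `V`. -/
def resSet (U V W : X.Opens) (hU : W ≤ U) (hV : W ≤ V) : Set Γ(X, W) :=
  Set.range (X.presheaf.map (homOfLE hU).op) ∪ Set.range (X.presheaf.map (homOfLE hV).op)

/-- A scheme is separated if it has an affine cover with affine pairwise intersections whose
sections are generated by the restrictions. -/
theorem isSeparated_of_cover {ι : Type*} (U : ι → X.Opens) (hU : IsOpenCover U)
    (hA : ∀ a, IsAffineOpen (U a)) (hAB : ∀ a b, IsAffineOpen (U a ⊓ U b))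
    (hs : ∀ a b, Subring.closure (resSet (U a) (U b) (U a ⊓ U b) inf_le_left inf_le_right) = ⊤) :
    X.IsSeparated := by
  let 𝒰 := X.openCoverOfIsOpenCover U hU
  refine ⟨⟨IsZariskiLocalAtTarget.of_openCover
    (Scheme.Pullback.openCoverOfLeftRight 𝒰 𝒰 _ _) ?_⟩⟩
  intro ⟨a, b⟩
  dsimp [Scheme, Scheme.Cover.pullbackHom, 𝒰]
  refine (MorphismProperty.cancel_left_of_respectsIso (P := @IsClosedImmersion)
    (f := (pullbackDiagonalMapIdIso ..).inv) _).mp ?_
  let e := (isPullback_opens_inf (U a) (U b)).isoPullback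
  rw [← MorphismProperty.cancel_left_of_respectsIso (P := @IsClosedImmersion) e.hom]
  have : IsAffine (U a : Scheme) := hA a
  have : IsAffine (U b : Scheme) := hA b
  have : IsAffine ((U a ⊓ U b : X.Opens) : Scheme) := hAB a b
  set q : (U a ⊓ U b : X.Opens).toScheme ⟶ _ := e.hom ≫ _
  have h₁ : q ≫ pullback.fst _ _ = X.homOfLE inf_le_left := by
    simp only [q, Category.assoc]
    erw [pullbackDiagonalMapIdIso_inv_snd_fst]
    exact IsPullback.isoPullback_hom_fst _
  have h₂ : q ≫ pullback.snd _ _ = X.homOfLE inf_le_right := by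
    simp only [q, Category.assoc]
    erw [pullbackDiagonalMapIdIso_inv_snd_snd]
    exact IsPullback.isoPullback_hom_snd _
  refine IsClosedImmersion.of_surjective_of_isAffine _ fun z ↦ ?_
  obtain ⟨z, rfl⟩ : ∃ z', (U a ⊓ U b).topIso.inv z' = z :=
    ⟨(U a ⊓ U b).topIso.hom z, Iso.hom_inv_id_apply _ _⟩
  have hz : z ∈ Subring.closure (resSet (U a) (U b) (U a ⊓ U b) inf_le_left inf_le_right) :=
    hs a b ▸ trivial
  refine (Subring.closure_le (t := q.appTop.hom.range.comap (U a ⊓ U b).topIso.inv.hom)).mpr ?_ hz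
  rintro _ (⟨x, rfl⟩ | ⟨x, rfl⟩)
  · exact ⟨(pullback.fst ((U a).ι ≫ terminal.from X) ((U b).ι ≫ terminal.from X)).appTop
      ((U a).topIso.inv x), by
      erw [← CommRingCat.comp_apply, ← Scheme.Hom.comp_appTop, h₁]
      simp [← ConcreteCategory.comp_apply, ← Functor.map_comp]⟩
  · exact ⟨(pullback.snd ((U a).ι ≫ terminal.from X) ((U b).ι ≫ terminal.from X)).appTop
      ((U b).topIso.inv x), by
      erw [← CommRingCat.comp_apply, ← Scheme.Hom.comp_appTop, h₂]
      simp [← ConcreteCategory.comp_apply, ← Functor.map_comp]⟩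

lemma closure_resSet_eq_top [X.IsSeparated] {U V : X.Opens} (hU : IsAffineOpen U)
    (hV : IsAffineOpen V) :
    Subring.closure (resSet U V (U ⊓ V) inf_le_left inf_le_right) = ⊤ := by
  let T := Spec (.of <| ULift.{u} ℤ)
  let f : X ⟶ T := specULiftZIsTerminal.from X
  have : IsAffine (U : Scheme) := hU
  have : IsAffine (V : Scheme) := hV
  let q : (U ⊓ V : X.Opens).toScheme ⟶ pullback (U.ι ≫ f) (V.ι ≫ f) :=
    (isPullback_opens_inf U V).isoPullback.hom ≫
      (pullbackDiagonalMapIdIso U.ι V.ι f).inv ≫ pullback.snd _ _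
  have : IsClosedImmersion q := inferInstance
  have : IsAffine T := inferInstanceAs (IsAffine (Spec _))
  have : IsAffine (pullback (U.ι ≫ f) (V.ι ≫ f)) := inferInstance
  have hq := (IsClosedImmersion.isAffine_surjective_of_isAffine (f := q)).2
  refine top_le_iff.mp fun z _ ↦ ?_
  obtain ⟨w, hw⟩ := hq ((U ⊓ V).topIso.inv z)
  have hw' : w ∈ Subring.closure (Set.range (pullback.fst (U.ι ≫ f) (V.ι ≫ f)).appTop ∪
      Set.range (pullback.snd (U.ι ≫ f) (V.ι ≫ f)).appTop) :=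
    CommRingCat.closure_range_union_range_eq_top_of_isPushout
      (isPushout_appTop_of_isPullback (IsPullback.of_hasPullback (U.ι ≫ f) (V.ι ≫ f))) ▸ trivial
  have h₁ : q ≫ pullback.fst _ _ = X.homOfLE inf_le_left := by
    simp only [q, Category.assoc, pullbackDiagonalMapIdIso_inv_snd_fst,
      IsPullback.isoPullback_hom_fst]
  have h₂ : q ≫ pullback.snd _ _ = X.homOfLE inf_le_right := by
    simp only [q, Category.assoc, pullbackDiagonalMapIdIso_inv_snd_snd,
      IsPullback.isoPullback_hom_snd]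
  have key : (q.appTop ≫ (U ⊓ V).topIso.hom) w ∈
      Subring.closure (resSet U V (U ⊓ V) inf_le_left inf_le_right) := by
    refine (Subring.closure_le (t := (Subring.closure _).comap
      (q.appTop ≫ (U ⊓ V).topIso.hom).hom)).mpr ?_ hw'
    rintro _ (⟨x, rfl⟩ | ⟨x, rfl⟩)
    · refine Subring.subset_closure (Or.inl ⟨U.topIso.hom x, ?_⟩)
      simp [← Scheme.Hom.comp_appTop, h₁, ← ConcreteCategory.comp_apply, ← Functor.map_comp]
    · refine Subring.subset_closure (Or.inr ⟨V.topIso.hom x, ?_⟩)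
      simp [← Scheme.Hom.comp_appTop, h₂, ← ConcreteCategory.comp_apply, ← Functor.map_comp]
  rw [CommRingCat.comp_apply, hw, Iso.inv_hom_id_apply] at key
  exact key

section Limit

variable {I : Type u} [Category.{u} I] [IsCofiltered I] {D : I ⥤ Scheme.{u}} {c : Cone D}
  [∀ (i j : I) (f : i ⟶ j), IsAffineHom (D.map f)] (hc : IsLimit c)

/-- The restrictions from `U` and `V` to `U ⊓ V` at stage `k`. -/
abbrev resAt {i : I} (U V : (D.obj i).Opens) {k : I} (φ : k ⟶ i) :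
    Set Γ(D.obj k, D.map φ ⁻¹ᵁ (U ⊓ V)) :=
  resSet (D.map φ ⁻¹ᵁ U) (D.map φ ⁻¹ᵁ V) _ (Scheme.Hom.preimage_mono _ inf_le_left)
    (Scheme.Hom.preimage_mono _ inf_le_right)

omit [IsCofiltered I] [∀ (i j : I) (f : i ⟶ j), IsAffineHom (D.map f)] in
lemma secMap_resAt {i k l : I} (U V : (D.obj i).Opens) (φ : k ⟶ i) (ψ : l ⟶ k) :
    secMap φ ψ (U ⊓ V) '' resAt U V φ ⊆ resAt U V (ψ ≫ φ) := by
  rintro _ ⟨_, ⟨x, rfl⟩ | ⟨x, rfl⟩, rfl⟩
  · exact Or.inl ⟨secMap φ ψ U x, by
      simp [secMap, ← ConcreteCategory.comp_apply, Scheme.Hom.appLE_map, Scheme.Hom.map_appLE]⟩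
  · exact Or.inr ⟨secMap φ ψ V x, by
      simp [secMap, ← ConcreteCategory.comp_apply, Scheme.Hom.appLE_map, Scheme.Hom.map_appLE]⟩

omit [IsCofiltered I] [∀ (i j : I) (f : i ⟶ j), IsAffineHom (D.map f)] in
lemma secMap_appLE {i k l : I} (φ : k ⟶ i) (ψ : l ⟶ k) (W : (D.obj i).Opens) (g : Γ(D.obj i, W)) :
    secMap φ ψ W ((D.map φ).appLE W _ le_rfl g) = (D.map (ψ ≫ φ)).appLE W _ le_rfl g := by
  rw [secMap, ← CommRingCat.comp_apply, Scheme.Hom.appLE_comp_appLE]
  simp only [Functor.map_comp]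

include hc in
/-- A section over an intersection generated by restrictions in the limit is generated by
restrictions at some stage. -/
lemma exists_mem_closure_resAt {i : I} {U V : (D.obj i).Opens} (hU : IsAffineOpen U)
    (hV : IsAffineOpen V) (hUV : IsCompact ((U ⊓ V : (D.obj i).Opens) : Set (D.obj i)))
    (g : Γ(D.obj i, U ⊓ V))
    (h : (c.π.app i).appLE (U ⊓ V) _ le_rfl g ∈ Subring.closure
      (resSet (c.π.app i ⁻¹ᵁ U) (c.π.app i ⁻¹ᵁ V) (c.π.app i ⁻¹ᵁ (U ⊓ V))
        (Scheme.Hom.preimage_mono _ inf_le_left) (Scheme.Hom.preimage_mono _ inf_le_right))) :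
    ∃ (k : I) (φ : k ⟶ i),
      (D.map φ).appLE (U ⊓ V) _ le_rfl g ∈ Subring.closure (resAt U V φ) := by
  let R (k : Over i) : Subring Γ(c.pt, c.π.app i ⁻¹ᵁ (U ⊓ V)) :=
    (Subring.closure (resAt U V k.hom)).map (secπ (c := c) k.hom (U ⊓ V)).hom
  have mono {k : I} (φ : k ⟶ i) {l : I} (ψ : l ⟶ k) :
      R (Over.mk φ) ≤ R (Over.mk (ψ ≫ φ)) := by
    rintro _ ⟨t, ht, rfl⟩
    refine ⟨secMap φ ψ (U ⊓ V) t, ?_, secπ_secMap_apply φ ψ (U ⊓ V) t⟩
    exact Subring.closure_mono (secMap_resAt U V φ ψ)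
      ((RingHom.map_closure _ _).le ⟨t, ht, rfl⟩)
  have dir : Directed (· ≤ ·) R := fun k₁ k₂ ↦ by
    obtain ⟨l, ψ₁, ψ₂, hψ⟩ := IsCofiltered.cospan k₁.hom k₂.hom
    exact ⟨Over.mk (ψ₁ ≫ k₁.hom), mono _ _, (mono _ _).trans (by rw [hψ])⟩
  have : Nonempty (Over i) := ⟨Over.mk (𝟙 i)⟩
  have hle : resSet (c.π.app i ⁻¹ᵁ U) (c.π.app i ⁻¹ᵁ V) (c.π.app i ⁻¹ᵁ (U ⊓ V))
      (Scheme.Hom.preimage_mono _ inf_le_left) (Scheme.Hom.preimage_mono _ inf_le_right) ⊆
      SetLike.coe (⨆ k, R k) := by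
    rintro _ (⟨x, rfl⟩ | ⟨x, rfl⟩)
    · obtain ⟨k, φ, t, rfl⟩ := exists_secπ_eq hc hU x
      refine le_iSup R (Over.mk φ) ⟨_, Subring.subset_closure (Or.inl ⟨t, rfl⟩), ?_⟩
      simp [secπ, ← ConcreteCategory.comp_apply, Scheme.Hom.appLE_map, Scheme.Hom.map_appLE]
    · obtain ⟨k, φ, t, rfl⟩ := exists_secπ_eq hc hV x
      refine le_iSup R (Over.mk φ) ⟨_, Subring.subset_closure (Or.inr ⟨t, rfl⟩), ?_⟩
      simp [secπ, ← ConcreteCategory.comp_apply, Scheme.Hom.appLE_map, Scheme.Hom.map_appLE]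
  obtain ⟨k, t, ht, hgt⟩ :=
    (Subring.mem_iSup_of_directed dir).mp (Subring.closure_le.mpr hle h)
  obtain ⟨l, ψ, hl⟩ := exists_secMap_eq hc k.hom hUV t
    ((D.map k.hom).appLE (U ⊓ V) _ le_rfl g) (by
      rw [show secπ (c := c) k.hom (U ⊓ V) t = _ from hgt]
      simp [secπ, ← ConcreteCategory.comp_apply, Scheme.Hom.appLE_comp_appLE])
  refine ⟨l, ψ ≫ k.hom, ?_⟩
  have h' := Subring.closure_mono (secMap_resAt U V k.hom ψ)
    ((RingHom.map_closure (secMap k.hom ψ (U ⊓ V)).hom _).le ⟨t, ht, rfl⟩)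
  rw [hl, secMap_appLE] at h'
  exact h'

omit [IsCofiltered I] in
/-- If generators of an intersection are generated by restrictions at a stage, so is everything. -/
lemma closure_resAt_eq_top {i k : I} (φ : k ⟶ i) {U V : (D.obj i).Opens} (hU : IsAffineOpen U)
    (hUV : IsAffineOpen (U ⊓ V)) (G : Set Γ(D.obj i, U ⊓ V))
    (hG : Subring.closure
      (Set.range ((D.obj i).presheaf.map (homOfLE (inf_le_left : U ⊓ V ≤ U)).op) ∪ G) = ⊤)
    (h : ∀ g ∈ G, (D.map φ).appLE (U ⊓ V) _ le_rfl g ∈ Subring.closure (resAt U V φ)) :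
    Subring.closure (resAt U V φ) = ⊤ := by
  have H : IsPullback (D.map φ) (𝟙 (D.obj k)) (𝟙 (D.obj i)) (D.map φ) :=
    IsPullback.of_vert_isIso ⟨by simp⟩
  have := (AlgebraicGeometry.isIso_pushoutSection_iff H (US := U) (UT := D.map φ ⁻¹ᵁ U) (UX := U ⊓ V)
    (UY := D.map φ ⁻¹ᵁ (U ⊓ V)) le_rfl inf_le_left
    (inf_eq_left.mpr (Scheme.Hom.preimage_mono _ inf_le_left)).symm).mp
    (isIso_pushoutSection_of_isAffineOpen H _ _ _ hU (hU.preimage _) hUV)
  refine top_le_iff.mp ((CommRingCat.closure_range_union_range_eq_top_of_isPushout this).symm.le.trans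
    (Subring.closure_le.mpr ?_))
  rintro _ (⟨w, rfl⟩ | ⟨x, rfl⟩)
  · have hw : w ∈ Subring.closure
        (Set.range ((D.obj i).presheaf.map (homOfLE (inf_le_left : U ⊓ V ≤ U)).op) ∪ G) :=
      hG ▸ trivial
    refine (Subring.closure_le (t := (Subring.closure (resAt U V φ)).comap
      ((D.map φ).appLE (U ⊓ V) _ le_rfl).hom)).mpr ?_ hw
    rintro _ (⟨r, rfl⟩ | hg)
    · refine Subring.subset_closure (Or.inl ⟨(D.map φ).appLE U _ le_rfl r, ?_⟩)
      simp [← ConcreteCategory.comp_apply, Scheme.Hom.appLE_map, Scheme.Hom.map_appLE]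
    · exact h _ hg
  · exact Subring.subset_closure (Or.inl ⟨x, by simp [Scheme.Hom.appLE]⟩)

omit [IsCofiltered I] in
lemma isSeparated_of_hom {i j : I} (φ : j ⟶ i) [(D.obj i).IsSeparated] :
    (D.obj j).IsSeparated := by
  constructor
  rw [show terminal.from (D.obj j) = D.map φ ≫ terminal.from (D.obj i) from terminalIsTerminal.hom_ext _ _]
  infer_instance

include hc in
/-- If the limit is separated, then so is some stage. -/
theorem exists_isSeparated_obj [∀ i, CompactSpace (D.obj i)]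
    [∀ i, QuasiSeparatedSpace (D.obj i)] [c.pt.IsSeparated] :
    ∃ i, ∀ (j : I) (_ : j ⟶ i), (D.obj j).IsSeparated := by
  obtain ⟨i₀⟩ := IsCofiltered.nonempty (C := I)
  obtain ⟨s, hs, e⟩ := (isCompact_and_isOpen_iff_finite_and_eq_biUnion_affineOpens
    (X := D.obj i₀) (U := Set.univ)).mp ⟨isCompact_univ, isOpen_univ⟩
  have : Finite s := hs
  have cover : IsOpenCover fun U : s ↦ (U.1 : (D.obj i₀).Opens) :=
    top_le_iff.mp fun x _ ↦ by
      obtain ⟨U, hU, hxU⟩ := Set.mem_iUnion₂.mp (e.le (Set.mem_univ x))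
      exact Opens.mem_iSup.mpr ⟨⟨U, hU⟩, hxU⟩
  have hAff := isAffineHom_π_app D c hc
  -- affine intersections at some stage
  obtain ⟨i, φ, hi⟩ := exists_common_stage i₀
    (fun (p : s × s) k φ ↦ IsAffineOpen (D.map φ ⁻¹ᵁ ((p.1.1 : (D.obj i₀).Opens) ⊓ p.2.1)))
    (fun p ↦ by
      let W : (D.obj i₀).Opens := (p.1.1 : (D.obj i₀).Opens) ⊓ p.2.1
      have hW : IsCompact (W : Set (D.obj i₀)) :=
        p.1.1.2.isCompact.inter_of_isOpen p.2.1.2.isCompact p.1.1.1.2 p.2.1.1.2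
      have (j : Over i₀) : CompactSpace ((opensDiagram D i₀ W).obj j) :=
        isCompact_iff_compactSpace.mp (QuasiCompact.isCompact_preimage _ W.2 hW)
      have (j : Over i₀) : QuasiSeparatedSpace ((opensDiagram D i₀ W).obj j) :=
        (isQuasiSeparated_iff_quasiSeparatedSpace _ (D.map _ ⁻¹ᵁ _).2).mp
          (.of_quasiSeparatedSpace _)
      have : IsAffine (opensCone D c i₀ W).pt :=
        IsAffineOpen.inf (X := c.pt) (p.1.1.2.preimage (c.π.app i₀))
          (p.2.1.2.preimage (c.π.app i₀))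
      obtain ⟨k, hk⟩ := Scheme.exists_isAffine_of_isLimit _ _ (isLimitOpensCone D c hc i₀ W)
      exact ⟨k.left, k.hom, hk⟩)
    (fun p j j' φ ψ h ↦ by
      rw [D.map_comp, Scheme.Hom.comp_preimage]
      exact h.preimage _)
  -- pass to stage `i`
  let U (a : s) : (D.obj i).Opens := D.map φ ⁻¹ᵁ (a.1 : (D.obj i₀).Opens)
  have hU (a : s) : IsAffineOpen (U a) := a.1.2.preimage _
  have hUV (a b : s) : IsAffineOpen (U a ⊓ U b) := hi (a, b)
  have hG (a b : s) : ∃ G : Finset Γ(D.obj i, U a ⊓ U b), Subring.closure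
      (Set.range ((D.obj i).presheaf.map (homOfLE (inf_le_left : U a ⊓ U b ≤ U a)).op) ∪
        (G : Set Γ(D.obj i, U a ⊓ U b))) = ⊤ := by
    let f := (D.obj i).presheaf.map (homOfLE (inf_le_left : U a ⊓ U b ≤ U a)).op
    have h : f.hom.FiniteType := by
      have := HasRingHomProperty.appLE (P := @LocallyOfFiniteType) (𝟙 (D.obj i)) inferInstance
        ⟨_, hU a⟩ ⟨_, hUV a b⟩ inf_le_left
      simpa [Scheme.Hom.appLE, f] using this
    algebraize [f.hom]
    obtain ⟨G, hG⟩ := Algebra.FiniteType.out (R := Γ(D.obj i, U a))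
      (A := Γ(D.obj i, U a ⊓ U b))
    exact ⟨G, by
      simpa [Algebra.adjoin_eq_ring_closure, RingHom.algebraMap_toAlgebra, f] using
        congrArg Subalgebra.toSubring hG⟩
  choose G hG using hG
  obtain ⟨k, ψ, hk⟩ := exists_common_stage i
    (fun (p : Σ q : s × s, G q.1 q.2) l ψ ↦
      (D.map ψ).appLE (U p.1.1 ⊓ U p.1.2) _ le_rfl p.2.1 ∈
        Subring.closure (resAt (U p.1.1) (U p.1.2) ψ))
    (fun p ↦ by
      refine exists_mem_closure_resAt hc (hU _) (hU _) (hUV _ _).isCompact _ ?_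
      exact (closure_resSet_eq_top (X := c.pt)
        ((hU p.1.1).preimage (c.π.app i)) ((hU p.1.2).preimage (c.π.app i))).ge
          (Subring.mem_top _))
    (fun p j j' φ' ψ' h ↦ by
      have h' := Subring.closure_mono (secMap_resAt (U p.1.1) (U p.1.2) φ' ψ')
        ((RingHom.map_closure (secMap φ' ψ' (U p.1.1 ⊓ U p.1.2)).hom _).le ⟨_, h, rfl⟩)
      rwa [secMap_appLE] at h')
  have : (D.obj k).IsSeparated := by
    refine isSeparated_of_cover (fun a : s ↦ D.map ψ ⁻¹ᵁ U a) ?_ (fun a ↦ (hU a).preimage _)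
      (fun a b ↦ (hUV a b).preimage (D.map ψ)) fun a b ↦ ?_
    · show ⨆ a : s, D.map ψ ⁻¹ᵁ (D.map φ ⁻¹ᵁ (a.1 : (D.obj i₀).Opens)) = ⊤
      rw [← Scheme.Hom.preimage_iSup, ← Scheme.Hom.preimage_iSup,
        show ⨆ a : s, (a.1 : (D.obj i₀).Opens) = ⊤ from cover]
      simp
    · exact closure_resAt_eq_top ψ (hU a) (hUV a b) (G a b) (hG a b)
        fun g hg ↦ hk ⟨(a, b), ⟨g, hg⟩⟩
  exact ⟨k, fun j φ ↦ isSeparated_of_hom φ⟩

end Limit

end Groth.Agent.H7Lim
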