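import Mathlib

/-!
# Birational morphisms onto normal schemes
-/

set_option autoImplicit false
set_option backward.isDefEq.respectTransparency false

universe u

open CategoryTheory Limits AlgebraicGeometry TopologicalSpace

namespace Groth.Agent.H7Lim

/-- Sections over an affine open of a scheme with normal local rings form an integrally closed domain. -/
theorem isIntegrallyClosed_section {Y : Scheme.{u}} [IsIntegral Y]
    (hN : ∀ y : Y, IsIntegrallyClosed (Y.presheaf.stalk y)) {U : Y.Opens} (hU : IsAffineOpen U)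
    [Nonempty U] : IsIntegrallyClosed Γ(Y, U) := by
  refine IsIntegrallyClosed.of_localization_maximal fun q _ hq ↦ ?_
  let p : PrimeSpectrum Γ(Y, U) := ⟨q, hq.isPrime⟩
  have hmem : hU.fromSpec p ∈ U := by rw [← SetLike.mem_coe, ← hU.range_fromSpec]; exact ⟨p, rfl⟩
  letI := Y.presheaf.algebra_section_stalk (U := U) ⟨hU.fromSpec p, hmem⟩
  haveI := hU.isLocalization_stalk' p hmem
  haveI := hN (hU.fromSpec p)
  exact IsIntegrallyClosed.of_equiv
    (IsLocalization.algEquiv p.asIdeal.primeCompl (Y.presheaf.stalk (hU.fromSpec p))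
      (Localization.AtPrime p.asIdeal)).toRingEquiv

lemma isFractionRing_stalk {Y : Scheme.{u}} [IsIntegral Y] {U : Y.Opens} (hU : IsAffineOpen U)
    [Nonempty U] {y : Y} (hy : y = genericPoint Y) (hmem : y ∈ U) :
    letI := (Y.presheaf.germ U y hmem).hom.toAlgebra
    IsFractionRing Γ(Y, U) (Y.presheaf.stalk y) := by
  subst hy
  exact functionField_isFractionRing_of_isAffineOpen Y U hU

/-- An integral birational morphism onto a normal integral scheme is an isomorphism. -/
theorem isIso_of_isIntegralHom_birational {Z Y : Scheme.{u}} [IsIntegral Z] [IsIntegral Y]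
    (hN : ∀ y : Y, IsIntegrallyClosed (Y.presheaf.stalk y)) (g : Z ⟶ Y) [IsIntegralHom g]
    (hgen : g (genericPoint Z) = genericPoint Y) [IsIso (g.stalkMap (genericPoint Z))] : IsIso g := by
  show MorphismProperty.isomorphisms Scheme g
  rw [HasAffineProperty.iff_of_iSup_eq_top (P := MorphismProperty.isomorphisms Scheme)
    (fun U : Y.affineOpens ↦ U) (iSup_affineOpens_eq_top Y)]
  intro U
  refine ⟨U.2.preimage g, ?_⟩
  suffices IsIso (g.app U.1) by
    have : IsIso (g.app ((U.1 : Y.Opens).ι ''ᵁ ⊤)) := by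
      rw [Scheme.Opens.ι_image_top]; exact this
    rw [morphismRestrict_appTop]
    infer_instance
  rw [ConcreteCategory.isIso_iff_bijective]
  by_cases hne : Nonempty (U : Y.Opens)
  swap
  · have hU : (U : Y.Opens) = ⊥ := Opens.ext (Set.eq_empty_of_forall_notMem fun x hx ↦ hne ⟨⟨x, hx⟩⟩)
    have h1 : Subsingleton Γ(Y, U) :=
      CommRingCat.subsingleton_of_isTerminal (Y.sheaf.isTerminalOfEqEmpty hU)
    have h2 : Subsingleton Γ(Z, g ⁻¹ᵁ U) :=
      CommRingCat.subsingleton_of_isTerminal (Z.sheaf.isTerminalOfEqEmpty (by rw [hU]; rfl))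
    exact ⟨fun _ _ _ ↦ Subsingleton.elim _ _, fun b ↦ ⟨0, Subsingleton.elim _ _⟩⟩
  have hη : g (genericPoint Z) ∈ (U : Y.Opens) := hgen ▸
    ((genericPoint_spec Y).mem_open_set_iff U.1.2).mpr (by
      obtain ⟨⟨x, hx⟩⟩ := hne; exact ⟨x, trivial, hx⟩)
  have : Nonempty (g ⁻¹ᵁ U : Z.Opens) := ⟨⟨genericPoint Z, hη⟩⟩
  letI := (Y.presheaf.germ U.1 _ hη).hom.toAlgebra
  haveI := isFractionRing_stalk U.2 hgen hη
  haveI := isIntegrallyClosed_section hN U.2
  let e := (asIso (g.stalkMap (genericPoint Z))).commRingCatIsoToRingEquiv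
  have hnat (a : Γ(Y, U)) : e (algebraMap _ _ a) =
      Z.presheaf.germ (g ⁻¹ᵁ U) _ hη (g.app U a) :=
    congr($(Scheme.Hom.germ_stalkMap g U.1 (genericPoint Z) hη) a)
  have hinj : Function.Injective (Z.presheaf.germ (g ⁻¹ᵁ U) (genericPoint Z) hη) :=
    germ_injective_of_isIntegral Z _ _
  constructor
  · intro a b h
    exact IsFractionRing.injective Γ(Y, U) (Y.presheaf.stalk (g (genericPoint Z)))
      (e.injective (by rw [hnat, hnat, h]))
  · intro b
    have hb : (g.app U.1).hom.IsIntegralElem b := IsIntegralHom.isIntegral_app g U U.2 b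
    have : IsIntegral Γ(Y, U) (e.symm (Z.presheaf.germ (g ⁻¹ᵁ U) _ hη b)) := by
      obtain ⟨p, hp, hp'⟩ := hb
      refine ⟨p, hp, ?_⟩
      have h1 := congrArg ((e.symm.toRingHom).comp (Z.presheaf.germ (g ⁻¹ᵁ U) _ hη).hom) hp'
      have hm : ((e.symm.toRingHom).comp (Z.presheaf.germ (g ⁻¹ᵁ U) _ hη).hom).comp
          (g.app U.1).hom = algebraMap Γ(Y, U) (Y.presheaf.stalk (g (genericPoint Z))) :=
        RingHom.ext fun a ↦ e.symm_apply_eq.mpr (hnat a).symm
      rw [Polynomial.hom_eval₂, map_zero, hm] at h1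
      exact h1
    obtain ⟨a, ha⟩ := IsIntegrallyClosed.isIntegral_iff.mp this
    exact ⟨a, hinj (by rw [← hnat, ha, RingEquiv.apply_symm_apply])⟩

lemma isIso_stalkMap_of_comp {X Y Z : Scheme.{u}} (f : X ⟶ Y) (g : Y ⟶ Z) (x : X)
    [IsIso (f.stalkMap x)] (h : IsIso ((f ≫ g).stalkMap x)) : IsIso (g.stalkMap (f x)) := by
  rw [Scheme.Hom.stalkMap_comp] at h
  exact IsIso.of_isIso_comp_right _ (f.stalkMap x)

lemma genericPoint_of_isOpenImmersion {X Y : Scheme.{u}} [IrreducibleSpace X] [IrreducibleSpace Y]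
    (f : X ⟶ Y) [IsOpenImmersion f] : f (genericPoint X) = genericPoint Y :=
  genericPoint_eq_of_isOpenImmersion f

/-- A birational locally quasi-finite morphism to a normal scheme is a local isomorphism. -/
theorem isLocalIso_of_birational {X Y : Scheme.{u}} [IsIntegral X] [IsIntegral Y]
    (hN : ∀ y : Y, IsIntegrallyClosed (Y.presheaf.stalk y)) (f : X ⟶ Y) [LocallyQuasiFinite f]
    [LocallyOfFiniteType f] (hgen : f (genericPoint X) = genericPoint Y)
    [IsIso (f.stalkMap (genericPoint X))] : IsLocalIso f := by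
  refine ⟨fun x ↦ ?_⟩
  obtain ⟨V, hV, hxV, -⟩ := exists_isAffineOpen_mem_and_subset (Set.mem_univ (f x))
    (U := (⊤ : Y.Opens))
  obtain ⟨U, hU, hxU, hUV⟩ := exists_isAffineOpen_mem_and_subset (x := x) (U := f ⁻¹ᵁ V) hxV
  refine ⟨U, hxU, ?_⟩
  have : IsAffine (U : Scheme) := hU
  have : IsAffine (V : Scheme) := hV
  have : Nonempty (U : Scheme) := ⟨⟨x, hxU⟩⟩
  have : Nonempty (V : Scheme) := ⟨⟨f x, hxV⟩⟩
  have : IsIntegral (U : Scheme) := isIntegral_of_isOpenImmersion U.ι
  have : IsIntegral (V : Scheme) := isIntegral_of_isOpenImmersion V.ι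
  let h := f.resLE V U hUV
  have : LocallyQuasiFinite h := by
    have : LocallyQuasiFinite (h ≫ V.ι) := by rw [Scheme.Hom.resLE_comp_ι]; infer_instance
    exact LocallyQuasiFinite.of_comp h V.ι
  have : LocallyOfFiniteType h := inferInstance
  -- the composite is birational
  let ηU := genericPoint (U : Scheme)
  have hηU : U.ι ηU = genericPoint X := genericPoint_of_isOpenImmersion U.ι
  have hcomp : IsIso ((h ≫ V.ι).stalkMap ηU) := by
    rw [Scheme.Hom.stalkMap_congr_hom _ _ (f.resLE_comp_ι hUV), Scheme.Hom.stalkMap_comp]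
    have : IsIso (f.stalkMap (U.ι ηU)) := hηU ▸ inferInstance
    infer_instance
  have hh : IsIso (h.stalkMap ηU) := by
    rw [Scheme.Hom.stalkMap_comp] at hcomp
    exact IsIso.of_isIso_comp_left (V.ι.stalkMap (h ηU)) _
  have hhη : h ηU = genericPoint (V : Scheme) := by
    apply V.ι.injective
    rw [genericPoint_of_isOpenImmersion V.ι, ← Scheme.Hom.comp_apply, f.resLE_comp_ι hUV,
      Scheme.Hom.comp_apply, hηU, hgen]
  have : IsOpenImmersion h.toNormalization := inferInstance
  have hη' := genericPoint_of_isOpenImmersion h.toNormalization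
  have hNV : ∀ v : (V : Scheme), IsIntegrallyClosed ((V : Scheme).presheaf.stalk v) := fun v ↦
    IsIntegrallyClosed.of_equiv (asIso (V.ι.stalkMap v)).commRingCatIsoToRingEquiv (h := hN _)
  have hiso : IsIso (h.fromNormalization.stalkMap (genericPoint h.normalization)) := by
    rw [← hη']
    refine isIso_stalkMap_of_comp h.toNormalization h.fromNormalization ηU ?_
    rw [Scheme.Hom.stalkMap_congr_hom _ _ h.toNormalization_fromNormalization]
    infer_instance
  have : IsIso h.fromNormalization := by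
    refine isIso_of_isIntegralHom_birational hNV h.fromNormalization ?_
    rw [← hη', ← Scheme.Hom.comp_apply, h.toNormalization_fromNormalization]
    exact hhη
  rw [← f.resLE_comp_ι hUV]
  have : IsOpenImmersion h := by rw [← h.toNormalization_fromNormalization]; infer_instance
  infer_instance

/-- A separated birational local isomorphism between integral schemes is an open immersion. -/
theorem isOpenImmersion_of_isLocalIso {X Y : Scheme.{u}} [IsIntegral X] [IsIntegral Y]
    (f : X ⟶ Y) [IsLocalIso f] [IsSeparated f] (hgen : f (genericPoint X) = genericPoint Y) :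
    IsOpenImmersion f := by
  have hmem {O : X.Opens} {x : X} (hx : x ∈ O) : genericPoint X ∈ O :=
    ((genericPoint_spec X).mem_open_set_iff O.2).mpr ⟨x, trivial, hx⟩
  have hinj : Function.Injective f := by
    intro x₁ x₂ heq
    obtain ⟨U₁, hx₁, h₁⟩ := IsLocalIso.exists_isOpenImmersion (f := f) x₁
    obtain ⟨U₂, hx₂, h₂⟩ := IsLocalIso.exists_isOpenImmersion (f := f) x₂
    let W : Y.Opens := (U₁.ι ≫ f).opensRange ⊓ (U₂.ι ≫ f).opensRange
    have hyW : f x₁ ∈ W := ⟨⟨⟨x₁, hx₁⟩, rfl⟩, ⟨⟨x₂, hx₂⟩, heq.symm⟩⟩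
    let P : X.Opens := U₁ ⊓ U₂ ⊓ f ⁻¹ᵁ W
    have hηP : genericPoint X ∈ P := by
      refine ⟨⟨hmem hx₁, hmem hx₂⟩, ?_⟩
      show f (genericPoint X) ∈ W
      rw [hgen]
      exact ((genericPoint_spec Y).mem_open_set_iff W.2).mpr ⟨_, trivial, hyW⟩
    have : Nonempty (W : Scheme) := ⟨⟨_, hyW⟩⟩
    have : IsIntegral (W : Scheme) := isIntegral_of_isOpenImmersion W.ι
    let t := f.resLE W P inf_le_right
    have ht : IsOpenImmersion t := by
      have : IsOpenImmersion (t ≫ W.ι) := by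
        rw [Scheme.Hom.resLE_comp_ι, ← X.homOfLE_ι (show P ≤ U₁ from inf_le_left.trans inf_le_left),
          Category.assoc]
        infer_instance
      exact IsOpenImmersion.of_comp t W.ι
    have : IsDominant t := ⟨(t.isOpenEmbedding.isOpen_range).dense ⟨_, ⟨⟨_, hηP⟩, rfl⟩⟩⟩
    have sec (U : X.Opens) [IsOpenImmersion (U.ι ≫ f)] (hW : W ≤ (U.ι ≫ f).opensRange)
        (hPU : P ≤ U) : ∃ s : (W : Scheme) ⟶ X, s ≫ f = W.ι ∧ t ≫ s = P.ι ∧
          ∀ w x, x ∈ U → f x = W.ι w → s w = x := by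
      let l := IsOpenImmersion.lift (U.ι ≫ f) W.ι (by rw [Scheme.Opens.range_ι]; exact hW)
      have hl : l ≫ U.ι ≫ f = W.ι := IsOpenImmersion.lift_fac _ _ _
      refine ⟨l ≫ U.ι, by rw [Category.assoc, hl], ?_, fun w x hx hxw ↦ ?_⟩
      · have : t ≫ l = X.homOfLE hPU := by
          rw [← cancel_mono (U.ι ≫ f), Category.assoc, hl, Scheme.Hom.resLE_comp_ι,
            Scheme.homOfLE_ι_assoc]
        rw [← Category.assoc, this, Scheme.homOfLE_ι]
      · have : l w = ⟨x, hx⟩ := (U.ι ≫ f).isOpenEmbedding.injective (by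
          rw [← Scheme.Hom.comp_apply, hl]; exact hxw.symm)
        rw [Scheme.Hom.comp_apply, this]
        rfl
    obtain ⟨s₁, hs₁, ht₁, hp₁⟩ := sec U₁ inf_le_left (inf_le_left.trans inf_le_left)
    obtain ⟨s₂, hs₂, ht₂, hp₂⟩ := sec U₂ inf_le_right (inf_le_left.trans inf_le_right)
    have : s₁ = s₂ := ext_of_isDominant_of_isSeparated f (hs₁.trans hs₂.symm) t (ht₁.trans ht₂.symm)
    rw [← hp₁ ⟨_, hyW⟩ x₁ hx₁ rfl, ← hp₂ ⟨_, hyW⟩ x₂ hx₂ heq.symm, this]
  have hopen : IsOpenMap f :=
    have : UniversallyOpen f := IsLocalIso.le_of_isZariskiLocalAtSource @UniversallyOpen _ _ f ‹_›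
    f.isOpenMap
  have : ∀ x : X, IsIso (f.stalkMap x) := fun x ↦ ?_
  · exact IsOpenImmersion.of_isIso_stalkMap f
      (Topology.IsOpenEmbedding.of_continuous_injective_isOpenMap f.continuous hinj hopen)
  obtain ⟨U, hx, hU⟩ := IsLocalIso.exists_isOpenImmersion (f := f) x
  have h := (inferInstance : IsIso ((U.ι ≫ f).stalkMap ⟨x, hx⟩))
  rw [Scheme.Hom.stalkMap_comp] at h
  exact @IsIso.of_isIso_comp_right _ _ _ _ _ (f.stalkMap x) (U.ι.stalkMap ⟨x, hx⟩) _ h

end Groth.Agent.H7Lim
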