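import Groth.Agent.H7Lim.ModStage
import Groth.Agent.H16Derived.KFlat.RestrictD
import Groth.Agent.H16Derived.KFlat.PerfCoh
import Groth.Agent.H29Fitt.PullbackQCoh
import Groth.Agent.H10Coh.QCohOps

/-!
# Descent to a stage of exactness of sequences of quasi-coherent modules (EGA IV 8.5.6, 8.5.7, 8.5.8)
-/

set_option autoImplicit false
set_option linter.style.haveILetI false
set_option backward.isDefEq.respectTransparency false

universe u

open CategoryTheory Limits AlgebraicGeometry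

namespace Groth.Agent.H7Lim.ModExact

open ModStage H8Props.FunDescent

variable {X Y : Scheme.{u}}

theorem preservesFiniteColimits_pullback (f : X ⟶ Y) : PreservesFiniteColimits (Scheme.Modules.pullback f) :=
  haveI := (Scheme.Modules.pullbackPushforwardAdjunction f).leftAdjoint_preservesColimits
  inferInstance

/-- Transport of exact sequences along natural isomorphisms. -/
theorem exact_natIso {C : Type*} [Category C] [Preadditive C] {Z : Scheme.{u}} {F F' : C ⥤ Z.Modules}
    (e : F ≅ F') {M N P : C} (f : M ⟶ N) (g : N ⟶ P) :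
    (∃ w : F.map f ≫ F.map g = 0, (ShortComplex.mk _ _ w).Exact) ↔
      ∃ w : F'.map f ≫ F'.map g = 0, (ShortComplex.mk _ _ w).Exact := by
  have hw : F.map f ≫ F.map g = 0 ↔ F'.map f ≫ F'.map g = 0 := by
    rw [← F.map_comp, ← F'.map_comp]; exact holdsMod_natIso .zero e _
  have key : ∀ (w : F.map f ≫ F.map g = 0) (w' : F'.map f ≫ F'.map g = 0),
      (ShortComplex.mk _ _ w).Exact ↔ (ShortComplex.mk _ _ w').Exact := fun w w' =>
    ShortComplex.exact_iff_of_iso (ShortComplex.isoMk (e.app M) (e.app N) (e.app P)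
      (e.hom.naturality f).symm (e.hom.naturality g).symm)
  exact ⟨fun ⟨w, h⟩ => ⟨hw.1 w, (key w _).1 h⟩, fun ⟨w, h⟩ => ⟨hw.2 w, (key _ w).2 h⟩⟩

theorem exact_epi_iff_isIso_desc {M N P : X.Modules} (f : M ⟶ N) (g : N ⟶ P) (w : f ≫ g = 0) :
    ((ShortComplex.mk f g w).Exact ∧ Epi g) ↔ IsIso (cokernel.desc f g w) := by
  rw [(ShortComplex.mk f g w).exact_and_epi_g_iff_g_is_cokernel]
  refine ⟨fun ⟨h⟩ => ?_, fun h => ⟨?_⟩⟩
  · rw [show cokernel.desc f g w = ((cokernelIsCokernel f).coconePointUniqueUpToIso h).hom from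
      coequalizer.hom_ext ((cokernel.π_desc f g w).trans
        ((cokernelIsCokernel f).comp_coconePointUniqueUpToIso_hom h WalkingParallelPair.one).symm)]
    infer_instance
  · exact IsColimit.ofIsoColimit (cokernelIsCokernel f)
      (Cocone.ext (asIso (cokernel.desc f g w)) (by rintro ⟨⟩ <;> simp [w]))

/-- Right exactness after an inverse image is the bijectivity of the pulled back comparison map. -/
theorem rightExact_pullback_iff (p : X ⟶ Y) {M N P : Y.Modules} (f : M ⟶ N) (g : N ⟶ P) (w₀ : f ≫ g = 0) :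
    (∃ w : (Scheme.Modules.pullback p).map f ≫ (Scheme.Modules.pullback p).map g = 0,
        (ShortComplex.mk _ _ w).Exact ∧ Epi ((Scheme.Modules.pullback p).map g)) ↔
      IsIso ((Scheme.Modules.pullback p).map (cokernel.desc f g w₀)) := by
  haveI := preservesFiniteColimits_pullback p
  have w' : (Scheme.Modules.pullback p).map f ≫ (Scheme.Modules.pullback p).map g = 0 := by
    rw [← Functor.map_comp, w₀, Functor.map_zero]
  rw [exists_prop_of_true w', exact_epi_iff_isIso_desc]
  have : (PreservesCokernel.iso (Scheme.Modules.pullback p) f).inv ≫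
      (Scheme.Modules.pullback p).map (cokernel.desc f g w₀) = cokernel.desc _ _ w' := by
    refine coequalizer.hom_ext ?_
    show cokernel.π _ ≫ _ = cokernel.π _ ≫ _
    rw [cokernel.π_desc, PreservesCokernel.iso_inv, π_comp_cokernelComparison_assoc, ← Functor.map_comp,
      cokernel.π_desc]
  rw [← this]
  exact ⟨fun h => IsIso.of_isIso_comp_left (PreservesCokernel.iso (Scheme.Modules.pullback p) f).inv _,
    fun h => inferInstance⟩

theorem exact_iff_epi_lift {M N P : X.Modules} (f : M ⟶ N) (g : N ⟶ P) (w : f ≫ g = 0) :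
    (ShortComplex.mk f g w).Exact ↔ Epi (kernel.lift g f w) :=
  (ShortComplex.mk f g w).exact_iff_epi_kernel_lift

theorem isQCoh_kernel {M N : X.Modules} (φ : M ⟶ N) (hM : Coh.IsQCoh M) (hN : Coh.IsQCoh N) :
    Coh.IsQCoh (kernel φ) :=
  haveI : M.IsQuasicoherent := hM
  haveI : N.IsQuasicoherent := hN
  H10Coh.isQuasicoherent_kernel φ

theorem isQCoh_cokernel {M N : X.Modules} (φ : M ⟶ N) (hM : Coh.IsQCoh M) (hN : Coh.IsQCoh N) :
    Coh.IsQCoh (cokernel φ) :=
  haveI : M.IsQuasicoherent := hM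
  haveI : N.IsQuasicoherent := hN
  H10Coh.isQuasicoherent_cokernel φ

theorem isQCoh_image {M N : X.Modules} (φ : M ⟶ N) (hM : Coh.IsQCoh M) (hN : Coh.IsQCoh N) :
    Coh.IsQCoh (image φ) :=
  haveI : (Abelian.image φ).IsQuasicoherent :=
    isQCoh_kernel (cokernel.π φ) hN (isQCoh_cokernel φ hM hN)
  H10Coh.isQuasicoherent_of_iso (Abelian.imageIsoImage φ)

theorem isFT_kernel {F G : X.Modules} (hF : Coh.IsQCoh F) (hG : Coh.IsQCoh G) (hFt : CohB1.IsFT F) (hGp : CohB1.IsFP G) (p₁ : F ⟶ G) [Epi p₁] :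
    CohB1.IsFT (kernel p₁) := by
  haveI : F.IsQuasicoherent := hF
  haveI : G.IsQuasicoherent := hG
  haveI : (kernel p₁).IsQuasicoherent := H10Coh.isQuasicoherent_kernel p₁
  refine (H10Coh.isFT_isFP_of_affineCover (kernel p₁) (fun U : X.affineOpens => U.1)
    (eq_top_iff.2 fun x _ => ?_) (fun U => U.2) fun U => ?_).1
  · obtain ⟨U, hU, hxU, -⟩ := exists_isAffineOpen_mem_and_subset (x := x) (U := (⊤ : X.Opens)) trivial
    exact TopologicalSpace.Opens.mem_iSup.2 ⟨⟨U, hU⟩, hxU⟩
  haveI : Module.Finite Γ(X, U.1) Γ(F, U.1) := H10Coh.finite_sections F hFt U.2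
  haveI : Module.FinitePresentation Γ(X, U.1) Γ(G, U.1) := H17.FPExt.fpAt_of_isFP hGp U.2
  have hfg := Module.FinitePresentation.fg_ker (H17.FPExt.appLin' p₁ U.1) (H10Coh.surjective_app_of_epi p₁ U.2)
  haveI : Module.Finite Γ(X, U.1) (LinearMap.ker (H17.FPExt.appLin' p₁ U.1)) := Module.Finite.iff_fg.2 hfg
  let f : Γ(kernel p₁, U.1) →ₗ[Γ(X, U.1)] LinearMap.ker (H17.FPExt.appLin' p₁ U.1) :=
    (H17.FPExt.appLin' (kernel.ι p₁) U.1).codRestrict _ fun z =>
      LinearMap.mem_ker.2 (congr($(congr(Scheme.Modules.Hom.app $(kernel.condition p₁) U.1)) z))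
  refine Module.Finite.equiv (LinearEquiv.ofBijective f ⟨fun a b h => H10Coh.injective_app_of_mono' (kernel.ι p₁) U.1
    (congrArg Subtype.val h), fun z => ?_⟩).symm
  obtain ⟨w, hw⟩ := H17.FPExt.exists_kernel_preimage p₁ U.1 z.1 z.2
  exact ⟨w, Subtype.ext hw⟩

variable {I : Type u} [SmallCategory I] [IsCofiltered I] {D : I ⥤ Scheme.{u}} {c : Cone D} (hc : IsLimit c)
  [∀ (i j : I) (f : i ⟶ j), IsAffineHom (D.map f)] {i₀ : I} [CompactSpace (D.obj i₀)]
  {F G H : (D.obj i₀).Modules} (hF : Coh.IsQCoh F) (hG : Coh.IsQCoh G) (hH : Coh.IsQCoh H)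

include hc hF hG hH in
theorem rightExact_iff (hFt : CohB1.IsFT F) (hGt : CohB1.IsFT G) (hHp : CohB1.IsFP H)
    (f : F ⟶ G) (g : G ⟶ H) :
    (∃ w : (Scheme.Modules.pullback (c.π.app i₀)).map f ≫ (Scheme.Modules.pullback (c.π.app i₀)).map g = 0,
        (ShortComplex.mk _ _ w).Exact ∧ Epi ((Scheme.Modules.pullback (c.π.app i₀)).map g)) ↔
      ∃ (j : I) (φ : j ⟶ i₀) (w : (Scheme.Modules.pullback (D.map φ)).map f ≫ (Scheme.Modules.pullback (D.map φ)).map g = 0),
        (ShortComplex.mk _ _ w).Exact ∧ Epi ((Scheme.Modules.pullback (D.map φ)).map g) := by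
  constructor
  · rintro ⟨w, hex, hepi⟩
    obtain ⟨j, φ, h0⟩ := (eq_zero_iff hc hF hH (f ≫ g) hFt).1 (by rw [Functor.map_comp, w])
    haveI : CompactSpace (D.obj j) := QuasiCompact.compactSpace_of_compactSpace (D.map φ)
    let q := Scheme.Modules.pullback (D.map φ)
    have w₀ : q.map f ≫ q.map g = 0 := by rw [← Functor.map_comp]; exact h0
    obtain ⟨w', hex'⟩ := (exact_natIso (πIso φ) f g).2 ⟨w, hex⟩
    have hepi' : Epi ((Scheme.Modules.pullback (c.π.app j)).map (q.map g)) :=
      (holdsMod_natIso .epi (πIso φ) g).2 hepi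
    have hiso := (rightExact_pullback_iff (c.π.app j) (q.map f) (q.map g) w₀).1 ⟨w', hex', hepi'⟩
    haveI : Epi (cokernel.π (q.map f)) := inferInstance
    obtain ⟨k, ψ, hk⟩ := (ModStage.isIso_iff hc
      (isQCoh_cokernel _ (H29Fitt.isQCoh_pullback _ F hF) (H29Fitt.isQCoh_pullback _ G hG))
      (H29Fitt.isQCoh_pullback _ H hH) (cokernel.desc _ _ w₀)
      (H16Derived.KFlat.Stalk.isFT_of_epi (cokernel.π (q.map f)) (H29Fitt.isFT_pullback _ G hG hGt))
      (H06EGA9.isFP_pullback _ hHp)).1 hiso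
    obtain ⟨w'', hex'', hepi''⟩ := (rightExact_pullback_iff (D.map ψ) (q.map f) (q.map g) w₀).2 hk
    obtain ⟨w₃, hex₃⟩ := (exact_natIso (mapIso φ ψ) f g).1 ⟨w'', hex''⟩
    exact ⟨k, ψ ≫ φ, w₃, hex₃, (holdsMod_natIso .epi (mapIso φ ψ) g).1 hepi''⟩
  · rintro ⟨j, φ, w, hex, hepi⟩
    haveI := preservesFiniteColimits_pullback (c.π.app j)
    have hS := (ShortComplex.mk _ _ w).exact_and_epi_g_iff_g_is_cokernel.1 ⟨hex, hepi⟩
    obtain ⟨w', hex', hepi'⟩ := (rightExact_pullback_iff (c.π.app j) _ _ w).2 (by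
      haveI : IsIso (cokernel.desc _ _ w) := (exact_epi_iff_isIso_desc _ _ w).1 ⟨hex, hepi⟩
      infer_instance)
    obtain ⟨w₃, hex₃⟩ := (exact_natIso (πIso φ) f g).1 ⟨w', hex'⟩
    exact ⟨w₃, hex₃, (holdsMod_natIso .epi (πIso φ) g).1 hepi'⟩

omit [IsCofiltered I] [∀ (i j : I) (f : i ⟶ j), IsAffineHom (D.map f)] [CompactSpace (D.obj i₀)] in
theorem factors_iff {Z : Scheme.{u}} (p : Z ⟶ D.obj i₀) (p₁ : F ⟶ G) (p₂ : F ⟶ H) [Epi p₁] :
    (∃ k, (Scheme.Modules.pullback p).map p₁ ≫ k = (Scheme.Modules.pullback p).map p₂) ↔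
      (Scheme.Modules.pullback p).map (kernel.ι p₁ ≫ p₂) = 0 := by
  haveI := preservesFiniteColimits_pullback p
  constructor
  · rintro ⟨k, hk⟩
    rw [Functor.map_comp, ← hk, ← Category.assoc, ← Functor.map_comp, kernel.condition, Functor.map_zero,
      zero_comp]
  · intro h
    have hc' := CokernelCofork.mapIsColimit _ (Abelian.epiIsCokernelOfKernel _ (kernelIsKernel p₁))
      (Scheme.Modules.pullback p)
    obtain ⟨k, hk⟩ := CokernelCofork.IsColimit.desc' hc' ((Scheme.Modules.pullback p).map p₂)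
      (by rw [← Functor.map_comp]; exact h)
    exact ⟨k, hk⟩

section Flat

variable [∀ (i j : I) (f : i ⟶ j), Flat (D.map f)]

include hc in
omit [CompactSpace (D.obj i₀)] in
theorem flat_π (j : I) : Flat (c.π.app j) := H7Lim.flat_π_app hc j fun _ _ => inferInstance

omit [IsCofiltered I] [∀ (i j : I) (f : i ⟶ j), IsAffineHom (D.map f)] [CompactSpace (D.obj i₀)]
  [∀ (i j : I) (f : i ⟶ j), Flat (D.map f)] in
theorem mono_map_iff {Z : Scheme.{u}} (p : Z ⟶ D.obj i₀) [Flat p] (f : F ⟶ G) :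
    Mono ((Scheme.Modules.pullback p).map f) ↔ (Scheme.Modules.pullback p).map (kernel.ι f) = 0 := by
  haveI := H16Derived.KFlat.Stalk.preservesFiniteLimits_pullback_of_flat p
  have hker := KernelFork.mapIsLimit _ (kernelIsKernel f) (Scheme.Modules.pullback p)
  refine ⟨fun h => ?_, fun h => Preadditive.mono_of_cancel_zero _ fun {R} t ht => ?_⟩
  · rw [← cancel_mono ((Scheme.Modules.pullback p).map f), zero_comp, ← Functor.map_comp, kernel.condition,
      Functor.map_zero]
  · obtain ⟨l, hl⟩ := KernelFork.IsLimit.lift' hker t ht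
    rw [← hl]
    show l ≫ (Scheme.Modules.pullback p).map (kernel.ι f) = 0
    rw [h, comp_zero]

include hc hF hG in
theorem mono_iff (f : F ⟶ G) (hker : CohB1.IsFT (kernel f)) :
    Mono ((Scheme.Modules.pullback (c.π.app i₀)).map f) ↔
      ∃ (j : I) (φ : j ⟶ i₀), Mono ((Scheme.Modules.pullback (D.map φ)).map f) := by
  haveI := flat_π hc i₀
  rw [mono_map_iff, ModStage.eq_zero_iff hc (isQCoh_kernel f hF hG) hF _ hker]
  exact exists₂_congr fun j φ => (mono_map_iff (D.map φ) f).symm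

include hc hF hG hH in
theorem exact_iff (f : F ⟶ G) (g : G ⟶ H) (hIm : CohB1.IsFT (image f)) (hKer : CohB1.IsFT (kernel g)) :
    (∃ w : (Scheme.Modules.pullback (c.π.app i₀)).map f ≫ (Scheme.Modules.pullback (c.π.app i₀)).map g = 0,
        (ShortComplex.mk _ _ w).Exact) ↔
      ∃ (j : I) (φ : j ⟶ i₀) (w : (Scheme.Modules.pullback (D.map φ)).map f ≫ (Scheme.Modules.pullback (D.map φ)).map g = 0),
        (ShortComplex.mk _ _ w).Exact := by
  constructor
  · rintro ⟨w, hex⟩
    have h1 : (Scheme.Modules.pullback (c.π.app i₀)).map (image.ι f ≫ g) = 0 := by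
      haveI : (Scheme.Modules.pullback (c.π.app i₀)).PreservesEpimorphisms :=
        Functor.preservesEpimorphisms_of_adjunction (Scheme.Modules.pullbackPushforwardAdjunction _)
      rw [← cancel_epi ((Scheme.Modules.pullback (c.π.app i₀)).map (factorThruImage f)), comp_zero,
        ← Functor.map_comp, image.fac_assoc, Functor.map_comp]
      exact w
    obtain ⟨j, φ, h0⟩ := (ModStage.eq_zero_iff hc (isQCoh_image f hF hG) hH _ hIm).1 h1
    haveI : CompactSpace (D.obj j) := QuasiCompact.compactSpace_of_compactSpace (D.map φ)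
    let q := Scheme.Modules.pullback (D.map φ)
    have w₀ : q.map f ≫ q.map g = 0 := by
      rw [← Functor.map_comp, ← image.fac_assoc f g, Functor.map_comp, h0, comp_zero]
    haveI := flat_π hc j
    haveI := H16Derived.KFlat.Stalk.preservesFiniteLimits_pullback_of_flat (c.π.app j)
    haveI : PreservesFiniteLimits q := H16Derived.KFlat.Stalk.preservesFiniteLimits_pullback_of_flat (D.map φ)
    obtain ⟨w', hex'⟩ := (exact_natIso (πIso φ) f g).2 ⟨w, hex⟩
    rw [exact_iff_epi_lift] at hex'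
    have hl : (Scheme.Modules.pullback (c.π.app j)).map (kernel.lift _ _ w₀) ≫
        (PreservesKernel.iso (Scheme.Modules.pullback (c.π.app j)) (q.map g)).hom = kernel.lift _ _ w' := by
      refine equalizer.hom_ext ?_
      show (_ ≫ _) ≫ kernel.ι _ = kernel.lift _ _ w' ≫ kernel.ι _
      rw [kernel.lift_ι, Category.assoc, PreservesKernel.iso_hom, kernelComparison_comp_ι, ← Functor.map_comp,
        kernel.lift_ι]
      rfl
    have hepi : Epi ((Scheme.Modules.pullback (c.π.app j)).map (kernel.lift _ _ w₀)) := by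
      rw [← Category.comp_id ((Scheme.Modules.pullback (c.π.app j)).map (kernel.lift _ _ w₀)),
        ← (PreservesKernel.iso (Scheme.Modules.pullback (c.π.app j)) (q.map g)).hom_inv_id, ← Category.assoc, hl]
      haveI := hex'
      exact epi_comp _ _
    have hFT : CohB1.IsFT (kernel (q.map g)) :=
      H16Derived.KFlat.Stalk.isFT_of_epi (PreservesKernel.iso q g).hom
        (H29Fitt.isFT_pullback _ _ (isQCoh_kernel g hG hH) hKer)
    obtain ⟨k, ψ, hk⟩ := (ModStage.epi_iff hc (H29Fitt.isQCoh_pullback _ F hF)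
      (isQCoh_kernel _ (H29Fitt.isQCoh_pullback _ G hG) (H29Fitt.isQCoh_pullback _ H hH))
      (kernel.lift _ _ w₀) hFT).1 hepi
    have hw : (Scheme.Modules.pullback (D.map ψ)).map (q.map f) ≫
        (Scheme.Modules.pullback (D.map ψ)).map (q.map g) = 0 := by
      rw [← Functor.map_comp, w₀, Functor.map_zero]
    haveI := H16Derived.KFlat.Stalk.preservesFiniteLimits_pullback_of_flat (D.map ψ)
    have hex₂ : (ShortComplex.mk _ _ hw).Exact := by
      rw [exact_iff_epi_lift]
      have : (Scheme.Modules.pullback (D.map ψ)).map (kernel.lift _ _ w₀) ≫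
          (PreservesKernel.iso (Scheme.Modules.pullback (D.map ψ)) (q.map g)).hom = kernel.lift _ _ hw := by
        refine equalizer.hom_ext ?_
        show (_ ≫ _) ≫ kernel.ι _ = kernel.lift _ _ hw ≫ kernel.ι _
        rw [kernel.lift_ι, Category.assoc, PreservesKernel.iso_hom, kernelComparison_comp_ι, ← Functor.map_comp,
          kernel.lift_ι]
      rw [← this]
      exact epi_comp _ _
    obtain ⟨w₃, hex₃⟩ := (exact_natIso (mapIso φ ψ) f g).1 ⟨hw, hex₂⟩
    exact ⟨k, ψ ≫ φ, w₃, hex₃⟩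
  · rintro ⟨j, φ, w, hex⟩
    haveI := flat_π hc j
    haveI := H16Derived.KFlat.Stalk.preservesFiniteLimits_pullback_of_flat (c.π.app j)
    haveI := preservesFiniteColimits_pullback (c.π.app j)
    exact (exact_natIso (πIso φ) f g).1 ⟨_, hex.map (Scheme.Modules.pullback (c.π.app j))⟩

end Flat

end Groth.Agent.H7Lim.ModExact
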