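import Mathlib.AlgebraicGeometry.IdealSheaf.Basic
import Mathlib.AlgebraicGeometry.Morphisms.QuasiSeparated
import Mathlib.RingTheory.Localization.Finiteness

/-!
# Extending finitely generated ideals to ideal sheaves of finite type

On a quasi-compact quasi-separated scheme every quasi-coherent ideal sheaf is the directed union of
its quasi-coherent subsheaves of finite type.
-/

set_option autoImplicit false
set_option backward.isDefEq.respectTransparency false

universe u

open AlgebraicGeometry CategoryTheory TopologicalSpace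

namespace Groth.Agent.H7Lim

variable {X : Scheme.{u}}

/-- Restriction of sections. -/
abbrev rs {U V : X.Opens} (h : U ≤ V) : Γ(X, V) →+* Γ(X, U) := (X.presheaf.map (homOfLE h).op).hom

theorem rs_rs {U V W : X.Opens} (h : U ≤ V) (h' : V ≤ W) (x : Γ(X, W)) :
    rs h (rs h' x) = rs (h.trans h') x := by
  simp only [rs, ← RingHom.comp_apply, ← CommRingCat.hom_comp, ← Functor.map_comp]
  rfl

theorem map_rs_rs {U V W : X.Opens} (h : U ≤ V) (h' : V ≤ W) (K : Ideal Γ(X, W)) :
    (K.map (rs h')).map (rs h) = K.map (rs (h.trans h')) := by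
  rw [Ideal.map_map]
  congr 1
  exact RingHom.ext (rs_rs h h')

/-- Membership in an ideal of the sections over an affine open is local. -/
theorem mem_of_cover {A : X.Opens} (hA : IsAffineOpen A) (K : Ideal Γ(X, A)) (x : Γ(X, A))
    (h : ∀ y ∈ A, ∃ g : Γ(X, A), y ∈ X.basicOpen g ∧
      rs (X.basicOpen_le g) x ∈ K.map (rs (X.basicOpen_le g))) :
    x ∈ K := by
  let T : Set Γ(X, A) := {g | rs (X.basicOpen_le g) x ∈ K.map (rs (X.basicOpen_le g))}
  have hspan : Ideal.span T = ⊤ := by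
    rw [← hA.iSup_basicOpen_eq_self_iff]
    refine le_antisymm (iSup_le fun g => X.basicOpen_le _) ?_
    intro y hy
    obtain ⟨g, hyg, hg⟩ := h y hy
    exact Opens.mem_iSup.2 ⟨⟨g, hg⟩, hyg⟩
  let L : Ideal Γ(X, A) := K.colon {x}
  suffices L = ⊤ by
    have h1 : (1 : Γ(X, A)) ∈ L := this ▸ Submodule.mem_top
    simpa [L, Submodule.mem_colon_singleton] using h1
  apply Ideal.radical_eq_top.1
  rw [← top_le_iff, ← hspan, Ideal.span_le]
  intro g hg
  have hloc := hA.isLocalization_basicOpen g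
  obtain ⟨m, ⟨n, rfl⟩, hm⟩ :=
    (IsLocalization.algebraMap_mem_map_algebraMap_iff (Submonoid.powers g) (S := Γ(X, X.basicOpen g)) K x).1 hg
  exact ⟨n, by simpa [L, Submodule.mem_colon_singleton] using hm⟩

/-- Finite generation of an ideal of the sections over an affine open is local. -/
theorem fg_of_cover {A : X.Opens} (hA : IsAffineOpen A) (K : Ideal Γ(X, A))
    (h : ∀ y ∈ A, ∃ g : Γ(X, A), y ∈ X.basicOpen g ∧ (K.map (rs (X.basicOpen_le g))).FG) :
    K.FG := by
  let T : Set Γ(X, A) := {g | (K.map (rs (X.basicOpen_le g))).FG}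
  refine Ideal.fg_of_localizationSpan T ?_ ?_
  · rw [← hA.iSup_basicOpen_eq_self_iff]
    refine le_antisymm (iSup_le fun g => X.basicOpen_le _) ?_
    intro y hy
    obtain ⟨g, hyg, hg⟩ := h y hy
    exact Opens.mem_iSup.2 ⟨⟨g, hg⟩, hyg⟩
  · intro g
    have hloc := hA.isLocalization_basicOpen g.1
    let e := IsLocalization.algEquiv (Submonoid.powers g.1) Γ(X, X.basicOpen g.1) (Localization.Away g.1)
    have := Ideal.FG.map g.2 e.toAlgHom.toRingHom
    rw [Ideal.map_map] at this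
    have he : e.toAlgHom.toRingHom.comp (rs (X.basicOpen_le g.1)) =
        algebraMap Γ(X, A) (Localization.Away g.1) := RingHom.ext fun a => e.commutes a
    rwa [he] at this

theorem isCompact_finset_sup (S : Finset X.affineOpens) :
    IsCompact ((S.sup (fun V => V.1) : X.Opens) : Set X) := by
  classical
  induction S using Finset.induction with
  | empty => simp
  | insert V' S' _ ih' => rw [Finset.sup_insert, Opens.coe_sup]; exact V'.2.isCompact.union ih'

section step

variable (J : X.IdealSheafData) (V : X.affineOpens) (K : Ideal Γ(X, V))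

/-- The ideal on `A` of sections of `J` whose restrictions to affine opens inside `A ⊓ V` lie in the ideal
sheaf generated by `K`. -/
def cutIdeal (A : X.affineOpens) : Ideal Γ(X, A) where
  carrier := {a | a ∈ J.ideal A ∧ ∀ (B : X.affineOpens) (hA : B.1 ≤ A.1) (hV : B.1 ≤ V.1),
    rs hA a ∈ K.map (rs hV)}
  add_mem' := fun ha hb => ⟨add_mem ha.1 hb.1, fun B hA hV => by
    rw [map_add]; exact add_mem (ha.2 B hA hV) (hb.2 B hA hV)⟩
  zero_mem' := ⟨zero_mem _, fun B hA hV => by rw [map_zero]; exact zero_mem _⟩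
  smul_mem' := fun c a ha => ⟨Ideal.mul_mem_left _ c ha.1, fun B hA hV => by
    rw [smul_eq_mul, map_mul]; exact Ideal.mul_mem_left _ _ (ha.2 B hA hV)⟩

variable [QuasiSeparatedSpace X]

/-- `cutIdeal` is a quasi-coherent ideal sheaf. -/
def cutSheaf : X.IdealSheafData where
  ideal := cutIdeal J V K
  map_ideal_basicOpen A f := by
    classical
    refine le_antisymm ?_ ?_
    · refine Ideal.map_le_iff_le_comap.2 ?_
      intro a ha
      refine ⟨?_, fun B hA hV => ?_⟩
      · rw [← J.map_ideal_basicOpen A f]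
        exact Ideal.mem_map_of_mem _ ha.1
      · have := ha.2 B (hA.trans (X.basicOpen_le f)) hV
        rw [← rs_rs hA (X.basicOpen_le f)] at this
        exact this
    · intro a ha
      have hloc := A.2.isLocalization_basicOpen f
      have hunit : IsUnit (rs (X.basicOpen_le f) f) := RingedSpace.isUnit_res_basicOpen _ f
      have hJ := ha.1
      rw [← J.map_ideal_basicOpen A f] at hJ
      obtain ⟨⟨⟨j, hj⟩, ⟨_, n, rfl⟩⟩, hjn⟩ :=
        (IsLocalization.mem_map_algebraMap_iff (Submonoid.powers f) Γ(X, X.basicOpen f)).1 hJ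
      replace hjn : a * rs (X.basicOpen_le f) f ^ n = rs (X.basicOpen_le f) j := by
        rw [← map_pow]; exact hjn
      have hcpt : IsCompact ((A.1 ⊓ V.1 : X.Opens) : Set X) :=
        A.2.isCompact.inter_of_isOpen V.2.isCompact A.1.2 V.1.2
      obtain ⟨S, hS, hSeq⟩ := isCompact_iff_finite_and_eq_biUnion_affineOpens.1 hcpt
      have hB : ∀ B ∈ S, ∃ N : ℕ, ∀ (hA : B.1 ≤ A.1) (hV : B.1 ≤ V.1),
          rs hA (f ^ N * j) ∈ K.map (rs hV) := by
        intro B hBS
        have hle : B.1 ≤ A.1 ⊓ V.1 := (le_iSup₂ B hBS).trans_eq hSeq.symm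
        have hA : B.1 ≤ A.1 := hle.trans inf_le_left
        have hV : B.1 ≤ V.1 := hle.trans inf_le_right
        have hBloc := B.2.isLocalization_basicOpen (rs hA f)
        have hDle : X.basicOpen (rs hA f) ≤ X.basicOpen f := by
          show X.basicOpen (X.presheaf.map (homOfLE hA).op f) ≤ _
          rw [Scheme.basicOpen_res]
          exact inf_le_right
        have h2 := ha.2 ⟨X.basicOpen (rs hA f), B.2.basicOpen _⟩ hDle ((X.basicOpen_le _).trans hV)
        have h3 : rs (X.basicOpen_le (rs hA f)) (rs hA j) ∈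
            (K.map (rs hV)).map (rs (X.basicOpen_le (rs hA f))) := by
          rw [map_rs_rs, rs_rs, ← rs_rs hDle (X.basicOpen_le f), ← hjn, map_mul]
          exact Ideal.mul_mem_right _ _ h2
        obtain ⟨_, ⟨N, rfl⟩, hN⟩ := (IsLocalization.algebraMap_mem_map_algebraMap_iff
          (Submonoid.powers (rs hA f)) (S := Γ(X, X.basicOpen (rs hA f))) _ _).1 h3
        exact ⟨N, fun _ _ => by rw [map_mul, map_pow]; exact hN⟩
      choose! N hN using hB
      let M := ∑ B ∈ hS.toFinset, N B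
      have hmem : f ^ M * j ∈ cutIdeal J V K A := by
        refine ⟨Ideal.mul_mem_left _ _ hj, fun B hA hV => ?_⟩
        refine mem_of_cover B.2 _ _ fun y hy => ?_
        have hyAV : y ∈ A.1 ⊓ V.1 := ⟨hA hy, hV hy⟩
        rw [hSeq] at hyAV
        obtain ⟨B', hB', hyB'⟩ : ∃ B' ∈ S, y ∈ B'.1 := by
          simpa [Opens.mem_iSup] using hyAV
        obtain ⟨g, hg, hyg⟩ := B.2.exists_basicOpen_le ⟨y, hyB'⟩ hy
        refine ⟨g, hyg, ?_⟩
        have hle : B'.1 ≤ A.1 ⊓ V.1 := (le_iSup₂ B' hB').trans_eq hSeq.symm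
        have h1 : rs (hle.trans inf_le_left) (f ^ M * j) ∈ K.map (rs (hle.trans inf_le_right)) := by
          obtain ⟨d, hd⟩ : ∃ d, M = d + N B' := ⟨M - N B', (Nat.sub_add_cancel
            (Finset.single_le_sum (f := N) (fun _ _ => Nat.zero_le _) (hS.mem_toFinset.2 hB'))).symm⟩
          rw [hd, pow_add, mul_assoc, map_mul]
          exact Ideal.mul_mem_left _ _ (hN B' hB' _ _)
        have h2 := Ideal.mem_map_of_mem (rs hg) h1
        rw [rs_rs, map_rs_rs] at h2
        rw [rs_rs, map_rs_rs]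
        exact h2
      have h4 := Ideal.mem_map_of_mem (rs (X.basicOpen_le f)) hmem
      rw [map_mul, map_pow, ← hjn, mul_left_comm, ← pow_add, mul_comm,
        Ideal.unit_mul_mem_iff_mem _ (hunit.pow _)] at h4
      exact h4

theorem cutSheaf_le : cutSheaf J V K ≤ J := fun _ _ ha => ha.1

theorem mem_cutSheaf_iff (A : X.affineOpens) (a : Γ(X, A)) :
    a ∈ (cutSheaf J V K).ideal A ↔ a ∈ J.ideal A ∧ ∀ (B : X.affineOpens) (hA : B.1 ≤ A.1) (hV : B.1 ≤ V.1),
      rs hA a ∈ K.map (rs hV) := Iff.rfl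

theorem cutSheaf_ideal_self (hK : K ≤ J.ideal V) : (cutSheaf J V K).ideal V = K := by
  refine le_antisymm (fun a ha => ?_) fun a ha => ⟨hK ha, fun B hA hV => Ideal.mem_map_of_mem _ ha⟩
  refine mem_of_cover V.2 _ _ fun y hy => ?_
  obtain ⟨g, hg, hyg⟩ := V.2.exists_basicOpen_le ⟨y, hy⟩ hy
  exact ⟨g, hyg, ha.2 ⟨X.basicOpen g, V.2.basicOpen g⟩ (X.basicOpen_le g) (X.basicOpen_le g)⟩

end step

variable [QuasiSeparatedSpace X]

/-- One step: given `J` of finite type on `W`, find `J' ≤ J` which is of finite type on `W ⊔ V`, equal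
to `J` on `W`, and containing given sections over `V`. -/
theorem exists_step (J : X.IdealSheafData) (W : X.Opens) (hW : IsCompact (W : Set X))
    (hJ : ∀ A : X.affineOpens, A.1 ≤ W → (J.ideal A).FG) (V : X.affineOpens)
    (s : Finset Γ(X, V)) (hs : (s : Set Γ(X, V)) ⊆ J.ideal V) :
    ∃ J' ≤ J, (∀ A : X.affineOpens, A.1 ≤ W → J'.ideal A = J.ideal A) ∧
      (∀ A : X.affineOpens, A.1 ≤ W ⊔ V.1 → (J'.ideal A).FG) ∧ (s : Set Γ(X, V)) ⊆ J'.ideal V := by
  classical
  have hcpt : IsCompact ((W ⊓ V.1 : X.Opens) : Set X) := hW.inter_of_isOpen V.2.isCompact W.2 V.1.2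
  let P := {h : Γ(X, V) // X.basicOpen h ≤ W ⊓ V.1}
  obtain ⟨H, hH⟩ := hcpt.elim_finite_subcover (fun h : P => (X.basicOpen h.1 : Set X))
    (fun h => (X.basicOpen h.1).2) (fun y hy => by
      obtain ⟨g, hg, hyg⟩ := V.2.exists_basicOpen_le (V := W ⊓ V.1) ⟨y, hy⟩ hy.2
      exact Set.mem_iUnion.2 ⟨⟨g, hg⟩, hyg⟩)
  have hgen : ∀ h : P, ∃ t : Finset Γ(X, V), (t : Set Γ(X, V)) ⊆ J.ideal V ∧
      J.ideal ⟨X.basicOpen h.1, V.2.basicOpen _⟩ ≤ (Ideal.span t).map (rs (X.basicOpen_le h.1)) := by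
    intro h
    have hfg := hJ ⟨X.basicOpen h.1, V.2.basicOpen _⟩ (h.2.trans inf_le_left)
    have heq := J.map_ideal_basicOpen V h.1
    change (J.ideal V).map (rs (X.basicOpen_le h.1)) = J.ideal ⟨X.basicOpen h.1, V.2.basicOpen _⟩ at heq
    rw [← heq, Ideal.map] at hfg
    obtain ⟨t', ht', ht'eq⟩ := Submodule.fg_span_iff_fg_span_finset_subset _ |>.1 hfg
    obtain ⟨t, ht, rfl⟩ := Finset.subset_set_image_iff.1 ht'
    refine ⟨t, ht, le_of_eq ?_⟩
    rw [← heq, Ideal.map_span, ← Finset.coe_image]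
    exact ht'eq
  choose t htJ htgen using hgen
  let K : Ideal Γ(X, V) := Ideal.span ↑(s ∪ H.biUnion t)
  have hKJ : K ≤ J.ideal V := by
    rw [Ideal.span_le]
    intro x hx
    rw [Finset.coe_union] at hx
    rcases hx with hx | hx
    · exact hs hx
    · obtain ⟨h, _, hx⟩ := Finset.mem_biUnion.1 hx
      exact htJ h hx
  -- on `W`, nothing changes
  have hkey : ∀ (A : X.affineOpens), A.1 ≤ W → (cutSheaf J V K).ideal A = J.ideal A := by
    intro A hA
    refine le_antisymm (fun a ha => ha.1) fun a ha => ⟨ha, fun B hBA hBV => ?_⟩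
    refine mem_of_cover B.2 _ _ fun y hy => ?_
    obtain ⟨h, hhH, hyh⟩ : ∃ h ∈ H, y ∈ X.basicOpen h.1 := by
      have := hH (show y ∈ ((W ⊓ V.1 : X.Opens) : Set X) from ⟨hA (hBA hy), hBV hy⟩)
      simpa using this
    obtain ⟨g, hg, hyg⟩ := B.2.exists_basicOpen_le ⟨y, hyh⟩ hy
    refine ⟨g, hyg, ?_⟩
    have hsub : Ideal.span (↑(t h) : Set Γ(X, V)) ≤ K :=
      Ideal.span_mono fun x hx => Finset.mem_union_right _ (Finset.mem_biUnion.2 ⟨h, hhH, hx⟩)
    have hBJ : rs hBA a ∈ J.ideal B := by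
      rw [← J.map_ideal (U := B) (V := A) hBA]
      exact Ideal.mem_map_of_mem _ ha
    have h1 : rs (X.basicOpen_le g) (rs hBA a) ∈ J.ideal ⟨X.basicOpen g, B.2.basicOpen g⟩ := by
      rw [← J.map_ideal (U := ⟨X.basicOpen g, B.2.basicOpen g⟩) (V := B) (X.basicOpen_le g)]
      exact Ideal.mem_map_of_mem _ hBJ
    rw [← J.map_ideal (U := ⟨X.basicOpen g, B.2.basicOpen g⟩) (V := ⟨X.basicOpen h.1, V.2.basicOpen _⟩) hg] at h1
    have h2 := Ideal.map_mono (f := rs hg) ((htgen h).trans (Ideal.map_mono hsub)) h1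
    rw [map_rs_rs] at h2
    rw [map_rs_rs]
    exact h2
  refine ⟨cutSheaf J V K, cutSheaf_le J V K, hkey, fun A hA => ?_, ?_⟩
  · refine fg_of_cover A.2 _ fun y hy => ?_
    rcases hA hy with hyW | hyV
    · obtain ⟨g, hg, hyg⟩ := A.2.exists_basicOpen_le ⟨y, hyW⟩ hy
      refine ⟨g, hyg, ?_⟩
      have h3 := (cutSheaf J V K).map_ideal (U := ⟨X.basicOpen g, A.2.basicOpen g⟩) (V := A) (X.basicOpen_le g)
      change ((cutSheaf J V K).ideal A).map (rs (X.basicOpen_le g)) = _ at h3
      rw [h3, hkey ⟨X.basicOpen g, A.2.basicOpen g⟩ hg]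
      exact hJ _ hg
    · obtain ⟨g, hg, hyg⟩ := A.2.exists_basicOpen_le ⟨y, hyV⟩ hy
      refine ⟨g, hyg, ?_⟩
      have h3 := (cutSheaf J V K).map_ideal (U := ⟨X.basicOpen g, A.2.basicOpen g⟩) (V := A) (X.basicOpen_le g)
      change ((cutSheaf J V K).ideal A).map (rs (X.basicOpen_le g)) = _ at h3
      rw [h3, ← (cutSheaf J V K).map_ideal (U := ⟨X.basicOpen g, A.2.basicOpen g⟩) (V := V) hg,
        cutSheaf_ideal_self J V K hKJ]
      exact Ideal.FG.map ⟨_, rfl⟩ _
  · rw [cutSheaf_ideal_self J V K hKJ]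
    exact fun x hx => Ideal.subset_span (Finset.mem_union_left _ hx)

variable [CompactSpace X]

/-- **Extension of finitely generated ideals**: finitely many sections of a quasi-coherent ideal sheaf
over an affine open lie in a quasi-coherent subsheaf of finite type. -/
theorem exists_finiteType_le (I : X.IdealSheafData) (U : X.affineOpens) (s : Finset Γ(X, U))
    (hs : (s : Set Γ(X, U)) ⊆ I.ideal U) :
    ∃ J ≤ I, (∀ A : X.affineOpens, (J.ideal A).FG) ∧ (s : Set Γ(X, U)) ⊆ J.ideal U := by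
  classical
  have hstart : ∀ A : X.affineOpens, A.1 ≤ (⊥ : X.Opens) → (I.ideal A).FG := by
    intro A hA
    exact fg_of_cover A.2 _ fun y hy => absurd (hA hy) id
  obtain ⟨J₀, hJ₀, -, hfg₀, hs₀⟩ := exists_step I ⊥ (by simp) hstart U s hs
  rw [bot_sup_eq] at hfg₀
  suffices ∀ S : Finset X.affineOpens, ∃ J ≤ I, (∀ A : X.affineOpens,
      A.1 ≤ U.1 ⊔ S.sup (fun V => V.1) → (J.ideal A).FG) ∧ (s : Set Γ(X, U)) ⊆ J.ideal U by
    obtain ⟨S, hS, hSeq⟩ := isCompact_iff_finite_and_eq_biUnion_affineOpens.1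
      (show IsCompact ((⊤ : X.Opens) : Set X) from isCompact_univ)
    obtain ⟨J, hJ, hfg, hsJ⟩ := this hS.toFinset
    refine ⟨J, hJ, fun A => hfg A (le_top.trans (le_sup_of_le_right ?_)), hsJ⟩
    rw [hSeq]
    exact iSup₂_le fun V hV => Finset.le_sup (f := fun V : X.affineOpens => V.1) (hS.mem_toFinset.2 hV)
  intro S
  induction S using Finset.induction with
  | empty => exact ⟨J₀, hJ₀, by simpa using hfg₀, hs₀⟩
  | @insert V S _ ih =>
    obtain ⟨J, hJ, hfg, hsJ⟩ := ih
    have hW : IsCompact ((U.1 ⊔ S.sup (fun V => V.1) : X.Opens) : Set X) := by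
      rw [Opens.coe_sup]
      exact U.2.isCompact.union (isCompact_finset_sup S)
    obtain ⟨J', hJ', heq, hfg', -⟩ := exists_step J _ hW hfg V ∅ (by simp)
    refine ⟨J', hJ'.trans hJ, fun A hA => hfg' A (hA.trans ?_), ?_⟩
    · rw [Finset.sup_insert]
      exact le_of_eq (by rw [sup_comm V.1, sup_assoc])
    · rw [heq U le_sup_left]
      exact hsJ

/-- The finite-type subsheaves of a quasi-coherent ideal sheaf are directed with union the sheaf. -/
theorem iSup_finiteType_eq (I : X.IdealSheafData) :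
    ⨆ J : {J : X.IdealSheafData // J ≤ I ∧ ∀ A : X.affineOpens, (J.ideal A).FG}, J.1 = I := by
  refine le_antisymm (iSup_le fun J => J.2.1) ?_
  intro A a ha
  obtain ⟨J, hJ, hfg, hmem⟩ := exists_finiteType_le I A {a} (by simpa using ha)
  exact (le_iSup (fun J : {J : X.IdealSheafData // J ≤ I ∧ ∀ A : X.affineOpens, (J.ideal A).FG} => J.1)
    ⟨J, hJ, hfg⟩) A (hmem (by simp))

end Groth.Agent.H7Lim
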