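import Groth.Agent.H06EGA8.DescendSmooth
import Groth.Agent.H06EGA11.Colimit
import Mathlib.RingTheory.Extension.Presentation.Core
import Mathlib.AlgebraicGeometry.Morphisms.Flat

/-!
# Flatness descends to a stage (EGA IV 11.2.6)
-/

set_option autoImplicit false
set_option backward.isDefEq.respectTransparency false
set_option backward.defeqAttrib.useBackward true
set_option linter.style.haveILetI false

universe u

open CategoryTheory Limits AlgebraicGeometry MorphismProperty TensorProduct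

namespace Groth.Agent.H7Lim

open H06EGA8

variable {ι : Type u} {A₀ : Type u} [CommRing A₀] {G : ι → Type u} [∀ i, CommRing (G i)]
  [∀ i, Algebra A₀ (G i)] {A : Type u} [CommRing A] [Algebra A₀ A] {g : ∀ i, G i →ₐ[A₀] A}

theorem exists_flat_stage (hG : H02CA.ColimTensor.Approx g G A (fun i ↦ g i) (fun φ ↦ φ.1))
    (C : Type u) [CommRing C] [Algebra A₀ C] [Algebra.FinitePresentation A₀ C]
    (h : Module.Flat A (A ⊗[A₀] C)) : ∃ j : ι, Module.Flat (G j) (G j ⊗[A₀] C) := by
  let P := Algebra.Presentation.ofFinitePresentation A₀ C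
  let R₀ := Algebra.adjoin ℤ P.coeffs
  haveI : P.HasCoeffs R₀ := ⟨by simp [R₀]⟩
  haveI : Algebra.FiniteType ℤ R₀ := R₀.fg_iff_finiteType.1 ⟨P.finite_coeffs.toFinset, by simp [R₀]⟩
  haveI : IsNoetherianRing R₀ := Algebra.FiniteType.isNoetherianRing ℤ R₀
  let B₀ := P.ModelOfHasCoeffs R₀
  let e : A₀ ⊗[R₀] B₀ ≃ₗ[A₀] C := (P.tensorModelOfHasCoeffsEquiv R₀).toLinearEquiv
  let g' : ∀ i, G i →ₐ[R₀] A := fun i => (g i).restrictScalars R₀
  let res : ∀ {i j}, H02CA.ColimTensor.Hom g i j → H02CA.ColimTensor.Hom g' i j := fun φ =>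
    ⟨φ.1.restrictScalars R₀, AlgHom.ext fun x => AlgHom.congr_fun φ.2 x⟩
  have hG' : H02CA.ColimTensor.Approx g' G A (fun i ↦ g' i) (fun φ ↦ φ.1) :=
    { compat := fun φ x => AlgHom.congr_fun φ.2 x
      comp := fun _ _ _ => rfl
      dir := fun i j => by
        obtain ⟨k, ⟨a⟩, ⟨b⟩⟩ := hG.dir i j
        exact ⟨k, ⟨res a⟩, ⟨res b⟩⟩
      ne := hG.ne
      surj := hG.surj
      eq := fun i x y hxy => by
        obtain ⟨j, φ, hφ⟩ := hG.eq i x y hxy
        exact ⟨j, res φ, hφ⟩ }
  haveI : Module.Flat A (A ⊗[R₀] B₀) := (H06EGA11.flat_tensor_iff e).2 h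
  obtain ⟨i, hi⟩ := H06EGA11.exists_index_flat_of_noetherian (B₀ := B₀) (M₀ := B₀) hG'
  exact ⟨i, (H06EGA11.flat_tensor_iff e).1 hi⟩

/-- Flatness descends. -/
theorem descendsAffine_flat : DescendsAffine.{u} @Flat @LocallyOfFinitePresentation := by
  refine descendsAffine_of_affineSource ?_
  intro J _ _ E d hd _ _ i T a _ _ h
  have : IsAffineHom (d.π.app i) := isAffineHom_π_app E d hd i
  have : IsAffine (((Functor.const J).obj d.pt).obj i) := isAffine_of_isAffineHom (d.π.app i)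
  have : IsAffine d.pt := this
  letI := a.appTop.hom.toAlgebra
  letI := algPt E d i
  letI := fun k => algStage E i k
  haveI : Algebra.FinitePresentation Γ(E.obj i, ⊤) Γ(T, ⊤) :=
    HasRingHomProperty.appTop (P := @LocallyOfFinitePresentation) a ‹_›
  obtain ⟨k, hk⟩ := exists_flat_stage (approx_sections E d i hd) Γ(T, ⊤)
    (RingHom.flat_algebraMap_iff.1 ((appTop_snd_iff RingHom.Flat.respectsIso a (d.π.app i)).mp
      ((HasRingHomProperty.iff_of_isAffine (P := @Flat)).mp h)))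
  exact ⟨k.left, k.hom, (HasRingHomProperty.iff_of_isAffine (P := @Flat)).mpr
    ((appTop_snd_iff RingHom.Flat.respectsIso a (E.map k.hom)).mpr (RingHom.flat_algebraMap_iff.2 hk))⟩

end Groth.Agent.H7Lim
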