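import Groth.Agent.H7Lim.NormalPoint

/-!
# The relative normalization in a normal scheme

If `X` is normal integral and `f : X ⟶ Y` is dominant and locally quasi-finite, the relative
normalization of `Y` in `X` is normal and birational to `X`.
-/

set_option autoImplicit false
set_option backward.isDefEq.respectTransparency false
set_option linter.style.haveILetI false

universe u

open CategoryTheory Limits AlgebraicGeometry TopologicalSpace

namespace Groth.Agent.H7Lim

/-- An element of the function field integral over the sections on an open of a normal scheme is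
a section on that open. -/
theorem exists_germ_eq_of_isIntegralElem {X : Scheme.{u}} [IsIntegral X]
    (hN : ∀ x : X, IsIntegrallyClosed (X.presheaf.stalk x)) {O : X.Opens} (hη : genericPoint X ∈ O)
    {z : X.functionField}
    (hz : (X.presheaf.germ O (genericPoint X) hη).hom.IsIntegralElem z) :
    ∃ w : Γ(X, O), X.presheaf.germ O (genericPoint X) hη w = z := by
  have loc (x : O) : ∃ (W : X.Opens) (hW : W ≤ O) (hηW : genericPoint X ∈ W) (t : Γ(X, W)),
      x.1 ∈ W ∧ X.presheaf.germ W (genericPoint X) hηW t = z := by
    have := hN x.1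
    have hspec : genericPoint X ⤳ x.1 := (genericPoint_spec X).specializes trivial
    have halg : algebraMap (X.presheaf.stalk x.1) X.functionField =
        (X.presheaf.stalkSpecializes hspec).hom := rfl
    have hint : _root_.IsIntegral (X.presheaf.stalk x.1) z := by
      obtain ⟨p, hp, hp'⟩ := hz
      refine ⟨p.map (X.presheaf.germ O x.1 x.2).hom, hp.map _, ?_⟩
      rw [Polynomial.eval₂_map, halg, ← CommRingCat.hom_comp,
        TopCat.Presheaf.germ_stalkSpecializes]
      exact hp'
    obtain ⟨s, hs⟩ := IsIntegrallyClosed.isIntegral_iff.mp hint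
    obtain ⟨W, hxW, t, rfl⟩ := X.presheaf.exists_germ_eq s
    have hxW' : x.1 ∈ W ⊓ O := ⟨hxW, x.2⟩
    refine ⟨W ⊓ O, inf_le_right, mem_of_nonempty hxW',
      X.presheaf.map (homOfLE inf_le_left).op t, hxW', ?_⟩
    rw [← hs, halg, TopCat.Presheaf.germ_res_apply, ← CommRingCat.comp_apply,
      TopCat.Presheaf.germ_stalkSpecializes]
  choose W hW hηW t hxW ht using loc
  obtain ⟨w, hw, -⟩ := X.sheaf.existsUnique_gluing' W O (fun x ↦ homOfLE (hW x))
    (fun x hx ↦ Opens.mem_iSup.mpr ⟨⟨x, hx⟩, hxW ⟨x, hx⟩⟩) t (fun a b ↦ by
      have hab : genericPoint X ∈ W a ⊓ W b := ⟨hηW a, hηW b⟩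
      have : Nonempty ↥(W a ⊓ W b : X.Opens) := ⟨⟨_, hab⟩⟩
      apply germ_injective_of_isIntegral X (genericPoint X) hab
      exact ((TopCat.Presheaf.germ_res_apply X.presheaf _ _ hab (t a)).trans (ht a)).trans
        ((TopCat.Presheaf.germ_res_apply X.presheaf _ _ hab (t b)).trans (ht b)).symm)
  refine ⟨w, ?_⟩
  let x₀ : O := ⟨genericPoint X, hη⟩
  rw [← ht x₀, ← hw x₀]
  exact (TopCat.Presheaf.germ_res_apply X.presheaf (homOfLE (hW x₀)) _ (hηW x₀) w).symm

variable {X Y : Scheme.{u}} [IsIntegral X] [IsIntegral Y]
  (hN : ∀ x : X, IsIntegrallyClosed (X.presheaf.stalk x))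
  (f : X ⟶ Y) [IsDominant f] [QuasiCompact f] [QuasiSeparated f]

omit [QuasiCompact f] [QuasiSeparated f] in
lemma genericPoint_of_isDominant : f (genericPoint X) = genericPoint Y := by
  refine ((genericPoint_spec Y).eq ?_).symm
  have h := (genericPoint_spec X).image f.continuous
  rwa [Set.image_univ, f.denseRange.closure_eq] at h

omit [IsIntegral X] [IsIntegral Y] [IsDominant f] in
lemma fromNormalization_preimage_preimage (V : Y.Opens) :
    f ⁻¹ᵁ V = f.toNormalization ⁻¹ᵁ f.fromNormalization ⁻¹ᵁ V := by
  rw [← Scheme.Hom.comp_preimage, f.toNormalization_fromNormalization]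

include hN in
/-- Sections of the normalization are the integral elements of the function field of `X`. -/
theorem exists_normalization_section {V : Y.Opens} (hV : IsAffineOpen V)
    (hη : f.toNormalization (genericPoint X) ∈ f.fromNormalization ⁻¹ᵁ V) {z : X.functionField}
    (hz : (f.fromNormalization.app V ≫ f.normalization.presheaf.germ _ _ hη ≫
      f.toNormalization.stalkMap (genericPoint X)).hom.IsIntegralElem z) :
    ∃ r : Γ(f.normalization, f.fromNormalization ⁻¹ᵁ V),
      f.toNormalization.stalkMap (genericPoint X) (f.normalization.presheaf.germ _ _ hη r) = z := by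
  let O : X.Opens := f ⁻¹ᵁ V
  have hηO : genericPoint X ∈ O := (fromNormalization_preimage_preimage f V).ge hη
  let τ := f.toNormalization.appLE (f.fromNormalization ⁻¹ᵁ V) O
    (fromNormalization_preimage_preimage f V).le
  have hτ : f.normalization.presheaf.germ _ _ hη ≫ f.toNormalization.stalkMap (genericPoint X) =
      τ ≫ X.presheaf.germ O (genericPoint X) hηO := by
    rw [Scheme.Hom.germ_stalkMap]
    simp [τ, Scheme.Hom.appLE, TopCat.Presheaf.germ_res]
  have hcomp : f.fromNormalization.app V ≫ τ = f.app V := by
    rw [Scheme.Hom.app_eq_appLE, Scheme.Hom.app_eq_appLE]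
    simp [τ, Scheme.Hom.appLE_comp_appLE, O, f.toNormalization_fromNormalization]
  rw [hτ, ← Category.assoc, hcomp] at hz
  letI := (f.app V).hom.toAlgebra
  obtain ⟨w, hw⟩ := exists_germ_eq_of_isIntegralElem hN hηO (z := z) (by
    obtain ⟨p, hp, hp'⟩ := hz
    exact ⟨p.map (f.app V).hom, hp.map _, by rw [Polynomial.eval₂_map]; exact hp'⟩)
  have hwint : _root_.IsIntegral Γ(Y, V) w := by
    obtain ⟨p, hp, hp'⟩ := hz
    refine ⟨p, hp, germ_injective_of_isIntegral X (genericPoint X) hηO ?_⟩
    rw [Polynomial.hom_eval₂, map_zero, hw]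
    exact hp'
  refine ⟨(f.normalizationObjIso hV).inv ⟨w, hwint⟩, ?_⟩
  rw [← CommRingCat.comp_apply, hτ, CommRingCat.comp_apply, ← hw]
  congr 1
  have := congr($(f.normalizationObjIso_hom_val hV) ((f.normalizationObjIso hV).inv ⟨w, hwint⟩))
  rw [CommRingCat.comp_apply, Iso.inv_hom_id_apply] at this
  exact this.symm

lemma genericPoint_toNormalization :
    f.toNormalization (genericPoint X) = genericPoint f.normalization :=
  genericPoint_of_isDominant f.toNormalization

lemma mem_fromNormalization_preimage {V : Y.Opens} [Nonempty (V : Scheme)] :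
    f.toNormalization (genericPoint X) ∈ f.fromNormalization ⁻¹ᵁ V := by
  show f.fromNormalization (f.toNormalization (genericPoint X)) ∈ V
  rw [← Scheme.Hom.comp_apply, f.toNormalization_fromNormalization, genericPoint_of_isDominant f]
  obtain ⟨⟨v, hv⟩⟩ := (inferInstance : Nonempty (V : Scheme))
  exact mem_of_nonempty hv

include hN in
/-- The relative normalization in a normal scheme is normal. -/
theorem isIntegrallyClosed_normalization_stalk (y' : f.normalization) :
    IsIntegrallyClosed (f.normalization.presheaf.stalk y') := by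
  obtain ⟨V, hV, hyV, -⟩ := exists_isAffineOpen_mem_and_subset
    (Set.mem_univ (f.fromNormalization y')) (U := (⊤ : Y.Opens))
  have : Nonempty (V : Scheme) := ⟨⟨_, hyV⟩⟩
  have hη := mem_fromNormalization_preimage f (V := V)
  let W := f.fromNormalization ⁻¹ᵁ V
  have hW : IsAffineOpen W := hV.preimage _
  have : Nonempty (W : Scheme) := ⟨⟨y', hyV⟩⟩
  letI algη := (f.normalization.presheaf.germ W _ hη).hom.toAlgebra
  haveI := isFractionRing_stalk hW (genericPoint_toNormalization f) hη
  have hR : IsIntegrallyClosed Γ(f.normalization, W) := by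
    refine (isIntegrallyClosed_iff (f.normalization.presheaf.stalk (f.toNormalization (genericPoint X)))).mpr
      fun {x} hx ↦ ?_
    let K' := f.normalization.presheaf.stalk (f.toNormalization (genericPoint X))
    let φ := f.toNormalization.stalkMap (genericPoint X)
    have hint : (f.fromNormalization.app V ≫ f.normalization.presheaf.germ W _ hη ≫ φ).hom.IsIntegralElem
        (φ x) := by
      letI := (f.fromNormalization.app V).hom.toAlgebra
      haveI : Algebra.IsIntegral Γ(Y, V) Γ(f.normalization, W) :=
        ⟨IsIntegralHom.isIntegral_app f.fromNormalization V hV⟩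
      letI := (f.fromNormalization.app V ≫ f.normalization.presheaf.germ W _ hη).hom.toAlgebra
      haveI : IsScalarTower Γ(Y, V) Γ(f.normalization, W) K' := .of_algebraMap_eq' rfl
      have hx' : _root_.IsIntegral Γ(Y, V) x := isIntegral_trans x hx
      obtain ⟨p, hp, hp'⟩ := hx'
      refine ⟨p, hp, ?_⟩
      have := congrArg φ hp'
      rw [Polynomial.hom_eval₂, map_zero] at this
      exact this
    obtain ⟨r, hr⟩ := exists_normalization_section hN f hV hη hint
    haveI : Nonempty ↥(W : f.normalization.Opens) := ⟨⟨y', hyV⟩⟩
    have hfield : IsField K' :=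
      (IsFractionRing.toField Γ(f.normalization, W) (K := K')).toIsField
    letI := hfield.toField
    exact ⟨r, φ.hom.injective hr⟩
  letI := f.normalization.presheaf.algebra_section_stalk (U := W) ⟨y', hyV⟩
  haveI := hW.isLocalization_stalk ⟨y', hyV⟩
  exact isIntegrallyClosed_of_isLocalization _ (hW.primeIdealOf ⟨y', hyV⟩).asIdeal.primeCompl
    (Ideal.primeCompl_le_nonZeroDivisors _)

include hN in
/-- The relative normalization is birational to `X` when `f` is locally quasi-finite. -/
theorem isIso_stalkMap_toNormalization [LocallyQuasiFinite f] :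
    IsIso (f.toNormalization.stalkMap (genericPoint X)) := by
  obtain ⟨V, hV, hfV, -⟩ := exists_isAffineOpen_mem_and_subset
    (Set.mem_univ (f (genericPoint X))) (U := (⊤ : Y.Opens))
  have : Nonempty (V : Scheme) := ⟨⟨_, hfV⟩⟩
  have hη := mem_fromNormalization_preimage f (V := V)
  let W := f.fromNormalization ⁻¹ᵁ V
  have hW : IsAffineOpen W := hV.preimage _
  have : Nonempty (W : Scheme) := ⟨⟨_, hη⟩⟩
  letI algη := (f.normalization.presheaf.germ W _ hη).hom.toAlgebra
  haveI := isFractionRing_stalk hW (genericPoint_toNormalization f) hη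
  let K' := f.normalization.presheaf.stalk (f.toNormalization (genericPoint X))
  letI : Field K' := (IsFractionRing.toField Γ(f.normalization, W))
  let φ : K' →+* X.functionField := (f.toNormalization.stalkMap (genericPoint X)).hom
  rw [ConcreteCategory.isIso_iff_bijective]
  refine ⟨φ.injective, fun k ↦ ?_⟩
  -- `k` is algebraic over the sections on `V`
  let F := Y.presheaf.stalk (f (genericPoint X))
  letI algV := (Y.presheaf.germ V _ hfV).hom.toAlgebra
  haveI := isFractionRing_stalk hV (genericPoint_of_isDominant f) hfV
  letI : Field F := IsFractionRing.toField Γ(Y, V)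
  letI : Algebra F X.functionField := (f.stalkMap (genericPoint X)).hom.toAlgebra
  haveI : Algebra.QuasiFinite F X.functionField := f.quasiFiniteAt (genericPoint X)
  haveI : Module.Finite F X.functionField := Module.Finite.of_quasiFinite
  letI : Algebra Γ(Y, V) X.functionField :=
    (Y.presheaf.germ V _ hfV ≫ f.stalkMap (genericPoint X)).hom.toAlgebra
  haveI : IsScalarTower Γ(Y, V) F X.functionField := .of_algebraMap_eq' rfl
  have halgk : IsAlgebraic Γ(Y, V) k :=
    (IsFractionRing.isAlgebraic_iff Γ(Y, V) F X.functionField).mpr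
      (Algebra.IsAlgebraic.isAlgebraic k)
  obtain ⟨y, hy, hyk⟩ := halgk.exists_integral_multiple
  have hmap : f.fromNormalization.app V ≫ f.normalization.presheaf.germ W _ hη ≫
      f.toNormalization.stalkMap (genericPoint X) =
      Y.presheaf.germ V _ hfV ≫ f.stalkMap (genericPoint X) := by
    rw [Scheme.Hom.germ_stalkMap, Scheme.Hom.germ_stalkMap, ← Category.assoc,
      ← Scheme.Hom.comp_app, Scheme.Hom.congr_app f.toNormalization_fromNormalization V,
      Category.assoc]
    exact congrArg (f.app V ≫ ·) (TopCat.Presheaf.germ_res X.presheaf _ _ _)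
  obtain ⟨r, hr⟩ := exists_normalization_section hN f hV hη (z := y • k) (by
    rw [hmap]; exact hyk)
  let y' : Γ(f.normalization, W) := f.fromNormalization.app V y
  have hy' : φ (algebraMap _ K' y') = algebraMap Γ(Y, V) X.functionField y := congr($hmap y)
  have hy0 : algebraMap Γ(Y, V) X.functionField y ≠ 0 := by
    rw [IsScalarTower.algebraMap_apply Γ(Y, V) F X.functionField]
    exact (map_ne_zero (algebraMap F X.functionField)).mpr
      ((map_ne_zero_iff _ (IsFractionRing.injective Γ(Y, V) F)).mpr hy)
  refine ⟨algebraMap _ K' r / algebraMap _ K' y', ?_⟩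
  show φ _ = k
  rw [map_div₀, hy', show φ (algebraMap _ K' r) = y • k from hr, Algebra.smul_def,
    mul_div_cancel_left₀ _ hy0]

include hN in
theorem isLocalIso_toNormalization [LocallyQuasiFinite f] [LocallyOfFiniteType f] :
    IsLocalIso f.toNormalization := by
  haveI := isIso_stalkMap_toNormalization hN f
  haveI : LocallyQuasiFinite (f.toNormalization ≫ f.fromNormalization) := by
    rw [f.toNormalization_fromNormalization]; infer_instance
  haveI : LocallyOfFiniteType (f.toNormalization ≫ f.fromNormalization) := by
    rw [f.toNormalization_fromNormalization]; infer_instance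
  haveI := LocallyQuasiFinite.of_comp f.toNormalization f.fromNormalization
  haveI := locallyOfFiniteType_of_comp f.toNormalization f.fromNormalization
  exact isLocalIso_of_birational (isIntegrallyClosed_normalization_stalk hN f) f.toNormalization
    (genericPoint_toNormalization f)

end Groth.Agent.H7Lim
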