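import Groth.Agent.H7Lim.Descend
import Mathlib.AlgebraicGeometry.Morphisms.Finite
import Mathlib.RingTheory.IntegralClosure.IsIntegralClosure.Basic

/-!
# Descent of affine morphisms, closed immersions and finite morphisms
-/

set_option autoImplicit false
set_option backward.isDefEq.respectTransparency false
set_option backward.defeqAttrib.useBackward true

universe u

open CategoryTheory Limits AlgebraicGeometry TopologicalSpace Polynomial

namespace Groth.Agent.H7Lim

/-- `P` descends to a stage for morphisms in `Q`, over qcqs stages. -/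
def Descends (P Q : MorphismProperty Scheme.{u}) : Prop :=
  ∀ (J : Type u) [Category.{u} J] [IsCofiltered J] (E : J ⥤ Scheme.{u}) (d : Cone E)
    (_ : IsLimit d) [∀ (i j : J) (f : i ⟶ j), IsAffineHom (E.map f)] (e : J)
    [CompactSpace (E.obj e)] [QuasiSeparatedSpace (E.obj e)] {T : Scheme.{u}} (a : T ⟶ E.obj e)
    [CompactSpace T] [QuasiSeparatedSpace T],
    Q a → P (pullback.snd a (d.π.app e)) → ∃ (j : J) (φ : j ⟶ e), P (pullback.snd a (E.map φ))

theorem DescendsAffine.descends {P Q : MorphismProperty Scheme.{u}} [IsZariskiLocalAtTarget P]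
    [P.IsStableUnderBaseChange] [Q.IsStableUnderBaseChange] (h : DescendsAffine P Q) :
    Descends P Q := by
  intro J _ _ E d hd _ e _ _ T a _ _ hQ hP
  exact exists_descend hd h e a hQ hP

theorem descendsAffine_isAffineHom :
    DescendsAffine.{u} @IsAffineHom (⊤ : MorphismProperty Scheme.{u}) := by
  intro J _ _ E d hd _ _ i T a _ _ _ h
  have hlim := isLimitPbCone E i a hd
  have : IsAffineHom (d.π.app i) := isAffineHom_π_app E d hd i
  have : IsAffine (((Functor.const J).obj d.pt).obj i) := isAffine_of_isAffineHom (d.π.app i)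
  have : IsAffine d.pt := this
  have : IsAffine (pbCone E d i a).pt :=
    @isAffine_of_isAffineHom _ d.pt (pullback.snd a (d.π.app i)) h _
  obtain ⟨k, hk⟩ := Scheme.exists_isAffine_of_isLimit (pbDiagram E i a) _ hlim
  have : IsAffine (pullback a (E.map k.hom)) := hk
  exact ⟨k.left, k.hom, inferInstance⟩

variable {I : Type u} [Category.{u} I] [IsCofiltered I] {D : I ⥤ Scheme.{u}} {c : Cone D}
  [∀ (i j : I) (f : i ⟶ j), IsAffineHom (D.map f)] [∀ j, IsAffine (D.obj j)]

/-- Sections of an affine base change are generated by those of the two factors. -/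
lemma closure_appTop_eq_top {X Y S : Scheme.{u}} (f : X ⟶ S) (g : Y ⟶ S) [IsAffine X] [IsAffine Y]
    [IsAffine S] :
    Subring.closure (Set.range (pullback.fst f g).appTop ∪ Set.range (pullback.snd f g).appTop) =
      ⊤ :=
  CommRingCat.closure_range_union_range_eq_top_of_isPushout
    (isPushout_appTop_of_isPullback (IsPullback.of_hasPullback f g))

omit [IsCofiltered I] [∀ (i j : I) (f : i ⟶ j), IsAffineHom (D.map f)] [∀ j, IsAffine (D.obj j)] in
lemma appTop_apply_of_comp {X Y Z : Scheme.{u}} {q : X ⟶ Y} {p : Y ⟶ Z} {r : X ⟶ Z} (h : q ≫ p = r)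
    (x : Γ(Z, ⊤)) : q.appTop (p.appTop x) = r.appTop x := by
  subst h; rfl

/-- A monic relation satisfied in the limit is satisfied at some stage. -/
lemma exists_eval₂_eq_zero (hc : IsLimit c) (i : I) {T : Scheme.{u}} (a : T ⟶ D.obj i) [IsAffine T]
    (b : Γ(T, ⊤)) (n : ℕ) (coef : Fin n → Γ(c.pt, ⊤))
    (h : (pullback.fst a (c.π.app i)).appTop b ^ n +
      ∑ l, (pullback.snd a (c.π.app i)).appTop (coef l) *
        (pullback.fst a (c.π.app i)).appTop b ^ (l : ℕ) = 0) :
    ∃ (j : I) (φ : j ⟶ i) (coef' : Fin n → Γ(D.obj j, ⊤)),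
      (pullback.fst a (D.map φ)).appTop b ^ n +
        ∑ l, (pullback.snd a (D.map φ)).appTop (coef' l) *
          (pullback.fst a (D.map φ)).appTop b ^ (l : ℕ) = 0 := by
  have hc' := (Functor.Initial.isLimitWhiskerEquiv (Over.forget i) c).symm hc
  have (k : Over i) : IsAffine ((Over.forget i ⋙ D).obj k) :=
    inferInstanceAs (IsAffine (D.obj k.left))
  classical
  choose k t ht using fun l ↦ exists_appTop_π_eq_of_isAffine_of_isLimit _ _ hc' (coef l)
  obtain ⟨k₀, hk₀⟩ := IsCofiltered.inf_objs_exists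
    (insert (Over.mk (𝟙 i)) (Finset.univ.image k))
  let ψ (l : Fin n) : k₀ ⟶ k l := (hk₀ (Finset.mem_insert_of_mem
    (Finset.mem_image_of_mem k (Finset.mem_univ l)))).some
  let t' (l : Fin n) : Γ(D.obj k₀.left, ⊤) := (D.map (ψ l).left).appTop (t l)
  have ht' (l : Fin n) : (c.π.app k₀.left).appTop (t' l) = coef l := by
    rw [← ht l, ← CommRingCat.comp_apply, ← Scheme.Hom.comp_appTop, c.w]; rfl
  have (m : Over i) : IsAffine ((pbDiagram D i a).obj m) :=
    inferInstanceAs (IsAffine (pullback a (D.map m.hom)))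
  let B := (pullback.fst a (D.map k₀.hom)).appTop b
  obtain ⟨m, ψm, hm⟩ := exists_appTop_map_eq_zero_of_isAffine_of_isLimit (pbDiagram D i a)
    _ (isLimitPbCone D i a hc) k₀
    (B ^ n + ∑ l, (pullback.snd a (D.map k₀.hom)).appTop (t' l) * B ^ (l : ℕ)) (by
      refine Eq.trans ?_ h
      have e₁ := appTop_apply_of_comp (show (pbCone D c i a).π.app k₀ ≫
        pullback.fst a (D.map k₀.hom) = pullback.fst a (c.π.app i) by simp) b
      have e₂ (x : Γ(D.obj k₀.left, ⊤)) :
          ((pbCone D c i a).π.app k₀).appTop ((pullback.snd a (D.map k₀.hom)).appTop x) =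
            (pullback.snd a (c.π.app i)).appTop ((c.π.app k₀.left).appTop x) := by
        exact (appTop_apply_of_comp (show (pbCone D c i a).π.app k₀ ≫
          pullback.snd a (D.map k₀.hom) = pullback.snd a (c.π.app i) ≫ c.π.app k₀.left by simp) x)
      simp only [map_add, map_sum, map_mul, map_pow, B]
      erw [e₁]
      exact congrArg₂ (· + ·) rfl (Finset.sum_congr rfl fun l _ ↦ by erw [e₂, ht' l]; rfl))
  refine ⟨m.left, m.hom, fun l ↦ (D.map ψm.left).appTop (t' l), ?_⟩
  refine Eq.trans ?_ hm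
  have e₁ := appTop_apply_of_comp (show (pbDiagram D i a).map ψm ≫
    pullback.fst a (D.map k₀.hom) = pullback.fst a (D.map m.hom) by simp) b
  have e₂ (x : Γ(D.obj k₀.left, ⊤)) :
      ((pbDiagram D i a).map ψm).appTop ((pullback.snd a (D.map k₀.hom)).appTop x) =
        (pullback.snd a (D.map m.hom)).appTop ((D.map ψm.left).appTop x) := by
    exact (appTop_apply_of_comp (show (pbDiagram D i a).map ψm ≫
      pullback.snd a (D.map k₀.hom) = pullback.snd a (D.map m.hom) ≫ D.map ψm.left by simp) x)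
  simp only [map_add, map_sum, map_mul, map_pow, B]
  erw [e₁]
  exact congrArg₂ (· + ·) rfl (Finset.sum_congr rfl fun l _ ↦ by erw [e₂]; rfl)

lemma exists_mem_range (hc : IsLimit c) (i : I) {T : Scheme.{u}} (a : T ⟶ D.obj i) [IsAffine T]
    (b : Γ(T, ⊤))
    (h : (pullback.fst a (c.π.app i)).appTop b ∈ Set.range (pullback.snd a (c.π.app i)).appTop) :
    ∃ (j : I) (φ : j ⟶ i),
      (pullback.fst a (D.map φ)).appTop b ∈ Set.range (pullback.snd a (D.map φ)).appTop := by
  obtain ⟨r, hr⟩ := h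
  obtain ⟨j, φ, r', hr'⟩ := exists_eval₂_eq_zero hc i a b 1 (fun _ ↦ -r) (by simp [← hr])
  refine ⟨j, φ, -r' 0, ?_⟩
  simp only [Fin.sum_univ_one, pow_one, pow_zero, mul_one, Fin.val_zero] at hr'
  rw [map_neg, ← eq_neg_of_add_eq_zero_left hr']

lemma exists_isIntegralElem (hc : IsLimit c) (i : I) {T : Scheme.{u}} (a : T ⟶ D.obj i) [IsAffine T]
    (b : Γ(T, ⊤))
    (h : (pullback.snd a (c.π.app i)).appTop.hom.IsIntegralElem
      ((pullback.fst a (c.π.app i)).appTop b)) :
    ∃ (j : I) (φ : j ⟶ i), (pullback.snd a (D.map φ)).appTop.hom.IsIntegralElem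
      ((pullback.fst a (D.map φ)).appTop b) := by
  obtain ⟨p, hp, hp'⟩ := h
  obtain ⟨j, φ, r, hr⟩ := exists_eval₂_eq_zero hc i a b p.natDegree (fun l ↦ p.coeff l) (by
    rw [Polynomial.eval₂_eq_sum_range, Finset.sum_range_succ, hp.coeff_natDegree, map_one, one_mul,
      add_comm] at hp'
    rw [Fin.sum_univ_eq_sum_range fun l ↦ (pullback.snd a (c.π.app i)).appTop (p.coeff l) *
      (pullback.fst a (c.π.app i)).appTop b ^ l]
    exact hp')
  refine ⟨j, φ, X ^ p.natDegree + ∑ l : Fin p.natDegree, C (r l) * X ^ (l : ℕ), ?_, ?_⟩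
  · exact monic_X_pow_add (degree_sum_fin_lt _)
  · simpa [Polynomial.eval₂_finsetSum] using hr

lemma finite_of_generators {R A B : Type u} [CommRing R] [CommRing A] [CommRing B] (f : A →+* B)
    (g : R →+* A) (T : Finset B) (hT : ∀ b ∈ T, f.IsIntegralElem b)
    (h : Subring.closure (Set.range (f.comp g) ∪ Set.range f ∪ T) = ⊤) : f.Finite := by
  algebraize [f]
  refine RingHom.IsIntegral.to_finite ?_ ?_
  · intro x
    have hx : x ∈ Subring.closure (Set.range (f.comp g) ∪ Set.range f ∪ T) := h ▸ trivial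
    refine (Subring.closure_le (t := (integralClosure A B).toSubring)).mpr ?_ hx
    rintro y ((⟨r, rfl⟩ | ⟨r, rfl⟩) | hy)
    · exact f.isIntegralElem_map (x := g r)
    · exact f.isIntegralElem_map (x := r)
    · exact hT y hy
  · refine RingHom.finiteType_algebraMap.mpr ⟨⟨T, top_le_iff.mp fun x _ ↦ ?_⟩⟩
    have hx : x ∈ Subring.closure (Set.range (f.comp g) ∪ Set.range f ∪ T) := h ▸ trivial
    refine (Subring.closure_le (t := (Algebra.adjoin A (T : Set B)).toSubring)).mpr ?_ hx
    rintro y ((⟨r, rfl⟩ | ⟨r, rfl⟩) | hy)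
    · exact (Algebra.adjoin A (T : Set B)).algebraMap_mem (g r)
    · exact (Algebra.adjoin A (T : Set B)).algebraMap_mem r
    · exact Algebra.subset_adjoin hy

/-- Sections of the base change are generated by those of the base and finitely many generators
of a finite type morphism. -/
lemma closure_generators_eq_top {X Y S : Scheme.{u}} (f : X ⟶ S) (g : Y ⟶ S) [IsAffine X]
    [IsAffine Y] [IsAffine S] (G : Finset Γ(X, ⊤))
    (hG : Subring.closure (Set.range f.appTop ∪ G) = ⊤) :
    Subring.closure (Set.range (pullback.snd f g).appTop ∪ (pullback.fst f g).appTop '' G) = ⊤ := by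
  refine top_le_iff.mp ((closure_appTop_eq_top f g).symm.le.trans (Subring.closure_le.mpr ?_))
  rintro _ (⟨b, rfl⟩ | hb)
  · have hb : b ∈ Subring.closure (Set.range f.appTop ∪ G) := hG ▸ trivial
    refine Subring.mem_comap.mp
      ((Subring.closure_le (t := Subring.comap (pullback.fst f g).appTop.hom _)).mpr ?_ hb)
    rintro _ (⟨r, rfl⟩ | hb')
    · refine Subring.subset_closure (Or.inl ⟨g.appTop r, ?_⟩)
      exact congr($(congrArg Scheme.Hom.appTop (pullback.condition (f := f) (g := g))) r).symm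
    · exact Subring.subset_closure (Or.inr ⟨_, hb', rfl⟩)
  · exact Subring.subset_closure (Or.inl hb)

omit [IsCofiltered I] [∀ (i j : I) (f : i ⟶ j), IsAffineHom (D.map f)] in
lemma exists_generators (i : I) {T : Scheme.{u}} (a : T ⟶ D.obj i) [IsAffine T]
    [LocallyOfFiniteType a] :
    ∃ G : Finset Γ(T, ⊤), Subring.closure (Set.range a.appTop ∪ (G : Set Γ(T, ⊤))) = ⊤ := by
  have h : a.appTop.hom.FiniteType :=
    HasRingHomProperty.appTop (P := @LocallyOfFiniteType) a ‹_›
  algebraize [a.appTop.hom]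
  obtain ⟨G, hG⟩ := Algebra.FiniteType.out (R := Γ(D.obj i, ⊤)) (A := Γ(T, ⊤))
  refine ⟨G, ?_⟩
  have := congrArg Subalgebra.toSubring hG
  simpa [Algebra.adjoin_eq_ring_closure, RingHom.algebraMap_toAlgebra] using this

omit [∀ (i j : I) (f : i ⟶ j), IsAffineHom (D.map f)] [∀ j, IsAffine (D.obj j)] in
omit [IsCofiltered I] in
lemma comp_snd_appTop {i j k : I} (φ : j ⟶ i) (ψ : k ⟶ j) {T : Scheme.{u}} (a : T ⟶ D.obj i)
    (q : pullback a (D.map (ψ ≫ φ)) ⟶ pullback a (D.map φ))
    (hq : q ≫ pullback.snd _ _ = pullback.snd _ _ ≫ D.map ψ)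
    (hq' : q ≫ pullback.fst _ _ = pullback.fst _ _) (b : Γ(T, ⊤)) (r : Γ(D.obj j, ⊤))
    (h : (pullback.snd a (D.map φ)).appTop r = (pullback.fst a (D.map φ)).appTop b) :
    (pullback.snd a (D.map (ψ ≫ φ))).appTop ((D.map ψ).appTop r) =
      (pullback.fst a (D.map (ψ ≫ φ))).appTop b := by
  have := congrArg q.appTop h
  rwa [← CommRingCat.comp_apply, ← CommRingCat.comp_apply, ← Scheme.Hom.comp_appTop,
    ← Scheme.Hom.comp_appTop, hq, hq', Scheme.Hom.comp_appTop, CommRingCat.comp_apply] at this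

theorem descendsAffine_of_affine {P : MorphismProperty Scheme.{u}} [P.IsStableUnderBaseChange]
    (hle : P ≤ @IsAffineHom)
    (hP : ∀ (J : Type u) [Category.{u} J] [IsCofiltered J] (E : J ⥤ Scheme.{u}) (d : Cone E)
      (_ : IsLimit d) [∀ (i j : J) (f : i ⟶ j), IsAffineHom (E.map f)] [∀ j, IsAffine (E.obj j)]
      (i : J) {T : Scheme.{u}} (a : T ⟶ E.obj i) [IsAffine T] [LocallyOfFiniteType a],
      P (pullback.snd a (d.π.app i)) → ∃ (j : J) (φ : j ⟶ i), P (pullback.snd a (E.map φ))) :
    DescendsAffine P @LocallyOfFiniteType := by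
  intro J _ _ E d hd _ _ i T a _ _ hft h
  obtain ⟨k, φ, hk⟩ := descendsAffine_isAffineHom J E d hd i a trivial (hle _ h)
  have : LocallyOfFiniteType a := hft
  have : IsAffine (pullback a (E.map φ)) := isAffine_of_isAffineHom (pullback.snd a (E.map φ))
  have sq : IsPullback
      (pullback.map a (d.π.app i) a (E.map φ) (𝟙 _) (d.π.app k) (𝟙 _) (by simp) (by simp))
      (pullback.snd a (d.π.app i)) (pullback.snd a (E.map φ)) (d.π.app k) :=
    IsPullback.of_right (h₁₂ := pullback.fst a (E.map φ)) (h₂₂ := E.map φ) (v₁₃ := a)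
      (by simpa using IsPullback.of_hasPullback a (d.π.app i)) (by simp)
      (IsPullback.of_hasPullback a (E.map φ))
  have h' : P (pullback.snd (pullback.snd a (E.map φ)) (d.π.app k)) :=
    (prop_iff_of_isPullback sq).mp h
  obtain ⟨m, ψ, hm⟩ := hP J E d hd k (pullback.snd a (E.map φ)) h'
  refine ⟨m, ψ ≫ φ, ?_⟩
  refine (prop_iff_of_isPullback (b := E.map (ψ ≫ φ))
    (p := pullback.fst _ _ ≫ pullback.fst a (E.map φ)) ?_).mp hm
  simpa using (IsPullback.of_hasPullback (pullback.snd a (E.map φ)) (E.map ψ)).paste_horiz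
    (IsPullback.of_hasPullback a (E.map φ))

theorem descends_isAffineHom : Descends.{u} @IsAffineHom (⊤ : MorphismProperty Scheme.{u}) :=
  descendsAffine_isAffineHom.descends

theorem descendsAffine_isClosedImmersion :
    DescendsAffine.{u} @IsClosedImmersion @LocallyOfFiniteType := by
  refine descendsAffine_of_affine (fun _ _ f (_ : IsClosedImmersion f) ↦ (inferInstance : IsAffineHom f)) ?_
  intro J _ _ E d hd _ _ i T a _ _ h
  classical
  obtain ⟨G, hG⟩ := exists_generators i a
  have : IsAffineHom (d.π.app i) := isAffineHom_π_app E d hd i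
  have : IsAffine (((Functor.const J).obj d.pt).obj i) := isAffine_of_isAffineHom (d.π.app i)
  have : IsAffine d.pt := this
  have : IsClosedImmersion (pullback.snd a (d.π.app i)) := h
  have hsurj : Function.Surjective (pullback.snd a (d.π.app i)).appTop :=
    ((HasAffineProperty.iff_of_isAffine (P := @IsClosedImmersion)).mp h).2
  obtain ⟨j, φ, hj⟩ := exists_common_stage i
    (fun (b : G) j φ ↦ (pullback.fst a (E.map φ)).appTop b.1 ∈
      Set.range (pullback.snd a (E.map φ)).appTop)
    (fun b ↦ exists_mem_range hd i a b.1 (hsurj _))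
    (fun b j j' φ ψ ⟨r, hr⟩ ↦ ⟨_, comp_snd_appTop φ ψ a
      (pullback.map a (E.map (ψ ≫ φ)) a (E.map φ) (𝟙 _) (E.map ψ) (𝟙 _) (by simp) (by simp))
      (by simp) (by simp) b.1 r hr⟩)
  refine ⟨j, φ, (HasAffineProperty.iff_of_isAffine (P := @IsClosedImmersion)).mpr
    ⟨inferInstance, ?_⟩⟩
  rw [← RingHom.range_eq_top, ← top_le_iff, ← closure_generators_eq_top a (E.map φ) G hG,
    Subring.closure_le]
  rintro x (hx | ⟨b, hb, rfl⟩)
  · exact hx
  · exact hj ⟨b, hb⟩

theorem descendsAffine_isFinite : DescendsAffine.{u} @IsFinite @LocallyOfFiniteType := by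
  refine descendsAffine_of_affine (fun _ _ f (_ : IsFinite f) ↦ (inferInstance : IsAffineHom f)) ?_
  intro J _ _ E d hd _ _ i T a _ _ h
  classical
  obtain ⟨G, hG⟩ := exists_generators i a
  have : IsAffineHom (d.π.app i) := isAffineHom_π_app E d hd i
  have : IsAffine (((Functor.const J).obj d.pt).obj i) := isAffine_of_isAffineHom (d.π.app i)
  have : IsAffine d.pt := this
  have hfin := ((HasAffineProperty.iff_of_isAffine (P := @IsFinite)).mp h).2
  obtain ⟨j, φ, hj⟩ := exists_common_stage i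
    (fun (b : G) j φ ↦ (pullback.snd a (E.map φ)).appTop.hom.IsIntegralElem
      ((pullback.fst a (E.map φ)).appTop b.1))
    (fun b ↦ exists_isIntegralElem hd i a b.1 (hfin.to_isIntegral _))
    (fun b j j' φ ψ ⟨p, hp, hp'⟩ ↦ by
      let q := pullback.map a (E.map (ψ ≫ φ)) a (E.map φ) (𝟙 _) (E.map ψ) (𝟙 _) (by simp) (by simp)
      have e : q.appTop.hom.comp (pullback.snd a (E.map φ)).appTop.hom =
          (pullback.snd a (E.map (ψ ≫ φ))).appTop.hom.comp (E.map ψ).appTop.hom := by
        rw [← CommRingCat.hom_comp, ← CommRingCat.hom_comp, ← Scheme.Hom.comp_appTop,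
          ← Scheme.Hom.comp_appTop]
        simp [q]
      have e' : q.appTop ((pullback.fst a (E.map φ)).appTop b.1) =
          (pullback.fst a (E.map (ψ ≫ φ))).appTop b.1 := by
        rw [← CommRingCat.comp_apply, ← Scheme.Hom.comp_appTop]
        simp [q]
      refine ⟨p.map (E.map ψ).appTop.hom, hp.map _, ?_⟩
      rw [Polynomial.eval₂_map, ← e, ← e', ← Polynomial.hom_eval₂, hp', map_zero])
  refine ⟨j, φ, (HasAffineProperty.iff_of_isAffine (P := @IsFinite)).mpr
    ⟨inferInstance, finite_of_generators _ (RingHom.id _)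
      (G.image (pullback.fst a (E.map φ)).appTop) (fun x hx ↦ ?_) ?_⟩⟩
  · obtain ⟨b, hb, rfl⟩ := Finset.mem_image.mp hx
    exact hj ⟨b, hb⟩
  · simpa using closure_generators_eq_top a (E.map φ) G hG

end Groth.Agent.H7Lim
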