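import Groth.Agent.H7Lim.IdealExtension
import Mathlib.AlgebraicGeometry.IdealSheaf.Subscheme
import Mathlib.AlgebraicGeometry.Morphisms.ClosedImmersion
import Mathlib.AlgebraicGeometry.Morphisms.FinitePresentation
import Mathlib.CategoryTheory.Filtered.Basic
import Mathlib.CategoryTheory.Comma.Over.Basic

/-!
# A closed subscheme as the limit of the closed subschemes cut out by finite type ideals
-/

set_option autoImplicit false
set_option backward.isDefEq.respectTransparency false
set_option backward.defeqAttrib.useBackward true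

universe u

open AlgebraicGeometry CategoryTheory Limits TopologicalSpace

namespace Groth.Agent.H7Lim

variable {X : Scheme.{u}}

/-- The finite type ideal subsheaves of `I`. -/
abbrev FTIdeal (I : X.IdealSheafData) : Type u :=
  {J : X.IdealSheafData // J ≤ I ∧ ∀ A : X.affineOpens, (J.ideal A).FG}

variable (I : X.IdealSheafData)

instance : Nonempty (FTIdeal I) := ⟨⟨⊥, bot_le, fun _ => Submodule.fg_bot⟩⟩

instance : IsDirected (FTIdeal I) (fun a b => a ≤ b) :=
  ⟨fun a b => ⟨⟨a.1 ⊔ b.1, sup_le a.2.1 b.2.1, fun A => by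
    rw [Scheme.IdealSheafData.ideal_sup]
    exact Submodule.FG.sup (a.2.2 A) (b.2.2 A)⟩, (le_sup_left : a.1 ≤ a.1 ⊔ b.1), (le_sup_right : b.1 ≤ a.1 ⊔ b.1)⟩⟩

/-- The inverse system of closed subschemes cut out by the finite type ideal subsheaves of `I`. -/
noncomputable def ftSystem : (FTIdeal I)ᵒᵖ ⥤ Scheme.{u} where
  obj J := J.unop.1.subscheme
  map {J K} f := Scheme.IdealSheafData.inclusion (show K.unop.1 ≤ J.unop.1 from f.unop.le)

/-- The inverse system over `X`. -/
noncomputable def ftSystemOver : (FTIdeal I)ᵒᵖ ⥤ Over X where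
  obj J := Over.mk J.unop.1.subschemeι
  map {J K} f := Over.homMk (Scheme.IdealSheafData.inclusion (show K.unop.1 ≤ J.unop.1 from f.unop.le))

/-- The closed subscheme of `I` as a cone over the system. -/
noncomputable def ftCone : Cone (ftSystem I) where
  pt := I.subscheme
  π :=
  { app := fun J => Scheme.IdealSheafData.inclusion J.unop.2.1
    naturality := fun J K f => by
      simp only [ftSystem, Functor.const_obj_obj, Functor.const_obj_map, Category.id_comp]
      exact (Scheme.IdealSheafData.inclusion_comp _ _).symm }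

/-- The cone over `X`. -/
noncomputable def ftConeOver : Cone (ftSystemOver I) where
  pt := Over.mk I.subschemeι
  π :=
  { app := fun J => Over.homMk (Scheme.IdealSheafData.inclusion J.unop.2.1)
      (Scheme.IdealSheafData.inclusion_subschemeι _)
    naturality := fun J K f => by
      ext
      simp [ftSystemOver] }

instance (J : (FTIdeal I)ᵒᵖ) : IsClosedImmersion (ftSystemOver I |>.obj J).hom :=
  inferInstanceAs (IsClosedImmersion J.unop.1.subschemeι)

instance isClosedImmersion_ftSystem_map {J K : (FTIdeal I)ᵒᵖ} (f : J ⟶ K) :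
    IsClosedImmersion ((ftSystem I).map f) := by
  haveI : IsClosedImmersion ((ftSystem I).map f ≫ K.unop.1.subschemeι) := by
    simp only [ftSystem, Scheme.IdealSheafData.inclusion_subschemeι]
    infer_instance
  exact IsClosedImmersion.of_comp_isClosedImmersion _ K.unop.1.subschemeι

variable [QuasiSeparatedSpace X] [CompactSpace X]

theorem le_ker_of_forall {T : Scheme.{u}} (q : T ⟶ X)
    (h : ∀ J : FTIdeal I, ∃ g : T ⟶ J.1.subscheme, g ≫ J.1.subschemeι = q) : I ≤ q.ker := by
  rw [← iSup_finiteType_eq I]
  refine iSup_le fun J => ?_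
  obtain ⟨g, rfl⟩ := h J
  exact le_of_eq_of_le J.1.ker_subschemeι.symm (g.le_ker_comp _)

/-- A morphism factoring through all the finite type approximations factors through `I`. -/
noncomputable def ftLift {T : Scheme.{u}} (q : T ⟶ X)
    (h : ∀ J : FTIdeal I, ∃ g : T ⟶ J.1.subscheme, g ≫ J.1.subschemeι = q) : T ⟶ I.subscheme :=
  IsClosedImmersion.lift I.subschemeι q (by
    rw [Scheme.IdealSheafData.ker_subschemeι]
    exact le_ker_of_forall I q h)

@[reassoc]
theorem ftLift_ι {T : Scheme.{u}} (q : T ⟶ X)
    (h : ∀ J : FTIdeal I, ∃ g : T ⟶ J.1.subscheme, g ≫ J.1.subschemeι = q) :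
    ftLift I q h ≫ I.subschemeι = q :=
  IsClosedImmersion.lift_fac _ _ _

/-- The closed subscheme is the limit of the system. -/
noncomputable def isLimitFtCone : IsLimit (ftCone I) := by
  let J₀ : (FTIdeal I)ᵒᵖ := Opposite.op ⟨⊥, bot_le, fun _ => Submodule.fg_bot⟩
  have key : ∀ (s : Cone (ftSystem I)) (J : FTIdeal I),
      s.π.app (Opposite.op J) ≫ J.1.subschemeι = s.π.app J₀ ≫ (J₀.unop.1).subschemeι := by
    intro s J
    have hle : (J₀.unop : FTIdeal I) ≤ J := (bot_le : (⊥ : X.IdealSheafData) ≤ J.1)
    rw [← s.w (homOfLE hle).op, Category.assoc]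
    exact congrArg (s.π.app (Opposite.op J) ≫ ·) (Scheme.IdealSheafData.inclusion_subschemeι _).symm
  refine
    { lift := fun s => ftLift I (s.π.app J₀ ≫ (J₀.unop.1).subschemeι)
        (fun J => ⟨s.π.app (Opposite.op J), key s J⟩)
      fac := fun s J => ?_
      uniq := fun s m hm => ?_ }
  · rw [← cancel_mono J.unop.1.subschemeι, Category.assoc]
    erw [Scheme.IdealSheafData.inclusion_subschemeι, ftLift_ι]
    exact (key s J.unop).symm
  · rw [← cancel_mono I.subschemeι, ftLift_ι, ← hm J₀, Category.assoc]
    exact congrArg (m ≫ ·) (Scheme.IdealSheafData.inclusion_subschemeι J₀.unop.2.1).symm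

/-- The closed subscheme is the limit of the system in schemes over `X`. -/
noncomputable def isLimitFtConeOver : IsLimit (ftConeOver I) where
  lift s := Over.homMk (ftLift I s.pt.hom (fun J => ⟨(s.π.app (Opposite.op J)).left,
    Over.w (s.π.app (Opposite.op J))⟩)) (ftLift_ι I _ _)
  fac s J := by
    ext
    rw [← cancel_mono J.unop.1.subschemeι]
    simp only [ftConeOver, Over.comp_left, Over.homMk_left, Category.assoc,
      Scheme.IdealSheafData.inclusion_subschemeι, ftLift_ι]
    exact (Over.w (s.π.app J)).symm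
  uniq s m hm := by
    ext
    rw [← cancel_mono I.subschemeι]
    simp only [Over.homMk_left, ftLift_ι]
    exact Over.w m

end Groth.Agent.H7Lim

namespace Groth.Agent.H7Lim

/-- A closed immersion whose kernel is of finite type is locally of finite presentation. -/
theorem locallyOfFinitePresentation_of_ker_fg {X Y : Scheme.{u}} (f : X ⟶ Y) [IsClosedImmersion f]
    (h : ∀ U : Y.affineOpens, (f.ker.ideal U).FG) : LocallyOfFinitePresentation f := by
  rw [HasRingHomProperty.iff_exists_appLE (P := @LocallyOfFinitePresentation)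
    (RingHom.finitePresentation_stableUnderComposition.stableUnderCompositionWithLocalizationAway
      RingHom.finitePresentation_holdsForLocalizationAway).1]
  intro x
  obtain ⟨U, hU, hxU, -⟩ := exists_isAffineOpen_mem_and_subset (Set.mem_univ (f x)) (U := (⊤ : Y.Opens))
  refine ⟨⟨U, hU⟩, ⟨f ⁻¹ᵁ U, hU.preimage f⟩, hxU, le_rfl, ?_⟩
  have h1 := h ⟨U, hU⟩
  rw [Scheme.Hom.ker_apply] at h1
  rw [← Scheme.Hom.app_eq_appLE]
  exact RingHom.FinitePresentation.of_surjective _ (f.app_surjective U hU) h1

end Groth.Agent.H7Lim
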