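import Groth.Agent.H7Lim.FPDescent.Exists
import Groth.Agent.H7Lim.DescendAffine
import Groth.Agent.H7Lim.IdealSystem

/-!
# Ideal sheaves of finite type descend along cofiltered limits
-/

set_option autoImplicit false
set_option backward.isDefEq.respectTransparency false

universe u

open CategoryTheory Limits AlgebraicGeometry

namespace Groth.Agent.H7Lim

/-- The kernel of a closed immersion locally of finite presentation is of finite type. -/
theorem ker_fg_of_locallyOfFinitePresentation {X Y : Scheme.{u}} (f : X ⟶ Y) [IsClosedImmersion f]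
    [LocallyOfFinitePresentation f] (U : Y.affineOpens) : (f.ker.ideal U).FG := by
  rw [Scheme.Hom.ker_apply]
  have h : (f.app U).hom.FinitePresentation := by
    have := HasRingHomProperty.appLE (P := @LocallyOfFinitePresentation) f ‹_› U
      ⟨_, U.2.preimage f⟩ le_rfl
    rwa [← Scheme.Hom.app_eq_appLE] at this
  let φ : Γ(Y, U) →+* Γ(X, f ⁻¹ᵁ U) := (f.app U).hom
  let _ := φ.toAlgebra
  have : Algebra.FinitePresentation Γ(Y, U) Γ(X, f ⁻¹ᵁ U) := h
  exact Algebra.FinitePresentation.ker_fG_of_surjective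
    (Algebra.ofId Γ(Y, U) Γ(X, f ⁻¹ᵁ U)) (f.app_surjective U U.2)

theorem exists_idealSheaf_comap {I : Type u} [SmallCategory I] [IsCofiltered I] {D : I ⥤ Scheme.{u}}
    {c : Cone D} (hc : IsLimit c) [∀ (i j : I) (f : i ⟶ j), IsAffineHom (D.map f)]
    [∀ i, CompactSpace (D.obj i)] [∀ i, QuasiSeparatedSpace (D.obj i)]
    (J : c.pt.IdealSheafData) (hJ : ∀ U : c.pt.affineOpens, (J.ideal U).FG) :
    ∃ (i : I) (Ji : (D.obj i).IdealSheafData), (∀ U : (D.obj i).affineOpens, (Ji.ideal U).FG) ∧
      Ji.comap (c.π.app i) = J := by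
  have : LocallyOfFinitePresentation J.subschemeι :=
    locallyOfFinitePresentation_of_ker_fg _ (by simpa [Scheme.IdealSheafData.ker_subschemeι] using hJ)
  obtain ⟨i, ⟨M⟩⟩ := FPDescent.exists_model hc J.subschemeι
  have := M.lfp
  have : QuasiCompact M.p := M.qc
  have : QuasiSeparated M.p := M.qs
  have : CompactSpace M.P := QuasiCompact.compactSpace_of_compactSpace M.p
  have : QuasiSeparatedSpace M.P := quasiSeparatedSpace_of_quasiSeparated M.p
  obtain ⟨j, φ, hj⟩ := exists_descend (P := @IsClosedImmersion) (Q := @LocallyOfFiniteType) hc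
    descendsAffine_isClosedImmersion i M.p inferInstance
    ((prop_iff_of_isPullback (P := @IsClosedImmersion) M.hpb.flip.flip).mp inferInstance)
  refine ⟨j, (pullback.snd M.p (D.map φ)).ker, ker_fg_of_locallyOfFinitePresentation _, ?_⟩
  let g' := pullback.lift M.g (J.subschemeι ≫ c.π.app j)
    (by rw [Category.assoc, c.w φ]; exact M.hpb.w)
  have h : IsPullback g' J.subschemeι (pullback.snd M.p (D.map φ)) (c.π.app j) :=
    IsPullback.of_right (h₁₂ := pullback.fst M.p (D.map φ)) (h₂₂ := D.map φ) (v₁₃ := M.p)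
      (by rw [pullback.lift_fst, c.w φ]; exact M.hpb) (pullback.lift_snd _ _ _)
      (IsPullback.of_hasPullback _ _)
  rw [← Scheme.IdealSheafData.ker_fst_of_isClosedImmersion,
    ← Scheme.Hom.ker_comp_of_isIso h.flip.isoPullback.hom, IsPullback.isoPullback_hom_fst,
    Scheme.IdealSheafData.ker_subschemeι]

end Groth.Agent.H7Lim
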