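import Groth.Agent.H8Props.FibreDimSemicont
import Groth.Agent.H8Props.Reduced
import Groth.Agent.H28Top.Dim
import Mathlib.AlgebraicGeometry.AffineTransitionLimit
import Mathlib.AlgebraicGeometry.Noetherian
import Mathlib.CategoryTheory.Filtered.Final
import Mathlib.Topology.NoetherianSpace

/-!
# Fibre dimension along a limit of morphisms with closed immersion transition maps

If `X = lim Xᵢ` lies over `S = lim Sᵢ`, all `Xᵢ → Sᵢ` are of finite type and all `X_{i} → X_j ×_{S_j} S_i`
are closed immersions, then a bound on the dimensions of the fibres of `X → S` descends to some stage.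
-/

set_option autoImplicit false
set_option backward.isDefEq.respectTransparency false
universe u

open CategoryTheory CategoryTheory.Limits AlgebraicGeometry TopologicalSpace Topology

namespace Groth.Agent.H7Lim

open H8Props.FieldDim

/-- Closed immersions do not increase the fibre dimension at a point. -/
theorem fibreDimAt_comp_closedImmersion_le {X P Y : Scheme.{u}} (k : X ⟶ P) [IsClosedImmersion k]
    (g : P ⟶ Y) [LocallyOfFiniteType g] (x : X) :
    FlatMor.fibreDimAt (k ≫ g) x ≤ FlatMor.fibreDimAt g (k x) := by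
  refine (fibreDimAt_comp_le k g x).1.trans ?_
  rw [fibreDimAt_eq_zero_of_lqf, zero_add]

/-- The dimension of a fibre is at most `n` if the fibre dimension at each of its points is. -/
theorem dim_fiber_le_of_forall {X Y : Scheme.{u}} (f : X ⟶ Y) [LocallyOfFiniteType f] (y : Y)
    (n : WithBot ℕ∞) (h : ∀ x, FlatMor.fibreDimAt f x ≤ n) : topologicalKrullDim (f.fiber y) ≤ n := by
  haveI := locallyOfFiniteType_fiberToSpec f y
  rw [dim_eq_iSup_cdim]
  refine iSup_le fun u => le_trans ?_ ((fibreDimAt_eq_localDim f u).symm.trans_le (h _))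
  rw [localDim_eq (f.fiberToSpecResidueField y) u]
  exact le_iSup_of_le ⟨u, specializes_rfl⟩ le_rfl

/-- The dimension of a fibre bounds the fibre dimension at its points. -/
theorem fibreDimAt_le_dim_fiber {X Y : Scheme.{u}} (f : X ⟶ Y) (x : X) :
    FlatMor.fibreDimAt f x ≤ topologicalKrullDim (f.fiber (f x)) :=
  H28Top.localDim_le_dim _

section System

variable {I : Type u} [SmallCategory I] [IsCofiltered I] {DX DS : I ⥤ Scheme.{u}} (φ : DX ⟶ DS)

theorem isAffineHom_map_of_closedImmersion [∀ (i j : I) (a : i ⟶ j), IsAffineHom (DS.map a)]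
    (hcl : ∀ (i j : I) (a : i ⟶ j),
      IsClosedImmersion (pullback.lift (DX.map a) (φ.app i) (φ.naturality a)))
    {i j : I} (a : i ⟶ j) : IsAffineHom (DX.map a) := by
  haveI := hcl i j a
  rw [← pullback.lift_fst (DX.map a) (φ.app i) (φ.naturality a)]
  haveI : IsAffineHom (pullback.fst (φ.app j) (DS.map a)) :=
    MorphismProperty.pullback_fst _ _ inferInstance
  infer_instance

theorem fibreDimAt_map_ge [∀ i, LocallyOfFiniteType (φ.app i)]
    (hcl : ∀ (i j : I) (a : i ⟶ j),
      IsClosedImmersion (pullback.lift (DX.map a) (φ.app i) (φ.naturality a)))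
    {i j : I} (a : i ⟶ j) (x : DX.obj i) :
    FlatMor.fibreDimAt (φ.app i) x ≤ FlatMor.fibreDimAt (φ.app j) (DX.map a x) := by
  haveI := hcl i j a
  have h := fibreDimAt_comp_closedImmersion_le
    (pullback.lift (DX.map a) (φ.app i) (φ.naturality a)) (pullback.snd (φ.app j) (DS.map a)) x
  simp only [pullback.lift_snd] at h
  refine h.trans (le_of_eq ?_)
  rw [fibreDimAt_baseChange (φ.app j) (IsPullback.of_hasPullback (φ.app j) (DS.map a))]
  erw [← Scheme.Hom.comp_apply, pullback.lift_fst]

/-- Surjective closed immersion targets: reduced schemes lift. -/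
theorem exists_lift_of_reduced {W Z Z' : Scheme.{u}} [IsReduced W] (w : W ⟶ Z) (m : Z' ⟶ Z)
    [IsClosedImmersion m] [Surjective m] : ∃ w' : W ⟶ Z', w' ≫ m = w := by
  haveI : IsIso (pullback.snd m w) := isIso_of_isClosedImmersion_of_surjective _
  exact ⟨inv (pullback.snd m w) ≫ pullback.fst m w, by
    rw [Category.assoc, pullback.condition, IsIso.inv_hom_id_assoc]⟩

/-- **Fibre dimension descends** along a system with closed immersion transition maps. -/
theorem exists_forall_dim_fiber_le (cX : Cone DX) (cS : Cone DS)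
    (hX : IsLimit cX) (hS : IsLimit cS)
    [∀ (i j : I) (a : i ⟶ j), IsAffineHom (DS.map a)] [∀ i, CompactSpace (DS.obj i)]
    [∀ i, LocallyOfFiniteType (φ.app i)] [∀ i, QuasiCompact (φ.app i)]
    (hcl : ∀ (i j : I) (a : i ⟶ j),
      IsClosedImmersion (pullback.lift (DX.map a) (φ.app i) (φ.naturality a)))
    (f : cX.pt ⟶ cS.pt) (hf : ∀ i, f ≫ cS.π.app i = cX.π.app i ≫ φ.app i) (d : ℕ)
    (hd : ∀ s : cS.pt, topologicalKrullDim ↥(f.fiber s) ≤ d) :
    ∃ i : I, ∀ s : DS.obj i, topologicalKrullDim ↥((φ.app i).fiber s) ≤ d := by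
  classical
  by_contra! hne
  haveI : ∀ {i j : I} (a : i ⟶ j), IsAffineHom (DX.map a) :=
    fun a => isAffineHom_map_of_closedImmersion φ hcl a
  have hcomp : ∀ i, CompactSpace (DX.obj i) := fun i => QuasiCompact.compactSpace_of_compactSpace (φ.app i)
  obtain ⟨x, hx⟩ := exists_mem_of_isClosed_of_nonempty DX cX hX
    (fun i => {x : DX.obj i | ¬ FlatMor.fibreDimAt (φ.app i) x ≤ (d : ℕ)})
    (fun i => (isOpen_fibreDimAt_le (φ.app i) d).isClosed_compl)
    (fun i => by
      by_contra h
      obtain ⟨s, hs⟩ := hne i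
      refine hs.not_ge (dim_fiber_le_of_forall (φ.app i) s _ fun x => ?_)
      by_contra hx
      exact h ⟨x, hx⟩)
    (fun i => haveI := hcomp i; (isOpen_fibreDimAt_le (φ.app i) d).isClosed_compl.isCompact)
    (fun a x hx h => hx ((fibreDimAt_map_ge φ hcl a x).trans h))
  set s := f x
  let σ := fun i => cS.pt.fromSpecResidueField s ≫ cS.π.app i
  have hσ : ∀ {i j : I} (a : i ⟶ j), σ i ≫ DS.map a = σ j := fun a => by
    simp only [σ, Category.assoc, Cone.w]
  let Z := fun i => pullback (φ.app i) (σ i)
  let m : ∀ {i j : I}, (i ⟶ j) → (Z i ⟶ Z j) := fun {i j} a =>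
    pullback.lift (pullback.fst _ _ ≫ DX.map a) (pullback.snd _ _)
      (by rw [Category.assoc, φ.naturality a, pullback.condition_assoc, hσ a])
  have hm : ∀ {i j : I} (a : i ⟶ j), IsClosedImmersion (m a) := fun {i j} a => by
    haveI := hcl i j a
    let Q := IsPullback.of_hasPullback (φ.app j) (DS.map a)
    let v : Z j ⟶ pullback (φ.app j) (DS.map a) := pullback.lift (pullback.fst _ _)
      (pullback.snd _ _ ≫ σ i) (by rw [pullback.condition, Category.assoc, hσ a])
    have hr : IsPullback v (pullback.snd (φ.app j) (σ j)) (pullback.snd (φ.app j) (DS.map a)) (σ i) :=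
      IsPullback.of_right (by simp only [v, pullback.lift_fst, hσ a]; exact IsPullback.of_hasPullback _ _)
        (pullback.lift_snd _ _ _) Q
    have hl : IsPullback (pullback.fst (φ.app i) (σ i)) (m a)
        (pullback.lift (DX.map a) (φ.app i) (φ.naturality a)) v := by
      refine IsPullback.of_bot ?_ ?_ hr
      · simp only [m, pullback.lift_snd]
        exact IsPullback.of_hasPullback _ _
      · apply pullback.hom_ext <;> simp [m, v, pullback.condition]
    exact MorphismProperty.of_isPullback hl inferInstance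
  have hm_comp : ∀ {i j k : I} (a : i ⟶ j) (b : j ⟶ k), m (a ≫ b) = m a ≫ m b := fun a b => by
    apply pullback.hom_ext <;> simp [m]
  obtain ⟨j₀⟩ := IsCofiltered.nonempty (C := I)
  have hN : ∀ i, NoetherianSpace (Z i) := fun i => by
    haveI : LocallyOfFiniteType (pullback.snd (φ.app i) (σ i)) :=
      MorphismProperty.pullback_snd _ _ inferInstance
    haveI := LocallyOfFiniteType.isLocallyNoetherian (pullback.snd (φ.app i) (σ i))
    haveI : CompactSpace (Z i) :=
      QuasiCompact.compactSpace_of_compactSpace (pullback.snd (φ.app i) (σ i))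
    haveI : IsNoetherian (Z i) := ⟨⟩
    infer_instance
  -- the images in `Z j₀` stabilise
  haveI := hN j₀
  obtain ⟨C, hC, hmin⟩ := (wellFounded_lt (α := Closeds (Z j₀))).has_min
    (Set.range fun p : Σ i, (i ⟶ j₀) =>
      (⟨Set.range (m p.2), (haveI := hm p.2; (m p.2).isClosedEmbedding.isClosed_range)⟩ :
        Closeds (Z j₀)))
    ⟨_, ⟨⟨j₀, 𝟙 _⟩, rfl⟩⟩
  obtain ⟨⟨j, a⟩, rfl⟩ := hC
  have hsurj : ∀ {k : I} (b : k ⟶ j), Surjective (m b) := fun {k} b => by
    have hsub : Set.range (m (b ≫ a)) ⊆ Set.range (m a) := by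
      rw [hm_comp]
      rintro _ ⟨z, rfl⟩
      exact ⟨m b z, (Scheme.Hom.comp_apply _ _ _).symm⟩
    have heq : Set.range (m (b ≫ a)) = Set.range (m a) := by
      by_contra hne
      exact hmin _ ⟨⟨k, b ≫ a⟩, rfl⟩ ⟨hsub, fun h => hne (hsub.antisymm h)⟩
    haveI := hm a
    refine ⟨fun z => ?_⟩
    obtain ⟨w, hw⟩ : m a z ∈ Set.range (m (b ≫ a)) := heq ▸ ⟨z, rfl⟩
    rw [hm_comp, Scheme.Hom.comp_apply] at hw
    exact ⟨w, (m a).isClosedEmbedding.injective hw⟩
  -- lift the reduced fibre to the limit
  let W := (Z j).nilradical.subscheme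
  let w : W ⟶ Z j := (Z j).nilradical.subschemeι
  haveI : IsReduced W := H8Props.isReduced_nilradical_subscheme _
  have hw : Set.range w = Set.univ := by
    rw [Scheme.IdealSheafData.range_subschemeι, Scheme.support_nilradical, Closeds.coe_top]
  have hlift : ∀ b : Over j, ∃ w' : W ⟶ Z b.left, w' ≫ m b.hom = w := fun b =>
    haveI := hm b.hom; haveI := hsurj b.hom; exists_lift_of_reduced w (m b.hom)
  choose w' hw' using hlift
  have hnat : ∀ {b b' : Over j} (e : b ⟶ b'), w' b ≫ m e.left = w' b' := fun {b b'} e => by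
    haveI := hm b'.hom
    rw [← cancel_mono (m b'.hom), Category.assoc, ← hm_comp, Over.w e, hw', hw']
  let cW : Cone (Over.forget j ⋙ DX) :=
    { pt := W
      π := { app := fun b => w' b ≫ pullback.fst _ _
             naturality := fun b b' e => by
               dsimp
               rw [Category.id_comp, Category.assoc, ← hnat e, Category.assoc]
               congr 1
               exact pullback.lift_fst _ _ _ } }
  have hXj := (Functor.Initial.isLimitWhiskerEquiv (Over.forget j) cX).symm hX
  let v : W ⟶ cX.pt := hXj.lift cW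
  have hv : v ≫ f = (w ≫ pullback.snd _ _) ≫ cS.pt.fromSpecResidueField s := by
    refine ((Functor.Initial.isLimitWhiskerEquiv (Over.forget j) cS).symm hS).hom_ext fun b => ?_
    have h1 : v ≫ cX.π.app b.left = w' b ≫ pullback.fst _ _ := hXj.fac cW b
    show (v ≫ f) ≫ cS.π.app b.left = _ ≫ cS.π.app b.left
    rw [Category.assoc, hf, reassoc_of% h1, pullback.condition, ← hw' b]
    simp [m, σ]
  let y : W ⟶ f.fiber s := pullback.lift v (w ≫ pullback.snd _ _) hv
  let p : f.fiber s ⟶ Z j := pullback.lift (pullback.fst _ _ ≫ cX.π.app j) (pullback.snd _ _)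
    (by rw [Category.assoc, ← hf, pullback.condition_assoc])
  have hyp : y ≫ p = w := by
    apply pullback.hom_ext
    · have h1 : v ≫ cX.π.app j = w' (Over.mk (𝟙 j)) ≫ pullback.fst _ _ := hXj.fac cW (Over.mk (𝟙 j))
      have h2 : m (𝟙 j) = 𝟙 _ := pullback.hom_ext
        (by simp only [m, pullback.lift_fst, DX.map_id, Category.comp_id]; exact (Category.id_comp _).symm)
        (by simp only [m, pullback.lift_snd]; exact (Category.id_comp _).symm)
      have h3 : w' (Over.mk (𝟙 j)) = w :=
        (Category.comp_id _).symm.trans ((congrArg (w' (Over.mk (𝟙 j)) ≫ ·) h2.symm).trans (hw' _))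
      simp [y, p, h1, h3]
    · simp [y, p]
  haveI : IsClosedImmersion w := inferInstance
  have hwe : IsHomeomorph w := by
    rw [isHomeomorph_iff_isEmbedding_surjective]
    exact ⟨w.isClosedEmbedding.isEmbedding, Set.range_eq_univ.mp hw⟩
  have hye : IsEmbedding y := by
    refine IsEmbedding.of_comp y.continuous p.continuous ?_
    have := w.isClosedEmbedding.isEmbedding
    rwa [← hyp, Scheme.Hom.comp_base, TopCat.coe_comp] at this
  have h1 : topologicalKrullDim (Z j) ≤ d :=
    (IsHomeomorph.topologicalKrullDim_eq _ hwe).symm.trans_le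
      (hye.isInducing.topologicalKrullDim_le.trans (hd s))
  apply hx j
  have hsj : φ.app j (cX.π.app j x) = cS.π.app j s := by
    simpa [s] using (congrArg (fun g : cX.pt ⟶ DS.obj j => g x) (hf j)).symm
  obtain ⟨c⟩ : Nonempty (Spec (cS.pt.residueField s)) := inferInstance
  have h2 : topologicalKrullDim ((φ.app j).fiber (cS.π.app j s)) ≤ d := by
    have hb := IsPullback.of_hasPullback (φ.app j) (cS.π.app j)
    rw [← dim_fiber_baseChange (φ.app j) hb s]
    let e : (pullback.snd (φ.app j) (cS.π.app j)).fiber s ≅ Z j :=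
      pullbackLeftPullbackSndIso (φ.app j) (cS.π.app j) (cS.pt.fromSpecResidueField s)
    exact (IsHomeomorph.topologicalKrullDim_eq _ e.hom.homeomorph.isHomeomorph).trans_le h1
  exact (fibreDimAt_le_dim_fiber (φ.app j) _).trans (hsj ▸ h2)

end System

end Groth.Agent.H7Lim
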