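import Groth.Agent.H7Lim.ModExact
import Groth.Agent.H17.FPExt.Compact
import Groth.Agent.H17.PullSectLocal
import Groth.Agent.H10Coh.GenHom
import Groth.Agent.H10Coh.BaseChange
import Groth.Agent.H06EGA9.FlatConstructible

/-!
# Homomorphisms and finitely presented modules descend to a stage (EGA IV 8.5.2 (i), (ii))
-/

set_option autoImplicit false
set_option linter.style.haveILetI false
set_option backward.isDefEq.respectTransparency false

noncomputable section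

universe u

open CategoryTheory Limits AlgebraicGeometry TopologicalSpace Opposite

namespace Groth.Agent.H7Lim.ModHom

open ModStage

/-- Associativity of the comparison isomorphisms of inverse images. -/
theorem coh3 {X Y Z W : Scheme.{u}} (g : X ⟶ Y) (b : Y ⟶ Z) (a : Z ⟶ W) (M : W.Modules) {p : X ⟶ Z}
    {π : X ⟶ W} {q : Y ⟶ W} (e1 : g ≫ b = p) (e2 : p ≫ a = π) (e3 : b ≫ a = q) (e4 : g ≫ q = π) :
    (Scheme.Modules.pullback g).map ((Scheme.Modules.pullbackComp b a ≪≫ Scheme.Modules.pullbackCongr e3).hom.app M) ≫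
      (Scheme.Modules.pullbackComp g q ≪≫ Scheme.Modules.pullbackCongr e4).hom.app M =
    (Scheme.Modules.pullbackComp g b ≪≫ Scheme.Modules.pullbackCongr e1).hom.app ((Scheme.Modules.pullback a).obj M) ≫
      (Scheme.Modules.pullbackComp p a ≪≫ Scheme.Modules.pullbackCongr e2).hom.app M := by
  subst e1 e3 e2
  have h := congr(($(SheafOfModules.pullback_assoc.{u} a.toRingCatSheafHom b.toRingCatSheafHom
    g.toRingCatSheafHom)).hom.app M)
  simp only [Iso.trans_hom, NatTrans.comp_app, Functor.isoWhiskerLeft_hom, Functor.isoWhiskerRight_hom,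
    Functor.whiskerLeft_app, Functor.whiskerRight_app, Iso.symm_hom, Functor.associator_inv_app] at h
  change (Scheme.Modules.pullback g).map ((Scheme.Modules.pullbackComp b a).hom.app M ≫ 𝟙 _) ≫
      ((Scheme.Modules.pullbackComp g (b ≫ a)).hom.app M ≫ 𝟙 _) =
    ((Scheme.Modules.pullbackComp g b).hom.app ((Scheme.Modules.pullback a).obj M) ≫ 𝟙 _) ≫
      ((Scheme.Modules.pullbackComp (g ≫ b) a).hom.app M ≫ 𝟙 _)
  simp only [Category.comp_id]
  exact (h.trans (Category.id_comp _)).symm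

theorem span_pullSect {X Y : Scheme.{u}} (π : X ⟶ Y) (G : Y.Modules) (hG : Coh.IsQCoh G) {U : Y.Opens}
    (hU : IsAffineOpen U) (hV : IsAffineOpen (π ⁻¹ᵁ U)) {S : Set Γ(G, U)}
    (hS : Submodule.span Γ(Y, U) S = ⊤) :
    Submodule.span Γ(X, π ⁻¹ᵁ U) (OmegaSh.pullSect π G U '' S) = ⊤ := by
  letI := (π.appLE U (π ⁻¹ᵁ U) le_rfl).hom.toAlgebra
  letI := Module.compHom Γ((Scheme.Modules.pullback π).obj G, π ⁻¹ᵁ U) (π.appLE U (π ⁻¹ᵁ U) le_rfl).hom
  haveI : IsScalarTower Γ(Y, U) Γ(X, π ⁻¹ᵁ U) Γ((Scheme.Modules.pullback π).obj G, π ⁻¹ᵁ U) :=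
    .of_algebraMap_smul fun _ _ => rfl
  have hbc := H8Props.PullSections.isBaseChange_pullLin π G (le_refl (π ⁻¹ᵁ U)) hG hU hV
  have key : ∀ m : Γ(G, U), H8Props.PullSections.pullLin π G (le_refl (π ⁻¹ᵁ U)) m ∈
      Submodule.span Γ(X, π ⁻¹ᵁ U) (OmegaSh.pullSect π G U '' S) := by
    intro m
    have hm : m ∈ Submodule.span Γ(Y, U) S := hS ▸ Submodule.mem_top
    induction hm using Submodule.span_induction with
    | mem s hs =>
      exact Submodule.subset_span ⟨s, hs,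
        (H10Coh.mres_self ((Scheme.Modules.pullback π).obj G) (le_refl (π ⁻¹ᵁ U)) _).symm⟩
    | zero => rw [map_zero]; exact zero_mem _
    | add a b _ _ ha hb => rw [map_add]; exact add_mem ha hb
    | smul r a _ ha =>
      rw [map_smul]
      exact Submodule.smul_of_tower_mem _ r ha
  refine eq_top_iff.2 fun x _ => ?_
  induction x using hbc.inductionOn with
  | zero => exact zero_mem _
  | tmul m => exact key m
  | smul r x hx => exact Submodule.smul_mem _ _ (hx trivial)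
  | add x y hx hy => exact add_mem (hx trivial) (hy trivial)

/-- A homomorphism of inverse images given locally by data of an intermediate scheme `Z` comes, after
replacing the source by a finitely presented module mapping onto it, from `Z`. -/
theorem exists_presentation_lift {Y Z Z₀ : Scheme.{u}} (p : Y ⟶ Z) [IsAffineHom p] [CompactSpace Z]
    [QuasiSeparatedSpace Z] (a : Z ⟶ Z₀) [IsAffineHom a] {π : Y ⟶ Z₀} (e : p ≫ a = π) {F G : Z₀.Modules}
    (hF : Coh.IsQCoh F) (hG : Coh.IsQCoh G)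
    (h : (Scheme.Modules.pullback π).obj F ⟶ (Scheme.Modules.pullback π).obj G)
    {κ : Type u} [Finite κ] (U : κ → Z₀.Opens) (hU : ∀ k, IsAffineOpen (U k))
    (hcov : ∀ z : Z, ∃ k, z ∈ a ⁻¹ᵁ U k)
    (hr : ∀ k, ∃ S : Finset Γ(F, U k), Submodule.span Γ(Z₀, U k) (S : Set Γ(F, U k)) = ⊤ ∧
      ∀ m ∈ S, ∃ (n : ℕ) (r : Fin n → Γ(Y, π ⁻¹ᵁ U k)) (g : Fin n → Γ(G, U k)),
        h.app (π ⁻¹ᵁ U k) (OmegaSh.pullSect π F (U k) m) = ∑ l, r l • OmegaSh.pullSect π G (U k) (g l) ∧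
        ∀ l, r l ∈ Set.range (p.appLE (a ⁻¹ᵁ U k) (π ⁻¹ᵁ U k) (by rw [← e, Scheme.Hom.comp_preimage]))) :
    ∃ (P : Z.Modules) (q : P ⟶ (Scheme.Modules.pullback a).obj F) (w : P ⟶ (Scheme.Modules.pullback a).obj G),
      CohB1.IsFP P ∧ Epi q ∧ (Scheme.Modules.pullback p).map q ≫
          (Scheme.Modules.pullbackComp p a ≪≫ Scheme.Modules.pullbackCongr e).hom.app F ≫ h =
        (Scheme.Modules.pullback p).map w ≫
          (Scheme.Modules.pullbackComp p a ≪≫ Scheme.Modules.pullbackCongr e).hom.app G := by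
  classical
  subst e
  let F' : Z.Modules := (Scheme.Modules.pullback a).obj F
  let G' : Z.Modules := (Scheme.Modules.pullback a).obj G
  let adj := Scheme.Modules.pullbackPushforwardAdjunction p
  let CF := (Scheme.Modules.pullbackComp p a).app F
  let CG := (Scheme.Modules.pullbackComp p a).app G
  let h' : (Scheme.Modules.pullback p).obj F' ⟶ (Scheme.Modules.pullback p).obj G' := CF.hom ≫ h ≫ CG.inv
  let b : F' ⟶ (Scheme.Modules.pushforward p).obj ((Scheme.Modules.pullback p).obj G') :=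
    adj.homEquiv _ _ h'
  let η : G' ⟶ (Scheme.Modules.pushforward p).obj ((Scheme.Modules.pullback p).obj G') := adj.unit.app G'
  haveI hF' : F'.IsQuasicoherent := H29Fitt.isQCoh_pullback a F hF
  haveI hG' : G'.IsQuasicoherent := H29Fitt.isQCoh_pullback a G hG
  haveI : ((Scheme.Modules.pullback p).obj G').IsQuasicoherent := H29Fitt.isQCoh_pullback p G' hG'
  haveI : ((Scheme.Modules.pushforward p).obj ((Scheme.Modules.pullback p).obj G')).IsQuasicoherent :=
    H10Coh.isQuasicoherent_pushforward_of_isAffineHom p _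
  haveI : (F' ⊞ G').IsQuasicoherent := H10Coh.isQuasicoherent_biprod _ _
  let E := kernel (biprod.desc b (-η))
  haveI : E.IsQuasicoherent := H10Coh.isQuasicoherent_kernel _
  let p₁ : E ⟶ F' := kernel.ι _ ≫ biprod.fst
  let p₂ : E ⟶ G' := kernel.ι _ ≫ biprod.snd
  have hp : p₁ ≫ b = p₂ ≫ η := by
    have h := kernel.condition (biprod.desc b (-η))
    conv_lhs at h => arg 2; rw [biprod.desc_eq]
    rw [Preadditive.comp_add, Preadditive.comp_neg, Preadditive.comp_neg,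
      ← Category.assoc, ← Category.assoc, add_neg_eq_zero] at h
    exact h
  choose S hS hSr using hr
  letI := Fintype.ofFinite κ
  have hb : ∀ (V : Z.Opens) (x : Γ(F', V)), b.app V x = h'.app (p ⁻¹ᵁ V) (OmegaSh.pullSect p F' V x) :=
    fun V x => congr($(adj.homEquiv_unit _ _ h').app V x)
  have hlift : ∀ m : Σ k, ↥(S k), ∃ (g : H17.FPExt.GI Z) (φ : H17.FPExt.fpGen g ⟶ E),
      OmegaSh.pullSect a F (U m.1) m.2.1 ∈ Set.range ((φ ≫ p₁).app (a ⁻¹ᵁ U m.1)) := by
    rintro ⟨k, m, hm⟩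
    obtain ⟨n, r, g, hsum, hrr⟩ := hSr k m hm
    choose t ht using hrr
    let x : Γ(F', a ⁻¹ᵁ U k) := OmegaSh.pullSect a F (U k) m
    let z : Γ(G', a ⁻¹ᵁ U k) := ∑ l, t l • OmegaSh.pullSect a G (U k) (g l)
    have hz : b.app _ x = η.app _ z := by
      rw [hb]
      show CG.inv.app _ (h.app _ (CF.hom.app _ (OmegaSh.pullSect p F' _ (OmegaSh.pullSect a F (U k) m)))) = _
      have h1 : CF.hom.app ((p ≫ a) ⁻¹ᵁ U k) (OmegaSh.pullSect p F' _ (OmegaSh.pullSect a F (U k) m)) =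
          OmegaSh.pullSect (p ≫ a) F (U k) m := by
        rw [← H17.PullSect.pullSect_comp p a F (U k) m]
        exact congr($((Scheme.Modules.pullbackComp p a).inv_hom_id_app F).app ((p ≫ a) ⁻¹ᵁ U k) _)
      refine (congrArg (fun y => CG.inv.app _ (h.app _ y)) h1).trans ?_
      refine (congrArg (fun y => CG.inv.app _ y) hsum).trans ?_
      show CG.inv.app ((p ≫ a) ⁻¹ᵁ U k) _ = OmegaSh.pullSect p G' _ z
      rw [map_sum]
      refine (Finset.sum_congr rfl fun l _ => ?_).trans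
        (map_sum ((adj.unit.app G').app (a ⁻¹ᵁ U k)).hom _ _).symm
      rw [Scheme.Modules.Hom.app_smul]
      refine Eq.trans ?_ (Scheme.Modules.Hom.app_smul (adj.unit.app G') (t l) _).symm
      refine congr_arg₂ (· • ·) ?_ (H17.PullSect.pullSect_comp p a G (U k) (g l))
      rw [← ht l]
      exact congr($(p.app_eq_appLE.symm) (t l))
    let i₁ : F' ⟶ F' ⊞ G' := biprod.inl
    let i₂ : G' ⟶ F' ⊞ G' := biprod.inr
    have hq : (biprod.desc b (-η)).app _ (i₁.app _ x + i₂.app _ z) = 0 := by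
      rw [map_add]
      have e1 : (biprod.desc b (-η)).app _ (i₁.app _ x) = b.app _ x :=
        congr($(biprod.inl_desc b (-η)).app (a ⁻¹ᵁ U k) x)
      have e2 : (biprod.desc b (-η)).app _ (i₂.app _ z) = -(η.app _ z) :=
        congr($(biprod.inr_desc b (-η)).app (a ⁻¹ᵁ U k) z)
      rw [e1, e2, hz, add_neg_cancel]
    obtain ⟨e, he⟩ := H17.FPExt.exists_kernel_preimage _ _ _ hq
    obtain ⟨g', φ, r', hr'⟩ := H17.FPExt.exists_fpGen E inferInstance ⟨a ⁻¹ᵁ U k, (hU k).preimage a⟩ e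
    refine ⟨g', φ, r', ?_⟩
    rw [Scheme.Modules.Hom.comp_app, ConcreteCategory.comp_apply, hr']
    show (kernel.ι _ ≫ (biprod.fst : F' ⊞ G' ⟶ F')).app _ e = _
    rw [Scheme.Modules.Hom.comp_app, ConcreteCategory.comp_apply, he, map_add]
    have e1 : (biprod.fst : F' ⊞ G' ⟶ F').app _ (i₁.app _ x) = x :=
      congr($(biprod.inl_fst (X := F') (Y := G')).app (a ⁻¹ᵁ U k) x)
    have e2 : (biprod.fst : F' ⊞ G' ⟶ F').app _ (i₂.app _ z) = 0 :=
      congr($(biprod.inr_fst (X := F') (Y := G')).app (a ⁻¹ᵁ U k) z)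
    rw [e1, e2, add_zero]
  choose g φ hφ using hlift
  obtain ⟨q, hq⟩ := H17.FPExt.exists_lsum_hom E (Finset.univ.toList.map fun m => ⟨g m, φ m⟩)
  refine ⟨_, q ≫ p₁, q ≫ p₂, H17.FPExt.isFP_lsum _, ?_, ?_⟩
  · refine H10Coh.epi_of_surjective_on_cover (q ≫ p₁) hF' (fun k => a ⁻¹ᵁ U k) (fun k => (hU k).preimage a)
      hcov fun k => ⟨_, span_pullSect a F hF (hU k) ((hU k).preimage a) (hS k), ?_⟩
    rintro _ ⟨m, hm, rfl⟩
    obtain ⟨r, hr⟩ := hφ ⟨k, m, hm⟩
    obtain ⟨w, hw⟩ := hq ⟨_, φ ⟨k, m, hm⟩⟩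
      (List.mem_map.2 ⟨_, Finset.mem_toList.2 (Finset.mem_univ _), rfl⟩) _ r
    refine ⟨w, ?_⟩
    show (q ≫ p₁).app _ w = _
    rw [Scheme.Modules.Hom.comp_app, ConcreteCategory.comp_apply, hw]
    exact hr
  · show (Scheme.Modules.pullback p).map (q ≫ p₁) ≫ (CF.hom ≫ 𝟙 _) ≫ h =
      (Scheme.Modules.pullback p).map (q ≫ p₂) ≫ (CG.hom ≫ 𝟙 _)
    rw [Category.comp_id, Category.comp_id, ← cancel_mono CG.inv, Category.assoc, Category.assoc, Category.assoc,
      CG.hom_inv_id]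
    apply (adj.homEquiv _ _).injective
    show adj.homEquiv _ _ ((Scheme.Modules.pullback p).map (q ≫ p₁) ≫ h') =
      adj.homEquiv _ _ ((Scheme.Modules.pullback p).map (q ≫ p₂) ≫ 𝟙 _)
    rw [adj.homEquiv_naturality_left, adj.homEquiv_naturality_left, adj.homEquiv_id]
    show (q ≫ p₁) ≫ b = (q ≫ p₂) ≫ η
    exact (Category.assoc _ _ _).trans ((congrArg (q ≫ ·) hp).trans (Category.assoc _ _ _).symm)

theorem transport_abstract {C C' : Type*} [Category C] [Category C'] (L : C ⥤ C') {F1 F2 G1 G2 P1 : C}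
    {F3 G3 P3 F0 G0 : C'} (mF : F1 ≅ F2) (mG : G1 ≅ G2) (nF : L.obj F2 ≅ F0) (nG : L.obj G2 ≅ G0)
    (aF : L.obj F1 ⟶ F3) (aG : L.obj G1 ⟶ G3) (aP : L.obj P1 ⟶ P3) (bF : F3 ⟶ F0) (bG : G3 ⟶ G0)
    (q : P1 ⟶ F1) [Epi (L.map q)] (w : P1 ⟶ G1) (q3 : P3 ⟶ F3) (w3 : P3 ⟶ G3) (h₁ : F1 ⟶ G1) (h : F0 ⟶ G0)
    (cF : L.map mF.hom ≫ nF.hom = aF ≫ bF) (cG : L.map mG.hom ≫ nG.hom = aG ≫ bG)
    (natq : L.map q ≫ aF = aP ≫ q3) (natw : L.map w ≫ aG = aP ≫ w3)
    (hqw : q3 ≫ bF ≫ h = w3 ≫ bG) (hh₁ : q ≫ h₁ = w) :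
    nF.inv ≫ L.map (mF.inv ≫ h₁ ≫ mG.hom) ≫ nG.hom = h := by
  rw [← cancel_epi nF.hom, nF.hom_inv_id_assoc, ← cancel_epi (L.map mF.hom), ← L.map_comp_assoc,
    mF.hom_inv_id_assoc, L.map_comp, Category.assoc, cG, ← Category.assoc (L.map mF.hom), cF, Category.assoc,
    ← cancel_epi (L.map q), ← L.map_comp_assoc, hh₁, ← Category.assoc, natw, Category.assoc,
    ← Category.assoc (L.map q), natq, Category.assoc, hqw]

/-- Transport of a descended homomorphism along the comparison isomorphisms. -/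
theorem transport_eq {X Y Z W : Scheme.{u}} (g : X ⟶ Y) (b : Y ⟶ Z) (a : Z ⟶ W) {p : X ⟶ Z} {π : X ⟶ W}
    {r : Y ⟶ W} (e1 : g ≫ b = p) (e2 : p ≫ a = π) (e3 : b ≫ a = r) (e4 : g ≫ r = π) {F G : W.Modules}
    (h : (Scheme.Modules.pullback π).obj F ⟶ (Scheme.Modules.pullback π).obj G) {P : Z.Modules}
    (q : P ⟶ (Scheme.Modules.pullback a).obj F) [Epi q] (w : P ⟶ (Scheme.Modules.pullback a).obj G)
    (hqw : (Scheme.Modules.pullback p).map q ≫
        (Scheme.Modules.pullbackComp p a ≪≫ Scheme.Modules.pullbackCongr e2).hom.app F ≫ h =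
      (Scheme.Modules.pullback p).map w ≫
        (Scheme.Modules.pullbackComp p a ≪≫ Scheme.Modules.pullbackCongr e2).hom.app G)
    (h₁ : (Scheme.Modules.pullback b).obj ((Scheme.Modules.pullback a).obj F) ⟶
      (Scheme.Modules.pullback b).obj ((Scheme.Modules.pullback a).obj G))
    (hh₁ : (Scheme.Modules.pullback b).map q ≫ h₁ = (Scheme.Modules.pullback b).map w) :
    let m := Scheme.Modules.pullbackComp b a ≪≫ Scheme.Modules.pullbackCongr e3
    let n := Scheme.Modules.pullbackComp g r ≪≫ Scheme.Modules.pullbackCongr e4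
    (n.app F).inv ≫ (Scheme.Modules.pullback g).map (m.inv.app F ≫ h₁ ≫ m.hom.app G) ≫ (n.app G).hom = h := by
  intro m n
  haveI : (Scheme.Modules.pullback g).PreservesEpimorphisms :=
    Functor.preservesEpimorphisms_of_adjunction (Scheme.Modules.pullbackPushforwardAdjunction _)
  haveI : (Scheme.Modules.pullback b).PreservesEpimorphisms :=
    Functor.preservesEpimorphisms_of_adjunction (Scheme.Modules.pullbackPushforwardAdjunction _)
  haveI : Epi ((Scheme.Modules.pullback g).map ((Scheme.Modules.pullback b).map q)) := inferInstance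
  let e := Scheme.Modules.pullbackComp g b ≪≫ Scheme.Modules.pullbackCongr e1
  exact transport_abstract (Scheme.Modules.pullback g) (m.app F) (m.app G) (n.app F) (n.app G)
    (e.hom.app _) (e.hom.app _) (e.hom.app _) _ _ ((Scheme.Modules.pullback b).map q) _
    ((Scheme.Modules.pullback p).map q) _ h₁ h (coh3 g b a F e1 e2 e3 e4) (coh3 g b a G e1 e2 e3 e4)
    (e.hom.naturality q) (e.hom.naturality w) hqw hh₁

variable {I : Type u} [SmallCategory I] [IsCofiltered I] {D : I ⥤ Scheme.{u}} {c : Cone D} (hc : IsLimit c)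
  [∀ (i j : I) (f : i ⟶ j), IsAffineHom (D.map f)] {i₀ : I} [CompactSpace (D.obj i₀)]
  [QuasiSeparatedSpace (D.obj i₀)]

include hc in
/-- Every homomorphism between inverse images on the limit comes from a stage. -/
theorem exists_hom {F G : (D.obj i₀).Modules} (hF : CohB1.IsFP F) (hG : Coh.IsQCoh G)
    (h : (Scheme.Modules.pullback (c.π.app i₀)).obj F ⟶ (Scheme.Modules.pullback (c.π.app i₀)).obj G) :
    ∃ (j : I) (φ : j ⟶ i₀) (hj : (Scheme.Modules.pullback (D.map φ)).obj F ⟶ (Scheme.Modules.pullback (D.map φ)).obj G),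
      ((πIso φ).app F).inv ≫ (Scheme.Modules.pullback (c.π.app j)).map hj ≫ ((πIso φ).app G).hom = h := by
  classical
  have hFq : Coh.IsQCoh F := H29Fitt.isQCoh_of_isFP F hF
  let π : c.pt ⟶ D.obj i₀ := c.π.app i₀
  haveI : IsAffineHom π := isAffineHom_π_app D c hc i₀
  obtain ⟨T, hT⟩ := H17.FPExt.exists_finite_cover (X := D.obj i₀)
  have hgen : ∀ U : (D.obj i₀).affineOpens, ∃ (S : Finset Γ(F, U.1)) (R : Finset Γ(c.pt, π ⁻¹ᵁ U.1)),
      Submodule.span Γ(D.obj i₀, U.1) (S : Set Γ(F, U.1)) = ⊤ ∧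
      ∀ m ∈ S, ∃ (n : ℕ) (r : Fin n → Γ(c.pt, π ⁻¹ᵁ U.1)) (g : Fin n → Γ(G, U.1)),
        h.app (π ⁻¹ᵁ U.1) (OmegaSh.pullSect π F U.1 m) = ∑ l, r l • OmegaSh.pullSect π G U.1 (g l) ∧
        ∀ l, r l ∈ R := by
    intro U
    haveI : F.IsQuasicoherent := hFq
    obtain ⟨S, hS⟩ := (H10Coh.finite_sections F (H29Fitt.isFT_of_isFP F hF) U.2).fg_top
    have hex : ∀ m : ↥S, ∃ (n : ℕ) (r : Fin n → Γ(c.pt, π ⁻¹ᵁ U.1)) (g : Fin n → Γ(G, U.1)),
        h.app (π ⁻¹ᵁ U.1) (OmegaSh.pullSect π F U.1 m.1) = ∑ l, r l • OmegaSh.pullSect π G U.1 (g l) := by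
      intro m
      obtain ⟨n, r, g, hg⟩ := Submodule.mem_span_set'.1
        ((span_pullSect π G hG U.2 (U.2.preimage π) Submodule.span_univ).ge
          (Submodule.mem_top (x := h.app (π ⁻¹ᵁ U.1) (OmegaSh.pullSect π F U.1 m.1))))
      choose g' _ hg' using fun l => (g l).2
      exact ⟨n, r, g', by simp only [hg']; exact hg.symm⟩
    choose n r g hsum using hex
    exact ⟨S, Finset.univ.biUnion fun m => Finset.univ.image (r m), hS, fun m hm =>
      ⟨n ⟨m, hm⟩, r ⟨m, hm⟩, g ⟨m, hm⟩, hsum ⟨m, hm⟩, fun l => Finset.mem_biUnion.2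
        ⟨⟨m, hm⟩, Finset.mem_univ _, Finset.mem_image.2 ⟨l, Finset.mem_univ _, rfl⟩⟩⟩⟩
  choose S R hS hSR using hgen
  choose jU φU tU htU using fun U : ↥T => exists_secπ_eq_finite hc U.1.2 (fun x : ↥(R U.1) => x.1)
  obtain ⟨N, ⟨e⟩⟩ := Finite.exists_equiv_fin ↥T
  obtain ⟨j, φ, ψj, hψj⟩ := IsCofiltered.wideCospan fun b => φU (e.symm b)
  haveI : IsAffineHom (c.π.app j) := isAffineHom_π_app D c hc j
  haveI : CompactSpace (D.obj j) := QuasiCompact.compactSpace_of_compactSpace (D.map φ)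
  haveI : QuasiSeparatedSpace (D.obj j) := quasiSeparatedSpace_of_quasiSeparated (D.map φ)
  obtain ⟨P, q, w, hP, hq, hqw⟩ := exists_presentation_lift (c.π.app j) (D.map φ) (c.w φ) hFq hG h
    (fun U : ↥T => U.1.1) (fun U => U.1.2) (fun z => by
      obtain ⟨U, hU, hz⟩ := hT (D.map φ z)
      exact ⟨⟨U, hU⟩, hz⟩) fun U => ⟨S U.1, hS U.1, fun m hm => by
      obtain ⟨n, r, g, hs, hr⟩ := hSR U.1 m hm
      refine ⟨n, r, g, hs, fun l => ?_⟩
      obtain ⟨b, rfl⟩ := e.symm.surjective U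
      have hcomp : ∀ (φ' : j ⟶ i₀), ψj b ≫ φU (e.symm b) = φ' →
          r l ∈ Set.range (secπ (c := c) φ' (e.symm b).1.1) := by
        rintro _ rfl
        exact ⟨_, (secπ_secMap_apply _ _ _ _).trans (htU (e.symm b) ⟨r l, hr l⟩)⟩
      exact hcomp φ (hψj b)⟩
  let F' := (Scheme.Modules.pullback (D.map φ)).obj F
  let G' := (Scheme.Modules.pullback (D.map φ)).obj G
  have hPq := H29Fitt.isQCoh_of_isFP P hP
  have hF' : CohB1.IsFP F' := H06EGA9.isFP_pullback _ hF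
  have h0 : (Scheme.Modules.pullback (c.π.app j)).map (kernel.ι q ≫ w) = 0 := by
    rw [← cancel_mono ((πIso φ).hom.app G), zero_comp, Functor.map_comp, Category.assoc,
      show (πIso φ).hom.app G = (Scheme.Modules.pullbackComp (c.π.app j) (D.map φ) ≪≫
        Scheme.Modules.pullbackCongr (c.w φ)).hom.app G from rfl, ← hqw, ← Category.assoc, ← Functor.map_comp,
      kernel.condition, Functor.map_zero, zero_comp]
  obtain ⟨k, ψ, hk⟩ := (ModStage.eq_zero_iff hc (ModExact.isQCoh_kernel q hPq (H29Fitt.isQCoh_of_isFP F' hF'))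
    (H29Fitt.isQCoh_pullback _ G hG) (kernel.ι q ≫ w)
    (ModExact.isFT_kernel hPq (H29Fitt.isQCoh_of_isFP F' hF') (H29Fitt.isFT_of_isFP P hP) hF' q)).1 h0
  obtain ⟨h₁, hh₁⟩ := (ModExact.factors_iff (D.map ψ) q w).2 hk
  haveI := hq
  exact ⟨k, ψ ≫ φ, (mapIso φ ψ).inv.app F ≫ h₁ ≫ (mapIso φ ψ).hom.app G,
    transport_eq (c.π.app k) (D.map ψ) (D.map φ) (c.w ψ) (c.w φ) (D.map_comp ψ φ).symm (c.w (ψ ≫ φ)) h q w
      hqw h₁ hh₁⟩

include hc in
/-- A quasi-coherent module of finite type on the limit is a quotient of the inverse image of a finitely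
presented module. -/
theorem exists_pullback_epi {F : c.pt.Modules} (hF : Coh.IsQCoh F) (hFt : CohB1.IsFT F) :
    ∃ (P : (D.obj i₀).Modules) (q : (Scheme.Modules.pullback (c.π.app i₀)).obj P ⟶ F),
      CohB1.IsFP P ∧ Epi q := by
  classical
  let π : c.pt ⟶ D.obj i₀ := c.π.app i₀
  haveI : IsAffineHom π := isAffineHom_π_app D c hc i₀
  haveI : F.IsQuasicoherent := hF
  haveI : ((Scheme.Modules.pushforward π).obj F).IsQuasicoherent :=
    H10Coh.isQuasicoherent_pushforward_of_isAffineHom π F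
  obtain ⟨T, hT⟩ := H17.FPExt.exists_finite_cover (X := D.obj i₀)
  choose S hS using fun U : (D.obj i₀).affineOpens =>
    (H10Coh.finite_sections F hFt (U.2.preimage π)).fg_top
  choose g φ hφ using fun m : (Σ U : ↥T, ↥(S U.1)) =>
    H17.FPExt.exists_fpGen ((Scheme.Modules.pushforward π).obj F) inferInstance m.1.1 m.2.1
  obtain ⟨l, hl⟩ := H17.FPExt.exists_lsum_hom ((Scheme.Modules.pushforward π).obj F)
    (Finset.univ.toList.map fun m => ⟨g m, φ m⟩)
  let adj := Scheme.Modules.pullbackPushforwardAdjunction π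
  refine ⟨_, (adj.homEquiv _ F).symm l, H17.FPExt.isFP_lsum _, ?_⟩
  refine H10Coh.epi_of_surjective_on_cover _ hF (fun U : ↥T => π ⁻¹ᵁ U.1.1) (fun U => U.1.2.preimage π)
    (fun y => by
      obtain ⟨U, hU, hz⟩ := hT (π y)
      exact ⟨⟨U, hU⟩, hz⟩) fun U => ⟨_, hS U.1, fun σ hσ => ?_⟩
  obtain ⟨r, hr⟩ := hφ ⟨U, σ, hσ⟩
  obtain ⟨w, hw⟩ := hl ⟨_, φ ⟨U, σ, hσ⟩⟩ (List.mem_map.2 ⟨_, Finset.mem_toList.2 (Finset.mem_univ _), rfl⟩) _ r
  have h1 := (adj.homEquiv_unit _ F ((adj.homEquiv _ F).symm l)).symm.trans ((adj.homEquiv _ F).apply_symm_apply l)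
  exact ⟨OmegaSh.pullSect π _ U.1.1 w, (congr($(h1).app U.1.1 w)).trans (hw.trans hr)⟩

include hc in
/-- Quotients of finite presentation descend to a stage. -/
theorem exists_quotient {F : (D.obj i₀).Modules} (hF : CohB1.IsFP F) {G : c.pt.Modules} (hG : Coh.IsQCoh G)
    (hGp : CohB1.IsFP G) (p : (Scheme.Modules.pullback (c.π.app i₀)).obj F ⟶ G) [Epi p] :
    ∃ (j : I) (φ : j ⟶ i₀) (Gj : (D.obj j).Modules) (_ : Coh.IsQCoh Gj)
      (pj : (Scheme.Modules.pullback (D.map φ)).obj F ⟶ Gj)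
      (e : (Scheme.Modules.pullback (c.π.app j)).obj Gj ≅ G),
      CohB1.IsFP Gj ∧ Epi pj ∧
        ((πIso φ).app F).inv ≫ (Scheme.Modules.pullback (c.π.app j)).map pj ≫ e.hom = p := by
  have hFq := H29Fitt.isQCoh_of_isFP F hF
  have hπF := H29Fitt.isQCoh_pullback (c.π.app i₀) F hFq
  have hKt : CohB1.IsFT (kernel p) :=
    ModExact.isFT_kernel hπF hG (H29Fitt.isFT_pullback _ F hFq (H29Fitt.isFT_of_isFP F hF)) hGp p
  obtain ⟨P, s, hP, hs⟩ := exists_pullback_epi hc (i₀ := i₀) (ModExact.isQCoh_kernel p hπF hG) hKt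
  haveI := hs
  obtain ⟨j, φ, hj, hhj⟩ := exists_hom hc hP hFq (s ≫ kernel.ι p)
  let π' := Scheme.Modules.pullback (c.π.app j)
  have hcoker : CohB1.IsFP (cokernel hj) :=
    H17.FPExt.isFP_cokernel hj (H29Fitt.isQCoh_pullback _ P (H29Fitt.isQCoh_of_isFP P hP))
      (H29Fitt.isFT_pullback _ P (H29Fitt.isQCoh_of_isFP P hP) (H29Fitt.isFT_of_isFP P hP))
      (H06EGA9.isFP_pullback _ hF)
  haveI : PreservesFiniteColimits π' := ModExact.preservesFiniteColimits_pullback _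
  let A := (πIso (c := c) φ).app P
  let B := (πIso (c := c) φ).app F
  have hmap : π'.map hj ≫ B.hom = A.hom ≫ s ≫ kernel.ι p := by
    rw [← hhj, ← Category.assoc A.hom, A.hom_inv_id, Category.id_comp]
  let eiso : π'.obj (cokernel hj) ≅ G :=
    PreservesCokernel.iso π' hj ≪≫ cokernel.mapIso (π'.map hj) (s ≫ kernel.ι p) A B hmap ≪≫
      cokernelEpiComp s (kernel.ι p) ≪≫
      IsColimit.coconePointUniqueUpToIso (colimit.isColimit _) (Abelian.epiIsCokernelOfKernel _ (kernelIsKernel p))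
  refine ⟨j, φ, cokernel hj, H29Fitt.isQCoh_of_isFP _ hcoker, cokernel.π hj, eiso, hcoker, inferInstance, ?_⟩
  have : π'.map (cokernel.π hj) ≫ eiso.hom = B.hom ≫ p := by
    simp [eiso]
  rw [this, ← Category.assoc, B.inv_hom_id, Category.id_comp]

end Groth.Agent.H7Lim.ModHom
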