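import Mathlib.AlgebraicGeometry.Gluing
import Mathlib.CategoryTheory.Limits.Shapes.Pullback.HasPullback

/-!
# Gluing two schemes along a common open
-/

set_option autoImplicit false
set_option backward.isDefEq.respectTransparency false

universe u

open CategoryTheory AlgebraicGeometry Limits

namespace Groth.Agent.H7Lim

/-- Glue `A` and `B` along the common open `O`, over `T`. -/
theorem exists_glue_open {O A B T : Scheme.{u}} (j₁ : O ⟶ A) (j₂ : O ⟶ B) [IsOpenImmersion j₁]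
    [IsOpenImmersion j₂] (a : A ⟶ T) (b : B ⟶ T) (w : j₁ ≫ a = j₂ ≫ b) :
    ∃ (P : Scheme.{u}) (i₁ : A ⟶ P) (i₂ : B ⟶ P) (p : P ⟶ T), IsOpenImmersion i₁ ∧
      IsOpenImmersion i₂ ∧ j₁ ≫ i₁ = j₂ ≫ i₂ ∧ i₁ ≫ p = a ∧ i₂ ≫ p = b ∧
      (∀ x : P, x ∈ Set.range i₁ ∨ x ∈ Set.range i₂) ∧
      (∀ x y, i₁ x = i₂ y → x ∈ Set.range j₁ ∧ y ∈ Set.range j₂) := by
  let F := span j₁ j₂
  haveI : ∀ {i j : WalkingSpan} (f : i ⟶ j), IsOpenImmersion (F.map f) := by
    intro i j f
    rcases f with _ | k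
    · simp; infer_instance
    · rcases k with _ | _
      · exact ‹IsOpenImmersion j₁›
      · exact ‹IsOpenImmersion j₂›
  refine ⟨colimit F, colimit.ι F WalkingSpan.left, colimit.ι F WalkingSpan.right,
    colimit.desc F (PushoutCocone.mk a b w), inferInstance, inferInstance, ?_,
    colimit.ι_desc (PushoutCocone.mk a b w) WalkingSpan.left,
    colimit.ι_desc (PushoutCocone.mk a b w) WalkingSpan.right, ?_, ?_⟩
  · exact (colimit.w F WalkingSpan.Hom.fst).trans (colimit.w F WalkingSpan.Hom.snd).symm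
  · intro x
    obtain ⟨i, xi, rfl⟩ := Scheme.IsLocallyDirected.ι_jointly_surjective F x
    rcases i with _ | _ | _
    · left
      refine ⟨j₁ xi, ?_⟩
      rw [← Scheme.Hom.comp_apply]
      exact congrArg (fun f => f xi) (colimit.w F WalkingSpan.Hom.fst)
    · exact Or.inl ⟨xi, rfl⟩
    · exact Or.inr ⟨xi, rfl⟩
  · intro x y h
    obtain ⟨k, fi, fj, z, hx, hy⟩ := Scheme.IsLocallyDirected.ι_eq_ι_iff F |>.1 h
    rcases fi with _ | _
    · rcases fj
    · rcases fj with _ | _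
      exact ⟨⟨z, hx⟩, ⟨z, hy⟩⟩

end Groth.Agent.H7Lim
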