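import Groth.Agent.H7Lim.Separated

/-!
# Separatedness and affineness of structure maps descend along cofiltered limits
-/

set_option autoImplicit false
set_option backward.isDefEq.respectTransparency false
set_option backward.defeqAttrib.useBackward true

universe u

open CategoryTheory Limits AlgebraicGeometry TopologicalSpace

namespace Groth.Agent.H7Lim

variable {I : Type u} [Category.{u} I] [IsCofiltered I] {D : I ⥤ Scheme.{u}} {c : Cone D}
  [∀ (i j : I) (f : i ⟶ j), IsAffineHom (D.map f)] (hc : IsLimit c)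
  [∀ i, CompactSpace (D.obj i)] [∀ i, QuasiSeparatedSpace (D.obj i)]

/-- A morphism is separated if it is so over opens covering its image. -/
lemma isSeparated_of_subset_iSup {X S : Scheme.{u}} (f : X ⟶ S) {κ : Type*} (W : κ → S.Opens)
    (hW : ∀ x, ∃ a, f x ∈ W a) (h : ∀ a, IsSeparated (f ∣_ W a)) : IsSeparated f := by
  let V : S.Opens := ⨆ a, W a
  have hf : Set.range f ⊆ Set.range V.ι := by
    rintro _ ⟨x, rfl⟩
    obtain ⟨a, ha⟩ := hW x
    simpa [V] using ⟨a, ha⟩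
  let g : X ⟶ V := IsOpenImmersion.lift V.ι f hf
  have hg : g ≫ V.ι = f := IsOpenImmersion.lift_fac _ _ _
  have : IsSeparated g := by
    refine IsZariskiLocalAtTarget.of_iSup_eq_top (P := @IsSeparated) (fun a ↦ V.ι ⁻¹ᵁ W a) ?_
      fun a ↦ ?_
    · rw [← Scheme.Hom.preimage_iSup]; simp [V]
    · have : IsSeparated ((g ∣_ V.ι ⁻¹ᵁ W a) ≫ (V.ι ∣_ W a)) := by
        rw [← morphismRestrict_comp]
        exact ((MorphismProperty.arrow_mk_iso_iff @IsSeparated
          (morphismRestrictEq _ rfl)).mp (by rw [hg]; exact h a))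
      exact IsSeparated.of_comp _ (V.ι ∣_ W a)
  rw [← hg]
  infer_instance

omit [IsCofiltered I] [∀ i, QuasiSeparatedSpace (D.obj i)]
  [∀ (i j : I) (f : i ⟶ j), IsAffineHom (D.map f)] in
/-- Affine opens of the base covering the image of one stage. -/
lemma exists_affines {S : Scheme.{u}} (i₀ : I) (f : D.obj i₀ ⟶ S) :
    ∃ s : Set S.affineOpens, s.Finite ∧ ∀ x, ∃ W : s, f x ∈ (W.1 : S.Opens) := by
  obtain ⟨t, ht⟩ := (isCompact_range f.continuous).elim_finite_subcover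
    (fun W : S.affineOpens ↦ ((W : S.Opens) : Set S)) (fun W ↦ W.1.2) (fun x _ ↦ by
      simpa using (iSup_affineOpens_eq_top S).ge (Set.mem_univ x))
  refine ⟨↑t, t.finite_toSet, fun x ↦ ?_⟩
  obtain ⟨W, hW, hx⟩ := Set.mem_iUnion₂.mp (ht ⟨x, rfl⟩)
  exact ⟨⟨W, hW⟩, hx⟩

variable {S : Scheme.{u}} [QuasiSeparatedSpace S] (t : ∀ j, D.obj j ⟶ S)
  (ht : ∀ {i j : I} (φ : j ⟶ i), D.map φ ≫ t i = t j) (i₀ : I)

omit [IsCofiltered I] [∀ (i j : I) (f : i ⟶ j), IsAffineHom (D.map f)] in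
lemma isCompact_preimage_affine (W : S.affineOpens) :
    IsCompact ((t i₀ ⁻¹ᵁ (W : S.Opens) : (D.obj i₀).Opens) : Set (D.obj i₀)) := by
  exact QuasiCompact.isCompact_preimage (f := t i₀) _ W.1.2 W.2.isCompact

include ht in
omit [IsCofiltered I] [∀ i, CompactSpace (D.obj i)] [∀ i, QuasiSeparatedSpace (D.obj i)]
  [∀ (i j : I) (f : i ⟶ j), IsAffineHom (D.map f)] [QuasiSeparatedSpace S] in
lemma preimage_app {j k : I} (φ : k ⟶ i₀) (ψ : j ⟶ k) (W : S.Opens) :
    D.map (ψ ≫ φ) ⁻¹ᵁ (t i₀ ⁻¹ᵁ W) = t j ⁻¹ᵁ W := by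
  rw [← Scheme.Hom.comp_preimage, ht]

include hc ht in
theorem exists_isSeparated_structureMap [IsSeparated (c.π.app i₀ ≫ t i₀)] :
    ∃ i₁ : I, ∀ (i : I) (_ : i ⟶ i₁), IsSeparated (t i) := by
  obtain ⟨s, hs, hcov⟩ := exists_affines i₀ (t i₀)
  have : Finite s := hs
  obtain ⟨k, φ, hk⟩ := exists_common_stage i₀
    (fun (W : s) k φ ↦ ∀ (j : I) (ψ : j ⟶ k),
      (D.map (ψ ≫ φ) ⁻¹ᵁ (t i₀ ⁻¹ᵁ (W.1 : S.Opens))).toScheme.IsSeparated)
    (fun W ↦ by
      let U : (D.obj i₀).Opens := t i₀ ⁻¹ᵁ (W.1 : S.Opens)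
      have hU : IsCompact (U : Set (D.obj i₀)) := isCompact_preimage_affine t i₀ W
      have (j : Over i₀) : CompactSpace ((opensDiagram D i₀ U).obj j) :=
        isCompact_iff_compactSpace.mp (QuasiCompact.isCompact_preimage _ U.2 hU)
      have (j : Over i₀) : QuasiSeparatedSpace ((opensDiagram D i₀ U).obj j) :=
        (isQuasiSeparated_iff_quasiSeparatedSpace _ (D.map _ ⁻¹ᵁ _).2).mp
          (.of_quasiSeparatedSpace _)
      have : (opensCone D c i₀ U).pt.IsSeparated := by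
        have : IsAffine ((W.1 : S.Opens) : Scheme) := W.1.2
        have h' : IsSeparated ((c.π.app i₀ ≫ t i₀) ∣_ (W.1 : S.Opens)) := inferInstance
        exact (HasAffineProperty.iff_of_isAffine (P := @IsSeparated)).mp h'
      obtain ⟨k, hk⟩ := exists_isSeparated_obj (isLimitOpensCone D c hc i₀ U)
      exact ⟨k.left, k.hom, fun j ψ ↦ hk (Over.mk (ψ ≫ k.hom)) (Over.homMk ψ)⟩)
    (fun W j j' φ ψ h l χ ↦ by simpa using h l (χ ≫ ψ))
  refine ⟨k, fun j ψ ↦ isSeparated_of_subset_iSup (t j) (fun W : s ↦ (W.1 : S.Opens))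
    (fun x ↦ ?_) fun W ↦ ?_⟩
  · obtain ⟨W, hW⟩ := hcov (D.map (ψ ≫ φ) x)
    exact ⟨W, (preimage_app t ht i₀ φ ψ W.1).le hW⟩
  · have : (t j ⁻¹ᵁ (W.1 : S.Opens) : Scheme).IsSeparated :=
      preimage_app t ht i₀ φ ψ (W.1 : S.Opens) ▸ hk W j ψ
    infer_instance

include hc ht in
theorem exists_isAffineHom_structureMap [CompactSpace S]
    [IsAffineHom (c.π.app i₀ ≫ t i₀)] :
    ∃ i₁ : I, ∀ (i : I) (_ : i ⟶ i₁), IsAffineHom (t i) := by
  obtain ⟨s, hs, e⟩ := (isCompact_and_isOpen_iff_finite_and_eq_biUnion_affineOpens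
    (X := S) (U := Set.univ)).mp ⟨isCompact_univ, isOpen_univ⟩
  have : Finite s := hs
  obtain ⟨k, φ, hk⟩ := exists_common_stage i₀
    (fun (W : s) k φ ↦ IsAffineOpen (D.map φ ⁻¹ᵁ (t i₀ ⁻¹ᵁ (W.1 : S.Opens))))
    (fun W ↦ by
      let U : (D.obj i₀).Opens := t i₀ ⁻¹ᵁ (W.1 : S.Opens)
      have hU : IsCompact (U : Set (D.obj i₀)) := isCompact_preimage_affine t i₀ W
      have (j : Over i₀) : CompactSpace ((opensDiagram D i₀ U).obj j) :=
        isCompact_iff_compactSpace.mp (QuasiCompact.isCompact_preimage _ U.2 hU)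
      have (j : Over i₀) : QuasiSeparatedSpace ((opensDiagram D i₀ U).obj j) :=
        (isQuasiSeparated_iff_quasiSeparatedSpace _ (D.map _ ⁻¹ᵁ _).2).mp
          (.of_quasiSeparatedSpace _)
      have : IsAffine (opensCone D c i₀ U).pt := W.1.2.preimage (c.π.app i₀ ≫ t i₀)
      obtain ⟨k, hk⟩ := Scheme.exists_isAffine_of_isLimit _ _ (isLimitOpensCone D c hc i₀ U)
      exact ⟨k.left, k.hom, hk⟩)
    (fun W j j' φ ψ h ↦ by
      rw [D.map_comp, Scheme.Hom.comp_preimage]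
      exact h.preimage _)
  refine ⟨k, fun j ψ ↦ isAffineHom_of_forall_exists_isAffineOpen (t j) fun y ↦ ?_⟩
  obtain ⟨W, hW, hy⟩ := Set.mem_iUnion₂.mp (e.le (Set.mem_univ y))
  refine ⟨_, hy, W.2, ?_⟩
  have := (hk ⟨W, hW⟩).preimage (D.map ψ)
  rwa [← Scheme.Hom.comp_preimage, ← D.map_comp, preimage_app t ht] at this

end Groth.Agent.H7Lim
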