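import Groth.Agent.H7Lim.Approx.IntegralSystem
import Groth.Agent.H7Lim.Approx.AbsoluteMain
import Groth.Agent.H7Lim.Approx.Absolute
import Groth.Agent.H7Lim.StructureMap
import Groth.Agent.H7Lim.DescendAffine
import Groth.Agent.H7Lim.FPDescent.Exists
import Groth.Agent.H06EGA8.Descend
import Groth.Agent.H17.Separated
import Groth.Agent.LeadAff.Chevalley

/-!
# Chevalley: the image of an affine scheme under an integral / universally closed map is affine
-/

set_option autoImplicit false
set_option backward.isDefEq.respectTransparency false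
set_option linter.style.haveILetI false

universe u

open CategoryTheory Limits AlgebraicGeometry TopologicalSpace

namespace Groth.Agent.H7Lim.Chevalley

open Approx FPDescent

theorem isAffine_of_finite_fp_surjective {Y S : Scheme.{u}} [CompactSpace S] [QuasiSeparatedSpace S]
    (g : Y ⟶ S) [IsFinite g] [LocallyOfFinitePresentation g] [Surjective g] [IsAffine Y] : IsAffine S := by
  obtain ⟨S₀, q, hq, hS₀, hS₀t⟩ := exists_affineHom_finiteType S
  haveI := quasiSeparatedSpace_of_toZ S₀
  haveI : IsLocallyNoetherian S₀ := isLocallyNoetherian_of_toZ S₀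
  obtain ⟨hc⟩ := nonempty_isLimit_sysCone q
  haveI : ∀ i, CompactSpace ((sys q).obj i) := fun i ↦ inferInstanceAs (CompactSpace i.unop.spec)
  haveI : ∀ i, QuasiSeparatedSpace ((sys q).obj i) := fun i ↦
    inferInstanceAs (QuasiSeparatedSpace i.unop.spec)
  haveI : ∀ (i j : (FGSub q)ᵒᵖ) (a : i ⟶ j), IsAffineHom ((sys q).map a) := fun i j a ↦
    inferInstanceAs (IsAffineHom ((system q).map a).left)
  haveI : ∀ i, IsLocallyNoetherian ((sys q).obj i) := fun i ↦
    LocallyOfFiniteType.isLocallyNoetherian (i.unop.proj)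
  obtain ⟨k, ⟨M₀⟩⟩ := exists_model hc g
  -- finite at a stage
  haveI : CompactSpace M₀.P := QuasiCompact.compactSpace_of_compactSpace M₀.p
  haveI : QuasiSeparatedSpace M₀.P := quasiSeparatedSpace_of_quasiSeparated M₀.p
  haveI : LocallyOfFiniteType M₀.p := inferInstance
  obtain ⟨k₁, φ₁, h₁⟩ := descendsAffine_isFinite.descends _ (sys q) (sysCone q) hc k M₀.p inferInstance
    ((prop_iff_of_isPullback (P := @IsFinite) M₀.hpb).mp inferInstance)
  let M₁ := M₀.shift φ₁
  haveI : IsFinite M₁.p := h₁
  -- surjective at a stage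
  haveI : CompactSpace M₁.P := QuasiCompact.compactSpace_of_compactSpace M₁.p
  haveI : QuasiSeparatedSpace M₁.P := quasiSeparatedSpace_of_quasiSeparated M₁.p
  obtain ⟨k₂, φ₂, h₂⟩ := H06EGA8.descendsAffine_surjective.descends _ (sys q) (sysCone q) hc k₁ M₁.p M₁.lfp
    ((prop_iff_of_isPullback (P := @Surjective) M₁.hpb).mp inferInstance)
  let M₂ := M₁.shift φ₂
  haveI : Surjective M₂.p := h₂
  haveI : IsFinite M₂.p := MorphismProperty.pullback_snd _ _ h₁
  haveI : CompactSpace M₂.P := QuasiCompact.compactSpace_of_compactSpace M₂.p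
  haveI : QuasiSeparatedSpace M₂.P := quasiSeparatedSpace_of_quasiSeparated M₂.p
  -- affine source at a stage
  let D := pbDiagram (sys q) k₂ M₂.p
  haveI : ∀ j : Over k₂, CompactSpace (D.obj j) := fun j =>
    QuasiCompact.compactSpace_of_compactSpace (pullback.fst M₂.p ((sys q).map j.hom))
  haveI : ∀ j : Over k₂, QuasiSeparatedSpace (D.obj j) := fun j =>
    quasiSeparatedSpace_of_quasiSeparated (pullback.fst M₂.p ((sys q).map j.hom))
  haveI : ∀ (i j : Over k₂) (a : i ⟶ j), IsAffineHom (D.map a) := inferInstance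
  let cY := pbCone (sys q) (sysCone q) k₂ M₂.p
  haveI : IsAffine cY.pt := .of_isIso M₂.hpb.isoPullback.inv
  let Z := Spec (CommRingCat.of (ULift.{u} ℤ))
  let t : ∀ j, D.obj j ⟶ Z := fun j => specULiftZIsTerminal.from _
  haveI : IsAffine (((Functor.const _).obj cY.pt).obj (Over.mk (𝟙 k₂))) := ‹IsAffine cY.pt›
  haveI : IsAffineHom (cY.π.app (Over.mk (𝟙 k₂)) ≫ t _) := isAffineHom_of_isAffine _
  obtain ⟨j, hj⟩ := exists_isAffineHom_structureMap (c := cY) (isLimitPbCone (sys q) k₂ M₂.p hc) t
    (fun φ => specULiftZIsTerminal.hom_ext _ _) (Over.mk (𝟙 k₂))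
  haveI : IsAffineHom (t j) := hj j (𝟙 _)
  let a := pullback.snd M₂.p ((sys q).map j.hom)
  haveI : IsAffine (D.obj j) := isAffine_of_isAffineHom (t j)
  haveI : IsAffine (pullback M₂.p ((sys q).map j.hom)) := ‹IsAffine (D.obj j)›
  haveI : IsFinite a := MorphismProperty.pullback_snd _ _ ‹IsFinite M₂.p›
  haveI : Surjective a := MorphismProperty.pullback_snd _ _ h₂
  haveI : IsNoetherian ((sys q).obj j.left) := ⟨⟩
  haveI : IsAffine ((sys q).obj j.left) := LeadAff.isAffine_of_finite_surjective a
  haveI := isAffineHom_π_app (sys q) (sysCone q) hc j.left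
  exact isAffine_of_isAffineHom ((sysCone q).π.app j.left)

theorem isAffine_of_isIntegralHom_surjective {X S : Scheme.{u}} [CompactSpace S] [QuasiSeparatedSpace S]
    (f : X ⟶ S) [IsIntegralHom f] [Surjective f] [IsAffine X] : IsAffine S := by
  obtain ⟨I, _, _, _, D, c, hc, hfin, ⟨e⟩⟩ := exists_finite_fp_system f
  obtain ⟨hc'⟩ := nonempty_isLimit_forget hc
  haveI : ∀ i, IsFinite (D.obj i).hom := fun i => (hfin i).1
  haveI : ∀ (i j : Iᵒᵖ) (a : i ⟶ j), IsAffineHom ((D ⋙ Over.forget S).map a) := fun i j a => by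
    haveI : IsAffineHom ((D.map a).left ≫ (D.obj j).hom) := by rw [Over.w]; infer_instance
    exact IsAffineHom.of_comp (D.map a).left (D.obj j).hom
  haveI : ∀ i, CompactSpace ((D ⋙ Over.forget S).obj i) := fun i =>
    QuasiCompact.compactSpace_of_compactSpace (D.obj i).hom
  haveI : ∀ i, QuasiSeparatedSpace ((D ⋙ Over.forget S).obj i) := fun i =>
    quasiSeparatedSpace_of_quasiSeparated (D.obj i).hom
  let cF := (Over.forget S).mapCone c
  haveI : IsAffine (Over.mk f).left := ‹IsAffine X›
  haveI : IsIso e.hom.left := inferInstanceAs (IsIso ((Over.forget S).map e.hom))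
  haveI : IsAffine cF.pt := .of_isIso e.hom.left
  let Z := Spec (CommRingCat.of (ULift.{u} ℤ))
  let t : ∀ j, (D ⋙ Over.forget S).obj j ⟶ Z := fun j => specULiftZIsTerminal.from _
  let i₀ : Iᵒᵖ := Classical.arbitrary _
  haveI : IsAffine (((Functor.const _).obj cF.pt).obj i₀) := ‹IsAffine cF.pt›
  haveI : IsAffineHom (cF.π.app i₀ ≫ t i₀) := isAffineHom_of_isAffine _
  obtain ⟨i, hi⟩ := exists_isAffineHom_structureMap (c := cF) hc' t (fun φ => specULiftZIsTerminal.hom_ext _ _) i₀
  haveI : IsAffineHom (t i) := hi i (𝟙 _)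
  haveI : IsAffine (D.obj i).left := isAffine_of_isAffineHom (t i)
  haveI : Surjective c.pt.hom := by
    rw [← Over.w e.hom]
    haveI : Surjective (Over.mk f).hom := ‹Surjective f›
    infer_instance
  haveI : Surjective (D.obj i).hom := by
    haveI : Surjective ((c.π.app i).left ≫ (D.obj i).hom) := by rw [Over.w]; exact ‹Surjective c.pt.hom›
    exact Surjective.of_comp (c.π.app i).left (D.obj i).hom
  haveI : LocallyOfFinitePresentation (D.obj i).hom := (hfin i).2
  exact isAffine_of_finite_fp_surjective (D.obj i).hom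

theorem isAffine_of_universallyClosed_surjective {X S : Scheme.{u}} (f : X ⟶ S)
    [IsAffine X] [Surjective f] [UniversallyClosed f] : IsAffine S := by
  let Z := Spec (CommRingCat.of (ULift.{u} ℤ))
  let p : S ⟶ Z := specULiftZIsTerminal.from _
  haveI : IsAffineHom (f ≫ p) := isAffineHom_of_isAffine _
  haveI : IsSeparated p := H17.isSeparated_of_surjective_universallyClosed f p
  haveI : IsAffineHom f := IsAffineHom.of_comp f p
  haveI : IsIntegralHom f := IsIntegralHom.iff_universallyClosed_and_isAffineHom.mpr ⟨inferInstance, inferInstance⟩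
  haveI : CompactSpace S := ⟨by rw [← f.surjective.range_eq]; exact isCompact_range f.continuous⟩
  haveI : QuasiSeparatedSpace S := quasiSeparatedSpace_of_quasiSeparated p
  exact isAffine_of_isIntegralHom_surjective f

end Groth.Agent.H7Lim.Chevalley
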