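import Groth.Agent.H7Lim.DescendIso
import Groth.Agent.S4599
import Mathlib.AlgebraicGeometry.Morphisms.FormallyUnramified

/-!
# Descent of unramified morphisms
-/

set_option autoImplicit false
set_option backward.isDefEq.respectTransparency false
set_option backward.defeqAttrib.useBackward true

universe u

open CategoryTheory Limits AlgebraicGeometry MorphismProperty

namespace Groth.Agent.H7Lim

/-- Being unramified descends for morphisms locally of finite type. -/
theorem descendsAffine_formallyUnramified :
    DescendsAffine.{u} @FormallyUnramified @LocallyOfFiniteType := by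
  intro J _ _ E d hd _ _ e T a _ _ ha h
  have : LocallyOfFiniteType (pullback.snd a (d.π.app e)) := MorphismProperty.pullback_snd _ _ ha
  obtain ⟨j, φ, hj⟩ := descendsAffine_isOpenImmersion.descends.diagonal J E d hd e a
    (Groth.Agent.S4599.result a) (FormallyUnramified.isOpenImmersion_diagonal _)
  have : IsOpenImmersion (pullback.diagonal (pullback.snd a (E.map φ))) := hj
  exact ⟨j, φ, inferInstance⟩

end Groth.Agent.H7Lim

namespace Groth.Agent.H7Lim

/-- Cancellation for morphisms locally of finite presentation. -/
lemma locallyOfFinitePresentation_of_comp {X Y Z : Scheme.{u}} (f : X ⟶ Y) (g : Y ⟶ Z)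
    [LocallyOfFinitePresentation (f ≫ g)] [LocallyOfFiniteType g] :
    LocallyOfFinitePresentation f :=
  have : MorphismProperty.IsMultiplicative @LocallyOfFinitePresentation.{u} :=
    { id_mem := fun X ↦ inferInstanceAs (LocallyOfFinitePresentation (𝟙 X)) }
  have : MorphismProperty.HasOfPostcompProperty @LocallyOfFinitePresentation.{u}
      @LocallyOfFiniteType.{u} :=
    MorphismProperty.hasOfPostcompProperty_iff_le_diagonal.mpr fun _ _ g hg ↦
      Groth.Agent.S4599.result g
  MorphismProperty.of_postcomp _ f g ‹_› ‹_›

end Groth.Agent.H7Lim
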