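import Groth.Agent.H7Lim.IntegralApprox
import Mathlib.AlgebraicGeometry.ZariskisMainTheorem
import Mathlib.AlgebraicGeometry.Morphisms.Immersion
import Mathlib.AlgebraicGeometry.Morphisms.Integral

/-!
# Zariski's main theorem with a finite factor
-/

set_option autoImplicit false
set_option backward.isDefEq.respectTransparency false
set_option linter.style.haveILetI false

universe u

open CategoryTheory AlgebraicGeometry TopologicalSpace Limits

namespace Groth.Agent.H7Lim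

variable {N S : Scheme.{u}}

theorem finiteType_appLE_of_ι_comp (ν : N ⟶ S) {U : S.Opens} (hU : IsAffineOpen U) {D : N.Opens}
    (hD : IsAffineOpen D) (hDU : D ≤ ν ⁻¹ᵁ U) [LocallyOfFiniteType (D.ι ≫ ν)] :
    (ν.appLE U D hDU).hom.FiniteType := by
  haveI : IsAffine D.toScheme := hD
  have e : (⊤ : D.toScheme.Opens) ≤ (D.ι ≫ ν) ⁻¹ᵁ U := fun x _ => hDU x.2
  have h := (D.ι ≫ ν).finiteType_appLE hU (isAffineOpen_top D.toScheme) e
  have he : (⊤ : D.toScheme.Opens) ≤ D.ι ⁻¹ᵁ D := fun x _ => x.2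
  have h2 : (D.ι ≫ ν).appLE U ⊤ e = ν.appLE U D hDU ≫ D.ι.appLE D ⊤ he := by
    rw [Scheme.Hom.appLE_comp_appLE]
  haveI : IsIso (D.ι.appLE D ⊤ he) := by
    rw [show D.ι.appLE D ⊤ he = D.topIso.inv by simp [Scheme.Opens.ι_appLE, Scheme.Opens.topIso_inv]; rfl]
    infer_instance
  rw [h2, CommRingCat.hom_comp] at h
  exact (RingHom.finiteType_respectsIso.cancel_right_isIso (ν.appLE U D hDU) (D.ι.appLE D ⊤ he)).1 h

variable [CompactSpace S] [QuasiSeparatedSpace S]

/-- A quasi-compact open of finite type of an integral scheme over a qcqs base becomes an immersion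
into a finite finitely presented scheme over the base. -/
theorem exists_finFp_isImmersion (ν : N ⟶ S) [IsIntegralHom ν] (O : N.Opens) (hO : IsCompact (O : Set N))
    [LocallyOfFiniteType (O.ι ≫ ν)] :
    ∃ (P : Scheme.{u}) (p : P ⟶ S) (b : N ⟶ P), finFp p ∧ b ≫ p = ν ∧ IsImmersion (O.ι ≫ b) := by
  classical
  haveI : QuasiSeparatedSpace N := quasiSeparatedSpace_of_quasiSeparated ν
  obtain ⟨s, hs⟩ := isCompact_univ.elim_finite_subcover (fun U : S.affineOpens => ((U : S.Opens) : Set S))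
    (fun U => U.1.2) (fun x _ => by
      obtain ⟨U, hU, hx, -⟩ := exists_isAffineOpen_mem_and_subset (Set.mem_univ x) (U := (⊤ : S.Opens))
      exact Set.mem_iUnion.2 ⟨⟨U, hU⟩, hx⟩)
  have hG : ∀ U : S.affineOpens, ∃ G : Finset Γ(N, ν ⁻¹ᵁ U.1), (∀ g ∈ G, N.basicOpen g ≤ O) ∧
      ∀ x ∈ O, ν x ∈ U.1 → ∃ g ∈ G, x ∈ N.basicOpen g := by
    intro U
    have hA : IsAffineOpen (ν ⁻¹ᵁ U.1) := U.2.preimage ν
    have hc : IsCompact ((O ⊓ ν ⁻¹ᵁ U.1 : N.Opens) : Set N) :=
      QuasiSeparatedSpace.inter_isCompact _ _ O.2 hO (ν ⁻¹ᵁ U.1).2 hA.isCompact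
    obtain ⟨G, hG⟩ := hc.elim_finite_subcover
      (fun g : {g : Γ(N, ν ⁻¹ᵁ U.1) // N.basicOpen g ≤ O} => ((N.basicOpen g.1 : N.Opens) : Set N))
      (fun g => (N.basicOpen g.1).2) (by
        rintro x ⟨hxO, hxU⟩
        obtain ⟨g, hg, hxg⟩ := hA.exists_basicOpen_le (V := O) ⟨x, hxO⟩ hxU
        exact Set.mem_iUnion.2 ⟨⟨g, hg⟩, hxg⟩)
    refine ⟨G.image Subtype.val, fun g hg => ?_, fun x hx hxU => ?_⟩
    · obtain ⟨g', -, rfl⟩ := Finset.mem_image.1 hg
      exact g'.2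
    · obtain ⟨g, hg, hxg⟩ := Set.mem_iUnion₂.1 (hG ⟨hx, hxU⟩)
      exact ⟨g.1, Finset.mem_image_of_mem _ hg, hxg⟩
  choose G hGle hGcov using hG
  have hgen : ∀ (U : S.affineOpens) (g : Γ(N, ν ⁻¹ᵁ U.1)), ∃ C : Finset Γ(N, ν ⁻¹ᵁ U.1), N.basicOpen g ≤ O →
      ∀ (Q : Subring Γ(N, N.basicOpen g)),
      (∀ r : Γ(S, U.1), (N.presheaf.map (homOfLE (N.basicOpen_le g)).op) (ν.app U.1 r) ∈ Q) →
      (∀ c ∈ C, (N.presheaf.map (homOfLE (N.basicOpen_le g)).op) c ∈ Q) →
      (∀ y : Γ(N, N.basicOpen g), (N.presheaf.map (homOfLE (N.basicOpen_le g)).op) g * y = 1 → y ∈ Q) → Q = ⊤ := by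
    intro U g
    by_cases hgO : N.basicOpen g ≤ O
    swap
    · exact ⟨∅, fun h => absurd h hgO⟩
    have hA : IsAffineOpen (ν ⁻¹ᵁ U.1) := U.2.preimage ν
    have hD : IsAffineOpen (N.basicOpen g) := hA.basicOpen g
    haveI : LocallyOfFiniteType ((N.basicOpen g).ι ≫ ν) := by
      rw [← N.homOfLE_ι hgO, Category.assoc]
      infer_instance
    have hft := finiteType_appLE_of_ι_comp ν U.2 hD (N.basicOpen_le g)
    letI := (ν.appLE U.1 (N.basicOpen g) (N.basicOpen_le g)).hom.toAlgebra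
    obtain ⟨B, hB⟩ := (hft : Algebra.FiniteType Γ(S, U.1) Γ(N, N.basicOpen g)).out
    haveI := hA.isLocalization_basicOpen g
    choose n c hc using fun b : Γ(N, N.basicOpen g) => IsLocalization.Away.surj g b
    refine ⟨B.image c, fun _ Q hR hC hinv => ?_⟩
    rw [eq_top_iff]
    intro y hy'
    clear hy'
    have hy : y ∈ Algebra.adjoin Γ(S, U.1) (B : Set Γ(N, N.basicOpen g)) := hB ▸ Algebra.mem_top
    induction hy using Algebra.adjoin_induction with
    | mem b hb =>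
      obtain ⟨w, hw⟩ := IsLocalization.Away.algebraMap_isUnit (S := Γ(N, N.basicOpen g)) g
      have h1 : (↑w⁻¹ : Γ(N, N.basicOpen g)) ∈ Q := hinv _ (by
        show algebraMap Γ(N, ν ⁻¹ᵁ U.1) Γ(N, N.basicOpen g) g * _ = 1
        rw [← hw, Units.mul_inv])
      have h2 : algebraMap Γ(N, ν ⁻¹ᵁ U.1) Γ(N, N.basicOpen g) (c b) ∈ Q := hC _ (Finset.mem_image_of_mem c hb)
      have h3 : b = algebraMap Γ(N, ν ⁻¹ᵁ U.1) Γ(N, N.basicOpen g) (c b) * (↑w⁻¹ : Γ(N, N.basicOpen g)) ^ n b := by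
        rw [← hc b, ← hw, mul_assoc, ← mul_pow, Units.mul_inv, one_pow, mul_one]
      rw [h3]
      exact mul_mem h2 (pow_mem h1 _)
    | algebraMap r =>
      have h := hR r
      rwa [Scheme.Hom.app_eq_appLE, ← CommRingCat.comp_apply, Scheme.Hom.appLE_map] at h
    | add _ _ _ _ hx hy => exact add_mem hx hy
    | mul _ _ _ _ hx hy => exact mul_mem hx hy
  choose C hC using hgen
  let t : List (Σ U : S.affineOpens, Γ(N, ν ⁻¹ᵁ U.1)) :=
    (s.sigma fun U => G U ∪ (G U).biUnion (C U)).toList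
  obtain ⟨P, p, b, hp, hbp, hsec⟩ := exists_factor_sections (f := ν) t
  have hsecG : ∀ i : (U : s) × (G U.1), ∃ g' : Γ(P, p ⁻¹ᵁ i.1.1.1),
      ∃ h, b.appLE _ (ν ⁻¹ᵁ i.1.1.1) h g' = i.2.1 := by
    rintro ⟨⟨U, hU⟩, ⟨g, hg⟩⟩
    obtain ⟨h, c, hc⟩ := hsec ⟨U, g⟩ (Finset.mem_toList.2 (Finset.mem_sigma.2 ⟨hU, Finset.mem_union_left _ hg⟩))
    exact ⟨c, h, hc⟩
  choose g' hle hg' using hsecG
  let E : ((U : s) × (G U.1)) → P.Opens := fun i => P.basicOpen (g' i)
  let V : P.Opens := ⨆ i, E i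
  have hpre : ∀ i, b ⁻¹ᵁ E i = N.basicOpen (i.2 : Γ(N, ν ⁻¹ᵁ i.1.1.1)) := fun i => by
    rw [← hg' i, Scheme.basicOpen_appLE]
    refine (inf_eq_right.2 ?_).symm
    intro x hx
    have h1 : b x ∈ p ⁻¹ᵁ i.1.1.1 := P.basicOpen_le _ hx
    have h2 : (b ≫ p) x ∈ i.1.1.1 := h1
    rw [hbp] at h2
    exact h2
  have hOV : b ⁻¹ᵁ V = O := by
    refine le_antisymm (fun x hx => ?_) fun x hx => ?_
    · obtain ⟨i, hi⟩ := Opens.mem_iSup.1 (show b x ∈ ⨆ i, E i from hx)
      exact hGle i.1.1 i.2.1 i.2.2 ((hpre i).le hi)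
    · obtain ⟨U, hU, hxU⟩ := Set.mem_iUnion₂.1 (hs (Set.mem_univ (ν x)))
      obtain ⟨g, hg, hxg⟩ := hGcov U x hx hxU
      exact Opens.mem_iSup.2 ⟨⟨⟨U, hU⟩, ⟨g, hg⟩⟩, (hpre ⟨⟨U, hU⟩, ⟨g, hg⟩⟩).ge hxg⟩
  haveI : IsAffineHom p := by haveI := hp.1; infer_instance
  have hpiece : ∀ i, IsClosedImmersion (b ∣_ E i) := fun i => by
    have hE : IsAffineOpen (E i) := (i.1.1.2.preimage p).basicOpen (g' i)
    have hA : IsAffineOpen (b ⁻¹ᵁ E i) := by rw [hpre i]; exact (i.1.1.2.preimage ν).basicOpen _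
    haveI : IsAffine (E i).toScheme := hE
    haveI : IsAffine (b ⁻¹ᵁ E i).toScheme := hA
    refine (HasAffineProperty.iff_of_isAffine (P := @IsClosedImmersion)).2 ⟨inferInstance, ?_⟩
    rw [morphismRestrict_appTop]
    have key : ∀ F, F = E i → Function.Surjective (b.app F) := by
      rintro F rfl
      have main : ∀ (D : N.Opens) (hD : D = N.basicOpen (i.2 : Γ(N, ν ⁻¹ᵁ i.1.1.1))) (e : D ≤ b ⁻¹ᵁ E i),
          Function.Surjective (b.appLE (E i) D e) := by
        rintro D rfl e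
        have htop := hC i.1.1 i.2.1 (hGle i.1.1 i.2.1 i.2.2) (b.appLE (E i) _ e).hom.range ?_ ?_ ?_
        · exact fun y => (htop.ge (show y ∈ (⊤ : Subring _) from trivial) : y ∈ (b.appLE (E i) _ e).hom.range)
        · intro r
          refine ⟨p.appLE i.1.1.1 (E i) (P.basicOpen_le (g' i)) r, ?_⟩
          show (b.appLE (E i) _ e) (p.appLE i.1.1.1 (E i) (P.basicOpen_le (g' i)) r) = _
          rw [← CommRingCat.comp_apply, Scheme.Hom.appLE_comp_appLE, ← CommRingCat.comp_apply,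
            Scheme.Hom.app_eq_appLE, Scheme.Hom.appLE_map]
          subst hbp
          rfl
        · intro c hc
          obtain ⟨h, d, hd⟩ := hsec ⟨i.1.1, c⟩ (Finset.mem_toList.2 (Finset.mem_sigma.2
            ⟨i.1.2, Finset.mem_union_right _ (Finset.mem_biUnion.2 ⟨i.2.1, i.2.2, hc⟩)⟩))
          refine ⟨P.presheaf.map (homOfLE (P.basicOpen_le (g' i))).op d, ?_⟩
          replace hd : b.appLE _ _ h d = c := hd
          conv_rhs => rw [← hd]
          show (b.appLE (E i) _ e) ((P.presheaf.map (homOfLE (P.basicOpen_le (g' i))).op) d) = _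
          rw [← CommRingCat.comp_apply, ← CommRingCat.comp_apply, Scheme.Hom.map_appLE,
            Scheme.Hom.appLE_map]
        · intro y hy
          haveI := (i.1.1.2.preimage p).isLocalization_basicOpen (g' i)
          obtain ⟨w, hw⟩ := IsLocalization.Away.algebraMap_isUnit (S := Γ(P, P.basicOpen (g' i))) (g' i)
          refine ⟨(↑w⁻¹ : Γ(P, P.basicOpen (g' i))), ?_⟩
          have h1 : (b.appLE (E i) _ e).hom (w : Γ(P, P.basicOpen (g' i))) =
              (N.presheaf.map (homOfLE (N.basicOpen_le (i.2 : Γ(N, ν ⁻¹ᵁ i.1.1.1)))).op) i.2.1 := by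
            rw [hw]
            show (b.appLE (E i) _ e) ((P.presheaf.map (homOfLE (P.basicOpen_le (g' i))).op) (g' i)) = _
            rw [← CommRingCat.comp_apply, Scheme.Hom.map_appLE]
            refine Eq.trans ?_ (congrArg (fun z => (N.presheaf.map
              (homOfLE (N.basicOpen_le (i.2 : Γ(N, ν ⁻¹ᵁ i.1.1.1)))).op) z) (hg' i))
            rw [← CommRingCat.comp_apply, Scheme.Hom.appLE_map]
          refine (left_inv_eq_right_inv ?_ hy)
          rw [← h1, ← map_mul, Units.inv_mul, map_one]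
      rw [Scheme.Hom.app_eq_appLE]
      exact main _ (hpre i) le_rfl
    intro y
    obtain ⟨z, hz⟩ := ((ConcreteCategory.isIso_iff_bijective
      (N.presheaf.map (eqToHom (image_morphismRestrict_preimage b (E i) ⊤)).op)).1 inferInstance).2 y
    obtain ⟨w, hw⟩ := key _ (by rw [Scheme.Hom.image_top_eq_opensRange, Scheme.Opens.opensRange_ι]) z
    refine ⟨w, ?_⟩
    rw [← hz, ← hw]
    rfl
  haveI : IsClosedImmersion (b ∣_ V) := by
    refine IsZariskiLocalAtTarget.of_iSup_eq_top (fun i => V.ι ⁻¹ᵁ E i) (top_le_iff.1 fun x _ => ?_) fun i => ?_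
    · obtain ⟨i, hi⟩ := Opens.mem_iSup.1 (show x.1 ∈ ⨆ i, E i from x.2)
      exact Opens.mem_iSup.2 ⟨i, hi⟩
    rw [MorphismProperty.arrow_mk_iso_iff (P := @IsClosedImmersion) (morphismRestrictRestrict b V _)]
    have : V.ι ''ᵁ (V.ι ⁻¹ᵁ E i) = E i := by
      simp only [Scheme.Hom.image_preimage_eq_opensRange_inf, Scheme.Opens.opensRange_ι]
      exact inf_eq_right.mpr (le_iSup E i)
    rw [MorphismProperty.arrow_mk_iso_iff (P := @IsClosedImmersion) (morphismRestrictEq b this)]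
    exact hpiece i
  refine ⟨P, p, b, hp, hbp, ?_⟩
  have heq : O.ι ≫ b = (N.isoOfEq hOV.symm).hom ≫ (b ∣_ V) ≫ V.ι := by
    rw [morphismRestrict_ι, Scheme.isoOfEq_hom_ι_assoc]
  rw [heq]
  infer_instance

/-- Zariski's main theorem: a quasi-finite separated morphism is a quasi-compact open immersion followed
by a finite morphism. -/
theorem exists_openImmersion_finite {X : Scheme.{u}} (f : X ⟶ S) [LocallyQuasiFinite f] [LocallyOfFiniteType f]
    [QuasiCompact f] [IsSeparated f] :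
    ∃ (T : Scheme.{u}) (j : X ⟶ T) (π : T ⟶ S), IsOpenImmersion j ∧ QuasiCompact j ∧ IsFinite π ∧ j ≫ π = f := by
  let a := f.toNormalization
  let ν := f.fromNormalization
  haveI : CompactSpace X := QuasiCompact.compactSpace_of_compactSpace f
  let e := a.isoOpensRange
  have he : a.opensRange.ι ≫ ν = e.inv ≫ f := by
    rw [← cancel_epi e.hom, Iso.hom_inv_id_assoc, Scheme.Hom.isoOpensRange_hom_ι_assoc]
    exact f.toNormalization_fromNormalization
  haveI : LocallyOfFiniteType (a.opensRange.ι ≫ ν) := by rw [he]; infer_instance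
  obtain ⟨P, p, b, hp, hbp, himm⟩ := exists_finFp_isImmersion ν a.opensRange (by
    rw [Scheme.Hom.coe_opensRange]; exact isCompact_range a.continuous)
  haveI := hp.1
  have hab : a ≫ b = e.hom ≫ a.opensRange.ι ≫ b := by rw [Scheme.Hom.isoOpensRange_hom_ι_assoc]
  haveI : IsImmersion (a ≫ b) := by rw [hab]; infer_instance
  have hcomp : (a ≫ b) ≫ p = f := by rw [Category.assoc, hbp]; exact f.toNormalization_fromNormalization
  haveI : QuasiCompact ((a ≫ b) ≫ p) := by rw [hcomp]; infer_instance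
  haveI : QuasiCompact (a ≫ b) := QuasiCompact.of_comp (a ≫ b) p
  exact ⟨_, (a ≫ b).toImage, (a ≫ b).imageι ≫ p, inferInstance, inferInstance, inferInstance,
    by rw [Scheme.Hom.toImage_imageι_assoc, hcomp]⟩

end Groth.Agent.H7Lim
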