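import Mathlib.AlgebraicGeometry.AffineTransitionLimit

/-!
# Cofiltered limits of schemes with affine transition maps: base change and emptiness
-/

set_option autoImplicit false
set_option backward.isDefEq.respectTransparency false
set_option backward.defeqAttrib.useBackward true

universe u

open CategoryTheory Limits AlgebraicGeometry

namespace Groth.Agent.H7Lim

variable {I : Type u} [Category.{u} I] (D : I ⥤ Scheme.{u}) (c : Cone D)

section pb

variable (i : I) {T : Scheme.{u}} (a : T ⟶ D.obj i)

/-- `j ↦ T ×_{D i} D j`, for `j` over `i`. -/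
@[simps]
noncomputable def pbDiagram : Over i ⥤ Scheme.{u} where
  obj j := pullback a (D.map j.hom)
  map {j k} f := pullback.map _ _ _ _ (𝟙 T) (D.map f.left) (𝟙 _) (by simp)
    (by simp [← D.map_comp])
  map_id j := by apply pullback.hom_ext <;> simp
  map_comp f g := by apply pullback.hom_ext <;> simp

/-- The projection to the original diagram. -/
@[simps]
noncomputable def pbSnd : pbDiagram D i a ⟶ Over.forget i ⋙ D where
  app j := pullback.snd _ _
  naturality j k f := by simp

/-- The projection to `T`. -/
@[simps]
noncomputable def pbFst : pbDiagram D i a ⟶ (Functor.const (Over i)).obj T where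
  app j := pullback.fst _ _
  naturality j k f := by simp

/-- The base changed cone. -/
@[simps]
noncomputable def pbCone : Cone (pbDiagram D i a) where
  pt := pullback a (c.π.app i)
  π :=
  { app j := pullback.map _ _ _ _ (𝟙 T) (c.π.app j.left) (𝟙 _) (by simp) (by simp)
    naturality j k f := by apply pullback.hom_ext <;> simp }

variable {c}

attribute [local instance] CategoryTheory.isConnected_of_hasTerminal

/-- Base change commutes with cofiltered limits. -/
noncomputable def isLimitPbCone [IsCofiltered I] (hc : IsLimit c) :
    IsLimit (pbCone D c i a) :=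
  isLimitOfIsPullbackOfIsConnected (pbSnd D i a) (pbCone D c i a) _
    (by exact { hom := pullback.snd a (c.π.app i) })
    (fun j ↦ (IsPullback.of_right (h₁₂ := pullback.fst a (D.map j.hom))
        (h₂₂ := D.map j.hom) (v₁₃ := a)
        (by simpa using IsPullback.of_hasPullback a (c.π.app i)) (by simp)
        (IsPullback.of_hasPullback a (D.map j.hom))))
    ((Functor.Initial.isLimitWhiskerEquiv (Over.forget i) c).symm hc)

omit c in
lemma isPullback_pbDiagram_map {j k : Over i} (f : j ⟶ k) :
    IsPullback ((pbDiagram D i a).map f) (pullback.snd a (D.map j.hom))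
      (pullback.snd a (D.map k.hom)) (D.map f.left) :=
  IsPullback.of_right (h₁₂ := pullback.fst a (D.map k.hom)) (h₂₂ := D.map k.hom) (v₁₃ := a)
    (by simpa [← D.map_comp] using IsPullback.of_hasPullback a (D.map j.hom)) (by simp)
    (IsPullback.of_hasPullback a (D.map k.hom))

variable [∀ (i j : I) (f : i ⟶ j), IsAffineHom (D.map f)]

omit c in
instance isAffineHom_pbDiagram_map (j k : Over i) (f : j ⟶ k) :
    IsAffineHom ((pbDiagram D i a).map f) :=
  MorphismProperty.of_isPullback (P := @IsAffineHom) (isPullback_pbDiagram_map D i a f).flip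
    inferInstance

omit c in
instance compactSpace_pbDiagram_obj [CompactSpace T] (j : Over i) :
    CompactSpace ((pbDiagram D i a).obj j) :=
  QuasiCompact.compactSpace_of_compactSpace (pullback.fst a (D.map j.hom))

omit c in
instance quasiSeparatedSpace_pbDiagram_obj [QuasiSeparatedSpace T] (j : Over i) :
    QuasiSeparatedSpace ((pbDiagram D i a).obj j) :=
  quasiSeparatedSpace_of_quasiSeparated (pullback.fst a (D.map j.hom))

/-- If `T ×_{D i} lim D` is empty for a quasi-compact `T`, it is empty at some stage. -/
lemma exists_isEmpty_pullback [IsCofiltered I] (hc : IsLimit c) [CompactSpace T]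
    (h : IsEmpty ↥(pullback a (c.π.app i))) :
    ∃ (j : I) (φ : j ⟶ i), IsEmpty ↥(pullback a (D.map φ)) := by
  by_contra! H
  have : ∀ j : Over i, Nonempty ((pbDiagram D i a).obj j) := fun j ↦ H j.left j.hom
  have := Scheme.nonempty_of_isLimit (pbDiagram D i a) _ (isLimitPbCone D i a hc)
  exact h.elim this.some

end pb

variable [∀ (i j : I) (f : i ⟶ j), IsAffineHom (D.map f)]

omit c in
lemma compactSpace_of_hom {i j : I} (φ : j ⟶ i) [CompactSpace (D.obj i)] :
    CompactSpace (D.obj j) :=
  QuasiCompact.compactSpace_of_compactSpace (D.map φ)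

omit c in
lemma quasiSeparatedSpace_of_hom {i j : I} (φ : j ⟶ i) [QuasiSeparatedSpace (D.obj i)] :
    QuasiSeparatedSpace (D.obj j) :=
  quasiSeparatedSpace_of_quasiSeparated (D.map φ)

end Groth.Agent.H7Lim
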