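import Groth.Agent.H7Lim.Connected
import Groth.Agent.H7Lim.Basic
import Groth.Agent.H06Geom.Components
import Mathlib.AlgebraicGeometry.Geometrically.Connected
import Mathlib.AlgebraicGeometry.Morphisms.UniversallyInjective
import Mathlib.AlgebraicGeometry.Morphisms.Integral
import Mathlib.FieldTheory.SeparableClosure
import Mathlib.FieldTheory.PurelyInseparable.Basic
import Mathlib.FieldTheory.IsAlgClosed.AlgebraicClosure

/-!
# Geometric connectedness is tested on finite separable extensions
-/

set_option autoImplicit false
set_option linter.style.haveILetI false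
set_option backward.isDefEq.respectTransparency false
universe u

open CategoryTheory CategoryTheory.Limits AlgebraicGeometry Opposite TopologicalSpace

namespace Groth.Agent.H7Lim.GeomConnFinite

variable (k : Type u) [Field k] (K : Type u) [Field K] [Algebra k K]

/-- Spectra of purely inseparable extensions are universally injective. -/
theorem universallyInjective_SpecMap [IsPurelyInseparable k K] :
    UniversallyInjective (Spec.map (CommRingCat.ofHom (algebraMap k K))) := by
  refine ((tfae_universallyInjective _).out 0 1).mpr ?_
  intro F hF g₁ g₂ h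
  obtain ⟨a, rfl⟩ := Spec.map_surjective g₁
  obtain ⟨b, rfl⟩ := Spec.map_surjective g₂
  dsimp only at h
  rw [← Spec.map_comp, ← Spec.map_comp] at h
  have h' := congrArg CommRingCat.Hom.hom (Spec.map_injective h)
  exact congrArg Spec.map (CommRingCat.hom_ext
    (IsPurelyInseparable.injective_comp_algebraMap k K F h'))

/-- A pullback square stays one after composing both legs with a monomorphism. -/
theorem isPullback_comp_mono {P A B S T : Scheme.{u}} {p : P ⟶ A} {q : P ⟶ B} {f : A ⟶ S} {g : B ⟶ S}
    (h : IsPullback p q f g) (v : S ⟶ T) [Mono v] : IsPullback p q (f ≫ v) (g ≫ v) :=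
  IsPullback.of_isLimit' ⟨h.w_assoc v⟩ (PullbackCone.IsLimit.mk _
    (fun s => h.lift s.fst s.snd ((cancel_mono v).mp (by simpa using s.condition)))
    (fun _ => h.lift_fst _ _ _) (fun _ => h.lift_snd _ _ _)
    (fun s m h1 h2 => h.hom_ext (h1.trans (h.lift_fst _ _ _).symm) (h2.trans (h.lift_snd _ _ _).symm)))

/-- The finitely generated subfields. -/
noncomputable def fieldFunctor : Finset K ⥤ CommRingCat.{u} where
  obj s := CommRingCat.of (IntermediateField.adjoin k (s : Set K))
  map {_ _} h := CommRingCat.ofHom
    (IntermediateField.inclusion (IntermediateField.adjoin.mono k _ _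
      (by exact_mod_cast leOfHom h))).toRingHom
  map_id _ := rfl
  map_comp _ _ := rfl

/-- The cocone on `K`. -/
noncomputable def fieldCocone : Cocone (fieldFunctor k K) where
  pt := CommRingCat.of K
  ι := { app := fun s => CommRingCat.ofHom (IntermediateField.adjoin k (s : Set K)).val.toRingHom
         naturality := fun _ _ _ => rfl }

/-- `K` is the colimit of its finitely generated subfields. -/
noncomputable def fieldIsColimit : IsColimit (fieldCocone k K) := by
  classical
  let mem : ∀ b : K, b ∈ IntermediateField.adjoin k ((({b} : Finset K)) : Set K) := fun b =>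
    IntermediateField.subset_adjoin _ _ (by simp)
  have any : ∀ (c : Cocone (fieldFunctor k K)) (s : Finset K) (b : K)
      (hb : b ∈ IntermediateField.adjoin k (s : Set K)),
      (c.ι.app s).hom ⟨b, hb⟩ = (c.ι.app {b}).hom ⟨b, mem b⟩ := by
    intro c s b hb
    have h1 := congrArg (fun g => g.hom ⟨b, hb⟩) (c.w (homOfLE (Finset.subset_union_left : s ≤ s ∪ {b})))
    have h2 := congrArg (fun g => g.hom ⟨b, mem b⟩) (c.w (homOfLE (Finset.subset_union_right : {b} ≤ s ∪ {b})))
    exact h1.symm.trans h2
  refine
    { desc := fun c => CommRingCat.ofHom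
        { toFun := fun b => (c.ι.app {b}).hom ⟨b, mem b⟩
          map_one' := by
            rw [← any c {1} 1 (one_mem _)]
            exact (c.ι.app {1}).hom.map_one
          map_zero' := by
            rw [← any c {0} 0 (zero_mem _)]
            exact (c.ι.app {0}).hom.map_zero
          map_mul' := fun a b => by
            have ha : a ∈ IntermediateField.adjoin k (({a, b} : Finset K) : Set K) :=
              IntermediateField.subset_adjoin _ _ (by simp)
            have hb : b ∈ IntermediateField.adjoin k (({a, b} : Finset K) : Set K) :=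
              IntermediateField.subset_adjoin _ _ (by simp)
            rw [← any c {a, b} (a * b) (mul_mem ha hb), ← any c {a, b} a ha, ← any c {a, b} b hb]
            exact (c.ι.app {a, b}).hom.map_mul ⟨a, ha⟩ ⟨b, hb⟩
          map_add' := fun a b => by
            have ha : a ∈ IntermediateField.adjoin k (({a, b} : Finset K) : Set K) :=
              IntermediateField.subset_adjoin _ _ (by simp)
            have hb : b ∈ IntermediateField.adjoin k (({a, b} : Finset K) : Set K) :=
              IntermediateField.subset_adjoin _ _ (by simp)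
            rw [← any c {a, b} (a + b) (add_mem ha hb), ← any c {a, b} a ha, ← any c {a, b} b hb]
            exact (c.ι.app {a, b}).hom.map_add ⟨a, ha⟩ ⟨b, hb⟩ }
      fac := fun c s => CommRingCat.hom_ext (RingHom.ext fun x => (any c s x.1 x.2).symm)
      uniq := fun c m hm => CommRingCat.hom_ext (RingHom.ext fun b => ?_) }
  exact congrArg (fun g => g.hom ⟨b, mem b⟩) (hm {b})

variable {k} {X : Scheme.{u}} (f : X ⟶ Spec (CommRingCat.of k))

set_option maxHeartbeats 600000 in
/-- Connectedness over all finite separable extensions gives connectedness over the algebraic closure. -/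
theorem preconnectedSpace_algClosure [CompactSpace X]
    (h : ∀ (K : Type u) [Field K] [Algebra k K] [Module.Finite k K] [Algebra.IsSeparable k K],
      ConnectedSpace ↑(pullback f (Spec.map (CommRingCat.ofHom (algebraMap k K))))) :
    PreconnectedSpace ↑(pullback f (Spec.map (CommRingCat.ofHom (algebraMap k (AlgebraicClosure k))))) := by
  classical
  set Ω := AlgebraicClosure k
  haveI : Nonempty (Finset Ω) := ⟨∅⟩
  let D : (Finset Ω)ᵒᵖ ⥤ Scheme.{u} := (fieldFunctor k Ω).op ⋙ Scheme.Spec
  let c : Cone D := Scheme.Spec.mapCone (fieldCocone k Ω).op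
  have hc : IsLimit c := isLimitOfPreserves Scheme.Spec (fieldIsColimit k Ω).op
  haveI : ∀ (i j : (Finset Ω)ᵒᵖ) (φ : i ⟶ j), IsAffineHom (D.map φ) := fun i j φ =>
    inferInstanceAs (IsAffineHom (Spec.map _))
  let i₀ : (Finset Ω)ᵒᵖ := op ∅
  let g : ∀ j : (Finset Ω)ᵒᵖ, D.obj j ⟶ Spec (CommRingCat.of k) := fun j =>
    Spec.map (CommRingCat.ofHom (algebraMap k (IntermediateField.adjoin k ((unop j : Finset Ω) : Set Ω))))
  haveI : IsIso (g i₀) := by
    have hb : Function.Bijective
        (algebraMap k (IntermediateField.adjoin k ((unop i₀ : Finset Ω) : Set Ω))) := by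
      refine ⟨RingHom.injective _, fun x => ?_⟩
      obtain ⟨y, hy⟩ := IntermediateField.mem_bot.mp
        ((show IntermediateField.adjoin k (((∅ : Finset Ω) : Set Ω)) = ⊥ by simp).le x.2)
      exact ⟨y, Subtype.ext hy⟩
    haveI : IsIso (CommRingCat.ofHom
        (algebraMap k (IntermediateField.adjoin k ((unop i₀ : Finset Ω) : Set Ω)))) :=
      (ConcreteCategory.isIso_iff_bijective _).mpr hb
    exact inferInstanceAs (IsIso (Spec.map _))
  let a : X ⟶ D.obj i₀ := f ≫ inv (g i₀)
  let P := pbDiagram D i₀ a
  let C := pbCone D c i₀ a
  have hC : IsLimit C := isLimitPbCone D i₀ a hc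
  have hsub : ∀ j, Subsingleton (D.obj j) := fun j =>
    inferInstanceAs (Subsingleton (PrimeSpectrum
      (IntermediateField.adjoin k ((unop j : Finset Ω) : Set Ω))))
  have hne : ∀ j, Nonempty (D.obj j) := fun j =>
    inferInstanceAs (Nonempty (PrimeSpectrum
      (IntermediateField.adjoin k ((unop j : Finset Ω) : Set Ω))))
  -- all stages are connected, with surjective transition maps
  have hcomp : ∀ (j : Over i₀), D.map j.hom = g j.left ≫ inv (g i₀) := fun j => by
    rw [IsIso.eq_comp_inv]
    exact (Spec.map_comp _ _).symm.trans rfl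
  have hconn : ∀ j : Over i₀, PreconnectedSpace (P.obj j) := fun j => by
    let L := IntermediateField.adjoin k ((unop j.left : Finset Ω) : Set Ω)
    haveI : Module.Finite k L := IntermediateField.finiteDimensional_adjoin fun x _ =>
      (Algebra.IsAlgebraic.isAlgebraic (R := k) x).isIntegral
    let Ls := separableClosure k L
    let sL := Spec.map (CommRingCat.ofHom (algebraMap Ls L))
    let sk := Spec.map (CommRingCat.ofHom (algebraMap k Ls))
    haveI := universallyInjective_SpecMap Ls L
    haveI : IsIntegralHom sL := (IsIntegralHom.SpecMap_iff).mpr (algebraMap_isIntegral_iff.mpr inferInstance)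
    haveI : Surjective sL := ⟨fun x => ⟨IsLocalRing.closedPoint L, Subsingleton.elim _ _⟩⟩
    have e : sL ≫ sk = g j.left := by
      simp only [g, sL, sk]
      rw [← Spec.map_comp, ← CommRingCat.ofHom_comp, ← IsScalarTower.algebraMap_eq]
    let q : pullback a (D.map j.hom) ⟶ pullback f sk :=
      pullback.lift (pullback.fst _ _) (pullback.snd _ _ ≫ sL) (by
        rw [← cancel_mono (inv (g i₀)), Category.assoc, Category.assoc, Category.assoc,
          show f ≫ inv (g i₀) = a from rfl, pullback.condition, hcomp j, ← e, Category.assoc])
    have hq : IsPullback q (pullback.snd a (D.map j.hom)) (pullback.snd f sk) sL := by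
      refine IsPullback.of_right (h₁₂ := pullback.fst f sk ) (h₂₂ := sk ≫ inv (g i₀)) (v₁₃ := a) ?_
        (pullback.lift_snd _ _ _) (isPullback_comp_mono (IsPullback.of_hasPullback f sk) _)
      rw [← Category.assoc sL, e, ← hcomp j, pullback.lift_fst]
      exact IsPullback.of_hasPullback a (D.map j.hom)
    haveI : UniversallyInjective q := MorphismProperty.of_isPullback hq.flip inferInstance
    haveI : Surjective q := MorphismProperty.of_isPullback hq.flip inferInstance
    haveI : IsIntegralHom q := MorphismProperty.of_isPullback hq.flip inferInstance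
    have hh : IsHomeomorph q := by
      rw [isHomeomorph_iff_continuous_isClosedMap_bijective]
      exact ⟨q.continuous, q.isClosedMap, q.injective, q.surjective⟩
    haveI := h Ls
    haveI : PreconnectedSpace ↥(pullback f sk) := inferInstanceAs (PreconnectedSpace ↥(pullback f _))
    exact hh.homeomorph.symm.surjective.denseRange.preconnectedSpace hh.homeomorph.symm.continuous
  haveI : CompactSpace (P.obj (Over.mk (𝟙 i₀))) := inferInstance
  have hp := preconnectedSpace_pt hC (Over.mk (𝟙 i₀)) (fun l m e => ?_) fun j _ => hconn j
  · let e₁ : pullback f (Spec.map (CommRingCat.ofHom (algebraMap k Ω))) ≅ C.pt := by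
      refine IsPullback.isoPullback (P := pullback f (Spec.map (CommRingCat.ofHom (algebraMap k Ω))))
        (fst := pullback.fst _ _) (snd := pullback.snd _ _) ?_
      have e : c.π.app i₀ = Spec.map (CommRingCat.ofHom (algebraMap k Ω)) ≫ inv (g i₀) := by
        rw [IsIso.eq_comp_inv]
        exact (Spec.map_comp _ _).symm.trans rfl
      rw [e]
      exact isPullback_comp_mono (IsPullback.of_hasPullback f _) _
    exact e₁.inv.homeomorph.surjective.denseRange.preconnectedSpace e₁.inv.homeomorph.continuous
  · haveI : Surjective (P.map e) := MorphismProperty.of_isPullback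
      (isPullback_pbDiagram_map D i₀ a e).flip
      (show Surjective (D.map e.left) from
        ⟨fun x => ⟨(Classical.choice (hne l.left)), @Subsingleton.elim _ (hsub m.left) _ _⟩⟩)
    exact ⟨(P.map e).surjective.denseRange⟩

/-- **Geometric connectedness is tested on finite separable extensions.** -/
theorem geometricallyConnected_iff_forall_finite_separable [CompactSpace X] :
    GeometricallyConnected f ↔
      ∀ (K : Type u) [Field K] [Algebra k K] [Module.Finite k K] [Algebra.IsSeparable k K],
        ConnectedSpace ↑(pullback f (Spec.map (CommRingCat.ofHom (algebraMap k K)))) := by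
  refine ⟨fun hg K _ _ _ _ => pullback_of_geometrically hg.geometrically_connectedSpace K _, fun h => ?_⟩
  haveI := preconnectedSpace_algClosure f h
  haveI : Nonempty X := ((h k).toNonempty.map (pullback.fst f (Spec.map (CommRingCat.ofHom (algebraMap k k)))))
  haveI : Nonempty ↥(FBase.bc f (AlgebraicClosure k)) :=
    ⟨(MorphismProperty.pullback_fst (P := @Surjective) f
      (Spec.map (CommRingCat.ofHom (algebraMap k (AlgebraicClosure k)))) inferInstance).surj
      (Classical.arbitrary X) |>.choose⟩
  refine ⟨geometrically_iff_of_isClosedUnderIsomorphisms.mpr fun K _ x => ?_⟩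
  obtain ⟨φ, rfl⟩ := Spec.map_surjective x
  letI := φ.hom.toAlgebra
  have := H06Geom.isConnected_preimage_of_algClosure f (Z := Set.univ) ?_ K
  · rw [Set.preimage_univ] at this
    exact connectedSpace_iff_univ.mpr this
  · rw [Set.preimage_univ]
    haveI : PreconnectedSpace ↥(FBase.bc f (AlgebraicClosure k)) := ‹PreconnectedSpace _›
    exact connectedSpace_iff_univ.mp ⟨inferInstance⟩

end Groth.Agent.H7Lim.GeomConnFinite
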