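import Groth.Agent.H7Lim.Birational

/-!
# Zariski's main theorem at a normal point for birational morphisms
-/

set_option autoImplicit false
set_option backward.isDefEq.respectTransparency false
set_option linter.style.haveILetI false

universe u

open CategoryTheory Limits AlgebraicGeometry TopologicalSpace

namespace Groth.Agent.H7Lim

/-- A birational algebra of finite type, quasi-finite at a prime over a normal point, is a
localization near that point. -/
theorem exists_away_of_birational {A B : Type u} [CommRing A] [CommRing B] [IsDomain A] [IsDomain B]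
    [Algebra A B] [Algebra.FiniteType A B] (hinj : Function.Injective (algebraMap A B))
    (hbir : ∀ b : B, ∃ (a s : A), s ≠ 0 ∧ algebraMap A B s * b = algebraMap A B a)
    (q : Ideal B) [q.IsPrime] [Algebra.QuasiFiniteAt A q]
    [IsIntegrallyClosed (Localization.AtPrime (q.comap (algebraMap A B)))] :
    ∃ s : A, s ∉ q.comap (algebraMap A B) ∧
      ∀ b : B, ∃ (n : ℕ) (a : A), algebraMap A B s ^ n * b = algebraMap A B a := by
  classical
  let p := q.comap (algebraMap A B)
  have hp : p.primeCompl ≤ nonZeroDivisors A := Ideal.primeCompl_le_nonZeroDivisors _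
  let ι : A →+* FractionRing A := algebraMap _ _
  have hunit : ∀ y : p.primeCompl, IsUnit (ι y) := fun y ↦
    IsLocalization.map_units (FractionRing A) ⟨y.1, hp y.2⟩
  let _ : Algebra (Localization.AtPrime p) (FractionRing A) :=
    (IsLocalization.lift (M := p.primeCompl) hunit).toAlgebra
  have : IsScalarTower A (Localization.AtPrime p) (FractionRing A) :=
    .of_algebraMap_eq fun x ↦ (IsLocalization.lift_eq hunit x).symm
  have : IsFractionRing (Localization.AtPrime p) (FractionRing A) :=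
    IsFractionRing.isFractionRing_of_isDomain_of_isLocalization p.primeCompl _ _
  let g : FractionRing A →+* FractionRing B :=
    IsFractionRing.lift (K := FractionRing A)
      (g := (algebraMap B (FractionRing B)).comp (algebraMap A B))
      ((IsFractionRing.injective B (FractionRing B)).comp hinj)
  have hg (x : A) : g (ι x) = algebraMap B (FractionRing B) (algebraMap A B x) :=
    IsFractionRing.lift_algebraMap _ x
  -- integral elements have denominators prime to `q`
  have key : ∀ b : B, IsIntegral A b → ∃ t : A, t ∉ p ∧ ∃ a, algebraMap A B t * b = algebraMap A B a := by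
    intro b hb
    obtain ⟨a, s, hs, hsb⟩ := hbir b
    have hs' : ι s ≠ 0 := (map_ne_zero_iff _ (IsFractionRing.injective A (FractionRing A))).mpr hs
    have hx : g (ι a / ι s) = algebraMap B (FractionRing B) b := by
      rw [map_div₀, hg, hg, ← hsb, map_mul, mul_div_cancel_left₀]
      rw [← hg]
      exact (map_ne_zero g).mpr hs'
    have hint : IsIntegral A (ι a / ι s) := by
      obtain ⟨P, hP, hP'⟩ := hb
      refine ⟨P, hP, g.injective ?_⟩
      rw [Polynomial.hom_eval₂, map_zero, hx]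
      have h1 := congrArg (algebraMap B (FractionRing B)) hP'
      rw [Polynomial.hom_eval₂, map_zero] at h1
      convert h1 using 2
      exact RingHom.ext hg
    obtain ⟨z, hz⟩ := IsIntegrallyClosed.isIntegral_iff.mp
      (hint.tower_top (A := Localization.AtPrime p))
    obtain ⟨c, t, rfl⟩ := IsLocalization.exists_mk'_eq p.primeCompl z
    refine ⟨t, t.2, c, IsFractionRing.injective B (FractionRing B) ?_⟩
    have h2 : ι t * (ι a / ι s) = ι c := by
      rw [← hz]
      show algebraMap A (FractionRing A) t * _ = algebraMap A (FractionRing A) c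
      rw [IsScalarTower.algebraMap_apply A (Localization.AtPrime p) (FractionRing A),
        IsScalarTower.algebraMap_apply A (Localization.AtPrime p) (FractionRing A), ← map_mul,
        IsLocalization.mk'_spec'_mk]
    have h3 := congrArg g h2
    rw [map_mul, hg, hg, hx] at h3
    rw [map_mul, h3]
  obtain ⟨r, hrq, hr, hall⟩ := (Algebra.zariskisMainProperty_iff).mp
    (Algebra.ZariskisMainProperty.of_finiteType (R := A) q)
  obtain ⟨t, ht, a, hta⟩ := key r hr
  have ha : a ∉ p := fun h ↦ (Ideal.IsPrime.mem_or_mem ‹q.IsPrime›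
    (show algebraMap A B t * r ∈ q from hta ▸ h)).elim ht hrq
  have hden : ∀ b : B, ∃ d : A, d ∉ p ∧ ∃ c, algebraMap A B d * b = algebraMap A B c := by
    intro b
    obtain ⟨m, hm⟩ := hall b
    obtain ⟨t', ht', c, hc⟩ := key _ hm
    refine ⟨t' * a ^ m, fun h ↦ (Ideal.IsPrime.mem_or_mem inferInstance h).elim ht'
      fun h' ↦ ha (Ideal.IsPrime.mem_of_pow_mem inferInstance _ h'), c * t ^ m, ?_⟩
    rw [map_mul, map_mul, map_pow, map_pow, ← hta, ← hc]
    ring
  choose d hd c hc using hden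
  obtain ⟨G, hG⟩ := Algebra.FiniteType.out (R := A) (A := B)
  refine ⟨∏ x ∈ G, d x, fun h ↦ ?_, fun b ↦ ?_⟩
  · obtain ⟨x, -, hx⟩ := (Ideal.IsPrime.prod_mem_iff (p := p)).mp h
    exact hd x hx
  · have hb : b ∈ Algebra.adjoin A (G : Set B) := hG ▸ trivial
    induction hb using Algebra.adjoin_induction with
    | mem x hx =>
      refine ⟨1, (∏ y ∈ G.erase x, d y) * c x, ?_⟩
      rw [← Finset.mul_prod_erase G d hx, pow_one, map_mul, map_mul, ← hc x]
      ring
    | algebraMap r => exact ⟨0, r, by simp⟩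
    | add x y _ _ hx hy =>
      obtain ⟨n, a, h⟩ := hx; obtain ⟨n', a', h'⟩ := hy
      refine ⟨n + n', (∏ x ∈ G, d x) ^ n' * a + (∏ x ∈ G, d x) ^ n * a', ?_⟩
      rw [map_add, map_mul, map_mul, map_pow, map_pow, ← h, ← h']
      ring
    | mul x y _ _ hx hy =>
      obtain ⟨n, a, h⟩ := hx; obtain ⟨n', a', h'⟩ := hy
      refine ⟨n + n', a * a', ?_⟩
      rw [map_mul, ← h, ← h']
      ring

lemma mem_basicOpen_iff_notMem {X : Scheme.{u}} {U : X.Opens} (hU : IsAffineOpen U) {x : X}
    (hx : x ∈ U) (s : Γ(X, U)) :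
    x ∈ X.basicOpen s ↔ s ∉ (hU.primeIdealOf ⟨x, hx⟩).asIdeal := by
  have h1 : x ∈ X.basicOpen s ↔ hU.primeIdealOf ⟨x, hx⟩ ∈ hU.fromSpec ⁻¹ᵁ X.basicOpen s := by
    show _ ↔ hU.fromSpec (hU.primeIdealOf ⟨x, hx⟩) ∈ X.basicOpen s
    rw [hU.fromSpec_primeIdealOf]
  rw [h1, hU.fromSpec_preimage_basicOpen]
  rfl

variable {X Y : Scheme.{u}} [IsIntegral X] [IsIntegral Y]

lemma mem_of_nonempty {W : Y.Opens} {y : Y} (hy : y ∈ W) : genericPoint Y ∈ W :=
  ((genericPoint_spec Y).mem_open_set_iff W.2).mpr ⟨y, trivial, hy⟩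

/-- A birational morphism quasi-finite at a point over a normal point has an open section there. -/
theorem exists_open_section (f : X ⟶ Y) [LocallyOfFiniteType f]
    (hgen : f (genericPoint X) = genericPoint Y) [IsIso (f.stalkMap (genericPoint X))]
    (x : X) (hN : IsIntegrallyClosed (Y.presheaf.stalk (f x))) (hx : f.QuasiFiniteAt x) :
    ∃ (V : Y.Opens) (σ : (V : Scheme) ⟶ X), f x ∈ V ∧ σ ≫ f = V.ι ∧ IsOpenImmersion σ := by
  obtain ⟨V, hV, hxV, -⟩ := exists_isAffineOpen_mem_and_subset (Set.mem_univ (f x))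
    (U := (⊤ : Y.Opens))
  obtain ⟨U, hU, hxU, hUV⟩ := exists_isAffineOpen_mem_and_subset (x := x) (U := f ⁻¹ᵁ V) hxV
  have : Nonempty (U : Scheme) := ⟨⟨x, hxU⟩⟩
  have : Nonempty (V : Scheme) := ⟨⟨f x, hxV⟩⟩
  let q := (hU.primeIdealOf ⟨x, hxU⟩).asIdeal
  let φ : Γ(Y, V) →+* Γ(X, U) := (f.appLE V U hUV).hom
  have hft : φ.FiniteType := HasRingHomProperty.appLE (P := @LocallyOfFiniteType) f ‹_› ⟨V, hV⟩ ⟨U, hU⟩ hUV
  have hqf : φ.QuasiFiniteAt q := hx.quasiFiniteAt hU hV hUV hxU
  let _ := φ.toAlgebra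
  have : Algebra.FiniteType Γ(Y, V) Γ(X, U) := hft
  have : Algebra.QuasiFiniteAt Γ(Y, V) q := hqf
  -- compare the function fields
  have hηU : genericPoint X ∈ U := mem_of_nonempty hxU
  have hηV : f (genericPoint X) ∈ V := hUV hηU
  letI algV := (Y.presheaf.germ V _ hηV).hom.toAlgebra
  haveI := isFractionRing_stalk hV hgen hηV
  let e := (asIso (f.stalkMap (genericPoint X))).commRingCatIsoToRingEquiv
  have hnat (a : Γ(Y, V)) : e (algebraMap _ _ a) = X.presheaf.germ U _ hηU (φ a) := by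
    refine (congr($(Scheme.Hom.germ_stalkMap f V (genericPoint X) hηV) a)).trans ?_
    exact (TopCat.Presheaf.germ_res_apply X.presheaf (homOfLE hUV) _ hηU _).symm
  have hgU : Function.Injective (X.presheaf.germ U (genericPoint X) hηU) :=
    germ_injective_of_isIntegral X _ _
  have hinj : Function.Injective φ := fun a b h ↦
    IsFractionRing.injective Γ(Y, V) (Y.presheaf.stalk (f (genericPoint X)))
      (e.injective (by rw [hnat, hnat, h]))
  have hbir : ∀ b : Γ(X, U), ∃ (a s : Γ(Y, V)), s ≠ 0 ∧ φ s * b = φ a := fun b ↦ by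
    obtain ⟨a, ⟨s, hs⟩, h⟩ := IsLocalization.exists_mk'_eq (nonZeroDivisors Γ(Y, V))
      (e.symm (X.presheaf.germ U (genericPoint X) hηU b))
    refine ⟨a, s, nonZeroDivisors.ne_zero hs, hgU ?_⟩
    have := congrArg e (IsLocalization.mk'_spec' (Y.presheaf.stalk (f (genericPoint X))) a ⟨s, hs⟩)
    rw [map_mul, h, RingEquiv.apply_symm_apply, hnat, hnat] at this
    rw [map_mul]
    exact this
  -- the local ring at `f x`
  have hp : q.comap φ = (hV.primeIdealOf ⟨f x, hxV⟩).asIdeal :=
    congrArg PrimeSpectrum.asIdeal (IsAffineOpen.comap_primeIdealOf_appLE (f := f) V hV U hU hUV hxU)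
  have : IsIntegrallyClosed (Localization.AtPrime (q.comap (algebraMap Γ(Y, V) Γ(X, U)))) := by
    letI := Y.presheaf.algebra_section_stalk (U := V) ⟨f x, hxV⟩
    haveI : IsLocalization.AtPrime (Y.presheaf.stalk (f x)) (hV.primeIdealOf ⟨f x, hxV⟩).asIdeal :=
      hV.isLocalization_stalk ⟨f x, hxV⟩
    haveI : IsLocalization.AtPrime (Y.presheaf.stalk (f x)) (q.comap (algebraMap Γ(Y, V) Γ(X, U))) := by
      convert (inferInstance : IsLocalization.AtPrime (Y.presheaf.stalk (f x))
        (hV.primeIdealOf ⟨f x, hxV⟩).asIdeal) using 2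
      exact hp
    exact IsIntegrallyClosed.of_equiv
      (IsLocalization.algEquiv (q.comap (algebraMap Γ(Y, V) Γ(X, U))).primeCompl
        (Y.presheaf.stalk (f x)) (Localization.AtPrime _)).toRingEquiv (h := hN)
  obtain ⟨s, hs, hall⟩ := exists_away_of_birational hinj hbir q
  let V' := Y.basicOpen s
  let U' := X.basicOpen (φ s)
  have hUV' : U' ≤ f ⁻¹ᵁ V' := (Scheme.basicOpen_appLE f U V hUV s).le.trans inf_le_right
  have hfxV : f x ∈ V' := (mem_basicOpen_iff_notMem hV hxV s).mpr (hp ▸ hs)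
  have hxU' : x ∈ U' := (mem_basicOpen_iff_notMem hU hxU (φ s)).mpr hs
  haveI := hV.isLocalization_basicOpen s
  haveI := hU.isLocalization_basicOpen (φ s)
  have hcomm (a : Γ(Y, V)) : f.appLE V' U' hUV' (algebraMap Γ(Y, V) Γ(Y, V') a) =
      algebraMap Γ(X, U) Γ(X, U') (φ a) := by
    simp [φ, RingHom.algebraMap_toAlgebra, ← ConcreteCategory.comp_apply, Scheme.Hom.appLE_map,
      Scheme.Hom.map_appLE, V', U']
  have hresU : Function.Injective (algebraMap Γ(X, U) Γ(X, U')) := fun a b h ↦ hgU (by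
    have hη' : genericPoint X ∈ U' := mem_of_nonempty hxU'
    have := congrArg (X.presheaf.germ U' _ hη') h
    simpa [RingHom.algebraMap_toAlgebra, TopCat.Presheaf.germ_res_apply] using this)
  have hbij : Function.Bijective (f.appLE V' U' hUV') := by
    constructor
    · rw [injective_iff_map_eq_zero]
      intro z hz
      obtain ⟨a, ⟨_, n, rfl⟩, rfl⟩ := IsLocalization.exists_mk'_eq (Submonoid.powers s) z
      have h1 := congrArg (f.appLE V' U' hUV') (IsLocalization.mk'_spec' Γ(Y, V') a (⟨s ^ n, n, rfl⟩ : Submonoid.powers s))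
      rw [map_mul, hz, mul_zero, hcomm] at h1
      have ha : a = 0 := hinj (hresU (by rw [← h1, map_zero, map_zero]))
      rw [ha, IsLocalization.mk'_zero]
    · intro z
      obtain ⟨b, ⟨_, n, rfl⟩, rfl⟩ := IsLocalization.exists_mk'_eq (Submonoid.powers (φ s)) z
      obtain ⟨m, a, hma⟩ := hall b
      refine ⟨IsLocalization.mk' Γ(Y, V') a (⟨s ^ (m + n), m + n, rfl⟩ : Submonoid.powers s), ?_⟩
      have h1 := congrArg (f.appLE V' U' hUV')
        (IsLocalization.mk'_spec' Γ(Y, V') a (⟨s ^ (m + n), m + n, rfl⟩ : Submonoid.powers s))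
      rw [map_mul, hcomm, hcomm] at h1
      have h2 := IsLocalization.mk'_spec' Γ(X, U') b (⟨φ s ^ n, n, rfl⟩ : Submonoid.powers (φ s))
      have hu : IsUnit (algebraMap Γ(X, U) Γ(X, U') (φ (s ^ (m + n)))) := by
        rw [map_pow, map_pow]
        exact (IsLocalization.map_units Γ(X, U') (⟨φ s, 1, pow_one _⟩ : Submonoid.powers (φ s))).pow _
      refine hu.mul_left_cancel (h1.trans ?_)
      rw [show φ a = φ s ^ m * b from hma.symm, map_mul, map_pow φ, pow_add,
        map_mul (algebraMap Γ(X, U) Γ(X, U')) (φ s ^ m) (φ s ^ n), mul_assoc, ← h2]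
  have : IsIso (f.resLE V' U' hUV') := by
    have : IsAffine (U' : Scheme) := hU.basicOpen _
    have : IsAffine (V' : Scheme) := hV.basicOpen _
    have : IsIso (f.appLE V' U' hUV') := (ConcreteCategory.isIso_iff_bijective _).mpr hbij
    have : IsIso (f.resLE V' U' hUV').appTop :=
      ((MorphismProperty.isomorphisms _).arrow_mk_iso_iff (arrowResLEAppIso f V' U' hUV')).mpr this
    have h' : IsIso (Spec.map (f.resLE V' U' hUV').appTop) := inferInstance
    exact ((MorphismProperty.isomorphisms _).arrow_mk_iso_iff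
      (arrowIsoSpecΓOfIsAffine (f.resLE V' U' hUV'))).mpr h'
  refine ⟨V', inv (f.resLE V' U' hUV') ≫ U'.ι, hfxV, ?_, inferInstance⟩
  rw [Category.assoc, IsIso.inv_comp_eq, Scheme.Hom.resLE_comp_ι]

/-- Zariski's main theorem for separated birational morphisms at a normal point. -/
theorem exists_isIso_restrict (f : X ⟶ Y) [IsSeparated f] [LocallyOfFiniteType f]
    (hgen : f (genericPoint X) = genericPoint Y) [IsIso (f.stalkMap (genericPoint X))]
    (x : X) (hN : IsIntegrallyClosed (Y.presheaf.stalk (f x))) (hx : f.QuasiFiniteAt x) :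
    ∃ V : Y.Opens, f x ∈ V ∧ IsIso (f ∣_ V) := by
  obtain ⟨V, σ, hxV, hσ, _⟩ := exists_open_section f hgen x hN hx
  refine ⟨V, hxV, ?_⟩
  have : Nonempty (V : Scheme) := ⟨⟨f x, hxV⟩⟩
  have hrange : Set.range σ ⊆ Set.range (f ⁻¹ᵁ V).ι := by
    rintro _ ⟨v, rfl⟩
    rw [Scheme.Opens.range_ι]
    show f (σ v) ∈ V
    rw [← Scheme.Hom.comp_apply, hσ]
    exact v.2
  let σ' := IsOpenImmersion.lift (f ⁻¹ᵁ V).ι σ hrange
  have hσ'ι : σ' ≫ (f ⁻¹ᵁ V).ι = σ := IsOpenImmersion.lift_fac _ _ _
  have hσ' : σ' ≫ (f ∣_ V) = 𝟙 _ := by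
    rw [← cancel_mono V.ι, Category.assoc, morphismRestrict_ι, ← Category.assoc, hσ'ι, hσ,
      Category.id_comp]
  have : IsOpenImmersion σ' := by
    have : IsOpenImmersion (σ' ≫ (f ⁻¹ᵁ V).ι) := hσ'ι ▸ ‹IsOpenImmersion σ›
    exact IsOpenImmersion.of_comp σ' (f ⁻¹ᵁ V).ι
  have : IsClosedImmersion σ' := by
    have : IsClosedImmersion (σ' ≫ (f ∣_ V)) := by rw [hσ']; infer_instance
    exact IsClosedImmersion.of_comp σ' (f ∣_ V)
  have hne : Nonempty ↥(f ⁻¹ᵁ V : X.Opens).toScheme :=
    Nonempty.map σ' ⟨⟨f x, hxV⟩⟩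
  have : IsIntegral (f ⁻¹ᵁ V : X.Opens).toScheme := isIntegral_of_isOpenImmersion (f ⁻¹ᵁ V).ι
  have hsurj : Surjective σ' := ⟨Set.range_eq_univ.mp
    ((IsClopen.eq_univ ⟨σ'.isClosedEmbedding.isClosed_range, σ'.isOpenEmbedding.isOpen_range⟩
      (Set.range_nonempty _)))⟩
  have : IsIso σ' := isIso_of_isOpenImmersion_of_opensRange_eq_top σ'
    (Opens.ext (Set.range_eq_univ.mpr hsurj.surj))
  rw [IsIso.eq_inv_of_hom_inv_id hσ']
  infer_instance

end Groth.Agent.H7Lim
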