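import Mathlib.Algebra.Category.Ring.FinitePresentation
import Mathlib.Algebra.Category.Ring.Under.Basic
import Mathlib.CategoryTheory.Limits.Types.Filtered
import Mathlib.RingTheory.FinitePresentation

/-!
# Algebras whose coyoneda preserves directed colimits are finitely presented
-/

set_option autoImplicit false
set_option linter.style.haveILetI false
set_option backward.isDefEq.respectTransparency false

universe u

open CategoryTheory Limits Opposite

namespace Groth.Agent.H7Lim

/-- `Hom(B, -)` preserves directed colimits of algebras. -/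
def PreservesDirected {A : CommRingCat.{u}} (X : Under A) : Prop :=
  ∀ (J : Type u) [Preorder J] [IsDirected J (· ≤ ·)] [Nonempty J] (F : J ⥤ Under A),
    Limits.PreservesColimit F (coyoneda.obj (op X))

theorem PreservesDirected.exists_fac {A : CommRingCat.{u}} {X : Under A} (hX : PreservesDirected X)
    {J : Type u} [Preorder J] [IsDirected J (· ≤ ·)] [Nonempty J] {F : J ⥤ Under A} (c : Cocone F)
    (hc : IsColimit c) (g : X ⟶ c.pt) : ∃ (j : J) (g' : X ⟶ F.obj j), g' ≫ c.ι.app j = g := by
  have := hX J F
  obtain ⟨j, g', hg'⟩ := Types.jointly_surjective _ (isColimitOfPreserves (coyoneda.obj (op X)) hc) g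
  exact ⟨j, g', hg'⟩

variable {A B : Type u} [CommRing A] [CommRing B] [Algebra A B]

abbrev mk' (A B : Type u) [CommRing A] [CommRing B] [Algebra A B] : Under (CommRingCat.of A) :=
  CommRingCat.mkUnder (CommRingCat.of A) B

def homOf {B C : Type u} [CommRing B] [CommRing C] [Algebra A B] [Algebra A C] (g : B →ₐ[A] C) :
    mk' A B ⟶ mk' A C :=
  Under.homMk (CommRingCat.ofHom g.toRingHom) (by ext a; exact g.commutes a)

@[simp]
theorem homOf_apply {B C : Type u} [CommRing B] [CommRing C] [Algebra A B] [Algebra A C] (g : B →ₐ[A] C) (b : B) :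
    (homOf g).right b = g b := rfl

theorem ext_under {X Y : Under (CommRingCat.of A)} {f g : X ⟶ Y} (h : ∀ x, f.right x = g.right x) : f = g :=
  Under.UnderMorphism.ext (by ext x; exact h x)

section subalgebras

variable (A B)

def adjoinFunctor : Finset B ⥤ Under (CommRingCat.of A) where
  obj s := mk' A (Algebra.adjoin A (s : Set B))
  map {_ _} h := homOf (Subalgebra.inclusion (Algebra.adjoin_mono (by exact_mod_cast leOfHom h)))
  map_id _ := ext_under fun _ => rfl
  map_comp _ _ := ext_under fun _ => rfl

def adjoinCocone : Cocone (adjoinFunctor A B) where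
  pt := mk' A B
  ι := { app := fun s => homOf (Subalgebra.val _)
         naturality := fun _ _ _ => ext_under fun _ => rfl }

noncomputable def adjoinIsColimit : IsColimit (adjoinCocone A B) := by
  classical
  have mem : ∀ b : B, b ∈ Algebra.adjoin A ((({b} : Finset B)) : Set B) := fun b =>
    Algebra.subset_adjoin (by simp)
  have compat : ∀ (c : Cocone (adjoinFunctor A B)) (s t : Finset B) (h : s ≤ t)
      (x : Algebra.adjoin A (s : Set B)), (c.ι.app s).right x =
        (c.ι.app t).right (Subalgebra.inclusion (Algebra.adjoin_mono (by exact_mod_cast h)) x) := by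
    intro c s t h x
    exact (congr($(c.w (homOfLE h)).right x)).symm
  have any : ∀ (c : Cocone (adjoinFunctor A B)) (s : Finset B) (x : Algebra.adjoin A (s : Set B)),
      (c.ι.app {(x : B)}).right ⟨x, mem x⟩ = (c.ι.app s).right x := by
    intro c s x
    rw [compat c {(x : B)} (s ∪ {(x : B)}) Finset.subset_union_right, compat c s (s ∪ {(x : B)}) Finset.subset_union_left]
    rfl
  let ψ : ∀ (c : Cocone (adjoinFunctor A B)) (s : Finset B), Algebra.adjoin A (s : Set B) →+* c.pt.right :=
    fun c s => (c.ι.app s).right.hom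
  have anyψ : ∀ (c : Cocone (adjoinFunctor A B)) (s : Finset B) (b : B) (hb : b ∈ Algebra.adjoin A (s : Set B)),
      ψ c {b} ⟨b, mem b⟩ = ψ c s ⟨b, hb⟩ := fun c s b hb => any c s ⟨b, hb⟩
  let d : ∀ c : Cocone (adjoinFunctor A B), B →+* c.pt.right := fun c =>
    { toFun := fun b => ψ c {b} ⟨b, mem b⟩
      map_one' := (anyψ c ∅ 1 (one_mem _)).trans (map_one (ψ c ∅))
      map_zero' := (anyψ c ∅ 0 (zero_mem _)).trans (map_zero (ψ c ∅))
      map_mul' := fun x y => by
        let s : Finset B := {x, y}
        have hx : x ∈ Algebra.adjoin A (s : Set B) := Algebra.subset_adjoin (by simp [s])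
        have hy : y ∈ Algebra.adjoin A (s : Set B) := Algebra.subset_adjoin (by simp [s])
        rw [anyψ c s x hx, anyψ c s y hy, anyψ c s _ (mul_mem hx hy), ← map_mul]
        rfl
      map_add' := fun x y => by
        let s : Finset B := {x, y}
        have hx : x ∈ Algebra.adjoin A (s : Set B) := Algebra.subset_adjoin (by simp [s])
        have hy : y ∈ Algebra.adjoin A (s : Set B) := Algebra.subset_adjoin (by simp [s])
        rw [anyψ c s x hx, anyψ c s y hy, anyψ c s _ (add_mem hx hy), ← map_add]
        rfl }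
  refine { desc := fun c => Under.homMk (CommRingCat.ofHom (d c)) ?_, fac := ?_, uniq := ?_ }
  · ext a
    show d c (algebraMap A B a) = c.pt.hom a
    refine (any c {algebraMap A B a} (algebraMap A _ a)).trans ?_
    exact congr($(Under.w (c.ι.app _)) a)
  · intro c s
    exact ext_under fun x => any c s x
  · intro c m hm
    refine ext_under fun b => ?_
    exact (congr($(hm {(b : B)}).right ⟨b, mem b⟩))

theorem finiteType_of_preservesDirected (h : PreservesDirected (mk' A B)) : Algebra.FiniteType A B := by
  classical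
  obtain ⟨s, g, hg⟩ := h.exists_fac (adjoinCocone A B) (adjoinIsColimit A B) (𝟙 (mk' A B))
  refine ⟨⟨s, ?_⟩⟩
  rw [eq_top_iff]
  intro b _
  let x : Algebra.adjoin A (s : Set B) := g.right.hom b
  have hx : (x : B) = b := congr($(hg).right b)
  exact hx ▸ x.2

end subalgebras

section quotients

variable {P : Type u} [CommRing P] [Algebra A P] (π : P →ₐ[A] B)

abbrev FGSub := {J : Ideal P // J.FG ∧ J ≤ RingHom.ker π}

instance : Nonempty (FGSub π) := ⟨⟨⊥, Submodule.fg_bot, bot_le⟩⟩

instance : IsDirected (FGSub π) (· ≤ ·) :=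
  ⟨fun J K => ⟨⟨J.1 ⊔ K.1, Submodule.FG.sup J.2.1 K.2.1, sup_le J.2.2 K.2.2⟩,
    show J.1 ≤ J.1 ⊔ K.1 from le_sup_left, show K.1 ≤ J.1 ⊔ K.1 from le_sup_right⟩⟩

def quotFunctor : FGSub π ⥤ Under (CommRingCat.of A) where
  obj J := mk' A (P ⧸ J.1)
  map {J K} h := homOf (Ideal.Quotient.factorₐ A (show J.1 ≤ K.1 from leOfHom h))
  map_id _ := ext_under fun x => by obtain ⟨x, rfl⟩ := Ideal.Quotient.mk_surjective x; rfl
  map_comp _ _ := ext_under fun x => by obtain ⟨x, rfl⟩ := Ideal.Quotient.mk_surjective x; rfl

def quotCocone : Cocone (quotFunctor π) where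
  pt := mk' A B
  ι :=
    { app := fun J => homOf (Ideal.Quotient.liftₐ J.1 π fun p hp => J.2.2 hp)
      naturality := fun _ _ _ => ext_under fun x => by
        obtain ⟨x, rfl⟩ := Ideal.Quotient.mk_surjective x; rfl }

noncomputable def quotIsColimit (hπ : Function.Surjective π) : IsColimit (quotCocone π) := by
  classical
  let bot' : FGSub π := ⟨⊥, Submodule.fg_bot, bot_le⟩
  let d₀ : ∀ c : Cocone (quotFunctor π), P →+* c.pt.right := fun c =>
    (c.ι.app bot').right.hom.comp (Ideal.Quotient.mk bot'.1)
  have hd₀ : ∀ (c : Cocone (quotFunctor π)) (J : FGSub π) (p : P),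
      d₀ c p = (c.ι.app J).right (Ideal.Quotient.mk J.1 p) := fun c J p =>
    (congr($(c.w (homOfLE (show bot' ≤ J from (bot_le : (⊥ : Ideal P) ≤ J.1)))).right
      (Ideal.Quotient.mk bot'.1 p))).symm
  have hker : ∀ c, RingHom.ker (RingHomClass.toRingHom π) ≤ RingHom.ker (d₀ c) := by
    intro c p hp
    have hp' : (p : P) ∈ RingHom.ker π := hp
    let J : FGSub π := ⟨Ideal.span {p}, Submodule.fg_span_singleton p,
      (Ideal.span_singleton_le_iff_mem _).2 hp'⟩
    rw [RingHom.mem_ker, hd₀ c J, Ideal.Quotient.eq_zero_iff_mem.2 (Ideal.mem_span_singleton_self p)]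
    exact map_zero _
  let d : ∀ c : Cocone (quotFunctor π), B →+* c.pt.right := fun c =>
    RingHom.liftOfSurjective (RingHomClass.toRingHom π) hπ ⟨d₀ c, hker c⟩
  have hd : ∀ c p, d c (π p) = d₀ c p := fun c p =>
    RingHom.liftOfRightInverse_comp_apply _ _ _ ⟨d₀ c, hker c⟩ p
  refine { desc := fun c => Under.homMk (CommRingCat.ofHom (d c)) ?_, fac := ?_, uniq := ?_ }
  · ext a
    show d c (algebraMap A B a) = c.pt.hom a
    rw [← π.commutes, hd]
    exact congr($(Under.w (c.ι.app bot')) a)
  · intro c J
    refine ext_under fun x => ?_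
    obtain ⟨x, rfl⟩ := Ideal.Quotient.mk_surjective x
    exact (hd c x).trans (hd₀ c J x)
  · intro c m hm
    refine ext_under fun b => ?_
    obtain ⟨p, rfl⟩ := hπ b
    refine Eq.trans ?_ (hd c p).symm
    exact congr($(hm bot').right (Ideal.Quotient.mk bot'.1 p))

end quotients

variable (A B) in
theorem finitePresentation_of_preservesDirected (h : PreservesDirected (mk' A B)) :
    Algebra.FinitePresentation A B := by
  classical
  have := finiteType_of_preservesDirected A B h
  obtain ⟨n, π, hπ⟩ := Algebra.FiniteType.iff_quotient_mvPolynomial''.1 this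
  obtain ⟨J, g, hg⟩ := h.exists_fac (quotCocone π) (quotIsColimit π hπ) (𝟙 (mk' A B))
  have : Algebra.FinitePresentation A (MvPolynomial (Fin n) A ⧸ J.1) := Algebra.FinitePresentation.quotient J.2.1
  let g' : B →ₐ[A] MvPolynomial (Fin n) A ⧸ J.1 :=
    { g.right.hom with commutes' := fun a => congr($(Under.w g) a) }
  let q : (MvPolynomial (Fin n) A ⧸ J.1) →ₐ[A] B := Ideal.Quotient.liftₐ J.1 π fun p hp => J.2.2 hp
  have hq : ∀ b, q (g' b) = b := fun b => congr($(hg).right b)
  refine Algebra.FinitePresentation.of_surjective (f := q) (fun b => ⟨g' b, hq b⟩) ?_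
  let gens : Fin n → MvPolynomial (Fin n) A ⧸ J.1 := fun i => Ideal.Quotient.mk J.1 (MvPolynomial.X i)
  let K : Ideal (MvPolynomial (Fin n) A ⧸ J.1) := Ideal.span (Set.range fun i => gens i - g' (q (gens i)))
  have hK : RingHom.ker q = K := by
    refine le_antisymm (fun x hx => ?_) (Ideal.span_le.2 ?_)
    · have key : (Ideal.Quotient.mkₐ A K) = (Ideal.Quotient.mkₐ A K).comp (g'.comp q) := by
        apply Ideal.Quotient.algHom_ext
        apply MvPolynomial.algHom_ext
        intro i
        refine Ideal.Quotient.eq.2 ?_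
        exact Ideal.subset_span ⟨i, rfl⟩
      have := AlgHom.congr_fun key x
      rw [RingHom.mem_ker] at hx
      simp [hx, Ideal.Quotient.eq_zero_iff_mem] at this
      exact this
    · rintro _ ⟨i, rfl⟩
      simp [hq]
  show (RingHom.ker q).FG
  rw [hK]
  exact Submodule.fg_span (Set.finite_range _)

theorem hom_finitePresentation_of_preservesDirected {A B : CommRingCat.{u}} (f : A ⟶ B)
    (h : PreservesDirected (Under.mk f)) : f.hom.FinitePresentation := by
  letI : Algebra A B := f.hom.toAlgebra
  exact finitePresentation_of_preservesDirected A B h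

end Groth.Agent.H7Lim
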