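import Groth.Agent.H7Lim.Basic
import Mathlib.Topology.Category.TopCat.Limits.Basic
import Mathlib.CategoryTheory.Limits.Types.Limits

/-!
# Points of cofiltered limits of schemes with affine transition maps
-/

set_option autoImplicit false
set_option backward.isDefEq.respectTransparency false
set_option backward.defeqAttrib.useBackward true

universe u

open CategoryTheory Limits AlgebraicGeometry Topology

namespace Groth.Agent.H7Lim

variable {I : Type u} [Category.{u} I] [IsCofiltered I] {D : I ⥤ Scheme.{u}} {c : Cone D}
  (hc : IsLimit c)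

include hc in
/-- A compatible family of points is the image of a point of the limit. -/
lemma exists_π_app_eq (s : ∀ j, D.obj j) (hs : ∀ (j k : I) (f : j ⟶ k), D.map f (s j) = s k) :
    ∃ x : c.pt, ∀ j, c.π.app j x = s j := by
  have hm (j : I) : Mono ((D.obj j).fromSpecResidueField (s j)) := inferInstance
  let G : Iᵒᵖ ⥤ CommRingCat.{u} :=
  { obj j := (D.obj j.unop).residueField (s j.unop)
    map {j k} f := ((D.obj j.unop).residueFieldCongr (hs _ _ f.unop).symm).hom ≫
      (D.map f.unop).residueFieldMap (s k.unop)
    map_id j := by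
      apply Spec.map_injective
      rw [← cancel_mono ((D.obj j.unop).fromSpecResidueField (s j.unop))]
      simp [Scheme.Hom.SpecMap_residueFieldMap_fromSpecResidueField]
    map_comp {j k l} f g := by
      apply Spec.map_injective
      rw [← cancel_mono ((D.obj j.unop).fromSpecResidueField (s j.unop))]
      simp [Scheme.Hom.SpecMap_residueFieldMap_fromSpecResidueField,
        Scheme.Hom.SpecMap_residueFieldMap_fromSpecResidueField_assoc] }
  let L := colimit.cocone G
  have : Nontrivial L.pt := CommRingCat.FilteredColimits.nontrivial (colimit.isColimit G)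
  let d : Cone D :=
  { pt := Spec L.pt
    π :=
    { app j := Spec.map (L.ι.app (.op j)) ≫ (D.obj j).fromSpecResidueField (s j)
      naturality j k f := by
        have := L.w f.op
        simp only [Functor.const_obj_map]
        rw [← this]
        simp [G, Scheme.Hom.SpecMap_residueFieldMap_fromSpecResidueField] } }
  obtain ⟨p⟩ : Nonempty (Spec L.pt) :=
    inferInstanceAs (Nonempty (PrimeSpectrum L.pt))
  refine ⟨hc.lift d p, fun j ↦ ?_⟩
  refine (Scheme.Hom.comp_apply (hc.lift d) (c.π.app j) p).symm.trans ?_
  rw [hc.fac]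
  simp only [d, Scheme.Hom.comp_apply]
  exact Scheme.fromSpecResidueField_apply _ _

variable [∀ (i j : I) (f : i ⟶ j), IsAffineHom (D.map f)]

include hc in
/-- The limit is topologically a subspace of the product. -/
lemma topologicalSpace_pt_eq :
    (inferInstance : TopologicalSpace c.pt) =
      ⨅ j, TopologicalSpace.induced (c.π.app j) inferInstance := by
  refine le_antisymm (le_iInf fun j ↦ (c.π.app j).continuous.le_induced) ?_
  intro U hU
  rw [← TopologicalSpace.Opens.coe_mk (hU := hU)]
  obtain ⟨S, hS, e⟩ := TopologicalSpace.Opens.isBasis_iff_cover.mp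
    (isBasis_preimage_isAffineOpen D c hc) ⟨U, hU⟩
  rw [e, TopologicalSpace.Opens.coe_sSup]
  refine @isOpen_biUnion _ _ (_) _ _ fun W hW ↦ ?_
  obtain ⟨j, V, -, rfl⟩ := hS hW
  exact iInf_le (fun j ↦ TopologicalSpace.induced (fun x : c.pt ↦ c.π.app j x) (inferInstance : TopologicalSpace (D.obj j))) j _
    (isOpen_induced V.2)

include hc in
/-- Points of the limit are determined by their images. -/
lemma ext_of_π_app_eq {x y : c.pt} (h : ∀ j, c.π.app j x = c.π.app j y) : x = y := by
  suffices h' : Inseparable x y from h'.eq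
  refine inseparable_iff_forall_isOpen.mpr fun U hU ↦ ?_
  suffices ∀ x y : c.pt, (∀ j, c.π.app j x = c.π.app j y) → x ∈ U → y ∈ U from
    ⟨this x y h, this y x fun j ↦ (h j).symm⟩
  intro x y h hx
  obtain ⟨_, ⟨j, V, -, rfl⟩, hxV, hVU⟩ := TopologicalSpace.Opens.isBasis_iff_nbhd.mp
    (isBasis_preimage_isAffineOpen D c hc) (U := ⟨U, hU⟩) hx
  refine hVU ?_
  show c.π.app j y ∈ V
  exact h j ▸ hxV

include hc in
/-- The forgetful functor to topological spaces preserves the limit. -/
lemma nonempty_isLimit_forgetToTop : Nonempty (IsLimit (Scheme.forgetToTop.mapCone c)) := by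
  refine (TopCat.nonempty_isLimit_iff_eq_induced (Scheme.forgetToTop.mapCone c) ?_).mpr ?_
  · refine Classical.choice ((Types.isLimit_iff _).mpr fun s hs ↦ ?_)
    obtain ⟨x, hx⟩ := exists_π_app_eq hc s fun j k f ↦ hs f
    exact ⟨x, hx, fun y hy ↦ ext_of_π_app_eq hc fun j ↦ (hy j).trans (hx j).symm⟩
  · exact topologicalSpace_pt_eq hc

end Groth.Agent.H7Lim
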