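import Groth.Agent.H7Lim.DescendAffine
import Mathlib.AlgebraicGeometry.Morphisms.Separated

/-!
# Descent of properties of the diagonal
-/

set_option autoImplicit false
set_option backward.isDefEq.respectTransparency false
set_option backward.defeqAttrib.useBackward true

universe u

open CategoryTheory Limits AlgebraicGeometry MorphismProperty

namespace Groth.Agent.H7Lim

/-- The diagonal of a base change of `a` is a base change of the diagonal of `a`. -/
lemma diagonal_snd_iff {P : MorphismProperty Scheme.{u}} [P.IsStableUnderBaseChange]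
    {S T B : Scheme.{u}} (a : T ⟶ S) (b : B ⟶ S) :
    P (pullback.diagonal (pullback.snd a b)) ↔
      P (pullback.snd (pullback.diagonal a) (pullback.fst (pullback.fst a a ≫ a) b)) := by
  let s := pullback.snd a b
  let t := pullback.fst a b
  let m : pullback s s ⟶ pullback a a := pullback.map _ _ _ _ t t b
    pullback.condition.symm pullback.condition.symm
  have hbot : IsPullback m (pullback.fst s s) (pullback.fst a a) t := by
    refine IsPullback.of_right (h₁₂ := pullback.snd a a) (h₂₂ := a) (v₁₃ := a) ?_ (by simp [m])
      (IsPullback.of_hasPullback a a).flip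
    have := (IsPullback.of_hasPullback s s).flip.paste_horiz (IsPullback.of_hasPullback a b)
    simpa [m, t, s, pullback.condition] using this
  have htop : IsPullback t (pullback.diagonal s) (pullback.diagonal a) m := by
    refine IsPullback.of_bot ?_ (by apply pullback.hom_ext <;> simp [m]) hbot
    simpa using (IsPullback.of_vert_isIso ⟨by simp⟩ : IsPullback t (𝟙 _) (𝟙 T) t)
  have hW := hbot.paste_vert (IsPullback.of_hasPullback a b)
  exact (prop_iff_of_isPullback htop).trans
    ⟨prop_snd_of_fac hW.isoPullback.inv hW.isoPullback_inv_fst,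
    prop_snd_of_fac hW.isoPullback.hom hW.isoPullback_hom_fst⟩

/-- If `P` descends, so does `P.diagonal`. -/
theorem Descends.diagonal {P Q : MorphismProperty Scheme.{u}} [P.IsStableUnderBaseChange]
    [Q.IsStableUnderBaseChange] (h : Descends P Q) : Descends P.diagonal Q.diagonal := by
  intro J _ _ E d hd _ e _ _ T a _ _ hQ hP
  let p := pullback.fst a a ≫ a
  let e₀ : Over e := Over.mk (𝟙 e)
  let b : (pbDiagram E e p).obj e₀ ⟶ pullback a a := pullback.fst _ _
  have : IsIso b := inferInstanceAs (IsIso (pullback.fst p (E.map (𝟙 e))))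
  have : QuasiCompact a := quasiCompact_of_compactSpace a
  have : QuasiSeparated a := (quasiSeparated_iff_quasiSeparatedSpace a).mpr ‹_›
  have : CompactSpace ↥(pullback a a) :=
    QuasiCompact.compactSpace_of_compactSpace (pullback.fst a a)
  have : QuasiSeparatedSpace ↥(pullback a a) :=
    quasiSeparatedSpace_of_quasiSeparated (pullback.fst a a)
  have : CompactSpace ↥(pullback (pullback.diagonal a) b) :=
    QuasiCompact.compactSpace_of_compactSpace (pullback.fst (pullback.diagonal a) b)
  have : QuasiSeparatedSpace ↥(pullback (pullback.diagonal a) b) :=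
    quasiSeparatedSpace_of_quasiSeparated (pullback.fst (pullback.diagonal a) b)
  obtain ⟨k, ψ, hk⟩ := h (Over e) (pbDiagram E e p) _ (isLimitPbCone E e p hd) e₀
    (pullback.snd (pullback.diagonal a) b) (Q.pullback_snd _ _ hQ) <| by
      refine (prop_iff_of_isPullback
        ((IsPullback.of_hasPullback (pullback.snd (pullback.diagonal a) b) _).paste_horiz
          (IsPullback.of_hasPullback (pullback.diagonal a) b))).mpr ?_ |> fun h ↦ h
      exact prop_snd_of_fac (𝟙 _) (by simp [b, p, pbCone]) ((diagonal_snd_iff a _).mp hP)
  refine ⟨k.left, k.hom, (diagonal_snd_iff a _).mpr ?_⟩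
  exact prop_snd_of_fac (b := (pbDiagram E e p).map ψ ≫ b) (𝟙 _) (by simp [b, p, pbDiagram])
    ((prop_iff_of_isPullback
      ((IsPullback.of_hasPullback (pullback.snd (pullback.diagonal a) b) _).paste_horiz
        (IsPullback.of_hasPullback (pullback.diagonal a) b))).mp hk)

lemma Descends.mono {P Q Q' : MorphismProperty Scheme.{u}} (h : Descends P Q) (hQ : Q' ≤ Q) :
    Descends P Q' :=
  fun J _ _ E d hd _ e _ _ _ a _ _ hQ' hP ↦ h J E d hd e a (hQ _ hQ') hP

lemma Descends.descendsAffine {P Q : MorphismProperty Scheme.{u}} (h : Descends P Q) :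
    DescendsAffine P Q :=
  fun J _ _ E d hd _ _ e _ a _ _ hQ hP ↦ h J E d hd e a hQ hP

/-- Separatedness descends. -/
theorem descends_isSeparated : Descends.{u} @IsSeparated ⊤ := by
  rw [IsSeparated.isSeparated_eq_diagonal_isClosedImmersion]
  exact descendsAffine_isClosedImmersion.descends.diagonal.mono fun _ _ f _ ↦
    (inferInstanceAs (LocallyOfFiniteType (pullback.diagonal f)))

end Groth.Agent.H7Lim
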