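import Groth.Agent.H7Lim.Topology

/-!
# Descent of properties of morphisms to a stage: reduction to affine bases
-/

set_option autoImplicit false
set_option backward.isDefEq.respectTransparency false
set_option backward.defeqAttrib.useBackward true

universe u

open CategoryTheory Limits AlgebraicGeometry TopologicalSpace

namespace Groth.Agent.H7Lim

section basechange

variable {P : MorphismProperty Scheme.{u}} {S T B B' : Scheme.{u}} {a : T ⟶ S}

lemma prop_snd_of_fac [P.IsStableUnderBaseChange] {b : B ⟶ S} {b' : B' ⟶ S} (q : B' ⟶ B)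
    (hq : q ≫ b = b') (h : P (pullback.snd a b)) : P (pullback.snd a b') := by
  subst hq
  exact P.of_isPullback
    (IsPullback.of_right (h₁₂ := pullback.fst a b) (h₂₂ := b) (v₁₃ := a)
      (h₁₁ := pullback.map a (q ≫ b) a b (𝟙 _) q (𝟙 _) (by simp) (by simp))
      (by simpa using IsPullback.of_hasPullback a (q ≫ b)) (by simp)
      (IsPullback.of_hasPullback a b)) h

lemma prop_iff_of_isPullback [P.RespectsIso] {b : B ⟶ S} {X : Scheme.{u}} {p : X ⟶ T} {q : X ⟶ B}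
    (h : IsPullback p q a b) : P q ↔ P (pullback.snd a b) := by
  rw [← h.isoPullback_hom_snd, P.cancel_left_of_respectsIso]

end basechange

/-- `P` descends to a stage for morphisms in `Q` over cofiltered systems of affine schemes. -/
def DescendsAffine (P Q : MorphismProperty Scheme.{u}) : Prop :=
  ∀ (I : Type u) [Category.{u} I] [IsCofiltered I] (D : I ⥤ Scheme.{u}) (c : Cone D)
    (_ : IsLimit c) [∀ (i j : I) (f : i ⟶ j), IsAffineHom (D.map f)] [∀ j, IsAffine (D.obj j)]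
    (i : I) {T : Scheme.{u}} (a : T ⟶ D.obj i) [CompactSpace T] [QuasiSeparatedSpace T],
    Q a → P (pullback.snd a (c.π.app i)) → ∃ (j : I) (φ : j ⟶ i), P (pullback.snd a (D.map φ))

variable {I : Type u} [Category.{u} I] [IsCofiltered I] {D : I ⥤ Scheme.{u}} {c : Cone D}
  [∀ (i j : I) (f : i ⟶ j), IsAffineHom (D.map f)] (hc : IsLimit c)

omit [∀ (i j : I) (f : i ⟶ j), IsAffineHom (D.map f)] in
/-- A common stage for finitely many properties stable under going up. -/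
lemma exists_common_stage {κ : Type*} [Finite κ] (i : I) (P : κ → ∀ j : I, (j ⟶ i) → Prop)
    (hP : ∀ k, ∃ (j : I) (φ : j ⟶ i), P k j φ)
    (hup : ∀ k {j j' : I} (φ : j ⟶ i) (ψ : j' ⟶ j), P k j φ → P k j' (ψ ≫ φ)) :
    ∃ (j : I) (φ : j ⟶ i), ∀ k, P k j φ := by
  choose j φ h using hP
  obtain ⟨n, ⟨e⟩⟩ := Finite.exists_equiv_fin κ
  obtain ⟨j', φ', ψ, hψ⟩ := IsCofiltered.wideCospan fun a ↦ φ (e.symm a)
  refine ⟨j', φ', fun k ↦ ?_⟩
  obtain ⟨a, rfl⟩ := e.symm.surjective k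
  rw [← hψ a]
  exact hup _ _ _ (h _)

include hc in
/-- Reduction of descent to affine bases, the base stage being only quasi-compact. -/
theorem exists_descend_of_compactSpace {P Q : MorphismProperty Scheme.{u}}
    [IsZariskiLocalAtTarget P]
    [P.IsStableUnderBaseChange] [Q.IsStableUnderBaseChange] (hP : DescendsAffine P Q) (i : I)
    [CompactSpace (D.obj i)] {T : Scheme.{u}} (a : T ⟶ D.obj i)
    [QuasiCompact a] [QuasiSeparated a] (hQ : Q a)
    (h : P (pullback.snd a (c.π.app i))) :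
    ∃ (j : I) (φ : j ⟶ i), P (pullback.snd a (D.map φ)) := by
  obtain ⟨s, hs, e⟩ := (isCompact_and_isOpen_iff_finite_and_eq_biUnion_affineOpens
    (X := D.obj i) (U := Set.univ)).mp ⟨isCompact_univ, isOpen_univ⟩
  have : Finite s := hs
  let e₀ : Over i := Over.mk (𝟙 i)
  have key (U : s) : ∃ (j : I) (φ : j ⟶ i),
      P (pullback.snd a ((D.map φ ⁻¹ᵁ (U.1 : (D.obj i).Opens)).ι ≫ D.map φ)) := by
    have (k : Over i) : IsAffine ((opensDiagram D i U.1).obj k) := U.1.2.preimage (D.map _)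
    let ι₀ : (opensDiagram D i U.1).obj e₀ ⟶ D.obj i :=
      (D.map (𝟙 i) ⁻¹ᵁ U.1).ι ≫ D.map (𝟙 i)
    have : IsAffine ((opensDiagram D i U.1).obj e₀) := U.1.2.preimage (D.map _)
    have : CompactSpace ↥(pullback a ι₀) :=
      QuasiCompact.compactSpace_of_compactSpace (pullback.snd a ι₀)
    have : QuasiSeparatedSpace ↥(pullback a ι₀) :=
      quasiSeparatedSpace_of_quasiSeparated (pullback.snd a ι₀)
    obtain ⟨k, ψ, hk⟩ := hP (Over i) (opensDiagram D i U.1) _ (isLimitOpensCone D c hc i U.1) e₀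
      (pullback.snd a ι₀) (Q.pullback_snd _ _ hQ) <| by
      refine (prop_iff_of_isPullback
        ((IsPullback.of_hasPullback (pullback.snd a ι₀) _).paste_horiz
          (IsPullback.of_hasPullback a ι₀))).mpr ?_ |> fun h ↦ h
      exact prop_snd_of_fac ((c.π.app i ⁻¹ᵁ (U.1 : (D.obj i).Opens)).ι)
        (by simp [ι₀, opensCone, e₀]) h
    refine ⟨k.left, k.hom, ?_⟩
    refine prop_snd_of_fac (b := (opensDiagram D i U.1).map ψ ≫ ι₀) (𝟙 _) ?_ ?_
    · have : ψ.left = k.hom := by simpa [e₀] using Over.w ψ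
      simp [ι₀, opensDiagram, this, e₀]
    · exact (prop_iff_of_isPullback
        ((IsPullback.of_hasPullback (pullback.snd a ι₀) _).paste_horiz
          (IsPullback.of_hasPullback a ι₀))).mp hk
  obtain ⟨j, φ, hj⟩ := exists_common_stage i
    (fun (U : s) j φ ↦ P (pullback.snd a ((D.map φ ⁻¹ᵁ (U.1 : (D.obj i).Opens)).ι ≫ D.map φ))) key
    fun U j j' φ ψ h ↦ prop_snd_of_fac
      ((D.map ψ).resLE (D.map φ ⁻¹ᵁ U.1) (D.map (ψ ≫ φ) ⁻¹ᵁ U.1)
        (by rw [← Scheme.Hom.comp_preimage, D.map_comp])) (by simp) h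
  refine ⟨j, φ, IsZariskiLocalAtTarget.of_iSup_eq_top (P := P)
    (fun U : s ↦ D.map φ ⁻¹ᵁ (U.1 : (D.obj i).Opens)) ?_ fun U ↦ ?_⟩
  · rw [← Scheme.Hom.preimage_iSup]
    refine top_le_iff.mp fun x _ ↦ ?_
    obtain ⟨U, hU, hxU⟩ := Set.mem_iUnion₂.mp (e.le (Set.mem_univ (D.map φ x)))
    exact TopologicalSpace.Opens.mem_iSup.mpr ⟨⟨U, hU⟩, hxU⟩
  · exact (prop_iff_of_isPullback ((isPullback_morphismRestrict _ _).flip.paste_horiz
      (IsPullback.of_hasPullback a (D.map φ)))).mpr (hj U)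

include hc in
/-- Reduction of descent to affine bases. -/
theorem exists_descend {P Q : MorphismProperty Scheme.{u}} [IsZariskiLocalAtTarget P]
    [P.IsStableUnderBaseChange] [Q.IsStableUnderBaseChange] (hP : DescendsAffine P Q) (i : I)
    [CompactSpace (D.obj i)] [QuasiSeparatedSpace (D.obj i)] {T : Scheme.{u}} (a : T ⟶ D.obj i)
    [CompactSpace T] [QuasiSeparatedSpace T] (hQ : Q a)
    (h : P (pullback.snd a (c.π.app i))) :
    ∃ (j : I) (φ : j ⟶ i), P (pullback.snd a (D.map φ)) :=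
  have : QuasiSeparated a := (quasiSeparated_iff_quasiSeparatedSpace a).mpr ‹_›
  exists_descend_of_compactSpace hc hP i a hQ h

include hc in
/-- The shape in which descent statements are applied: base change along `g₀ : Y₀ ⟶ D i₀`. -/
theorem exists_descend_square {P Q : MorphismProperty Scheme.{u}} [P.IsStableUnderBaseChange]
    [Q.IsStableUnderBaseChange] (i₀ : I) {X₀ Y₀ : Scheme.{u}}
    (f₀ : X₀ ⟶ Y₀) (g₀ : Y₀ ⟶ D.obj i₀)
    [CompactSpace X₀] [QuasiSeparatedSpace X₀] [CompactSpace Y₀] [QuasiSeparatedSpace Y₀]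
    (hdesc : ∀ (J : Type u) [Category.{u} J] [IsCofiltered J] (E : J ⥤ Scheme.{u}) (d : Cone E)
      (_ : IsLimit d) [∀ (i j : J) (f : i ⟶ j), IsAffineHom (E.map f)] (e : J)
      [CompactSpace (E.obj e)] [QuasiSeparatedSpace (E.obj e)] {T : Scheme.{u}} (a : T ⟶ E.obj e)
      [CompactSpace T] [QuasiSeparatedSpace T], Q a → P (pullback.snd a (d.π.app e)) →
        ∃ (j : J) (φ : j ⟶ e), P (pullback.snd a (E.map φ)))
    {X Y : Scheme.{u}} {f : X ⟶ Y} {g : Y ⟶ c.pt} {qY : Y ⟶ Y₀} {qX : X ⟶ X₀}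
    (hY : IsPullback qY g g₀ (c.π.app i₀)) (hX : IsPullback qX f f₀ qY) (hQ : Q f₀) (h : P f) :
    ∃ (i : I) (φ : i ⟶ i₀) (Xi Yi : Scheme.{u}) (fi : Xi ⟶ Yi) (gi : Yi ⟶ D.obj i) (pY : Yi ⟶ Y₀)
      (pX : Xi ⟶ X₀), IsPullback pY gi g₀ (D.map φ) ∧ IsPullback pX fi f₀ pY ∧ P fi := by
  let e₀ : Over i₀ := Over.mk (𝟙 i₀)
  let b : (pbDiagram D i₀ g₀).obj e₀ ⟶ Y₀ := pullback.fst _ _
  have : IsIso b := inferInstanceAs (IsIso (pullback.fst g₀ (D.map (𝟙 i₀))))
  let a' := pullback.snd f₀ b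
  have : CompactSpace ↥(pullback f₀ b) :=
    QuasiCompact.compactSpace_of_compactSpace (pullback.fst f₀ b)
  have : QuasiSeparatedSpace ↥(pullback f₀ b) :=
    quasiSeparatedSpace_of_quasiSeparated (pullback.fst f₀ b)
  obtain ⟨k, ψ, hk⟩ := hdesc (Over i₀) (pbDiagram D i₀ g₀) _ (isLimitPbCone D i₀ g₀ hc) e₀ a'
    (Q.pullback_snd _ _ hQ) <| by
      refine (prop_iff_of_isPullback
        ((IsPullback.of_hasPullback (pullback.snd f₀ b) _).paste_horiz
          (IsPullback.of_hasPullback f₀ b))).mpr ?_ |> fun h ↦ h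
      refine prop_snd_of_fac hY.isoPullback.inv ?_ ((prop_iff_of_isPullback hX).mp h)
      simp [b, pbCone]
  refine ⟨k.left, k.hom, _, _, _, pullback.snd g₀ (D.map k.hom), pullback.fst g₀ (D.map k.hom),
    pullback.fst a' ((pbDiagram D i₀ g₀).map ψ) ≫ pullback.fst f₀ b,
    IsPullback.of_hasPullback _ _, ?_, hk⟩
  have := (IsPullback.of_hasPullback a' ((pbDiagram D i₀ g₀).map ψ)).paste_horiz
    (IsPullback.of_hasPullback f₀ b)
  simpa [b] using this

include hc in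
/-- Descent along `g₀ : Y₀ ⟶ D i₀` for `Y₀` quasi-compact and `f₀` quasi-compact quasi-separated. -/
theorem exists_descend_square_iff {P Q : MorphismProperty Scheme.{u}} [IsZariskiLocalAtTarget P]
    [P.IsStableUnderBaseChange] [Q.IsStableUnderBaseChange] (hP : DescendsAffine P Q) (i₀ : I)
    {X₀ Y₀ : Scheme.{u}} (f₀ : X₀ ⟶ Y₀) (g₀ : Y₀ ⟶ D.obj i₀) [CompactSpace Y₀]
    [QuasiCompact f₀] [QuasiSeparated f₀]
    {X Y : Scheme.{u}} {f : X ⟶ Y} {g : Y ⟶ c.pt} {qY : Y ⟶ Y₀} {qX : X ⟶ X₀}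
    (hY : IsPullback qY g g₀ (c.π.app i₀)) (hX : IsPullback qX f f₀ qY) (hQ : Q f₀) :
    P f ↔ ∃ (i : I) (φ : i ⟶ i₀) (Xi Yi : Scheme.{u}) (fi : Xi ⟶ Yi) (gi : Yi ⟶ D.obj i)
      (pY : Yi ⟶ Y₀) (pX : Xi ⟶ X₀),
      IsPullback pY gi g₀ (D.map φ) ∧ IsPullback pX fi f₀ pY ∧ P fi := by
  constructor
  · intro h
    let e₀ : Over i₀ := Over.mk (𝟙 i₀)
    let b : (pbDiagram D i₀ g₀).obj e₀ ⟶ Y₀ := pullback.fst _ _
    have : IsIso b := inferInstanceAs (IsIso (pullback.fst g₀ (D.map (𝟙 i₀))))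
    let a' := pullback.snd f₀ b
    have : CompactSpace ↥((pbDiagram D i₀ g₀).obj e₀) :=
      QuasiCompact.compactSpace_of_compactSpace b
    obtain ⟨k, ψ, hk⟩ := exists_descend_of_compactSpace (isLimitPbCone D i₀ g₀ hc) hP e₀ a'
      (Q.pullback_snd _ _ hQ) <| by
        refine (prop_iff_of_isPullback
          ((IsPullback.of_hasPullback (pullback.snd f₀ b) _).paste_horiz
            (IsPullback.of_hasPullback f₀ b))).mpr ?_ |> fun h ↦ h
        refine prop_snd_of_fac hY.isoPullback.inv ?_ ((prop_iff_of_isPullback hX).mp h)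
        simp [b, pbCone]
    refine ⟨k.left, k.hom, _, _, _, pullback.snd g₀ (D.map k.hom), pullback.fst g₀ (D.map k.hom),
      pullback.fst a' ((pbDiagram D i₀ g₀).map ψ) ≫ pullback.fst f₀ b,
      IsPullback.of_hasPullback _ _, ?_, hk⟩
    have := (IsPullback.of_hasPullback a' ((pbDiagram D i₀ g₀).map ψ)).paste_horiz
      (IsPullback.of_hasPullback f₀ b)
    simpa [b] using this
  · rintro ⟨i, φ, Xi, Yi, fi, gi, pY, pX, hYi, hXi, h⟩
    have w : qY ≫ g₀ = (g ≫ c.π.app i) ≫ D.map φ := by rw [hY.w, Category.assoc, c.w]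
    exact (prop_iff_of_isPullback hX).mpr (prop_snd_of_fac (b := pY)
      (hYi.lift qY (g ≫ c.π.app i) w) (hYi.lift_fst _ _ w) ((prop_iff_of_isPullback hXi).mp h))

end Groth.Agent.H7Lim
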