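import Groth.Agent.H7Lim.ModStage
import Groth.Agent.H8Props.FunDescent.FlatStage
import Groth.Agent.H8Props.FinLocFree.Global
import Groth.Agent.H16Derived.KFlat.PerfConc

/-!
# Descent to a stage of finite local freeness (EGA IV 8.5.5)
-/

set_option autoImplicit false
set_option linter.style.haveILetI false
set_option backward.isDefEq.respectTransparency false

universe u

open CategoryTheory Limits AlgebraicGeometry TopologicalSpace TensorProduct

namespace Groth.Agent.H7Lim.ModLocFree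

open ModStage H8Props H8Props.FinLocFree H16Derived.KFlat.Stalk

variable {I : Type u} [SmallCategory I] [IsCofiltered I] {D : I ⥤ Scheme.{u}} {c : Cone D} (hc : IsLimit c)
  [∀ (i j : I) (f : i ⟶ j), IsAffineHom (D.map f)] {i₀ : I} [CompactSpace (D.obj i₀)]
  {F : (D.obj i₀).Modules}

theorem flat_tensor_iff_sections {X Z : Scheme.{u}} (p : Z ⟶ X) (G : X.Modules) (hG : Coh.IsQCoh G)
    {U : X.Opens} (hU : IsAffineOpen U) {W : Z.Opens} (hW : IsAffineOpen W) (hWU : W ≤ p ⁻¹ᵁ U) :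
    letI := (p.appLE U W hWU).hom.toAlgebra
    Module.Flat Γ(Z, W) (Γ(Z, W) ⊗[Γ(X, U)] Γ(G, U)) ↔
      Module.Flat Γ(Z, W) Γ((Scheme.Modules.pullback p).obj G, W) := by
  letI := (p.appLE U W hWU).hom.toAlgebra
  letI := Module.compHom Γ((Scheme.Modules.pullback p).obj G, W) (p.appLE U W hWU).hom
  haveI : IsScalarTower Γ(X, U) Γ(Z, W) Γ((Scheme.Modules.pullback p).obj G, W) :=
    .of_algebraMap_smul fun _ _ => rfl
  let e := (PullSections.isBaseChange_pullLin p G hWU hG hU hW).equiv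
  exact ⟨fun _ => Module.Flat.of_linearEquiv e.symm, fun _ => Module.Flat.of_linearEquiv e⟩

include hc in
theorem exists_stage_isFinLocFree (hF : CohB1.IsFP F)
    (h : FlatMod.IsFinLocFree ((Scheme.Modules.pullback (c.π.app i₀)).obj F)) :
    ∃ (j : I) (φ : j ⟶ i₀), FlatMod.IsFinLocFree ((Scheme.Modules.pullback (D.map φ)).obj F) := by
  have hFq := H29Fitt.isQCoh_of_isFP F hF
  have chart : ∀ z : (D.obj i₀ : Scheme.{u}), ∃ U : (D.obj i₀).Opens, z ∈ U ∧ IsAffineOpen U := fun z => by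
    obtain ⟨U, hU, hzU, -⟩ := exists_isAffineOpen_mem_and_subset (x := z) (U := (⊤ : (D.obj i₀).Opens)) trivial
    exact ⟨U, hzU, hU⟩
  choose U hzU hU using chart
  obtain ⟨s, hs⟩ := isCompact_univ.elim_finite_subcover (fun z => (U z : Set _)) (fun z => (U z).isOpen)
    (fun z _ => ⟨(U z : Set _), ⟨z, rfl⟩, hzU z⟩)
  letI alg := fun z (j : Over i₀) => stageAlgebra (D := D) (U z) j
  letI algLim := fun z => limitAlgebra (c := c) (U z)
  have sys := fun z => stageSystem hc (U z) (hU z)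
  have stab : ∀ z (j l : Over i₀), (l ⟶ j) →
      Module.Flat (stageRing D (U z) j) (stageRing D (U z) j ⊗[Γ(D.obj i₀, U z)] Γ(F, U z)) →
      Module.Flat (stageRing D (U z) l) (stageRing D (U z) l ⊗[Γ(D.obj i₀, U z)] Γ(F, U z)) := by
    intro z j l ψ H
    let R := Γ(D.obj i₀, U z)
    let A := stageRing D (U z) j
    let B := stageRing D (U z) l
    letI : Algebra A B := ((sys z).m ψ).toRingHom.toAlgebra
    haveI : IsScalarTower R A B := .of_algebraMap_eq fun r => (((sys z).m ψ).commutes r).symm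
    haveI := H
    haveI : Module.Flat B (B ⊗[A] (A ⊗[R] Γ(F, U z))) := inferInstance
    exact Module.Flat.of_linearEquiv (AlgebraTensorModule.cancelBaseChange R A B B Γ(F, U z)).symm
  have one : ∀ z, ∃ j : Over i₀,
      Module.Flat (stageRing D (U z) j) (stageRing D (U z) j ⊗[Γ(D.obj i₀, U z)] Γ(F, U z)) := by
    intro z
    haveI : IsAffineHom (c.π.app i₀) := isAffineHom_π_app _ _ hc i₀
    haveI := H17.FPExt.fpAt_of_isFP hF (hU z)
    haveI : Module.FinitePresentation Γ(D.obj i₀, U z) Γ(F, U z) := H17.FPExt.fpAt_of_isFP hF (hU z)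
    have hlim : Module.Flat Γ(c.pt, c.π.app i₀ ⁻¹ᵁ U z)
        (Γ(c.pt, c.π.app i₀ ⁻¹ᵁ U z) ⊗[Γ(D.obj i₀, U z)] Γ(F, U z)) :=
      (flat_tensor_iff_sections (c.π.app i₀) F hFq (hU z) ((hU z).preimage _) le_rfl).2
        ((flat_sections_iff _ (isQCoh_of_isFinLocFree _ h) ((hU z).preimage _)).2
          fun x => isFlatAt_of_isFinLocFree _ h x.1)
    exact FunDescent.exists_flat_stage_module (A₀ := Γ(D.obj i₀, U z)) (B₀ := Γ(D.obj i₀, U z))
      Γ(F, U z) (sys z).approx hlim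
  choose j hj using one
  obtain ⟨l, hl⟩ : ∃ l : Over i₀, ∀ z ∈ s,
      Module.Flat (stageRing D (U z) l) (stageRing D (U z) l ⊗[Γ(D.obj i₀, U z)] Γ(F, U z)) := by
    classical
    obtain ⟨l, hl⟩ := IsCofiltered.inf_objs_exists (s.image j)
    exact ⟨l, fun z hz => stab z _ _ (hl (Finset.mem_image_of_mem _ hz)).some (hj z)⟩
  refine ⟨l.left, l.hom, isFinLocFree_of_sections _ (H29Fitt.isQCoh_pullback _ F hFq) fun z => ?_⟩
  obtain ⟨z₀, hz₀, hzz⟩ := Set.mem_iUnion₂.1 (hs (Set.mem_univ (D.map l.hom z)))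
  have hW : IsAffineOpen (D.map l.hom ⁻¹ᵁ U z₀) := (hU z₀).preimage (D.map l.hom)
  exact ⟨D.map l.hom ⁻¹ᵁ U z₀, hW, hzz, finitePresentation_sections _ (H06EGA9.isFP_pullback _ hF) hW,
    (flat_tensor_iff_sections (D.map l.hom) F hFq (hU z₀) hW le_rfl).1 (hl z₀ hz₀)⟩

omit [IsCofiltered I] [∀ (i j : I) (f : i ⟶ j), IsAffineHom (D.map f)] [CompactSpace (D.obj i₀)] in
theorem isFinLocFree_of_iso {X : Scheme.{u}} {M N : X.Modules} (e : M ≅ N) (h : FlatMod.IsFinLocFree M) :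
    FlatMod.IsFinLocFree N := fun x => by
  obtain ⟨U, n, hx, ⟨e'⟩⟩ := h x
  exact ⟨U, n, hx, ⟨((Scheme.Modules.restrictFunctor U.ι).mapIso e).symm ≪≫ e'⟩⟩

omit [IsCofiltered I] [∀ (i j : I) (f : i ⟶ j), IsAffineHom (D.map f)] [CompactSpace (D.obj i₀)] in
theorem isFinLocFree_of_rank {X : Scheme.{u}} {M : X.Modules} {n : ℕ} (h : FlatMod.IsFinLocFreeOfRank n M) :
    FlatMod.IsFinLocFree M := fun x => by
  obtain ⟨U, hx, he⟩ := h x
  exact ⟨U, n, hx, he⟩

include hc in
theorem isFinLocFree_iff (hF : CohB1.IsFP F) :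
    FlatMod.IsFinLocFree ((Scheme.Modules.pullback (c.π.app i₀)).obj F) ↔
      ∃ (j : I) (φ : j ⟶ i₀), FlatMod.IsFinLocFree ((Scheme.Modules.pullback (D.map φ)).obj F) :=
  ⟨exists_stage_isFinLocFree hc hF, fun ⟨j, φ, h⟩ =>
    isFinLocFree_of_iso ((πIso φ).app F) (isFinLocFree_pullback (c.π.app j) h)⟩

include hc in
theorem isFinLocFreeOfRank_iff (hF : CohB1.IsFP F) (n : ℕ) :
    FlatMod.IsFinLocFreeOfRank n ((Scheme.Modules.pullback (c.π.app i₀)).obj F) ↔
      ∃ (j : I) (φ : j ⟶ i₀), FlatMod.IsFinLocFreeOfRank n ((Scheme.Modules.pullback (D.map φ)).obj F) := by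
  constructor
  · intro h
    obtain ⟨j, φ, hj⟩ := exists_stage_isFinLocFree hc hF (isFinLocFree_of_rank h)
    haveI : CompactSpace (D.obj j) := QuasiCompact.compactSpace_of_compactSpace (D.map φ)
    let M := (Scheme.Modules.pullback (D.map φ)).obj F
    have hlc : IsLocallyConstant (rfd M) := isLocallyConstant_rank M hj
    have hB : IsOpen {x | rfd M x ≠ n} := hlc {m | m ≠ n}
    have hBc : IsClosed {x | rfd M x ≠ n} :=
      ⟨by
        have e : {x | rfd M x ≠ n}ᶜ = rfd M ⁻¹' {n} := by ext; simp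
        rw [e]
        exact hlc {n}⟩
    have he : c.π.app j ⁻¹' {x | rfd M x ≠ n} = ∅ := Set.eq_empty_iff_forall_notMem.2 fun y hy => by
      refine hy ?_
      exact (rfd_pullback (c.π.app j) M y).symm.trans
        ((rfd_congr ((πIso φ).app F) y).trans (rfd_of_isFinLocFreeOfRank h y))
    obtain ⟨k, ψ, hk⟩ := (qcImage_of_isOpen_isCompact hB hBc.isCompact).exists_preimage_eq_empty hc he
    refine ⟨k, ψ ≫ φ, isFinLocFreeOfRank_of_rfd
      (isFinLocFree_of_iso ((mapIso φ ψ).app F) (isFinLocFree_pullback (D.map ψ) hj)) n fun y => ?_⟩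
    rw [← rfd_congr ((mapIso φ ψ).app F) y]
    refine (rfd_pullback (D.map ψ) M y).trans ?_
    by_contra hne
    exact (Set.eq_empty_iff_forall_notMem.1 hk) y hne
  · rintro ⟨j, φ, h⟩
    refine isFinLocFreeOfRank_of_rfd
      (isFinLocFree_of_iso ((πIso φ).app F) (isFinLocFree_pullback (c.π.app j) (isFinLocFree_of_rank h))) n
      fun y => ?_
    rw [← rfd_congr ((πIso φ).app F) y]
    exact (rfd_pullback (c.π.app j) _ y).trans (rfd_of_isFinLocFreeOfRank h _)

end Groth.Agent.H7Lim.ModLocFree
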