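import Groth.Agent.H7Lim.Thickening
import Mathlib.AlgebraicGeometry.Morphisms.Integral

/-! # Affine and integral morphisms of thickenings -/

set_option autoImplicit false
set_option backward.isDefEq.respectTransparency false

universe u

open AlgebraicGeometry CategoryTheory Limits

namespace Groth.Agent.H7Lim

variable {X X' S S' : Scheme.{u}} (iX : X ⟶ X') (iS : S ⟶ S') (f : X ⟶ S) (f' : X' ⟶ S')
  [IsClosedImmersion iX] [Surjective iX] [IsClosedImmersion iS]

theorem isAffineHom_iff_of_thickening (w : iX ≫ f' = f ≫ iS) : IsAffineHom f ↔ IsAffineHom f' := by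
  refine ⟨fun hf => ⟨fun V hV => ?_⟩, fun hf' => ?_⟩
  · haveI : IsAffineHom (iX ≫ f') := by rw [w]; infer_instance
    have hpre : IsAffineOpen (iX ⁻¹ᵁ (f' ⁻¹ᵁ V)) := hV.preimage (iX ≫ f')
    haveI : IsAffine (iX ⁻¹ᵁ (f' ⁻¹ᵁ V) : X.Opens).toScheme := hpre
    haveI : IsClosedImmersion (iX ∣_ (f' ⁻¹ᵁ V)) := IsZariskiLocalAtTarget.restrict ‹_› _
    haveI : Surjective (iX ∣_ (f' ⁻¹ᵁ V)) := IsZariskiLocalAtTarget.restrict ‹_› _
    exact isAffine_of_surjective_closedImmersion (iX ∣_ (f' ⁻¹ᵁ V)) (Scheme.Hom.surjective _)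
  · haveI : IsAffineHom (f ≫ iS) := by rw [← w]; infer_instance
    exact MorphismProperty.of_postcomp @IsAffineHom f iS (show IsSeparated iS from inferInstance) ‹_›

theorem isIntegralHom_iff_of_thickening (w : iX ≫ f' = f ≫ iS) : IsIntegralHom f ↔ IsIntegralHom f' := by
  refine ⟨fun hf => ?_, fun hf' => ?_⟩
  · rw [IsIntegralHom.iff_universallyClosed_and_isAffineHom]
    haveI : UniversallyClosed (iX ≫ f') := by rw [w]; infer_instance
    exact ⟨UniversallyClosed.of_comp_surjective iX f', (isAffineHom_iff_of_thickening iX iS f f' w).1 inferInstance⟩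
  · haveI : IsIntegralHom (f ≫ iS) := by rw [← w]; infer_instance
    exact IsIntegralHom.of_comp f iS

end Groth.Agent.H7Lim
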