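import Groth.Agent.H7Flat.GenericFlatness
import Groth.Agent.H17.Reduced
import Mathlib.AlgebraicGeometry.Morphisms.UniversallyOpen
import Mathlib.AlgebraicGeometry.Fiber

/-!
# Quasi-separatedness over a dense open of an integral base
-/

set_option autoImplicit false
set_option linter.style.haveILetI false
set_option backward.isDefEq.respectTransparency false

universe u

open CategoryTheory CategoryTheory.Limits AlgebraicGeometry TopologicalSpace

namespace Groth.Agent.H7Lim.QSOpen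

theorem mem_of_dense {S : Scheme.{u}} [IsIntegral S] {D : S.Opens} (hD : Dense (D : Set S)) :
    genericPoint S ∈ D :=
  ((genericPoint_spec S).mem_open_set_iff D.2).2 (by simpa using hD.nonempty)

/-- The intersection of two affine opens is compact over a dense open of the base. -/
theorem exists_pair {X S : Scheme.{u}} (q : X ⟶ S) [IsIntegral S] [IsAffine S] [LocallyOfFiniteType q]
    {U₁ U₂ : X.Opens} (hU₁ : IsAffineOpen U₁) :
    ∃ (D : S.Opens) (O : X.Opens), genericPoint S ∈ D ∧ IsCompact (O : Set X) ∧ O ≤ U₁ ⊓ U₂ ∧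
      ∀ z, z ∈ U₁ → z ∈ U₂ → q z ∈ D → z ∈ O := by
  classical
  haveI : IsAffine (U₁ : Scheme.{u}) := hU₁
  let η := genericPoint S
  let h := U₁.ι ≫ q
  haveI : QuasiCompact h := (HasAffineProperty.iff_of_isAffine (P := @QuasiCompact)).2 (inferInstance : CompactSpace _)
  haveI : LocallyOfFiniteType (h.fiberToSpecResidueField η) := MorphismProperty.pullback_snd _ _ inferInstance
  haveI : IsLocallyNoetherian (h.fiber η) := LocallyOfFiniteType.isLocallyNoetherian (h.fiberToSpecResidueField η)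
  haveI : QuasiCompact (h.fiberToSpecResidueField η) := MorphismProperty.pullback_snd _ _ inferInstance
  haveI : CompactSpace ↥(h.fiber η) := QuasiCompact.compactSpace_of_compactSpace (h.fiberToSpecResidueField η)
  haveI : IsNoetherian (h.fiber η) := {}
  let ρ := h.fiberι η ≫ U₁.ι
  let C : Set X := ρ '' (ρ ⁻¹' (U₂ : Set X))
  have hC : IsCompact C := (NoetherianSpace.isCompact _).image ρ.continuous
  have hch : ∀ c : C, ∃ W : X.Opens, IsAffineOpen W ∧ c.1 ∈ W ∧ W ≤ U₁ ⊓ U₂ := by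
    rintro ⟨_, f, hf, rfl⟩
    have hmem : ρ f ∈ (U₁ ⊓ U₂ : X.Opens) := ⟨by
      show (h.fiberι η ≫ U₁.ι) f ∈ U₁
      rw [Scheme.Hom.comp_apply]
      exact (h.fiberι η f).2, hf⟩
    obtain ⟨_, ⟨W, hW, rfl⟩, h1, h2⟩ := X.isBasis_affineOpens.exists_subset_of_mem_open hmem (U₁ ⊓ U₂).2
    exact ⟨W, hW, h1, h2⟩
  choose W hW hcW hWle using hch
  obtain ⟨t, ht⟩ := hC.elim_finite_subcover (fun c => (W c : Set X)) (fun c => (W c).2)
    (fun x hx => Set.mem_iUnion.2 ⟨⟨x, hx⟩, hcW ⟨x, hx⟩⟩)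
  let O : X.Opens := ⨆ c ∈ t, W c
  have hO : (O : Set X) = ⋃ c ∈ t, (W c : Set X) := by simp [O]
  have hOgen : ∀ z, z ∈ U₁ → z ∈ U₂ → q z = η → z ∈ O := by
    intro z h1 h2 h3
    obtain ⟨f, hf⟩ : (⟨z, h1⟩ : U₁.toScheme) ∈ Set.range (h.fiberι η) := by
      rw [Scheme.Hom.range_fiberι]
      show (U₁.ι ≫ q) _ = η
      rw [Scheme.Hom.comp_apply]
      exact h3
    have hz : ρ f = z := by
      show (h.fiberι η ≫ U₁.ι) f = z
      rw [Scheme.Hom.comp_apply, hf]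
      rfl
    show z ∈ (O : Set X)
    rw [hO]
    exact ht ⟨f, show ρ f ∈ (U₂ : Set X) from hz.symm ▸ h2, hz⟩
  let ι₀ := (Scheme.IdealSheafData.vanishingIdeal
    (⟨(U₁.ι ⁻¹' (O : Set X))ᶜ, (O.2.preimage U₁.ι.continuous).isClosed_compl⟩ : Closeds U₁.toScheme)).subschemeι
  haveI : IsClosedImmersion ι₀ := IsClosedImmersion.instSubschemeι _
  obtain ⟨D, hD, hfl, -⟩ := H7Flat.exists_dense_flatLFP (ι₀ ≫ h)
  refine ⟨D, O, mem_of_dense hD, ?_, iSup₂_le fun c _ => hWle c, ?_⟩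
  · rw [hO]
    exact t.finite_toSet.isCompact_biUnion fun c _ => (hW c).isCompact
  intro z h1 h2 h3
  by_contra hzO
  obtain ⟨z', hz'⟩ : (⟨z, h1⟩ : U₁.toScheme) ∈ Set.range ι₀ := by
    rw [H17.range_vanishingIdeal_subschemeι]
    exact hzO
  have hz'' : U₁.ι (ι₀ z') = z := by rw [hz']; rfl
  have hz'D : (ι₀ ≫ h) z' ∈ D := by
    rw [Scheme.Hom.comp_apply, show h = U₁.ι ≫ q from rfl, Scheme.Hom.comp_apply, hz'']
    exact h3
  let a : ↥((ι₀ ≫ h) ⁻¹ᵁ D) := ⟨z', hz'D⟩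
  let b : ↥D := ⟨η, mem_of_dense hD⟩
  have hs : b ⤳ ((ι₀ ≫ h) ∣_ D) a := by
    refine D.ι.isOpenEmbedding.isInducing.specializes_iff.1 ?_
    exact genericPoint_specializes _
  haveI := hfl
  obtain ⟨w, hw, hwb⟩ := Flat.generalizingMap ((ι₀ ≫ h) ∣_ D) hs
  have hwη : q (U₁.ι (ι₀ w.1)) = η := by
    have e := congrArg (fun p : ↥D => p.1) hwb
    have e' : (((ι₀ ≫ h) ⁻¹ᵁ D).ι ≫ (ι₀ ≫ h)) w = η := by
      rw [← morphismRestrict_ι, Scheme.Hom.comp_apply]
      exact e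
    rw [Scheme.Hom.comp_apply] at e'
    simpa [h, Scheme.Hom.comp_apply] using e'
  have hsp : U₁.ι (ι₀ w.1) ⤳ z := hz'' ▸ ((hw.map continuous_subtype_val).map ι₀.continuous).map U₁.ι.continuous
  have hwO := hOgen _ (ι₀ w.1).2 (hsp.mem_open U₂.2 h2) hwη
  have : ι₀ w.1 ∈ (U₁.ι ⁻¹' (O : Set X))ᶜ := by
    have h' : ι₀ w.1 ∈ Set.range ι₀ := ⟨_, rfl⟩
    rw [H17.range_vanishingIdeal_subschemeι] at h'
    exact h'
  exact this hwO

/-- A morphism of finite type to an integral affine scheme is quasi-separated over a dense basic open. -/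
theorem exists_basicOpen_quasiSeparated {X S : Scheme.{u}} (q : X ⟶ S) [IsIntegral S] [IsAffine S]
    [LocallyOfFiniteType q] [QuasiCompact q] :
    ∃ s : Γ(S, ⊤), genericPoint S ∈ S.basicOpen s ∧ QuasiSeparated (q ∣_ S.basicOpen s) := by
  classical
  haveI : CompactSpace X := QuasiCompact.compactSpace_of_compactSpace q
  have hch : ∀ x : X, ∃ U : X.Opens, IsAffineOpen U ∧ x ∈ U := fun x => by
    obtain ⟨_, ⟨U, hU, rfl⟩, hxU, -⟩ :=
      X.isBasis_affineOpens.exists_subset_of_mem_open (Set.mem_univ x) isOpen_univ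
    exact ⟨U, hU, hxU⟩
  choose U hU hxU using hch
  obtain ⟨t, ht⟩ := isCompact_univ.elim_finite_subcover (fun x => (U x : Set X)) (fun x => (U x).2)
    (fun x _ => Set.mem_iUnion.2 ⟨x, hxU x⟩)
  choose D O hD hOc hOle hOD using fun p : t × t => exists_pair q (U₂ := U p.2.1) (hU p.1.1)
  obtain ⟨_, ⟨_, ⟨s, rfl⟩, rfl⟩, hs, hsD⟩ := (isBasis_basicOpen S).exists_subset_of_mem_open
    (show genericPoint S ∈ ⋂ p, (D p : Set S) from Set.mem_iInter.2 hD) (isOpen_iInter_of_finite fun p => (D p).2)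
  refine ⟨s, hs, ?_⟩
  let B := S.basicOpen s
  haveI : IsAffine (B : Scheme.{u}) := (isAffineOpen_top S).basicOpen s
  have hWaff : ∀ x, IsAffineOpen (U x ⊓ q ⁻¹ᵁ B) := fun x => by
    rw [Scheme.Hom.preimage_basicOpen]
    erw [← X.basicOpen_res (q.app ⊤ s) (homOfLE le_top).op]
    exact (hU x).basicOpen _
  rw [quasiSeparated_iff_quasiSeparatedSpace]
  let j := (q ⁻¹ᵁ B).ι
  refine Scheme.quasiSeparatedSpace_of_isOpenCover (fun x : t => j ⁻¹ᵁ U x.1) ?_ (fun x => ?_) (fun x y => ?_)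
  · refine IsOpenCover.mk (top_le_iff.1 fun w _ => ?_)
    obtain ⟨x, hx, hwx⟩ := Set.mem_iUnion₂.1 (ht (Set.mem_univ (j w)))
    exact Opens.mem_iSup.2 ⟨⟨x, hx⟩, hwx⟩
  · rw [← j.isAffineOpen_iff_of_isOpenImmersion, Scheme.Hom.image_preimage_eq_opensRange_inf,
      Scheme.Opens.opensRange_ι, inf_comm]
    exact hWaff x.1
  · rw [j.isOpenEmbedding.isEmbedding.isCompact_iff]
    have he : j '' ((j ⁻¹ᵁ U x.1 : Set _) ∩ (j ⁻¹ᵁ U y.1 : Set _)) =
        (O (x, y) : Set X) ∩ ((U x.1 ⊓ q ⁻¹ᵁ B : X.Opens) : Set X) := by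
      ext z
      constructor
      · rintro ⟨w, ⟨h1, h2⟩, rfl⟩
        exact ⟨hOD (x, y) _ h1 h2 (Set.mem_iInter.1 (hsD w.2) _), h1, w.2⟩
      · rintro ⟨h1, h2, h3⟩
        exact ⟨⟨z, h3⟩, ⟨(hOle _ h1).1, (hOle _ h1).2⟩, rfl⟩
    rw [he]
    exact (hU x.1).isQuasiSeparated _ _ (fun z hz => (hOle _ hz).1) (O (x, y)).2 (hOc _)
      Set.inter_subset_left (U x.1 ⊓ q ⁻¹ᵁ B).2 (hWaff x.1).isCompact

end Groth.Agent.H7Lim.QSOpen
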