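import Groth.Agent.H7Lim.GRReduction
import Groth.Agent.H7Lim.QSOpen
import Groth.Agent.H8Props.SmoothStrat.Field
import Groth.Agent.H8Props.SmoothStrat.Generic
import Groth.Agent.H27Perf.Cancel

/-!
# A finite radicial base change making the generic fibre geometrically reduced
-/

set_option autoImplicit false
set_option linter.style.haveILetI false
set_option backward.isDefEq.respectTransparency false

universe u

open CategoryTheory CategoryTheory.Limits AlgebraicGeometry TopologicalSpace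

namespace Groth.Agent.H7Lim.GRGenFibre

open Groth.Agent.H8Props.SmoothStrat in
/-- A finite purely inseparable extension of the fraction field of a domain has a finite radicial model. -/
theorem exists_model {R K K' : Type u} [CommRing R] [IsDomain R]
    [Field K] [Algebra R K] [IsFractionRing R K] [Field K'] [Algebra K K']
    [Algebra R K'] [IsScalarTower R K K'] [Module.Finite K K'] [IsPurelyInseparable K K'] :
    ∃ (L : Type u) (_ : CommRing L) (_ : IsDomain L) (_ : Algebra R L) (_ : Algebra L K')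
      (_ : IsScalarTower R L K'), IsFractionRing L K' ∧ Module.Finite R L ∧
      Function.Injective (algebraMap R L) ∧
      UniversallyInjective (Spec.map (CommRingCat.ofHom (algebraMap R L))) := by
  classical
  obtain ⟨p, hp⟩ := ExpChar.exists K
  haveI := hp
  haveI : ExpChar K' p := expChar_of_injective_algebraMap (algebraMap K K').injective p
  have hp1 : 1 ≤ p := (expChar_pos K p)
  have hinj : Function.Injective (algebraMap R K') := by
    rw [IsScalarTower.algebraMap_eq R K K']
    exact (algebraMap K K').injective.comp (IsFractionRing.injective R K)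
  let b := Module.finBasis K K'
  have hb : ∀ i, ∃ (c : R), c ≠ 0 ∧ ∃ n : ℕ,
      (algebraMap R K' c * b i) ^ p ^ n ∈ Set.range (algebraMap R K') := by
    intro i
    obtain ⟨n, k, hk⟩ := IsPurelyInseparable.pow_mem K p (b i)
    obtain ⟨r, c, hc, hrc⟩ := IsFractionRing.div_surjective (A := R) k
    have hc0 : c ≠ 0 := nonZeroDivisors.ne_zero hc
    have hcK : algebraMap R K c ≠ 0 := fun e => hc0 (IsFractionRing.injective R K (by simpa using e))
    obtain ⟨m, hm⟩ : ∃ m, p ^ n = m + 1 :=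
      ⟨p ^ n - 1, (Nat.succ_pred_eq_of_pos (pow_pos hp1 n)).symm⟩
    refine ⟨c, hc0, n, c ^ m * r, ?_⟩
    rw [mul_pow, ← hk, hm, map_mul, map_pow, IsScalarTower.algebraMap_apply R K K' c,
      IsScalarTower.algebraMap_apply R K K' r, pow_succ, mul_assoc, ← map_mul]
    congr 2
    rw [← hrc, mul_div_cancel₀ _ hcK]
  choose c hc0 nn hnn using hb
  let x : Fin (Module.finrank K K') → K' := fun i => algebraMap R K' (c i) * b i
  let L := Algebra.adjoin R (Set.range x)
  have hpow : ∀ z ∈ L, ∃ n : ℕ, z ^ p ^ n ∈ Set.range (algebraMap R K') := by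
    intro z hz
    induction hz using Algebra.adjoin_induction with
    | mem z hz => obtain ⟨i, rfl⟩ := hz; exact ⟨nn i, hnn i⟩
    | algebraMap r => exact ⟨0, r, by simp⟩
    | add z w _ _ h1 h2 =>
      obtain ⟨n, a, ha⟩ := h1
      obtain ⟨m, a', ha'⟩ := h2
      refine ⟨n + m, a ^ p ^ m + a' ^ p ^ n, ?_⟩
      rw [add_pow_expChar_pow, map_add, map_pow, map_pow, ha, ha', ← pow_mul, ← pow_mul, ← pow_add,
        ← pow_add, add_comm m n]
    | mul z w _ _ h1 h2 =>
      obtain ⟨n, a, ha⟩ := h1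
      obtain ⟨m, a', ha'⟩ := h2
      refine ⟨n + m, a ^ p ^ m * a' ^ p ^ n, ?_⟩
      rw [mul_pow, map_mul, map_pow, map_pow, ha, ha', ← pow_mul, ← pow_mul, ← pow_add, ← pow_add,
        add_comm m n]
  have hfin : Module.Finite R L := by
    refine Module.Finite.of_fg (fg_adjoin_of_finite (Set.finite_range x) ?_)
    rintro z ⟨i, rfl⟩
    refine IsIntegral.of_pow (pow_pos hp1 (nn i)) ?_
    obtain ⟨a, ha⟩ := hnn i
    show IsIntegral R (x i ^ p ^ nn i)
    rw [← ha]
    exact isIntegral_algebraMap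
  have hRL : Function.Injective (algebraMap R L) := fun a a' h =>
    hinj (congr_arg (Subtype.val) h)
  haveI : FaithfulSMul R L := (faithfulSMul_iff_algebraMap_injective _ _).2 hRL
  refine ⟨L, inferInstance, inferInstance, inferInstance, inferInstance, inferInstance, ?_, hfin,
    hRL, ?_⟩
  · refine IsFractionRing.of_field L K' fun z => ?_
    let k : Fin (Module.finrank K K') → K := fun i => b.repr z i / algebraMap R K (c i)
    obtain ⟨d, hd⟩ := IsLocalization.exist_integer_multiples (nonZeroDivisors R) Finset.univ k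
    choose a ha using fun i => hd i (Finset.mem_univ i)
    refine ⟨∑ i, algebraMap R L (a i) * ⟨x i, Algebra.subset_adjoin ⟨i, rfl⟩⟩,
      algebraMap R L (d : R), ?_⟩
    have hd0 : algebraMap R K' (d : R) ≠ 0 := fun e =>
      nonZeroDivisors.ne_zero d.2 (hinj (by simpa using e))
    show z = _ / algebraMap R K' (d : R)
    rw [eq_div_iff hd0]
    simp only [map_sum, map_mul]
    conv_lhs => rw [← b.sum_repr z, Finset.sum_mul]
    refine Finset.sum_congr rfl fun i _ => ?_
    show _ = algebraMap R K' (a i) * x i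
    have hcK : algebraMap R K (c i) ≠ 0 :=
      fun e => hc0 i (IsFractionRing.injective R K (by simpa using e))
    rw [IsScalarTower.algebraMap_apply R K K' (a i), ha, Algebra.smul_def (d : R) (k i),
      map_mul, ← IsScalarTower.algebraMap_apply, Algebra.smul_def]
    simp only [x, k]
    rw [IsScalarTower.algebraMap_apply R K K' (c i), map_div₀]
    have : algebraMap K K' (algebraMap R K (c i)) ≠ 0 := by simpa using hcK
    field_simp
  · refine H8Props.SmoothStrat.universallyInjective_of_pow_mem p ?_ fun z => ?_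
    · rcases hp with _ | ⟨hp⟩
      · exact .inl rfl
      · exact .inr ⟨hp, IsFractionRing.injective R K (by simp)⟩
    · obtain ⟨n, a, ha⟩ := hpow z z.2
      exact ⟨n, a, Subtype.ext ha⟩


theorem exists_affine_model {Y : Scheme.{u}} [IrreducibleSpace Y] :
    ∃ (W : Y.Opens) (R : Type u) (_ : CommRing R) (_ : IsDomain R)
      (c : Spec (CommRingCat.of R) ⟶ (W : Scheme.{u})),
      IsAffineOpen W ∧ genericPoint Y ∈ W ∧ IsClosedImmersion c ∧ Surjective c := by
  obtain ⟨_, ⟨W', hW', rfl⟩, hηW, -⟩ :=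
    Y.isBasis_affineOpens.exists_subset_of_mem_open (Set.mem_univ (genericPoint Y)) isOpen_univ
  let W : Y.Opens := W'
  have hW : IsAffineOpen W := hW'
  let p : Ideal Γ(Y, W) := (hW.primeIdealOf ⟨genericPoint Y, hηW⟩).asIdeal
  haveI : p.IsPrime := (hW.primeIdealOf ⟨genericPoint Y, hηW⟩).2
  have hp : ∀ q : PrimeSpectrum Γ(Y, W), p ≤ q.asIdeal := fun q => by
    refine (PrimeSpectrum.le_iff_specializes (hW.primeIdealOf ⟨genericPoint Y, hηW⟩) q).2
      (hW.fromSpec.isEmbedding.specializes_iff.1 ?_)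
    rw [hW.fromSpec_primeIdealOf]
    exact genericPoint_specializes _
  let m := Spec.map (CommRingCat.ofHom (Ideal.Quotient.mk p))
  haveI : IsClosedImmersion m := IsClosedImmersion.spec_of_surjective _ Ideal.Quotient.mk_surjective
  haveI : Surjective m := by
    refine ⟨fun q => ?_⟩
    have h1 : (q : PrimeSpectrum Γ(Y, W)) ∈ Set.range (PrimeSpectrum.comap (Ideal.Quotient.mk p)) := by
      rw [_root_.range_comap_of_surjective _ _ Ideal.Quotient.mk_surjective, PrimeSpectrum.mem_zeroLocus,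
        Ideal.mk_ker]
      exact hp q
    exact h1
  exact ⟨W, Γ(Y, W) ⧸ p, inferInstance, inferInstance, m ≫ hW.isoSpec.inv, hW, hηW, inferInstance, inferInstance⟩

theorem isIso_of_field {k κ : Type u} [Field k] [Field κ] (φ : CommRingCat.of κ ⟶ CommRingCat.of k)
    [IsPreimmersion (Spec.map φ)] : IsIso (Spec.map φ) := by
  haveI : Surjective (Spec.map φ) := ⟨fun y => ⟨IsLocalRing.closedPoint k, Subsingleton.elim (α := PrimeSpectrum κ) _ _⟩⟩
  haveI : IsClosedImmersion (Spec.map φ) :=
    IsClosedImmersion.of_isPreimmersion _ (by rw [(Spec.map φ).surjective.range_eq]; exact isClosed_univ)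
  haveI : IsReduced (Spec (CommRingCat.of κ)) := inferInstance
  exact isIso_of_isClosedImmersion_of_surjective _

/-- Geometric reducedness of a fibre may be tested on any preimmersion of a field spectrum at the point. -/
theorem geometricallyReduced_fibre {X Y : Scheme.{u}} (q : X ⟶ Y) {k : Type u} [Field k]
    (θ : Spec (CommRingCat.of k) ⟶ Y) [IsPreimmersion θ] (y : Y) (hy : θ (IsLocalRing.closedPoint k) = y)
    [GeometricallyReduced (pullback.snd q θ)] : GeometricallyReduced (q.fiberToSpecResidueField y) := by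
  subst hy
  obtain ⟨φ, hφ⟩ : ∃ φ : Y.residueField (θ (IsLocalRing.closedPoint k)) ⟶ CommRingCat.of k,
      θ = Spec.map φ ≫ Y.fromSpecResidueField _ :=
    ⟨_, ((Scheme.SpecToEquivOfField k _).symm_apply_apply θ).symm⟩
  let a := Y.fromSpecResidueField (θ (IsLocalRing.closedPoint k))
  haveI : IsPreimmersion (Spec.map φ ≫ a) := hφ ▸ ‹IsPreimmersion θ›
  haveI : IsPreimmersion (Spec.map φ) := IsPreimmersion.of_comp (Spec.map φ) a
  haveI := isIso_of_field φ
  let e := pullback.map q θ q a (𝟙 _) (Spec.map φ) (𝟙 _) (by simp) (by simp [a, ← hφ])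
  haveI : IsIso e := inferInstance
  have h1 : GeometricallyReduced (pullback.snd q θ ≫ Spec.map φ) :=
    (MorphismProperty.cancel_right_of_respectsIso (P := @GeometricallyReduced) _ _).2 ‹_›
  rw [show pullback.snd q θ ≫ Spec.map φ = e ≫ pullback.snd q a from (pullback.lift_snd _ _ _).symm] at h1
  exact (MorphismProperty.cancel_left_of_respectsIso (P := @GeometricallyReduced) e _).1 h1

theorem flat_lfp_restrict {X S : Scheme.{u}} (q : X ⟶ S) {D U : S.Opens} (hle : U ≤ D) (P : MorphismProperty Scheme.{u})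
    [P.RespectsIso] [IsZariskiLocalAtTarget P] (h : P (q ∣_ D)) : P (q ∣_ U) := by
  have e := ((morphismRestrictRestrict q D (D.ι ⁻¹ᵁ U))).trans (morphismRestrictEq q
    (show D.ι ''ᵁ (D.ι ⁻¹ᵁ U) = U by
      rw [Scheme.Hom.image_preimage_eq_opensRange_inf, Scheme.Opens.opensRange_ι, inf_eq_right.2 hle]))
  exact (MorphismProperty.arrow_mk_iso_iff P e).1 (IsZariskiLocalAtTarget.restrict h _)

/-- The generic fibre of the reduction becomes geometrically reduced over a finite radicial cover of an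
affine open. -/
theorem exists_cover {X Y : Scheme.{u}} (f : X ⟶ Y) [IrreducibleSpace Y] [LocallyOfFiniteType f] [QuasiCompact f] :
    ∃ (W : Y.Opens) (S : Scheme.{u}) (_ : IsIntegral S) (g₀ : S ⟶ (W : Scheme.{u})) (X₀ : Scheme.{u})
      (r₀ : X₀ ⟶ pullback f (g₀ ≫ W.ι)) (k : Type u) (_ : Field k) (θ : Spec (CommRingCat.of k) ⟶ S),
      IsAffineOpen W ∧ genericPoint Y ∈ W ∧ IsAffine S ∧ IsFinite g₀ ∧ UniversallyInjective g₀ ∧ Surjective g₀ ∧
      IsClosedImmersion r₀ ∧ Surjective r₀ ∧ IsReduced X₀ ∧ IsPreimmersion θ ∧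
      θ (IsLocalRing.closedPoint k) = genericPoint S ∧
      GeometricallyReduced (pullback.snd (r₀ ≫ pullback.snd f (g₀ ≫ W.ι)) θ) := by
  obtain ⟨W, R, _, _, c, hW, hηW, _, _⟩ := exists_affine_model (Y := Y)
  let K := FractionRing R
  let ψ := Spec.map (CommRingCat.ofHom (algebraMap R K)) ≫ c ≫ W.ι
  haveI : IsLocallyNoetherian (pullback f ψ) := LocallyOfFiniteType.isLocallyNoetherian (pullback.snd f ψ)
  haveI : CompactSpace ↥(pullback f ψ) := QuasiCompact.compactSpace_of_compactSpace (pullback.snd f ψ)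
  haveI : IsNoetherian (pullback f ψ) := {}
  obtain ⟨k', _, _, _, _, hk'⟩ := GRReduction.exists_extension (pullback.snd f ψ)
    (genericPoints.finite (NoetherianSpace.finite_irreducibleComponents (α := ↥(pullback f ψ))))
  letI : Algebra R k' := ((algebraMap K k').comp (algebraMap R K)).toAlgebra
  haveI : IsScalarTower R K k' := .of_algebraMap_eq fun _ => rfl
  obtain ⟨L, _, _, _, _, _, hfrac, hfin, hinj, hUI⟩ := exists_model (R := R) (K := K) (K' := k')
  let v₀ := Spec.map (CommRingCat.ofHom (algebraMap R L))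
  let S := Spec (CommRingCat.of L)
  let θ : Spec (CommRingCat.of k') ⟶ S := Spec.map (CommRingCat.ofHom (algebraMap L k'))
  haveI : IsFinite v₀ := (IsFinite.SpecMap_iff _).2 (RingHom.finite_algebraMap.2 inferInstance)
  haveI : Surjective v₀ := H8Props.SmoothStrat.surjective_Spec_of_finite hinj
  haveI : UniversallyInjective v₀ := hUI
  haveI : UniversallyInjective c := inferInstance
  obtain ⟨hθfl, hθpre⟩ := H8Props.SmoothStrat.flat_isPreimmersion_fraction L k'
  haveI : Flat θ := hθfl
  haveI : IsPreimmersion θ := hθpre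
  let g₀ := v₀ ≫ c
  let h := g₀ ≫ W.ι
  let X₁ := pullback f h
  let r₀ := X₁.nilradical.subschemeι
  haveI : IsClosedImmersion r₀ := IsClosedImmersion.instSubschemeι _
  haveI : IsReduced X₁.nilradical.subscheme :=
    (H17.eq_nilradical_iff X₁.nilradical (Scheme.support_nilradical X₁)).2 rfl
  haveI : Surjective r₀ := by
    refine ⟨fun x => ?_⟩
    have h : x ∈ Set.range X₁.nilradical.subschemeι := by
      rw [Scheme.IdealSheafData.range_subschemeι, Scheme.support_nilradical]; trivial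
    exact h
  refine ⟨W, S, inferInstance, g₀, X₁.nilradical.subscheme, r₀, k', inferInstance, θ, hW, hηW, inferInstance,
    inferInstance, MorphismProperty.comp_mem _ _ _ hUI inferInstance, inferInstance, inferInstance, inferInstance,
    inferInstance, inferInstance, ?_, ?_⟩
  · rw [genericPoint_eq_bot_of_affine]
    exact H8Props.SmoothStrat.spec_fraction_apply L k' _
  let kl : Spec (CommRingCat.of k') ⟶ Spec (CommRingCat.of K) := Spec.map (CommRingCat.ofHom (algebraMap K k'))
  have hbase : kl ≫ ψ = θ ≫ h := by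
    show Spec.map _ ≫ Spec.map _ ≫ c ≫ W.ι = Spec.map _ ≫ (v₀ ≫ c) ≫ W.ι
    rw [Category.assoc, ← Spec.map_comp_assoc, ← Spec.map_comp_assoc, ← CommRingCat.ofHom_comp,
      ← CommRingCat.ofHom_comp, ← IsScalarTower.algebraMap_eq, ← IsScalarTower.algebraMap_eq]
  let g := pullback.snd f ψ
  let m : FBase.bc g k' ⟶ X₁ := pullback.lift (FBase.bcπ g k' ≫ pullback.fst f ψ) (FBase.bcStr g k' ≫ θ) (by
    rw [Category.assoc, pullback.condition, ← Category.assoc,
      show FBase.bcπ g k' ≫ pullback.snd f ψ = FBase.bcStr g k' ≫ kl from pullback.condition, Category.assoc, hbase,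
      Category.assoc])
  have hm : IsPullback m (FBase.bcStr g k') (pullback.snd f h) θ := by
    refine IsPullback.of_right (h₁₂ := pullback.fst f h) (h₂₂ := h) (v₁₃ := f) ?_ (pullback.lift_snd _ _ _)
      (IsPullback.of_hasPullback f h)
    rw [pullback.lift_fst, ← hbase]
    exact (IsPullback.of_hasPullback g kl).paste_horiz (IsPullback.of_hasPullback f ψ)
  let q := r₀ ≫ pullback.snd f h
  haveI : IsReduced (pullback q θ) := H8Props.isReduced_of_flat_isPreimmersion (pullback.fst q θ)
  let rF : pullback q θ ⟶ FBase.bc g k' := hm.lift (pullback.fst q θ ≫ r₀) (pullback.snd q θ)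
    (by rw [Category.assoc]; exact pullback.condition)
  have hrF : IsPullback (pullback.fst q θ) rF r₀ m := by
    refine IsPullback.of_bot ?_ (hm.lift_fst _ _ _).symm hm
    rw [hm.lift_snd]
    exact IsPullback.of_hasPullback q θ
  haveI : IsClosedImmersion rF := MorphismProperty.of_isPullback hrF ‹IsClosedImmersion r₀›
  haveI : Surjective rF := MorphismProperty.of_isPullback hrF ‹Surjective r₀›
  have := hk' (pullback q θ) rF
  rwa [show rF ≫ FBase.bcStr g k' = pullback.snd q θ from hm.lift_snd _ _ _] at this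

/-- Base change along a finite universal homeomorphism with geometrically reduced generic fibre of the reduction. -/
theorem exists_base_change {X Y : Scheme.{u}} (f : X ⟶ Y) [IrreducibleSpace Y] [LocallyOfFiniteType f] [QuasiCompact f] :
    ∃ (V : Y.Opens) (Y' : Scheme.{u}) (g : Y' ⟶ (V : Scheme.{u})) (X' : Scheme.{u})
      (r : X' ⟶ pullback f (g ≫ V.ι)) (_ : IsIntegral Y'),
      (V : Set Y).Nonempty ∧ IsAffine Y' ∧ IsFinite g ∧ FlatMor.IsUnivHomeo g ∧ IsClosedImmersion r ∧
      Surjective r ∧ IsReduced X' ∧ Flat (r ≫ pullback.snd f (g ≫ V.ι)) ∧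
      LocallyOfFinitePresentation (r ≫ pullback.snd f (g ≫ V.ι)) ∧
      QuasiCompact (r ≫ pullback.snd f (g ≫ V.ι)) ∧ QuasiSeparated (r ≫ pullback.snd f (g ≫ V.ι)) ∧
      GeometricallyReduced ((r ≫ pullback.snd f (g ≫ V.ι)).fiberToSpecResidueField (genericPoint Y')) := by
  obtain ⟨W, S, _, g₀, X₀, r₀, k, _, θ, hW, hηW, _, _, _, _, _, _, _, _, hθη, hGR⟩ := exists_cover f
  let h := g₀ ≫ W.ι
  let q := r₀ ≫ pullback.snd f h
  obtain ⟨D, hD, hfl, hlfp⟩ := H7Flat.exists_dense_flatLFP q
  obtain ⟨s, hs, hqs⟩ := QSOpen.exists_basicOpen_quasiSeparated q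
  let G : S.Opens := D ⊓ S.basicOpen s
  have hG : genericPoint S ∈ G := ⟨QSOpen.mem_of_dense hD, hs⟩
  let T : W.toScheme.Opens := ⟨(g₀ '' (G : Set S)ᶜ)ᶜ, (g₀.isClosedMap _ G.2.isClosed_compl).isOpen_compl⟩
  have hWη : g₀ (genericPoint S) = (⟨genericPoint Y, hηW⟩ : W.toScheme) := by
    obtain ⟨s₁, hs₁⟩ := g₀.surjective (⟨genericPoint Y, hηW⟩ : W.toScheme)
    have h1 : g₀ (genericPoint S) ⤳ (⟨genericPoint Y, hηW⟩ : W.toScheme) :=
      hs₁ ▸ (genericPoint_specializes s₁).map g₀.continuous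
    have h2 : (⟨genericPoint Y, hηW⟩ : W.toScheme) ⤳ g₀ (genericPoint S) :=
      W.ι.isOpenEmbedding.isInducing.specializes_iff.1 (genericPoint_specializes _)
    exact (h1.antisymm h2).eq
  have hηT : genericPoint Y ∈ W.ι ''ᵁ T := by
    refine ⟨⟨genericPoint Y, hηW⟩, ?_, rfl⟩
    rintro ⟨s', hs', he⟩
    exact hs' (g₀.injective (he.trans hWη.symm) ▸ hG)
  obtain ⟨_, ⟨V', hV', rfl⟩, hηV, hVT⟩ :=
    Y.isBasis_affineOpens.exists_subset_of_mem_open hηT (W.ι ''ᵁ T).2
  let V : Y.Opens := V'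
  have hVW : V ≤ W := fun y hy => by
    obtain ⟨w, -, rfl⟩ := hVT hy
    exact w.2
  haveI : IsIso (W.ι ∣_ V) := by
    haveI : Surjective (W.ι ∣_ V) := ⟨fun y => ⟨⟨⟨y.1, hVW y.2⟩, y.2⟩, Subtype.ext (by
      rw [← Scheme.Opens.ι_apply, ← Scheme.Hom.comp_apply, morphismRestrict_ι]; rfl)⟩⟩
    haveI : Epi (W.ι ∣_ V).base := (TopCat.epi_iff_surjective _).2 (W.ι ∣_ V).surjective
    exact IsOpenImmersion.isIso _
  let U : S.Opens := h ⁻¹ᵁ V
  have hUG : U ≤ G := fun x hx => by
    by_contra hx'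
    obtain ⟨w, hw, he⟩ := hVT (show h x ∈ (V : Set Y) from hx)
    have : g₀ x = w := W.ι.isOpenEmbedding.injective (((Scheme.Hom.comp_apply _ _ _).symm).trans he.symm)
    exact hw ⟨x, hx', this⟩
  have hηU : genericPoint S ∈ U := by
    show (g₀ ≫ W.ι) (genericPoint S) ∈ V
    rw [Scheme.Hom.comp_apply, hWη]
    exact hηV
  haveI : Nonempty ↥(U : Scheme.{u}) := ⟨⟨_, hηU⟩⟩
  haveI : IsIntegral (U : Scheme.{u}) := isIntegral_of_isOpenImmersion U.ι
  have hcomp : h ∣_ V = (g₀ ∣_ (W.ι ⁻¹ᵁ V)) ≫ (W.ι ∣_ V) := morphismRestrict_comp g₀ W.ι V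
  haveI : IsFinite (g₀ ∣_ (W.ι ⁻¹ᵁ V)) := IsZariskiLocalAtTarget.restrict ‹IsFinite g₀› _
  haveI : UniversallyInjective (g₀ ∣_ (W.ι ⁻¹ᵁ V)) := IsZariskiLocalAtTarget.restrict ‹UniversallyInjective g₀› _
  haveI : Surjective (g₀ ∣_ (W.ι ⁻¹ᵁ V)) := IsZariskiLocalAtTarget.restrict ‹Surjective g₀› _
  haveI : IsFinite (h ∣_ V) := by rw [hcomp]; infer_instance
  haveI : UniversallyInjective (h ∣_ V) := by
    rw [hcomp]; exact MorphismProperty.comp_mem _ _ _ ‹_› (inferInstanceAs (UniversallyInjective (W.ι ∣_ V)))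
  haveI : Surjective (h ∣_ V) := by rw [hcomp]; infer_instance
  haveI : IsAffine (V : Scheme.{u}) := hV'
  haveI : IsAffine (U : Scheme.{u}) := isAffine_of_isAffineHom (h ∣_ V)
  have hgV : (h ∣_ V) ≫ V.ι = U.ι ≫ h := morphismRestrict_ι h V
  let X' := (q ⁻¹ᵁ U).toScheme
  haveI : IsReduced X' := isReduced_of_isOpenImmersion (q ⁻¹ᵁ U).ι
  let m : pullback f ((h ∣_ V) ≫ V.ι) ⟶ pullback f h :=
    pullback.lift (pullback.fst _ _) (pullback.snd _ _ ≫ U.ι) (by rw [Category.assoc, ← hgV]; exact pullback.condition)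
  have hm : IsPullback m (pullback.snd f ((h ∣_ V) ≫ V.ι)) (pullback.snd f h) U.ι := by
    refine IsPullback.of_right (h₁₂ := pullback.fst f h) (h₂₂ := h) (v₁₃ := f) ?_ (pullback.lift_snd _ _ _)
      (IsPullback.of_hasPullback f h)
    rw [pullback.lift_fst, ← hgV]
    exact IsPullback.of_hasPullback _ _
  let r : X' ⟶ pullback f ((h ∣_ V) ≫ V.ι) := hm.lift ((q ⁻¹ᵁ U).ι ≫ r₀) (q ∣_ U)
    (by rw [Category.assoc]; exact (morphismRestrict_ι q U).symm)
  have hr : IsPullback (q ⁻¹ᵁ U).ι r r₀ m := by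
    refine IsPullback.of_bot ?_ (hm.lift_fst _ _ _).symm hm
    rw [hm.lift_snd]
    exact (isPullback_morphismRestrict q U).flip
  have hrs : r ≫ pullback.snd f ((h ∣_ V) ≫ V.ι) = q ∣_ U := hm.lift_snd _ _ _
  refine ⟨V, U, h ∣_ V, X', r, inferInstance, ⟨_, hηV⟩, inferInstance, inferInstance,
    H27Perf.isUnivHomeo_of _, MorphismProperty.of_isPullback hr ‹IsClosedImmersion r₀›,
    MorphismProperty.of_isPullback hr ‹Surjective r₀›, inferInstance, ?_⟩
  rw [hrs]
  refine ⟨flat_lfp_restrict q (hUG.trans inf_le_left) @Flat hfl,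
    flat_lfp_restrict q (hUG.trans inf_le_left) @LocallyOfFinitePresentation hlfp,
    IsZariskiLocalAtTarget.restrict (inferInstance : QuasiCompact q) U,
    flat_lfp_restrict q (hUG.trans inf_le_right) @QuasiSeparated hqs, ?_⟩
  have hθU : Set.range θ ⊆ Set.range U.ι := by
    rintro _ ⟨x, rfl⟩
    rw [Scheme.Opens.range_ι, Subsingleton.elim (α := PrimeSpectrum k) x (IsLocalRing.closedPoint k), hθη]
    exact hηU
  let θ' := IsOpenImmersion.lift U.ι θ hθU
  have hθ' : θ' ≫ U.ι = θ := IsOpenImmersion.lift_fac _ _ _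
  haveI : IsPreimmersion (θ' ≫ U.ι) := by rw [hθ']; infer_instance
  haveI : IsPreimmersion θ' := IsPreimmersion.of_comp θ' U.ι
  have hθ'η : θ' (IsLocalRing.closedPoint k) = genericPoint ↥(U : Scheme.{u}) := by
    apply U.ι.isOpenEmbedding.injective
    rw [← Scheme.Hom.comp_apply, hθ', hθη, genericPoint_eq_of_isOpenImmersion U.ι]
  have hsq : IsPullback (pullback.fst (q ∣_ U) θ' ≫ (q ⁻¹ᵁ U).ι) (pullback.snd (q ∣_ U) θ') q θ := by
    rw [← hθ']
    exact (IsPullback.of_hasPullback (q ∣_ U) θ').paste_horiz (isPullback_morphismRestrict q U).flip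
  haveI : GeometricallyReduced (pullback.snd (q ∣_ U) θ') := by
    rw [← hsq.isoPullback_hom_snd]
    exact (MorphismProperty.cancel_left_of_respectsIso (P := @GeometricallyReduced) _ _).2 hGR
  exact geometricallyReduced_fibre (q ∣_ U) θ' _ hθ'η

end Groth.Agent.H7Lim.GRGenFibre
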