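import Groth.Agent.H7Lim.ConnSpread
import Groth.Agent.H12AlgSp.LargeFieldLift

/-!
# Etale covers by morphisms with geometrically connected fibres
-/

set_option autoImplicit false
set_option linter.style.haveILetI false
set_option backward.isDefEq.respectTransparency false

universe u

open CategoryTheory Limits AlgebraicGeometry TopologicalSpace Topology IsLocalRing

namespace Groth.Agent.H7Lim.ConnCover

open SectionConn ConnSpread

/-- The quasi-compact case. -/
theorem exists_cover_of_qc {X S : Scheme.{u}} (f : X ⟶ S) [Flat f] [LocallyOfFinitePresentation f]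
    [QuasiCompact f] [QuasiSeparated f] [GeometricallyReduced f] (x : X) :
    ∃ (X' S' : Scheme.{u}) (a : X' ⟶ X) (b : X' ⟶ S') (c : S' ⟶ S), Etale a ∧ x ∈ Set.range ⇑a ∧ Etale c ∧
      a ≫ f = b ≫ c ∧ Flat b ∧ LocallyOfFinitePresentation b ∧ QuasiCompact b ∧ QuasiSeparated b ∧
      GeometricallyConnected b ∧ GeometricallyReduced b := by
  obtain ⟨s, hs⟩ : ∃ s, f x = s := ⟨_, rfl⟩
  haveI : LocallyOfFinitePresentation (f.fiberToSpecResidueField s) :=
    MorphismProperty.pullback_snd (P := @LocallyOfFinitePresentation) _ _ inferInstance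
  haveI : GeometricallyReduced (f.fiberToSpecResidueField s) :=
    MorphismProperty.pullback_snd (P := @GeometricallyReduced) _ _ ‹_›
  haveI : LocallyOfFiniteType (f.fiberToSpecResidueField s) := H8Props.FieldDim.locallyOfFiniteType_fiberToSpec f s
  haveI : IsLocallyNoetherian (f.fiber s) := LocallyOfFiniteType.isLocallyNoetherian (f.fiberToSpecResidueField s)
  haveI : LocallyConnectedSpace ↥(f.fiber s) := H06SecComp.locallyConnectedSpace_fiber f s
  obtain ⟨x₀, hx₀⟩ : x ∈ Set.range (f.fiberι s) := (f.range_fiberι s).ge hs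
  obtain ⟨w₀, hw₀s, hw₀C⟩ : ∃ w, w ∈ (f.fiberToSpecResidueField s).smoothLocus ∧ w ∈ connectedComponent x₀ := by
    obtain ⟨w, hwC, hw⟩ := dense_iff_inter_open.1
      (H7Flat.GenericFibre.dense_smoothLocus_of_geometricallyReduced (f.fiberToSpecResidueField s)) _
      isOpen_connectedComponent ⟨x₀, mem_connectedComponent⟩
    exact ⟨w, hw, hwC⟩
  obtain ⟨O, hO, hOC⟩ := (f.fiberι s).isEmbedding.isInducing.isOpen_iff.1 (isOpen_connectedComponent (x := x₀))
  let M : X.Opens := f.smoothLocus ⊓ ⟨O, hO⟩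
  haveI : Smooth (M.ι ≫ f) := by
    haveI := H17.LocusBC.smooth_restrict_smoothLocus f
    rw [← X.homOfLE_ι (show M ≤ f.smoothLocus from inf_le_left), Category.assoc]
    infer_instance
  have hwM : f.fiberι s w₀ ∈ M :=
    ⟨fiberι_mem_smoothLocus f s w₀ hw₀s, show w₀ ∈ f.fiberι s ⁻¹' O from hOC.ge hw₀C⟩
  obtain ⟨U', e, r, he, hre, hse⟩ := H13AlgSp.SmoothSection.exists_etale_section (M.ι ≫ f) ⟨_, hwM⟩
  haveI := he
  obtain ⟨u₀, hu₀⟩ : s ∈ Set.range e := by
    have hfx : f (f.fiberι s w₀) = s := by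
      have : f.fiberι s w₀ ∈ f ⁻¹' {s} := f.range_fiberι s ▸ Set.mem_range_self w₀
      exact this
    rw [← hfx]
    exact hse
  let q := pullback.snd f e
  let t : U' ⟶ pullback f e := pullback.lift (r ≫ M.ι) (𝟙 U') (by rw [Category.assoc, hre, Category.id_comp])
  have ht : t ≫ q = 𝟙 U' := pullback.lift_snd _ _ _
  obtain ⟨α, π, hsq, hπι, hfin⟩ := exists_fibre_square' f e s u₀ hu₀
  haveI : IsFinite (Spec.map α) :=
    (IsFinite.SpecMap_iff _).2 (hfin (H12AlgSp.finite_residueFieldMap_etale e u₀))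
  haveI : Flat (Spec.map α) := by
    letI : Algebra (S.residueField s) (U'.residueField u₀) := α.hom.toAlgebra
    exact (HasRingHomProperty.Spec_iff (P := @Flat)).mpr
      (RingHom.flat_algebraMap_iff.mpr inferInstance : (algebraMap (S.residueField s) (U'.residueField u₀)).Flat)
  haveI : IsFinite π := MorphismProperty.of_isPullback hsq.flip ‹IsFinite (Spec.map α)›
  haveI : Flat π := MorphismProperty.of_isPullback hsq.flip ‹Flat (Spec.map α)›
  haveI : LocallyOfFiniteType (q.fiberToSpecResidueField u₀) := H8Props.FieldDim.locallyOfFiniteType_fiberToSpec q u₀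
  haveI : IsLocallyNoetherian (q.fiber u₀) := LocallyOfFiniteType.isLocallyNoetherian (q.fiberToSpecResidueField u₀)
  haveI : LocallyConnectedSpace ↥(q.fiber u₀) := H06SecComp.locallyConnectedSpace_fiber q u₀
  let σ : Spec (U'.residueField u₀) ⟶ q.fiber u₀ :=
    pullback.lift (U'.fromSpecResidueField u₀ ≫ t) (𝟙 _)
      (by rw [Category.assoc, ht, Category.comp_id, Category.id_comp])
  have hσ : σ ≫ q.fiberToSpecResidueField u₀ = 𝟙 _ := pullback.lift_snd _ _ _
  set p₀ := σ (closedPoint (U'.residueField u₀)) with hp₀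
  have hσpt : q.fiberι u₀ p₀ = t u₀ := by
    rw [hp₀, ← Scheme.Hom.comp_apply,
      show σ ≫ q.fiberι u₀ = U'.fromSpecResidueField u₀ ≫ t from pullback.lift_fst _ _ _, Scheme.Hom.comp_apply]
    exact congrArg t (Scheme.fromSpecResidueField_apply u₀ _)
  have hπp : π p₀ ∈ connectedComponent x₀ := by
    have h1 : f.fiberι s (π p₀) = M.ι (r u₀) := by
      rw [← Scheme.Hom.comp_apply, hπι, Scheme.Hom.comp_apply, hσpt, ← Scheme.Hom.comp_apply, pullback.lift_fst]
      rfl
    exact hOC.le (show f.fiberι s (π p₀) ∈ O from h1.symm ▸ (r u₀).2.2)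
  have himg := S2534.result π π.isClosedMap (Flat.generalizingMap π) p₀
  obtain ⟨x₁, hx₁, hπx₁⟩ : x₀ ∈ π.base '' connectedComponent p₀ := by
    rw [himg, ← connectedComponent_eq hπp]
    exact mem_connectedComponent
  let T : (q.fiber u₀).Opens := ⟨connectedComponent p₀, isOpen_connectedComponent⟩
  haveI : ConnectedSpace T.toScheme := isConnected_iff_connectedSpace.1 isConnected_connectedComponent
  have hσT : Set.range σ ⊆ Set.range T.ι := by
    rintro _ ⟨v, rfl⟩
    rw [Scheme.Opens.range_ι, show v = closedPoint (U'.residueField u₀) from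
      Subsingleton.elim (α := PrimeSpectrum (U'.residueField u₀)) _ _]
    exact mem_connectedComponent
  let σT := IsOpenImmersion.lift T.ι σ hσT
  haveI : GeometricallyConnected (σT ≫ T.ι ≫ q.fiberToSpecResidueField u₀) := by
    rw [← Category.assoc, IsOpenImmersion.lift_fac, hσ]
    exact geometricallyConnected_id (U'.residueField u₀)
  have hT : GeometricallyConnected (T.ι ≫ q.fiberToSpecResidueField u₀) :=
    S2502.result (k := U'.residueField u₀) σT (T.ι ≫ q.fiberToSpecResidueField u₀)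
  haveI : GeometricallyReduced q := MorphismProperty.pullback_snd _ _ ‹_›
  obtain ⟨S', g, s', hS', hnb, V, hVc, hVg, hV⟩ := exists_nbhd_of_connected_open q u₀ T hT
  haveI := hnb.etale
  haveI := hS'
  have hqx : q (q.fiberι u₀ x₁) = g s' := by
    rw [hnb.base_eq]
    have : q.fiberι u₀ x₁ ∈ q ⁻¹' {u₀} := q.range_fiberι u₀ ▸ Set.mem_range_self x₁
    exact this
  obtain ⟨y', hy₁, hy₂⟩ := Scheme.Pullback.exists_preimage_pullback (f := q) (g := g) _ _ hqx
  have hy'V : y' ∈ V := (hV y' hy₂).2 ⟨x₁, hx₁, hy₁.symm⟩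
  haveI : GeometricallyReduced (pullback.snd q g) := MorphismProperty.pullback_snd _ _ ‹_›
  refine ⟨V.toScheme, S', V.ι ≫ pullback.fst q g ≫ pullback.fst f e, V.ι ≫ pullback.snd q g, g ≫ e,
    inferInstance, ⟨⟨y', hy'V⟩, ?_⟩, inferInstance, ?_, inferInstance, inferInstance, ?_, inferInstance, hVg,
    geometricallyReduced_comp V.ι _⟩
  · rw [Scheme.Hom.comp_apply, Scheme.Hom.comp_apply]
    show pullback.fst f e (pullback.fst q g y') = x
    rw [hy₁, ← Scheme.Hom.comp_apply, ← hπι, Scheme.Hom.comp_apply]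
    exact (congrArg (f.fiberι s) hπx₁).trans hx₀
  · simp only [Category.assoc]
    rw [pullback.condition, pullback.condition_assoc]
  · haveI : CompactSpace V.toScheme := isCompact_iff_compactSpace.1 hVc
    exact (quasiCompact_iff_compactSpace _).2 inferInstance

/-- Etale cover by geometrically connected fibres. -/
theorem exists_cover {X S : Scheme.{u}} (f : X ⟶ S) [Flat f] [LocallyOfFinitePresentation f]
    [GeometricallyReduced f] (x : X) :
    ∃ (X' S' : Scheme.{u}) (a : X' ⟶ X) (b : X' ⟶ S') (c : S' ⟶ S), Etale a ∧ x ∈ Set.range ⇑a ∧ Etale c ∧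
      a ≫ f = b ≫ c ∧ Flat b ∧ LocallyOfFinitePresentation b ∧ QuasiCompact b ∧ QuasiSeparated b ∧
      GeometricallyConnected b ∧ GeometricallyReduced b := by
  obtain ⟨_, ⟨S₀', hS₀, rfl⟩, hxS₀, -⟩ :=
    S.isBasis_affineOpens.exists_subset_of_mem_open (Set.mem_univ (f x)) isOpen_univ
  let S₀ : S.Opens := S₀'
  haveI : IsAffine S₀ := hS₀
  obtain ⟨_, ⟨X₀', hX₀, rfl⟩, hxX₀, hle⟩ :=
    X.isBasis_affineOpens.exists_subset_of_mem_open (show x ∈ (f ⁻¹ᵁ S₀ : Set X) from hxS₀) (f ⁻¹ᵁ S₀).2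
  let X₀ : X.Opens := X₀'
  haveI : IsAffine X₀ := hX₀
  let f₀ : X₀.toScheme ⟶ S₀.toScheme := X.homOfLE (show X₀ ≤ f ⁻¹ᵁ S₀ from hle) ≫ (f ∣_ S₀)
  haveI : GeometricallyReduced (f ∣_ S₀) :=
    MorphismProperty.of_isPullback (P := @GeometricallyReduced) (isPullback_morphismRestrict f S₀).flip ‹_›
  haveI : GeometricallyReduced f₀ := geometricallyReduced_comp _ _
  have hf₀ : f₀ ≫ S₀.ι = X₀.ι ≫ f := by
    rw [Category.assoc, morphismRestrict_ι, ← Category.assoc, X.homOfLE_ι]
  obtain ⟨X', S', a, b, c, ha, hxa, hc, hw, h1, h2, h3, h4, h5, h6⟩ := exists_cover_of_qc f₀ ⟨x, hxX₀⟩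
  haveI := ha
  haveI := hc
  refine ⟨X', S', a ≫ X₀.ι, b, c ≫ S₀.ι, inferInstance, ?_, inferInstance, ?_, h1, h2, h3, h4, h5, h6⟩
  · obtain ⟨z, hz⟩ := hxa
    exact ⟨z, by rw [Scheme.Hom.comp_apply, hz]; rfl⟩
  · rw [Category.assoc, ← hf₀, ← Category.assoc, hw, Category.assoc]

end Groth.Agent.H7Lim.ConnCover
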