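import Groth.Agent.H7Lim.DescendDiagonal
import Mathlib.AlgebraicGeometry.Morphisms.Immersion

/-!
# Descent of isomorphisms and open immersions
-/

set_option autoImplicit false
set_option backward.isDefEq.respectTransparency false
set_option backward.defeqAttrib.useBackward true

universe u

open CategoryTheory Limits AlgebraicGeometry MorphismProperty TopologicalSpace

namespace Groth.Agent.H7Lim

/-- Being an isomorphism descends for morphisms locally of finite presentation. -/
theorem descends_isIso :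
    Descends.{u} (MorphismProperty.isomorphisms Scheme.{u}) @LocallyOfFinitePresentation := by
  intro J _ _ E d hd _ e _ _ T a _ _ ha (h : IsIso (pullback.snd a (d.π.app e)))
  have (k : Over e) : CompactSpace ↥((Over.forget e ⋙ E).obj k) :=
    QuasiCompact.compactSpace_of_compactSpace (E.map k.hom)
  have (k : Over e) : QuasiSeparatedSpace ↥((Over.forget e ⋙ E).obj k) :=
    quasiSeparatedSpace_of_quasiSeparated (E.map k.hom)
  have : ∀ {k m : Over e} (f : k ⟶ m), IsAffineHom ((Over.forget e ⋙ E).map f) :=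
    fun f ↦ inferInstanceAs (IsAffineHom (E.map f.left))
  have hd' := (Functor.Initial.isLimitWhiskerEquiv (Over.forget e) d).symm hd
  let t : Over.forget e ⋙ E ⟶ (Functor.const (Over e)).obj (E.obj e) :=
    { app k := E.map k.hom
      naturality k m f := by simp [← E.map_comp] }
  let sec : d.pt ⟶ T := inv (pullback.snd a (d.π.app e)) ≫ pullback.fst a (d.π.app e)
  have hsec : sec ≫ a = d.π.app e := by simp [sec, pullback.condition]
  obtain ⟨k, s, hs, hs'⟩ := Scheme.exists_π_app_comp_eq_of_locallyOfFinitePresentation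
    (Over.forget e ⋙ E) t a (d.whisker (Over.forget e)) hd' sec (by
      ext m; simp [t, hsec])
  let t' : pbDiagram E e a ⟶ (Functor.const (Over e)).obj (E.obj e) :=
    pbFst E e a ≫ (Functor.const (Over e)).map a
  obtain ⟨m, ψ, hm⟩ := Scheme.exists_hom_comp_eq_comp_of_locallyOfFiniteType (pbDiagram E e a) t'
    a (pbCone E d e a) (isLimitPbCone E e a hd) (i := k)
    (pullback.fst a (E.map k.hom)) (pullback.snd a (E.map k.hom) ≫ s) (by simp [t'])
    (by rw [Category.assoc, hs']; simp [t', t, pullback.condition]) (by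
      have h₁ : (pbCone E d e a).π.app k ≫ pullback.snd a (E.map k.hom) =
          pullback.snd a (d.π.app e) ≫ d.π.app k.left := by simp
      rw [reassoc_of% h₁, show d.π.app k.left ≫ s = sec from hs]
      simp [sec])
  refine ⟨m.left, m.hom, ?_⟩
  have w : (E.map ψ.left ≫ s) ≫ a = 𝟙 _ ≫ E.map m.hom := by simp [hs', t, ← E.map_comp]
  refine ⟨pullback.lift (E.map ψ.left ≫ s) (𝟙 _) w, pullback.hom_ext ?_ ?_,
    pullback.lift_snd _ _ _⟩
  · have h₁ : (pbDiagram E e a).map ψ ≫ pullback.snd a (E.map k.hom) =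
        pullback.snd a (E.map m.hom) ≫ E.map ψ.left := by simp
    rw [reassoc_of% h₁] at hm
    simpa using hm.symm
  · simp

lemma isIso_of_isOpenImmersion_of_range_eq_univ {X Y : Scheme.{u}} (f : X ⟶ Y) [IsOpenImmersion f]
    (h : Set.range f = Set.univ) : IsIso f := by
  rw [isIso_iff_isOpenImmersion_and_epi_base]
  exact ⟨‹_›, (TopCat.epi_iff_surjective _).mpr (Set.range_eq_univ.mp h)⟩

/-- Being an open immersion descends for morphisms locally of finite presentation. -/
theorem descendsAffine_isOpenImmersion :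
    DescendsAffine.{u} @IsOpenImmersion @LocallyOfFinitePresentation := by
  intro I _ _ D c hc _ _ i T a _ _ ha h
  have : IsAffineHom (c.π.app i) := isAffineHom_π_app D c hc i
  have : CompactSpace ↥(pullback a (c.π.app i)) :=
    QuasiCompact.compactSpace_of_compactSpace (pullback.fst a (c.π.app i))
  obtain ⟨j, φ, U, hU, hU', e⟩ := exists_isCompact_isOpen_preimage_eq hc i
    (pullback.snd a (c.π.app i)).isOpenEmbedding.isOpen_range
    (isCompact_range (pullback.snd a (c.π.app i)).continuous)
  -- the preimage of `U` is eventually everything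
  let k₀ : Over i := Over.mk φ
  let F : Set ((pbDiagram D i a).obj k₀) := pullback.snd a (D.map φ) ⁻¹' U
  have hF : QCImage (Set.univ ∩ Fᶜ : Set ((pbDiagram D i a).obj k₀)) :=
    (qcImage_of_isOpen_isCompact isOpen_univ isCompact_univ).inter_isClosed
      (hU.preimage (pullback.snd a (D.map φ)).continuous).isClosed_compl
  obtain ⟨m, ψ, hm⟩ := hF.exists_preimage_subset (isLimitPbCone D i a hc) (by
    intro x _
    have hx : pullback.snd a (c.π.app i) x ∈ c.π.app j ⁻¹' U := e ▸ ⟨x, rfl⟩
    have h₁ : (pbCone D c i a).π.app k₀ ≫ pullback.snd a (D.map φ) =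
        pullback.snd a (c.π.app i) ≫ c.π.app j := by simp [k₀]
    change ((pbCone D c i a).π.app k₀ ≫ pullback.snd a (D.map φ)) x ∈ U
    rw [h₁]; exact hx)
  let V : (D.obj m.left).Opens := D.map ψ.left ⁻¹ᵁ ⟨U, hU⟩
  have hV : IsCompact (V : Set (D.obj m.left)) :=
    QuasiCompact.isCompact_preimage (f := D.map ψ.left) _ hU hU'
  have hsub : Set.range (pullback.snd a (D.map m.hom)) ⊆ V := by
    rintro _ ⟨x, rfl⟩
    have h₁ : (pbDiagram D i a).map ψ ≫ pullback.snd a (D.map φ) =
        pullback.snd a (D.map m.hom) ≫ D.map ψ.left := by simp [k₀]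
    change (pullback.snd a (D.map m.hom) ≫ D.map ψ.left) x ∈ U
    rw [← h₁]; exact hm (Set.mem_univ x)
  -- the isomorphism over `U` descends
  let e₀ : Over m.left := Over.mk (𝟙 m.left)
  let ι₀ : (opensDiagram D m.left V).obj e₀ ⟶ D.obj i :=
    (D.map (𝟙 m.left) ⁻¹ᵁ V).ι ≫ D.map (𝟙 m.left) ≫ D.map m.hom
  have : CompactSpace ↥((opensDiagram D m.left V).obj e₀) :=
    isCompact_iff_compactSpace.mp (show IsCompact ((D.map (𝟙 m.left) ⁻¹ᵁ V : (D.obj m.left).Opens) :
      Set (D.obj m.left)) from QuasiCompact.isCompact_preimage _ V.2 hV)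
  have : QuasiSeparatedSpace ↥((opensDiagram D m.left V).obj e₀) :=
    quasiSeparatedSpace_of_quasiSeparated (D.map (𝟙 m.left) ⁻¹ᵁ V).ι
  have : CompactSpace ↥(pullback a ι₀) :=
    QuasiCompact.compactSpace_of_compactSpace (pullback.snd a ι₀)
  have : QuasiSeparatedSpace ↥(pullback a ι₀) :=
    quasiSeparatedSpace_of_quasiSeparated (pullback.snd a ι₀)
  obtain ⟨k, χ, hk⟩ := descends_isIso (Over m.left) (opensDiagram D m.left V) _
    (isLimitOpensCone D c hc m.left V) e₀ (pullback.snd a ι₀)
    (MorphismProperty.pullback_snd _ _ ha) <| by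
      refine (prop_iff_of_isPullback
        ((IsPullback.of_hasPullback (pullback.snd a ι₀) _).paste_horiz
          (IsPullback.of_hasPullback a ι₀))).mpr ?_ |> fun h ↦ h
      refine prop_snd_of_fac (b := (c.π.app m.left ⁻¹ᵁ V).ι ≫ c.π.app i) (𝟙 _)
        (by simp [ι₀, opensCone, e₀]) ?_
      refine (prop_iff_of_isPullback (P := isomorphisms Scheme.{u})
        ((isPullback_morphismRestrict _ _).flip.paste_horiz
          (IsPullback.of_hasPullback a (c.π.app i)))).mp ?_
      refine isIso_of_isOpenImmersion_of_range_eq_univ _ (Set.eq_univ_of_forall fun x ↦ ?_)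
      have hx : x.1 ∈ Set.range (pullback.snd a (c.π.app i)) := by
        rw [← e]
        change c.π.app k₀.left x.1 ∈ U
        rw [← c.w ψ.left]; exact x.2
      obtain ⟨y, hy⟩ := hx
      exact ⟨⟨y, show pullback.snd a (c.π.app i) y ∈ c.π.app m.left ⁻¹ᵁ V from hy ▸ x.2⟩,
        Subtype.ext ((morphismRestrict_base_coe _ _ _).trans hy)⟩
  refine ⟨k.left, k.hom ≫ m.hom, ?_⟩
  let W : (D.obj k.left).Opens := D.map k.hom ⁻¹ᵁ V
  have hW : IsIso (pullback.snd a (D.map (k.hom ≫ m.hom)) ∣_ W) := by
    refine (prop_iff_of_isPullback (P := isomorphisms Scheme.{u})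
      ((isPullback_morphismRestrict _ _).flip.paste_horiz
        (IsPullback.of_hasPullback a (D.map (k.hom ≫ m.hom))))).mpr ?_
    refine prop_snd_of_fac (b := (opensDiagram D m.left V).map χ ≫ ι₀) (𝟙 _) ?_
      ((prop_iff_of_isPullback
        ((IsPullback.of_hasPullback (pullback.snd a ι₀) _).paste_horiz
          (IsPullback.of_hasPullback a ι₀))).mp hk)
    have : χ.left = k.hom := by simpa [e₀] using Over.w χ
    simp [ι₀, W, opensDiagram, this, e₀]
  have htop : pullback.snd a (D.map (k.hom ≫ m.hom)) ⁻¹ᵁ W = ⊤ := by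
    refine top_le_iff.mp fun y _ ↦ ?_
    let q := pullback.map a (D.map (k.hom ≫ m.hom)) a (D.map m.hom) (𝟙 _) (D.map k.hom) (𝟙 _)
      (by simp) (by simp)
    have h₁ : q ≫ pullback.snd a (D.map m.hom) =
        pullback.snd a (D.map (k.hom ≫ m.hom)) ≫ D.map k.hom := by simp [q]
    change (pullback.snd a (D.map (k.hom ≫ m.hom)) ≫ D.map k.hom) y ∈ V
    rw [← h₁]; exact hsub ⟨q y, rfl⟩
  have : IsOpenImmersion ((pullback.snd a (D.map (k.hom ≫ m.hom)) ∣_ W) ≫ W.ι) := inferInstance
  rw [morphismRestrict_ι] at this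
  have : IsIso (pullback.snd a (D.map (k.hom ≫ m.hom)) ⁻¹ᵁ W).ι :=
    isIso_of_isOpenImmersion_of_range_eq_univ _ (by rw [Scheme.Opens.range_ι, htop]; rfl)
  exact (MorphismProperty.cancel_left_of_respectsIso @IsOpenImmersion
    (pullback.snd a (D.map (k.hom ≫ m.hom)) ⁻¹ᵁ W).ι _).mp ‹_›

end Groth.Agent.H7Lim
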