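import Mathlib
import Groth.Agent.H7Lim.FinitelyPresentable
import Groth.Agent.H7Lim.Topology

/-!
A morphism through which maps from limits of affine schemes factor at a finite stage is locally of
finite presentation.
-/

set_option backward.isDefEq.respectTransparency false

universe u

open CategoryTheory Limits AlgebraicGeometry Opposite

namespace Groth.Agent.H7Lim

variable {X S : Scheme.{u}} (f : X ⟶ S)

/-- Morphisms from cofiltered limits of affine schemes over `U` to `X` over `S` come from a stage. -/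
def SurjOn' (U : S.Opens) : Prop :=
  ∀ (J : Type u) [Preorder J] [IsDirected J (· ≤ ·)] [Nonempty J] (D : Jᵒᵖ ⥤ Scheme.{u})
    (t : D ⟶ (Functor.const Jᵒᵖ).obj (U : Scheme.{u})) (c : Cone D) (_ : IsLimit c),
    (∀ j, IsAffine (D.obj j)) → ∀ (j₀ : Jᵒᵖ) (g : c.pt ⟶ X), g ≫ f = c.π.app j₀ ≫ t.app j₀ ≫ U.ι →
      ∃ (j : Jᵒᵖ) (gj : D.obj j ⟶ X), gj ≫ f = t.app j ≫ U.ι ∧ c.π.app j ≫ gj = g

variable {f}

theorem exists_fac_of_surjOn {U : S.Opens} (hU : IsAffineOpen U) {V : X.Opens} (hV : IsAffineOpen V)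
    (e : V ≤ f ⁻¹ᵁ U) (h : SurjOn' f U) {J : Type u} [Preorder J] [IsDirected J (· ≤ ·)] [Nonempty J]
    {F : J ⥤ Under Γ(S, U)} (c : Cocone F) (hc : IsColimit c) (φ : Γ(X, V) ≅ c.pt.right)
    (hφ : f.appLE U V e ≫ φ.hom = c.pt.hom) :
    ∃ (j : J) (g' : Γ(X, V) ⟶ (F.obj j).right),
      f.appLE U V e ≫ g' = (F.obj j).hom ∧ g' ≫ (c.ι.app j).right = φ.hom := by
  have : IsOpenImmersion hU.fromSpec := hU.isOpenImmersion_fromSpec
  have : IsOpenImmersion hV.fromSpec := hV.isOpenImmersion_fromSpec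
  let D : Jᵒᵖ ⥤ Scheme.{u} := (F ⋙ Under.forget _).op ⋙ Scheme.Spec
  let cS : Cone D := Scheme.Spec.mapCone ((Under.forget _).mapCocone c).op
  have hcS : IsLimit cS :=
    isLimitOfPreserves Scheme.Spec (isColimitOfPreserves (Under.forget _) hc).op
  let t : D ⟶ (Functor.const Jᵒᵖ).obj (U : Scheme.{u}) :=
    { app := fun j => Spec.map (F.obj j.unop).hom ≫ hU.isoSpec.inv
      naturality := fun i j a => by
        show Spec.map (F.map a.unop).right ≫ Spec.map (F.obj j.unop).hom ≫ hU.isoSpec.inv =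
          (Spec.map (F.obj i.unop).hom ≫ hU.isoSpec.inv) ≫ 𝟙 _
        rw [Category.comp_id, ← Category.assoc, ← Spec.map_comp, Under.w] }
  have haff : ∀ j, IsAffine (D.obj j) := fun j => inferInstanceAs (IsAffine (Spec _))
  have wV : Spec.map (f.appLE U V e) ≫ hU.fromSpec = hV.fromSpec ≫ f :=
    IsAffineOpen.SpecMap_appLE_fromSpec f hU hV e
  have hπ : ∀ j, cS.π.app j = Spec.map (c.ι.app j.unop).right := fun j => rfl
  let j₀ : J := Classical.arbitrary J
  let g : cS.pt ⟶ X := Spec.map φ.hom ≫ hV.fromSpec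
  have hw : ∀ j : J, g ≫ f = cS.π.app (op j) ≫ t.app (op j) ≫ U.ι := fun j => by
    show (Spec.map φ.hom ≫ hV.fromSpec) ≫ f =
      Spec.map (c.ι.app j).right ≫ (Spec.map (F.obj j).hom ≫ hU.isoSpec.inv) ≫ U.ι
    rw [Category.assoc, ← wV, ← Category.assoc, ← Spec.map_comp, hφ, Category.assoc,
      IsAffineOpen.isoSpec_inv_ι, ← Category.assoc, ← Spec.map_comp, Under.w]
    rfl
  obtain ⟨j₁, g₁, hg₁, hg₁'⟩ := h J D t cS hcS haff (op j₀) g (hw j₀)
  haveI : ∀ {i j : Jᵒᵖ} (a : i ⟶ j), IsAffineHom (D.map a) := fun a =>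
    isAffineHom_of_isAffine (D.map a)
  haveI : CompactSpace (D.obj j₁) := by
    have := haff j₁
    infer_instance
  -- some stage lands in `V`
  obtain ⟨j₂, a, ha⟩ : ∃ (j₂ : Jᵒᵖ) (a : j₂ ⟶ j₁), D.map a ⁻¹' ((g₁ ⁻¹ᵁ V : (D.obj j₁).Opens) : Set (D.obj j₁))ᶜ = ∅ := by
    refine QCImage.exists_preimage_eq_empty hcS ?_ ?_
    · have := (qcImage_range (𝟙 (D.obj j₁))).inter_isClosed (g₁ ⁻¹ᵁ V).2.isClosed_compl
      rwa [show Set.range (𝟙 (D.obj j₁) : D.obj j₁ ⟶ D.obj j₁) = Set.univ from Set.range_id, Set.univ_inter] at this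
    · rw [Set.eq_empty_iff_forall_notMem]
      intro x hx
      refine hx ?_
      show g₁ (cS.π.app j₁ x) ∈ V
      rw [← Scheme.Hom.comp_apply, hg₁']
      show hV.fromSpec (Spec.map φ.hom x) ∈ V
      exact hV.range_fromSpec.le ⟨_, rfl⟩
  have hrange : Set.range (D.map a ≫ g₁) ⊆ Set.range hV.fromSpec := by
    rw [hV.range_fromSpec]
    rintro _ ⟨x, rfl⟩
    by_contra hx
    exact (Set.eq_empty_iff_forall_notMem.mp ha x) hx
  let l : Spec (F.obj j₂.unop).right ⟶ Spec Γ(X, V) := IsOpenImmersion.lift hV.fromSpec (D.map a ≫ g₁) hrange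
  refine ⟨j₂.unop, Spec.preimage l, ?_, ?_⟩
  · refine Spec.map_injective ?_
    rw [Spec.map_comp, Spec.map_preimage, ← cancel_mono hU.fromSpec, Category.assoc, wV,
      ← Category.assoc, IsOpenImmersion.lift_fac, Category.assoc, hg₁, ← Category.assoc (D.map a),
      t.naturality a]
    show ((Spec.map (F.obj j₂.unop).hom ≫ hU.isoSpec.inv) ≫ 𝟙 _) ≫ U.ι = _
    rw [Category.comp_id, Category.assoc, IsAffineOpen.isoSpec_inv_ι]
  · refine Spec.map_injective ?_
    rw [Spec.map_comp, Spec.map_preimage, ← cancel_mono hV.fromSpec, Category.assoc,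
      IsOpenImmersion.lift_fac]
    exact (Category.assoc _ _ _).symm.trans ((congrArg (· ≫ g₁) (cS.w a)).trans hg₁')

theorem finitePresentation_of_exists_fac {A : CommRingCat.{u}} {B : CommRingCat.{u}} (φ₀ : A ⟶ B)
    (h : ∀ {J : Type u} [Preorder J] [IsDirected J (· ≤ ·)] [Nonempty J] {F : J ⥤ Under A} (c : Cocone F)
      (_ : IsColimit c) (φ : B ≅ c.pt.right), φ₀ ≫ φ.hom = c.pt.hom →
      ∃ (j : J) (g' : B ⟶ (F.obj j).right), φ₀ ≫ g' = (F.obj j).hom ∧ g' ≫ (c.ι.app j).right = φ.hom) :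
    φ₀.hom.FinitePresentation := by
  classical
  letI : Algebra A B := φ₀.hom.toAlgebra
  obtain ⟨s, g, hgA, hg⟩ := h (adjoinCocone A B) (adjoinIsColimit A B) (Iso.refl B) (Category.comp_id _)
  haveI : Algebra.FiniteType A B := by
    refine ⟨⟨s, eq_top_iff.mpr fun b _ => ?_⟩⟩
    let x : Algebra.adjoin A (s : Set B) := g.hom b
    have hx : (x : B) = b := congr($hg b)
    exact hx ▸ x.2
  obtain ⟨n, π, hπ⟩ := Algebra.FiniteType.iff_quotient_mvPolynomial''.1 ‹Algebra.FiniteType A B›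
  obtain ⟨J, g, hgA, hg⟩ := h (quotCocone π) (quotIsColimit π hπ) (Iso.refl B) (Category.comp_id _)
  have : Algebra.FinitePresentation A (MvPolynomial (Fin n) A ⧸ J.1) := Algebra.FinitePresentation.quotient J.2.1
  let g' : B →ₐ[A] MvPolynomial (Fin n) A ⧸ J.1 :=
    { g.hom with commutes' := fun a => congr($hgA a) }
  let q : (MvPolynomial (Fin n) A ⧸ J.1) →ₐ[A] B := Ideal.Quotient.liftₐ J.1 π fun p hp => J.2.2 hp
  have hq : ∀ b, q (g' b) = b := fun b => congr($hg b)
  refine Algebra.FinitePresentation.of_surjective (f := q) (fun b => ⟨g' b, hq b⟩) ?_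
  let gens : Fin n → MvPolynomial (Fin n) A ⧸ J.1 := fun i => Ideal.Quotient.mk J.1 (MvPolynomial.X i)
  let K : Ideal (MvPolynomial (Fin n) A ⧸ J.1) := Ideal.span (Set.range fun i => gens i - g' (q (gens i)))
  have hK : RingHom.ker q = K := by
    refine le_antisymm (fun x hx => ?_) (Ideal.span_le.2 ?_)
    · have key : (Ideal.Quotient.mkₐ A K) = (Ideal.Quotient.mkₐ A K).comp (g'.comp q) := by
        apply Ideal.Quotient.algHom_ext
        apply MvPolynomial.algHom_ext
        intro i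
        refine Ideal.Quotient.eq.2 ?_
        exact Ideal.subset_span ⟨i, rfl⟩
      have := AlgHom.congr_fun key x
      rw [RingHom.mem_ker] at hx
      simp [hx, Ideal.Quotient.eq_zero_iff_mem] at this
      exact this
    · rintro _ ⟨i, rfl⟩
      simp [hq]
  show (RingHom.ker q).FG
  rw [hK]
  exact Submodule.fg_span (Set.finite_range _)

theorem locallyOfFinitePresentation_of_surjOn (h : ∀ U : S.Opens, IsAffineOpen U → SurjOn' f U) :
    LocallyOfFinitePresentation f := by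
  rw [HasRingHomProperty.iff_appLE (P := @LocallyOfFinitePresentation)]
  intro U V e
  exact finitePresentation_of_exists_fac _ fun c hc φ hφ => exists_fac_of_surjOn U.2 V.2 e (h U U.2) c hc φ hφ

end Groth.Agent.H7Lim
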