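import Groth.Agent.H8Props.FunDescent.Limit
import Groth.Agent.H17.FPExt.Closure
import Groth.Agent.H7Lim.Sections

/-!
# Descent to a stage of properties of homomorphisms of quasi-coherent modules (EGA IV 8.5.2 (i))
-/

set_option autoImplicit false
set_option linter.style.haveILetI false
set_option backward.isDefEq.respectTransparency false

universe u

open CategoryTheory Limits AlgebraicGeometry TopologicalSpace Opposite TensorProduct

namespace Groth.Agent.H7Lim.ModStage

open H8Props.FunDescent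

theorem holdsMod_map (k : Kind) {Z' Z : Scheme.{u}} (p : Z' ⟶ Z) {M N : Z.Modules} {φ : M ⟶ N}
    (h : k.holdsMod φ) : k.holdsMod ((Scheme.Modules.pullback p).map φ) := by
  cases k with
  | zero =>
    show (Scheme.Modules.pullback p).map φ = 0
    rw [show φ = 0 from h, Functor.map_zero]
  | epi =>
    haveI : (Scheme.Modules.pullback p).PreservesEpimorphisms :=
      Functor.preservesEpimorphisms_of_adjunction (Scheme.Modules.pullbackPushforwardAdjunction p)
    haveI : Epi φ := h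
    exact (Scheme.Modules.pullback p).map_epi φ
  | iso =>
    haveI : IsIso φ := h
    exact (inferInstance : IsIso ((Scheme.Modules.pullback p).map φ))

theorem holdsMod_natIso (k : Kind) {C : Type*} [Category C] {Z : Scheme.{u}} {F F' : C ⥤ Z.Modules}
    (e : F ≅ F') {M N : C} (φ : M ⟶ N) : k.holdsMod (F.map φ) ↔ k.holdsMod (F'.map φ) := by
  cases k with
  | zero =>
    show F.map φ = 0 ↔ F'.map φ = 0
    constructor
    · intro h
      rw [← cancel_epi (e.hom.app M), ← e.hom.naturality, h, zero_comp, comp_zero]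
    · intro h
      rw [← cancel_mono (e.hom.app N), e.hom.naturality, h, zero_comp, comp_zero]
  | epi =>
    show Epi (F.map φ) ↔ Epi (F'.map φ)
    exact (MorphismProperty.epimorphisms Z.Modules).arrow_mk_iso_iff
      (Arrow.isoMk (e.app M) (e.app N) (e.hom.naturality φ).symm)
  | iso => exact NatIso.isIso_map_iff e φ

variable {I : Type u} [SmallCategory I] {D : I ⥤ Scheme.{u}} {c : Cone D} {i₀ : I}

/-- Pullback to the limit in two steps. -/
noncomputable def πIso {j : I} (φ : j ⟶ i₀) :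
    Scheme.Modules.pullback (D.map φ) ⋙ Scheme.Modules.pullback (c.π.app j) ≅
      Scheme.Modules.pullback (c.π.app i₀) :=
  Scheme.Modules.pullbackComp (c.π.app j) (D.map φ) ≪≫ Scheme.Modules.pullbackCongr (c.w φ)

/-- Pullback to a later stage in two steps. -/
noncomputable def mapIso {j k : I} (φ : j ⟶ i₀) (ψ : k ⟶ j) :
    Scheme.Modules.pullback (D.map φ) ⋙ Scheme.Modules.pullback (D.map ψ) ≅
      Scheme.Modules.pullback (D.map (ψ ≫ φ)) :=
  Scheme.Modules.pullbackComp (D.map ψ) (D.map φ) ≪≫ Scheme.Modules.pullbackCongr (D.map_comp ψ φ).symm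

variable [IsCofiltered I] [∀ (i j : I) (f : i ⟶ j), IsAffineHom (D.map f)] (hc : IsLimit c)

section Chart

variable (U : (D.obj i₀).Opens)

variable (D) in
/-- The rings of the stages over an open of `D.obj i₀`. -/
abbrev stageRing (j : Over i₀) : Type u := Γ(D.obj j.left, D.map j.hom ⁻¹ᵁ U)

/-- Their algebra structures. -/
@[reducible] noncomputable def stageAlgebra (j : Over i₀) : Algebra Γ(D.obj i₀, U) (stageRing D U j) :=
  ((D.map j.hom).appLE U (D.map j.hom ⁻¹ᵁ U) le_rfl).hom.toAlgebra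

/-- The algebra structure of the ring of the limit. -/
@[reducible] noncomputable def limitAlgebra : Algebra Γ(D.obj i₀, U) Γ(c.pt, c.π.app i₀ ⁻¹ᵁ U) :=
  ((c.π.app i₀).appLE U (c.π.app i₀ ⁻¹ᵁ U) le_rfl).hom.toAlgebra

omit [IsCofiltered I] [∀ (i j : I) (f : i ⟶ j), IsAffineHom (D.map f)] in
theorem stage_w {j k : Over i₀} (ψ : k ⟶ j) :
    D.map k.hom ⁻¹ᵁ U ≤ D.map ψ.left ⁻¹ᵁ D.map j.hom ⁻¹ᵁ U := by
  rw [← Scheme.Hom.comp_preimage, ← D.map_comp, Over.w ψ]

/-- The system of rings over an affine open of `D.obj i₀`. -/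
noncomputable def stageSystem (hU : IsAffineOpen U) :
    letI := fun j : Over i₀ => stageAlgebra (D := D) U j
    letI := limitAlgebra (c := c) U
    Stage.Sys (R := Γ(D.obj i₀, U)) (stageRing D U) Γ(c.pt, c.π.app i₀ ⁻¹ᵁ U) (fun j k => (k ⟶ j)) :=
  letI := fun j : Over i₀ => stageAlgebra (D := D) U j
  letI := limitAlgebra (c := c) U
  { g := fun j => AlgHom.mk ((c.π.app j.left).appLE _ _ (π_preimage_le j.hom U)).hom fun r =>
      appLE_comp_apply (c.π.app j.left) (D.map j.hom) (c.π.app i₀) (c.w j.hom) _ _ _ r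
    m := fun {j k} ψ => AlgHom.mk ((D.map ψ.left).appLE _ _ (stage_w U ψ)).hom fun r =>
      appLE_comp_apply (D.map ψ.left) (D.map j.hom) (D.map k.hom) (by rw [← D.map_comp, Over.w ψ]) _ _ _ r
    w := fun {j k} ψ x =>
      appLE_comp_apply (c.π.app k.left) (D.map ψ.left) (c.π.app j.left) (c.w ψ.left) _ _ _ x
    comp := fun {j k l} a b => ⟨b ≫ a, fun x =>
      (appLE_comp_apply (D.map b.left) (D.map a.left) (D.map (b ≫ a).left)
        (by rw [Over.comp_left, Functor.map_comp]) _ _ _ x).symm⟩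
    dir := fun j k =>
      ⟨IsCofiltered.min j k, ⟨IsCofiltered.minToLeft j k⟩, ⟨IsCofiltered.minToRight j k⟩⟩
    ne := ⟨Over.mk (𝟙 i₀)⟩
    surj := fun y => by
      obtain ⟨j, φ, t, ht⟩ := exists_secπ_eq hc hU y
      exact ⟨Over.mk φ, t, ht⟩
    eq := fun j x y h => by
      obtain ⟨k, ψ, hk⟩ := exists_secMap_eq hc j.hom hU.isCompact x y h
      exact ⟨Over.mk (ψ ≫ j.hom), Over.homMk ψ, hk⟩ }

end Chart

variable [CompactSpace (D.obj i₀)] {F G : (D.obj i₀).Modules} (hF : Coh.IsQCoh F) (hG : Coh.IsQCoh G)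
  (u : F ⟶ G)

include hc hF hG in
theorem exists_stage (k : Kind)
    (hfin : ∀ U : (D.obj i₀).Opens, IsAffineOpen U →
      match k with
      | .zero => Module.Finite Γ(D.obj i₀, U) Γ(F, U)
      | .epi => Module.Finite Γ(D.obj i₀, U) Γ(G, U)
      | .iso => Module.Finite Γ(D.obj i₀, U) Γ(F, U) ∧ Module.FinitePresentation Γ(D.obj i₀, U) Γ(G, U))
    (h : k.holdsMod ((Scheme.Modules.pullback (c.π.app i₀)).map u)) :
    ∃ (j : I) (φ : j ⟶ i₀), k.holdsMod ((Scheme.Modules.pullback (D.map φ)).map u) := by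
  have chart : ∀ z : (D.obj i₀ : Scheme.{u}), ∃ U : (D.obj i₀).Opens, z ∈ U ∧ IsAffineOpen U := fun z => by
    obtain ⟨U, hU, hzU, -⟩ := exists_isAffineOpen_mem_and_subset (x := z) (U := (⊤ : (D.obj i₀).Opens)) trivial
    exact ⟨U, hzU, hU⟩
  choose U hzU hU using chart
  obtain ⟨s, hs⟩ := isCompact_univ.elim_finite_subcover (fun z => (U z : Set _)) (fun z => (U z).isOpen)
    (fun z _ => ⟨(U z : Set _), ⟨z, rfl⟩, hzU z⟩)
  letI alg := fun z (j : Over i₀) => stageAlgebra (D := D) (U z) j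
  letI algLim := fun z => limitAlgebra (c := c) (U z)
  have sys := fun z => stageSystem hc (U z) (hU z)
  -- stability along the system
  have stab : ∀ z (j l : Over i₀), (l ⟶ j) →
      k.holds ((secLin u (U z)).lTensor (stageRing D (U z) j)).toAddMonoidHom →
      k.holds ((secLin u (U z)).lTensor (stageRing D (U z) l)).toAddMonoidHom := by
    intro z j l ψ H
    cases k with
    | zero =>
      exact AddMonoidHom.ext fun t => LinearMap.congr_fun (Stage.eq_zero_of_algHom ((sys z).m ψ) _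
        (LinearMap.ext fun t => DFunLike.congr_fun H t)) t
    | epi => exact Stage.surjective_of_algHom ((sys z).m ψ) _ H
    | iso => exact Stage.bijective_of_algHom ((sys z).m ψ) _ H
  have one : ∀ z, ∃ j : Over i₀,
      k.holds ((secLin u (U z)).lTensor (stageRing D (U z) j)).toAddMonoidHom := by
    intro z
    haveI : IsAffineHom (c.π.app i₀) := isAffineHom_π_app _ _ hc i₀
    have H := Kind.holds_of_holdsMod hF hG u k (c.π.app i₀) (le_refl (c.π.app i₀ ⁻¹ᵁ U z))
      (hU z) ((hU z).preimage (c.π.app i₀)) h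
    have hm := hfin (U z) (hU z)
    cases k with
    | zero =>
      haveI : Module.Finite Γ(D.obj i₀, U z) Γ(F, U z) := hm
      obtain ⟨j, -, hj⟩ := (sys z).exists_lTensor_eq_zero (secLin u (U z))
        (LinearMap.ext fun t => DFunLike.congr_fun H t) (Over.mk (𝟙 i₀))
      exact ⟨j, AddMonoidHom.ext fun t => LinearMap.congr_fun hj t⟩
    | epi =>
      haveI : Module.Finite Γ(D.obj i₀, U z) Γ(G, U z) := hm
      obtain ⟨j, -, hj⟩ := (sys z).exists_lTensor_surjective (secLin u (U z)) H (Over.mk (𝟙 i₀))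
      exact ⟨j, hj⟩
    | iso =>
      haveI : Module.Finite Γ(D.obj i₀, U z) Γ(F, U z) := hm.1
      haveI : Module.FinitePresentation Γ(D.obj i₀, U z) Γ(G, U z) := hm.2
      obtain ⟨j, -, hj⟩ := (sys z).exists_lTensor_bijective (secLin u (U z)) H (Over.mk (𝟙 i₀))
      exact ⟨j, hj⟩
  choose j hj using one
  obtain ⟨l, hl⟩ : ∃ l : Over i₀, ∀ z ∈ s,
      k.holds ((secLin u (U z)).lTensor (stageRing D (U z) l)).toAddMonoidHom := by
    classical
    obtain ⟨l, hl⟩ := IsCofiltered.inf_objs_exists (s.image j)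
    exact ⟨l, fun z hz => stab z _ _ (hl (Finset.mem_image_of_mem _ hz)).some (hj z)⟩
  refine ⟨l.left, l.hom, Kind.holdsMod_of_holds hF hG u k _ fun z => ?_⟩
  obtain ⟨z₀, hz₀, hzz⟩ := Set.mem_iUnion₂.1 (hs (Set.mem_univ (D.map l.hom z)))
  exact ⟨U z₀, D.map l.hom ⁻¹ᵁ U z₀, le_rfl, hzz, hU z₀, (hU z₀).preimage (D.map l.hom), hl z₀ hz₀⟩

omit [IsCofiltered I] [∀ (i j : I) (f : i ⟶ j), IsAffineHom (D.map f)] [CompactSpace (D.obj i₀)] in
theorem of_stage (k : Kind) {j : I} (φ : j ⟶ i₀) (h : k.holdsMod ((Scheme.Modules.pullback (D.map φ)).map u)) :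
    k.holdsMod ((Scheme.Modules.pullback (c.π.app i₀)).map u) :=
  (holdsMod_natIso k (πIso φ) u).1 (holdsMod_map k (c.π.app j) h)

include hc hF hG in
theorem eq_zero_iff (hFt : CohB1.IsFT F) :
    (Scheme.Modules.pullback (c.π.app i₀)).map u = 0 ↔
      ∃ (j : I) (φ : j ⟶ i₀), (Scheme.Modules.pullback (D.map φ)).map u = 0 :=
  ⟨fun h => exists_stage hc hF hG u .zero (fun _ hU => by
      haveI : F.IsQuasicoherent := hF
      exact H10Coh.finite_sections F hFt hU) h,
    fun ⟨_, φ, h⟩ => of_stage u .zero φ h⟩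

include hc hF hG in
theorem epi_iff (hGt : CohB1.IsFT G) :
    Epi ((Scheme.Modules.pullback (c.π.app i₀)).map u) ↔
      ∃ (j : I) (φ : j ⟶ i₀), Epi ((Scheme.Modules.pullback (D.map φ)).map u) :=
  ⟨fun h => exists_stage hc hF hG u .epi (fun _ hU => by
      haveI : G.IsQuasicoherent := hG
      exact H10Coh.finite_sections G hGt hU) h,
    fun ⟨_, φ, h⟩ => of_stage u .epi φ h⟩

include hc hF hG in
theorem isIso_iff (hFt : CohB1.IsFT F) (hGp : CohB1.IsFP G) :
    IsIso ((Scheme.Modules.pullback (c.π.app i₀)).map u) ↔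
      ∃ (j : I) (φ : j ⟶ i₀), IsIso ((Scheme.Modules.pullback (D.map φ)).map u) :=
  ⟨fun h => exists_stage hc hF hG u .iso (fun _ hU => by
      haveI : F.IsQuasicoherent := hF
      exact ⟨H10Coh.finite_sections F hFt hU, H17.FPExt.fpAt_of_isFP hGp hU⟩) h,
    fun ⟨_, φ, h⟩ => of_stage u .iso φ h⟩

end Groth.Agent.H7Lim.ModStage
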