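import Groth.Agent.H17.ConsModModels
import Groth.Agent.H7Lim.Proper.Descend
import Groth.Agent.H8Props.FunDescent.FlatStage
import Groth.Agent.H10Coh.FinType2

/-!
# Noetherian models of proper flat families of modules

A finitely presented module `F` on a scheme `X` proper and of finite presentation over `Spec R`, flat over
`Spec R`, is the pullback of a coherent module on a proper scheme over a `ℤ`-algebra of finite type, flat over it.
-/

set_option autoImplicit false
set_option linter.style.haveILetI false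
set_option backward.isDefEq.respectTransparency false

universe u

open CategoryTheory Limits AlgebraicGeometry TopologicalSpace Opposite

namespace Groth.Agent.H7Lim

open H7Lim.FPDescent H17.ConsProp

/-- **Noetherian model of a proper flat family.** -/
theorem exists_proper_flat_model {R : Type u} [CommRing R] {X : Scheme.{u}}
    (f : X ⟶ Spec (CommRingCat.of R)) [IsProper f] [LocallyOfFinitePresentation f]
    (F : X.Modules) [Coh.IsQCoh F] (hFP : CohB1.IsFP F) (hfl : FlatMod.IsFlatOver f F) :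
    ∃ (R₀ : Type u) (_ : CommRing R₀) (_ : Algebra R₀ R) (X₀ : Scheme.{u})
      (f₀ : X₀ ⟶ Spec (CommRingCat.of R₀)) (F₀ : X₀.Modules) (g : X ⟶ X₀),
      Algebra.FiniteType ℤ R₀ ∧ IsNoetherianRing R₀ ∧ IsProper f₀ ∧ LocallyOfFinitePresentation f₀ ∧
        Coh.IsCoh F₀ ∧ CohB1.IsFP F₀ ∧ FlatMod.IsFlatOver f₀ F₀ ∧
        IsPullback g f f₀ (Spec.map (CommRingCat.ofHom (algebraMap R₀ R))) ∧
        Nonempty ((Scheme.Modules.pullback g).obj F₀ ≅ F) := by
  obtain ⟨i, X₀, u₀, F₀, q, _, _, h1, hF₀, ⟨e⟩⟩ :=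
    exists_mod_model (R := R) (show X ⟶ (subringCone R).pt from f) F hFP
  haveI : Nonempty (Finset R) := ⟨∅⟩
  let D := (subringFunctor R).op ⋙ Scheme.Spec
  let c := subringCone R
  have hc : IsLimit c := isLimitSubringCone R
  haveI : IsNoetherian X₀ := isNoetherian_of_finiteType u₀
  -- properness
  have hp : IsProper (pullback.snd u₀ (c.π.app i)) :=
    (prop_iff_of_isPullback (P := @IsProper) h1).mp ‹IsProper f›
  obtain ⟨j, φ, hj⟩ := descends_isProper (Finset R)ᵒᵖ D c hc i u₀ inferInstance hp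
  let X₁ := pullback u₀ (D.map φ)
  let f₁ : X₁ ⟶ D.obj j := pullback.snd u₀ (D.map φ)
  haveI : IsProper f₁ := hj
  haveI : LocallyOfFinitePresentation f₁ := MorphismProperty.pullback_snd _ _ inferInstance
  let F₁ : X₁.Modules := (Scheme.Modules.pullback (pullback.fst u₀ (D.map φ))).obj F₀
  have hF₁ : Coh.IsCoh F₁ := isCoh_pullback _ hF₀
  haveI : IsLocallyNoetherian X₁ := LocallyOfFiniteType.isLocallyNoetherian f₁
  have hFP₁ : CohB1.IsFP F₁ := H10Coh.isFP_of_isCoh F₁ hF₁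
  let q₁ : X ⟶ X₁ := pullback.lift q (f ≫ c.π.app j) (by rw [h1.w, Category.assoc, c.w])
  have h₁ : IsPullback q₁ f f₁ (c.π.app j) := by
    refine IsPullback.of_right (h₁₂ := pullback.fst u₀ (D.map φ)) (h₂₂ := D.map φ) (v₁₃ := u₀) ?_
      (pullback.lift_snd _ _ _) (IsPullback.of_hasPullback _ _)
    rw [pullback.lift_fst, c.w]
    exact h1
  let e₁ : F ≅ (Scheme.Modules.pullback q₁).obj F₁ :=
    e ≪≫ (Scheme.Modules.pullbackCongr (pullback.lift_fst _ _ _).symm).app F₀ ≪≫
      ((Scheme.Modules.pullbackComp q₁ (pullback.fst u₀ (D.map φ))).app F₀).symm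
  -- flatness
  let D' : Over j ⥤ Over (D.obj j) := Over.post D
  let c' : Cone D' := c.overPost j
  have hc' : IsLimit ((Over.forget (D.obj j)).mapCone c') :=
    ((Functor.Initial.isLimitWhiskerEquiv (Over.forget j) c).symm hc).ofIsoLimit
      (Cone.ext (Iso.refl _) fun k => (Category.id_comp _).symm)
  have hsq : IsPullback (pullback.fst f₁ (c.π.app j)) (PicF.XTproj f₁ c'.pt) f₁ (c.π.app j) :=
    IsPullback.of_hasPullback _ _
  let t : PicF.XT f₁ c'.pt ≅ X := hsq.isoIsPullback _ _ h₁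
  have ht : IsPullback t.hom (PicF.XTproj f₁ c'.pt) f (𝟙 _) :=
    IsPullback.of_horiz_isIso ⟨by rw [Category.comp_id]; exact hsq.isoIsPullback_hom_snd _ _ h₁⟩
  have hlim : FlatMod.IsFlatOver (PicF.XTproj f₁ c'.pt) (FGA.ET f₁ F₁ c'.pt) := fun x =>
    (H06EGA9.isFlatOverAt_congr_iso _
      ((Scheme.Modules.pullback t.hom).mapIso e₁ ≪≫ (Scheme.Modules.pullbackComp t.hom q₁).app F₁ ≪≫
        (Scheme.Modules.pullbackCongr (hsq.isoIsPullback_hom_fst _ _ h₁)).app F₁) x).1
      (H06EGA9.isFlatOverAt_of_isPullback ht F x (hfl _))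
  obtain ⟨k, hk⟩ := H8Props.FunDescent.exists_flat_stage f₁ F₁ hF₁.1 hFP₁ D' c' hc'
    (fun k => inferInstanceAs (IsAffine (Spec _))) hlim
  let X₂ := PicF.XT f₁ (D'.obj k)
  let f₂ : X₂ ⟶ D.obj k.left := PicF.XTproj f₁ (D'.obj k)
  let F₂ : X₂.Modules := FGA.ET f₁ F₁ (D'.obj k)
  let q₂ : X ⟶ X₂ := pullback.lift q₁ (f ≫ c.π.app k.left)
    (by rw [h₁.w, Category.assoc]; exact congrArg (f ≫ ·) (c.w k.hom).symm)
  refine ⟨↥(Algebra.adjoin ℤ ((unop k.left : Finset R) : Set R)), inferInstance,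
    (Algebra.adjoin ℤ ((unop k.left : Finset R) : Set R)).val.toRingHom.toAlgebra, X₂, f₂, F₂, q₂,
    (Algebra.adjoin ℤ ((unop k.left : Finset R) : Set R)).fg_iff_finiteType.1 ⟨unop k.left, rfl⟩, ?_,
    MorphismProperty.pullback_snd _ _ ‹IsProper f₁›, MorphismProperty.pullback_snd _ _ inferInstance,
    isCoh_pullback _ hF₁, H06EGA9.isFP_pullback _ hFP₁, hk, ?_, ⟨?_⟩⟩
  · haveI := (Algebra.adjoin ℤ ((unop k.left : Finset R) : Set R)).fg_iff_finiteType.1 ⟨unop k.left, rfl⟩
    exact Algebra.FiniteType.isNoetherianRing ℤ _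
  · refine IsPullback.of_right (h₁₂ := pullback.fst f₁ (D'.obj k).hom) (h₂₂ := D.map k.hom) (v₁₃ := f₁) ?_
      (pullback.lift_snd _ _ _) (IsPullback.of_hasPullback _ _)
    rw [pullback.lift_fst]
    show IsPullback q₁ f f₁ (c.π.app k.left ≫ D.map k.hom)
    rw [c.w]
    exact h₁
  · exact (Scheme.Modules.pullbackComp q₂ (pullback.fst f₁ (D'.obj k).hom)).app F₁ ≪≫
      (Scheme.Modules.pullbackCongr (pullback.lift_fst _ _ _)).app F₁ ≪≫ e₁.symm

end Groth.Agent.H7Lim
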