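import Groth.Agent.H7Lim.Topology
import Mathlib.AlgebraicGeometry.Morphisms.UniversallyOpen

/-!
# Open maps and cofiltered limits
-/

set_option autoImplicit false
set_option backward.isDefEq.respectTransparency false
set_option backward.defeqAttrib.useBackward true

universe u

open CategoryTheory Limits AlgebraicGeometry TopologicalSpace

namespace Groth.Agent.H7Lim

variable {I : Type u} [Category.{u} I] [IsCofiltered I] {D : I ⥤ Scheme.{u}} {c : Cone D}
  [∀ (i j : I) (f : i ⟶ j), IsAffineHom (D.map f)] (hc : IsLimit c)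

include hc in
lemma isOpenMap_π_app (i : I) (hs : ∀ (j : I) (_ : j ⟶ i), Surjective (c.π.app j))
    (H : ∀ (j : I) (φ : j ⟶ i), IsOpenMap (D.map φ)) : IsOpenMap (c.π.app i) := by
  intro U hU
  refine isOpen_iff_forall_mem_open.mpr ?_
  rintro _ ⟨x, hx, rfl⟩
  obtain ⟨_, ⟨j, V, -, rfl⟩, hxV, hVU⟩ := Opens.isBasis_iff_nbhd.mp
    (isBasis_preimage_isAffineOpen D c hc) (U := ⟨U, hU⟩) hx
  obtain ⟨k, f, g, -⟩ := IsCofilteredOrEmpty.cone_objs j i
  have hpre := preimage_π_map (c := c) f (V : Set (D.obj j))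
  refine ⟨D.map g '' (D.map f ⁻¹' V), ?_, H k g _ (V.2.preimage (D.map f).continuous), ?_⟩
  · rintro _ ⟨y, hy, rfl⟩
    obtain ⟨z, rfl⟩ := (hs k g).surj y
    exact ⟨z, hVU (hpre.le hy), by rw [← c.w g]; rfl⟩
  · exact ⟨c.π.app k x, hpre.ge hxV, by rw [← c.w g]; rfl⟩

omit [IsCofiltered I] [∀ (i j : I) (f : i ⟶ j), IsAffineHom (D.map f)] in
lemma universallyOpen_of_comp_surjective {X Y Z : Scheme.{u}} (f : X ⟶ Y) (g : Y ⟶ Z)
    [Surjective f] [UniversallyOpen (f ≫ g)] : UniversallyOpen g := by
  refine ⟨fun Y' Z' i₁ i₂ g' h ↦ ?_⟩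
  have hc' := (IsPullback.of_hasPullback f i₁).flip.paste_horiz h
  have hopen : IsOpenMap (pullback.snd f i₁ ≫ g') :=
    UniversallyOpen.universally_isOpenMap (f := f ≫ g) _ _ _ hc'
  have hs : Surjective (pullback.snd f i₁) := inferInstance
  show IsOpenMap g'
  intro U hU
  have := hopen _ (hU.preimage (pullback.snd f i₁).continuous)
  rwa [Scheme.Hom.comp_base, TopCat.coe_comp, Set.image_comp,
    Set.image_preimage_eq _ hs.surj] at this

include hc in
lemma universallyOpen_π_app (i : I) (hs : ∀ (j : I) (_ : j ⟶ i), Surjective (c.π.app j))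
    (H : ∀ (j : I) (φ : j ⟶ i), UniversallyOpen (D.map φ)) : UniversallyOpen (c.π.app i) := by
  refine ⟨fun X' T i₁ a f' h ↦ ?_⟩
  suffices hopen : IsOpenMap (pullback.fst a (c.π.app i)) by
    show IsOpenMap f'
    rw [← h.isoPullback_hom_fst, Scheme.Hom.comp_base, TopCat.coe_comp]
    exact hopen.comp h.isoPullback.hom.homeomorph.isOpenMap
  let i₀ : Over i := Over.mk (𝟙 i)
  have key : IsOpenMap ((pbCone D c i a).π.app i₀) := by
    refine isOpenMap_π_app (isLimitPbCone D i a hc) i₀ (fun j ψ ↦ ?_) (fun j ψ ↦ ?_)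
    · have := hs j.left j.hom
      have sq : IsPullback ((pbCone D c i a).π.app j) (pullback.snd a (c.π.app i))
          (pullback.snd a (D.map j.hom)) (c.π.app j.left) :=
        IsPullback.of_right (h₁₂ := pullback.fst a (D.map j.hom)) (h₂₂ := D.map j.hom) (v₁₃ := a)
          (by simpa using IsPullback.of_hasPullback a (c.π.app i)) (by simp)
          (IsPullback.of_hasPullback a (D.map j.hom))
      exact MorphismProperty.of_isPullback (P := @Surjective) sq.flip inferInstance
    · have : ψ.left = j.hom := by simpa [i₀] using Over.w ψ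
      have := H j.left j.hom
      have : UniversallyOpen (D.map ψ.left) := by rwa [‹ψ.left = j.hom›]
      have := MorphismProperty.of_isPullback (P := @UniversallyOpen)
        (isPullback_pbDiagram_map D i a ψ).flip this
      exact Scheme.Hom.isOpenMap _
  have e : pullback.fst a (c.π.app i) =
      (pbCone D c i a).π.app i₀ ≫ pullback.fst a (D.map i₀.hom) := by simp
  rw [e, Scheme.Hom.comp_base, TopCat.coe_comp]
  have : IsIso (D.map i₀.hom) := inferInstanceAs (IsIso (D.map (𝟙 i)))
  exact (pullback.fst a (D.map i₀.hom)).homeomorph.isOpenMap.comp key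

end Groth.Agent.H7Lim
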