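import Groth.Agent.H8Props.FibreDimSemicont
import Groth.Agent.H7Lim.FPDescent.Noetherian
import Groth.Agent.H7Lim.Topology
import Groth.Prelude.Def_Cyc
import Mathlib.AlgebraicGeometry.Noetherian

/-!
# Fibre dimension loci are quasi-compact; pure relative dimension descends
-/

set_option autoImplicit false
set_option linter.style.haveILetI false
set_option backward.isDefEq.respectTransparency false
universe u

open CategoryTheory CategoryTheory.Limits AlgebraicGeometry TopologicalSpace Topology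

namespace Groth.Agent.H7Lim

open H8Props.FieldDim

/-- The locus of fibre dimension `≤ n` is quasi-compact for morphisms of finite presentation over affines. -/
theorem isCompact_fibreDimAt_le_affine {R : Type u} [CommRing R] {X : Scheme.{u}}
    (f : X ⟶ Spec (CommRingCat.of R)) [LocallyOfFinitePresentation f] [QuasiCompact f] [QuasiSeparated f]
    (n : ℕ) : IsCompact {x : X | FlatMor.fibreDimAt f x ≤ n} := by
  obtain ⟨R₀, _, _, X₀, f₀, g, hft, _, _, _, h⟩ := FPDescent.exists_noetherian_model R f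
  haveI := hft
  haveI : IsNoetherianRing R₀ := Algebra.FiniteType.isNoetherianRing ℤ R₀
  haveI : IsLocallyNoetherian X₀ := LocallyOfFiniteType.isLocallyNoetherian f₀
  haveI : CompactSpace X₀ := QuasiCompact.compactSpace_of_compactSpace f₀
  haveI : IsNoetherian X₀ := ⟨⟩
  haveI : IsAffineHom g := MorphismProperty.of_isPullback h.flip inferInstance
  have he : {x : X | FlatMor.fibreDimAt f x ≤ n} = g ⁻¹' {x : X₀ | FlatMor.fibreDimAt f₀ x ≤ n} := by
    ext x
    simp only [Set.mem_setOf_eq, Set.mem_preimage, fibreDimAt_baseChange f₀ h x]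
  rw [he]
  exact g.isCompact_preimage (U := ⟨_, isOpen_fibreDimAt_le f₀ n⟩) (NoetherianSpace.isCompact _)

/-- The locus of fibre dimension `≤ n` is quasi-compact for a finitely presented morphism from a
quasi-compact scheme. -/
theorem isCompact_fibreDimAt_le {X Y : Scheme.{u}} (f : X ⟶ Y) [LocallyOfFinitePresentation f]
    [CompactSpace X] (n : ℕ) : IsCompact {x : X | FlatMor.fibreDimAt f x ≤ n} := by
  have aux : ∀ x : X, ∃ V : X.Opens, x ∈ V ∧
      IsCompact ({x : X | FlatMor.fibreDimAt f x ≤ n} ∩ V) := fun x => by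
    obtain ⟨U, (hU : IsAffineOpen U), hxU, -⟩ := Opens.isBasis_iff_nbhd.mp Y.isBasis_affineOpens
      (show f x ∈ (⊤ : Y.Opens) from trivial)
    obtain ⟨V, (hV : IsAffineOpen V), hxV, hVU⟩ := Opens.isBasis_iff_nbhd.mp X.isBasis_affineOpens
      (show x ∈ f ⁻¹ᵁ U from hxU)
    refine ⟨V, hxV, ?_⟩
    let φ := Spec.map (f.appLE U V hVU)
    have hsq : φ ≫ hU.fromSpec = hV.fromSpec ≫ f := IsAffineOpen.SpecMap_appLE_fromSpec f hU hV hVU
    haveI : LocallyOfFinitePresentation (φ ≫ hU.fromSpec) := hsq ▸ inferInstance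
    haveI : LocallyOfFinitePresentation φ :=
      (HasRingHomProperty.Spec_iff (P := @LocallyOfFinitePresentation)).mpr
        (f.finitePresentation_appLE hU hV hVU)
    have key : ∀ w, FlatMor.fibreDimAt f (hV.fromSpec w) = FlatMor.fibreDimAt φ w := fun w => by
      rw [← fibreDimAt_openImmersion_comp hV.fromSpec f w, ← hsq]
      exact fibreDimAt_comp_openImmersion φ hU.fromSpec w
    have := (isCompact_fibreDimAt_le_affine φ n).image hV.fromSpec.continuous
    convert this using 1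
    ext y
    constructor
    · rintro ⟨hy, hyV⟩
      obtain ⟨w, rfl⟩ : y ∈ Set.range hV.fromSpec := by rw [hV.range_fromSpec]; exact hyV
      exact ⟨w, (key w).ge.trans hy, rfl⟩
    · rintro ⟨w, hw, rfl⟩
      refine ⟨(key w).trans_le hw, ?_⟩
      rw [← hV.range_fromSpec]; exact ⟨w, rfl⟩
  choose V hxV hV using aux
  obtain ⟨s, hs⟩ := isCompact_univ.elim_finite_subcover (fun x => (V x : Set X)) (fun x => (V x).2)
    fun x _ => Set.mem_iUnion.mpr ⟨x, hxV x⟩
  have he : {x : X | FlatMor.fibreDimAt f x ≤ n} =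
      ⋃ x ∈ s, ({x : X | FlatMor.fibreDimAt f x ≤ n} ∩ V x) := by
    refine Set.Subset.antisymm (fun y hy => ?_) (Set.iUnion₂_subset fun x _ => Set.inter_subset_left)
    obtain ⟨x, hx, hyx⟩ := Set.mem_iUnion₂.mp (hs (Set.mem_univ y))
    exact Set.mem_iUnion₂.mpr ⟨x, hx, hy, hyx⟩
  rw [he]
  exact s.finite_toSet.isCompact_biUnion fun x _ => hV x

/-- Pure relative dimension `d` means that the fibre dimension at every point is `d`. -/
theorem hasRelDim_iff {X Y : Scheme.{u}} (f : X ⟶ Y) [LocallyOfFiniteType f] (d : ℕ) :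
    Cyc.HasRelDim f d ↔
      ∀ x, FlatMor.fibreDimAt f x ≤ d ∧ ∀ n : Fin d, ¬ FlatMor.fibreDimAt f x ≤ (n : ℕ) := by
  constructor
  · intro h x
    haveI := locallyOfFiniteType_fiberToSpec f (f x)
    have hx : FlatMor.fibreDimAt f x = (d : ℕ) := by
      show FlatMor.localDim (f.fiber (f x)) (f.asFiber x) = _
      rw [localDim_eq (f.fiberToSpecResidueField (f x))]
      obtain ⟨η, hη, hT⟩ := exists_component_generization (f.asFiber x)
      refine le_antisymm (iSup_le fun ξ => ?_) (le_iSup_of_le ⟨η, hη⟩ (h _ _ hT).ge)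
      obtain ⟨η', hη', hT'⟩ := exists_component_generization ξ.1
      exact (dim_mono (closure_minimal (Set.singleton_subset_iff.mpr hη'.mem_closure)
        isClosed_closure)).trans_eq (h _ _ hT')
    refine ⟨hx.le, fun n hn => ?_⟩
    rw [hx, Nat.cast_le] at hn
    exact absurd hn n.2.not_ge
  · intro h y T hT
    haveI := locallyOfFiniteType_fiberToSpec f y
    obtain ⟨η, rfl, hmax⟩ := mem_irreducibleComponents_iff hT
    obtain ⟨s, hs⟩ := exists_nat_cdim (f.fiberToSpecResidueField y) η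
    have hη : FlatMor.fibreDimAt f (f.fiberι y η) = (s : ℕ) := by
      rw [fibreDimAt_eq_localDim, localDim_eq (f.fiberToSpecResidueField y), ← hs]
      refine le_antisymm (iSup_le fun ξ => ?_) (le_iSup_of_le ⟨η, specializes_rfl⟩ le_rfl)
      rw [hmax ξ.1 ξ.2]
    obtain ⟨h1, h2⟩ := h (f.fiberι y η)
    rw [hη, Nat.cast_le] at h1
    show cdim η = _
    rw [hs]
    congr 1
    by_contra hne
    exact h2 ⟨s, lt_of_le_of_ne h1 hne⟩ hη.le

variable {I : Type u} [SmallCategory I] [IsCofiltered I] {D : I ⥤ Scheme.{u}} {c : Cone D}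
  [∀ (i j : I) (f : i ⟶ j), IsAffineHom (D.map f)]

/-- **Pure relative dimension descends.** -/
theorem exists_hasRelDim_descend (hc : IsLimit c) (i₀ : I) {X₀ Y₀ : Scheme.{u}} (f₀ : X₀ ⟶ Y₀)
    (g₀ : Y₀ ⟶ D.obj i₀) [CompactSpace X₀] [LocallyOfFinitePresentation f₀] (d : ℕ)
    {X Y : Scheme.{u}} (f : X ⟶ Y) (g : Y ⟶ c.pt) (qY : Y ⟶ Y₀) (qX : X ⟶ X₀)
    (hY : IsPullback qY g g₀ (c.π.app i₀)) (hX : IsPullback qX f f₀ qY) (hd : Cyc.HasRelDim f d) :
    ∃ (i : I) (φ : i ⟶ i₀) (Xi Yi : Scheme.{u}) (fi : Xi ⟶ Yi) (gi : Yi ⟶ D.obj i) (pY : Yi ⟶ Y₀)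
      (pX : Xi ⟶ X₀), IsPullback pY gi g₀ (D.map φ) ∧ IsPullback pX fi f₀ pY ∧ Cyc.HasRelDim fi d := by
  haveI : LocallyOfFiniteType f := MorphismProperty.of_isPullback hX inferInstance
  let a := f₀ ≫ g₀
  let P := pbDiagram D i₀ a
  let C := pbCone D c i₀ a
  have hC : IsLimit C := isLimitPbCone D i₀ a hc
  let bad : Set X₀ := {x | ¬ FlatMor.fibreDimAt f₀ x ≤ (d : ℕ)} ∪
    ⋃ n ∈ (Set.univ : Set (Fin d)), {x | FlatMor.fibreDimAt f₀ x ≤ (n : ℕ)}
  let q : P.obj (Over.mk (𝟙 i₀)) ⟶ X₀ := pullback.fst a (D.map (𝟙 i₀))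
  have hbad : QCImage bad := by
    have htop : QCImage (Set.univ : Set X₀) := by
      simpa using qcImage_range (𝟙 X₀)
    refine QCImage.union ?_ (qcImage_biUnion Set.finite_univ fun n _ => ?_)
    · have := htop.inter_isClosed (isOpen_fibreDimAt_le f₀ d).isClosed_compl
      rwa [Set.univ_inter] at this
    · exact qcImage_of_isOpen_isCompact (isOpen_fibreDimAt_le f₀ _) (isCompact_fibreDimAt_le f₀ _)
  have hempty : C.π.app (Over.mk (𝟙 i₀)) ⁻¹' (q ⁻¹' bad) = ∅ := by
    refine Set.eq_empty_of_forall_notMem fun z hz => ?_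
    let e := (hX.paste_vert hY).isoPullback
    have hqe : (C.π.app (Over.mk (𝟙 i₀)) ≫ q : C.pt ⟶ X₀) = e.inv ≫ qX := by
      rw [Iso.eq_inv_comp]
      simp [C, P, q, e, a]
    have hz' : qX (e.inv z) ∈ bad := by
      rw [← Scheme.Hom.comp_apply, ← hqe, Scheme.Hom.comp_apply]; exact hz
    obtain ⟨h1, h2⟩ := (hasRelDim_iff f d).mp hd (e.inv z)
    simp only [fibreDimAt_baseChange f₀ hX] at h1 h2
    rcases hz' with h | h
    · exact h h1
    · obtain ⟨n, -, hn⟩ := Set.mem_iUnion₂.mp h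
      exact h2 n hn
  haveI : QuasiCompact q := by
    haveI : IsAffineHom q := MorphismProperty.pullback_fst _ _ inferInstance
    infer_instance
  obtain ⟨j, ψ, hj⟩ := (hbad.preimage q).exists_preimage_eq_empty hC hempty
  let φ : j.left ⟶ i₀ := j.hom
  let Yi := pullback g₀ (D.map φ)
  let fi := pullback.snd f₀ (pullback.fst g₀ (D.map φ))
  haveI : LocallyOfFiniteType fi := MorphismProperty.pullback_snd _ _ inferInstance
  refine ⟨j.left, φ, _, Yi, fi, pullback.snd _ _, pullback.fst _ _, pullback.fst _ _,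
    IsPullback.of_hasPullback _ _, IsPullback.of_hasPullback _ _, (hasRelDim_iff fi d).mpr fun x => ?_⟩
  have hb : pullback.fst f₀ (pullback.fst g₀ (D.map φ)) x ∉ bad := fun hx => by
    let hw := ((IsPullback.of_hasPullback f₀ (pullback.fst g₀ (D.map φ))).paste_vert
      (IsPullback.of_hasPullback g₀ (D.map φ))).isoPullback
    have hmem : hw.hom x ∈ P.map ψ ⁻¹' (q ⁻¹' bad) := by
      show (hw.hom ≫ P.map ψ ≫ q) x ∈ bad
      have : hw.hom ≫ P.map ψ ≫ q = pullback.fst f₀ (pullback.fst g₀ (D.map φ)) := by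
        simp [P, q, a, hw, φ]
      rw [this]; exact hx
    exact (hj.subset hmem).elim
  simp only [bad, Set.mem_union, Set.mem_iUnion₂, not_or, not_exists, Set.mem_setOf_eq, not_not] at hb
  rw [fibreDimAt_baseChange f₀ (IsPullback.of_hasPullback f₀ (pullback.fst g₀ (D.map φ)))]
  exact ⟨hb.1, fun n => hb.2 n (Set.mem_univ n)⟩

end Groth.Agent.H7Lim
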