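import Groth.Agent.H8Props.FieldDimFibre
import Groth.Agent.H06Equidim.Basic
import Groth.Agent.H22Alg.DimFunLft
import Groth.Agent.S2768
import Mathlib

/-!
# Relative dimension at a smooth generic point
-/

set_option autoImplicit false
set_option linter.style.haveILetI false
set_option backward.isDefEq.respectTransparency false

universe u

open CategoryTheory Limits AlgebraicGeometry TopologicalSpace

namespace Groth.Agent.H7Lim.GenericSmoothDim

/-- Around a smooth point the morphism is smooth of some constant relative dimension. -/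
theorem exists_open_smoothOfRelativeDimension {X Y : Scheme.{u}} (f : X ⟶ Y) [LocallyOfFinitePresentation f]
    {x : X} (hx : x ∈ f.smoothLocus) :
    ∃ (W : X.Opens) (d : ℕ), x ∈ W ∧ SmoothOfRelativeDimension d (W.ι ≫ f) := by
  let V₀ := f.smoothLocus
  haveI : Smooth (V₀.ι ≫ f) := by
    rw [← Scheme.Hom.smoothLocus_eq_top_iff, ← Scheme.Hom.preimage_smoothLocus_eq, Scheme.Opens.ι_preimage_self]
  obtain ⟨x₀, hx₀⟩ : x ∈ Set.range V₀.ι := by rw [Scheme.Opens.range_ι]; exact hx
  obtain ⟨U, hU, V, hV, hxV, e, hf⟩ := Smooth.exists_isStandardSmooth (V₀.ι ≫ f) x₀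
  obtain ⟨d, hd⟩ : ∃ d, RingHom.IsStandardSmoothOfRelativeDimension d ((V₀.ι ≫ f).appLE U V e).hom := by
    algebraize [((V₀.ι ≫ f).appLE U V e).hom]
    obtain ⟨ι, σ, _, _, ⟨P⟩⟩ := (‹Algebra.IsStandardSmooth _ _› : Algebra.IsStandardSmooth _ _).out
    exact ⟨P.dimension, P.isStandardSmoothOfRelativeDimension rfl⟩
  haveI hVd : SmoothOfRelativeDimension d (V.ι ≫ V₀.ι ≫ f) := by
    refine ⟨fun v => ⟨U, hU, ⊤, ?_, trivial, ?_, ?_⟩⟩
    · exact haveI : IsAffine V := hV; isAffineOpen_top _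
    · intro w _
      exact e (V.range_ι.le ⟨w, rfl⟩)
    · rw [← Scheme.Hom.appLE_comp_appLE V.ι (V₀.ι ≫ f) U V ⊤ e
        (fun w _ => V.range_ι.le ⟨w, rfl⟩), CommRingCat.hom_comp]
      have : Function.Bijective (V.ι.appLE V ⊤ (fun w _ => V.range_ι.le ⟨w, rfl⟩)).hom := by
        rw [Scheme.Opens.ι_appLE]
        have h : V.ι ''ᵁ ⊤ = V := V.ι_image_top
        rw [Subsingleton.elim (homOfLE _) (eqToHom h)]
        exact ConcreteCategory.bijective_of_isIso _
      exact RingHom.isStandardSmoothOfRelativeDimension_respectsIso.1 _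
        (RingEquiv.ofBijective _ this) hd
  refine ⟨V₀.ι ''ᵁ V, d, ⟨x₀, hxV, hx₀⟩, ?_⟩
  have he : (V₀.ι ''ᵁ V).ι ≫ f = (IsOpenImmersion.isoOfRangeEq (V₀.ι ''ᵁ V).ι (V.ι ≫ V₀.ι) (by
      rw [Scheme.Opens.range_ι, Scheme.Hom.comp_base, TopCat.coe_comp, Set.range_comp, Scheme.Opens.range_ι]
      rfl)).hom ≫ V.ι ≫ V₀.ι ≫ f := by
    rw [← Category.assoc V.ι, IsOpenImmersion.isoOfRangeEq_hom_fac_assoc]
  rw [he]
  exact (MorphismProperty.cancel_left_of_respectsIso (P := @SmoothOfRelativeDimension d) _ _).2 hVd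

open Groth.Agent.H8Props.FieldDim in
/-- At a point which is maximal in its fibre, a relative dimension is the transcendence degree. -/
theorem trdeg_eq {X Y : Scheme.{u}} (f : X ⟶ Y) [LocallyOfFiniteType f] {W : X.Opens} {x : X} (hxW : x ∈ W)
    (d : ℕ) [SmoothOfRelativeDimension d (W.ι ≫ f)] (hmax : ∀ z, z ⤳ x → z = x) :
    @Algebra.trdeg (Y.residueField (f x)) (X.residueField x) _ _ (f.residueFieldMap x).hom.toAlgebra = d := by
  obtain ⟨x₀, hx₀⟩ : x ∈ Set.range W.ι := by rw [Scheme.Opens.range_ι]; exact hxW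
  have h1 := S2768.result d (W.ι ≫ f) x₀
  rw [H06Equidim.fibreDimAt_opens_ι f W x₀, hx₀] at h1
  let u := f.asFiber x
  have hux : f.fiberι (f x) u = x := f.fiberι_asFiber x
  have h2 : FlatMor.localDim (f.fiber (f x)) u = (d : WithBot ℕ∞) := h1
  haveI := locallyOfFiniteType_fiberToSpec f (f x)
  rw [@localDim_eq (Y.residueField (f x)) _ _ (f.fiberToSpecResidueField (f x)) ‹_›] at h2
  have h3 : cdim u = (d : WithBot ℕ∞) := by
    rw [← h2]
    refine le_antisymm (le_iSup_of_le ⟨u, specializes_rfl⟩ le_rfl) (iSup_le fun η => ?_)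
    have hmap := η.2.map (f.fiberι (f x)).continuous
    have h4 : f.fiberι (f x) η.1 = x := hmax _ (hmap.trans (by rw [hux]))
    have : η.1 = u := (f.fiberι (f x)).isEmbedding.injective (h4.trans hux.symm)
    rw [this]
  obtain ⟨s, hs, hs'⟩ := exists_trdeg_fiber f u
  have hsd : s = d := by
    rw [h3] at hs
    exact_mod_cast hs.symm
  subst hsd
  rw [hux] at hs'
  exact hs'

end Groth.Agent.H7Lim.GenericSmoothDim
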