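import Groth.Agent.H7Lim.Topology
import Groth.Agent.H28Top.Spectral
import Groth.Agent.H17.ProConsPre
import Groth.Prelude.Def_ProCons
import Mathlib.CategoryTheory.Filtered.Final

/-!
# Pro-constructible subsets along cofiltered limits
-/

set_option autoImplicit false
set_option backward.isDefEq.respectTransparency false
set_option linter.style.haveILetI false

universe u

open AlgebraicGeometry CategoryTheory Limits TopologicalSpace Topology

namespace Groth.Agent.H7Lim

theorem isProConstructible_sdiff {X : Type*} [TopologicalSpace X] {E F : Set X}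
    (hE : ProCons.IsProConstructible E) (hF : ProCons.IsIndConstructible F)
    (hres : ∀ {U W : Set X} (h : W ⊆ U), IsOpen W → ∀ T : Set U, IsLocallyConstructible T →
      IsLocallyConstructible (Set.inclusion h ⁻¹' T)) :
    ProCons.IsProConstructible (E \ F) := by
  intro x
  obtain ⟨U₁, h₁, hx₁, S₁, hS₁, e₁⟩ := hE x
  obtain ⟨U₂, h₂, hx₂, S₂, hS₂, e₂⟩ := hF x
  refine ⟨U₁ ∩ U₂, h₁.inter h₂, ⟨hx₁, hx₂⟩,
    (fun T => Set.inclusion Set.inter_subset_left ⁻¹' T) '' S₁ ∪
      (fun T => Set.inclusion Set.inter_subset_right ⁻¹' Tᶜ) '' S₂, ?_, ?_⟩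
  · rintro _ (⟨T, hT, rfl⟩ | ⟨T, hT, rfl⟩)
    · exact hres _ (h₁.inter h₂) T (hS₁ T hT)
    · exact hres _ (h₁.inter h₂) _ fun y => (hS₂ T hT y).imp fun V ⟨a, b, c⟩ => ⟨a, b, c.compl⟩
  · ext ⟨y, hy₁, hy₂⟩
    have a₁ := Set.ext_iff.1 e₁ ⟨y, hy₁⟩
    have a₂ := Set.ext_iff.1 e₂ ⟨y, hy₂⟩
    simp only [Set.mem_preimage, Set.mem_sInter, Set.mem_sUnion] at a₁ a₂
    simp only [Set.mem_preimage, Set.mem_sdiff, a₁, a₂, Set.mem_sInter, Set.mem_union, Set.mem_image]
    constructor
    · rintro ⟨p, q⟩ _ (⟨T, hT, rfl⟩ | ⟨T, hT, rfl⟩)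
      · exact p T hT
      · exact fun h => q ⟨T, hT, h⟩
    · intro h
      exact ⟨fun T hT => h _ (.inl ⟨T, hT, rfl⟩), fun ⟨T, hT, hyT⟩ => h _ (.inr ⟨T, hT, rfl⟩) hyT⟩

theorem isProConstructible_sdiff' {X : Scheme.{u}} {E F : Set X}
    (hE : ProCons.IsProConstructible E) (hF : ProCons.IsIndConstructible F) :
    ProCons.IsProConstructible (E \ F) :=
  isProConstructible_sdiff hE hF fun {U W} h hW T hT =>
    hT.preimage_of_isOpenEmbedding
      ⟨IsEmbedding.inclusion h, by rw [Set.range_inclusion]; exact hW.preimage continuous_subtype_val⟩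

/-- A pro-constructible set is closed for the constructible topology of an affine open. -/
theorem isClosed_constr_preimage {X : Scheme.{u}} {E : Set X} (hE : ProCons.IsProConstructible E)
    {Z : Scheme.{u}} [IsAffine Z] (g : Z ⟶ X) :
    IsClosed[constructibleTopology Z] (g ⁻¹' E) := by
  have key : ∀ z : Z, ∃ W : Set Z, z ∈ W ∧ IsOpen W ∧ IsCompact W ∧
      IsClosed[constructibleTopology Z] (g ⁻¹' E ∩ W) := fun z => by
    obtain ⟨U, hU, hzU, S, hS, e⟩ := hE (g z)
    obtain ⟨W, hW, hzW, hmap, hc⟩ := H17.ProConsPre.exists_nhd g U hU z hzU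
    obtain ⟨V, hV, hzV, hVW⟩ := exists_isAffineOpen_mem_and_subset (U := (⟨W, hW⟩ : Z.Opens)) hzW
    refine ⟨V, hzV, V.2, hV.isCompact, ?_⟩
    have e' : g ⁻¹' E ∩ (V : Set Z) =
        (V : Set Z) ∩ ⋂ T : S, (Subtype.val '' ((fun w : ↥W => (⟨g w.1, hmap w.1 w.2⟩ : ↥U)) ⁻¹' T.1) ∩ V) := by
      ext y
      by_cases hy : y ∈ (V : Set Z)
      swap
      · simp [hy]
      have a := Set.ext_iff.1 e ⟨g y, hmap y (hVW hy)⟩
      simp only [Set.mem_preimage, Set.mem_sInter] at a
      simp only [Set.mem_inter_iff, Set.mem_preimage, a, hy, and_true, true_and, Set.mem_iInter, Set.mem_image]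
      constructor
      · exact fun h T => ⟨⟨y, hVW hy⟩, h T.1 T.2, rfl⟩
      · intro h T hT
        obtain ⟨⟨w, hw⟩, hwT, rfl⟩ := h ⟨T, hT⟩
        exact hwT
    rw [e']
    have hVc := H28Top.isClosed_constr_of_compactOpen V.2 hV.isCompact
    refine @IsClosed.inter Z _ _ (constructibleTopology Z) hVc
      (@isClosed_iInter Z _ (constructibleTopology Z) _ fun T => ?_)
    · refine H28Top.isClosed_constr_of_isConstructible ?_
      have h1 : IsLocallyConstructible (Set.inclusion hVW ⁻¹'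
          ((fun w : ↥W => (⟨g w.1, hmap w.1 w.2⟩ : ↥U)) ⁻¹' T.1)) :=
        (hc T.1 (hS T.1 T.2)).preimage_of_isOpenEmbedding
          ⟨IsEmbedding.inclusion hVW, by rw [Set.range_inclusion]; exact V.2.preimage continuous_subtype_val⟩
      haveI : IsAffine V.toScheme := hV
      have h2 := IsLocallyConstructible.isConstructible (X := V.toScheme) h1
      have h3 := IsConstructible.image_of_isOpenEmbedding (X := V.toScheme) (Y := Z) V.ι.isOpenEmbedding
        (by rw [Scheme.Opens.range_ι]; exact hV.isCompact.isRetrocompact V.2) h2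
      convert h3 using 1
      ext y
      constructor
      · rintro ⟨⟨w, hw, rfl⟩, hy⟩
        exact ⟨⟨w.1, hy⟩, hw, rfl⟩
      · rintro ⟨w, hw, rfl⟩
        exact ⟨⟨_, hw, rfl⟩, w.2⟩
  choose W hzW hW hWc hclosed using key
  obtain ⟨t, ht⟩ := isCompact_univ.elim_finite_subcover W hW fun z _ => Set.mem_iUnion.2 ⟨z, hzW z⟩
  have : g ⁻¹' E = ⋃ z ∈ t, g ⁻¹' E ∩ W z := by
    rw [← Set.inter_iUnion₂]
    exact (Set.inter_eq_left.2 ((Set.subset_univ _).trans ht)).symm
  rw [this]
  exact @Set.Finite.isClosed_biUnion Z _ (constructibleTopology Z) _ _ t.finite_toSet fun z _ => hclosed z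

theorem continuous_constr_of_affine {Y Z : Scheme.{u}} (g : Z ⟶ Y) [QuasiCompact g] :
    Continuous[constructibleTopology Z, constructibleTopology Y] g := by
  refine continuous_generateFrom_iff.2 fun s hs => ?_
  rcases hs with ⟨ho, hc⟩ | ⟨hc, hc'⟩
  · exact H28Top.isOpen_constr_of_compactOpen (ho.preimage g.continuous)
      (QuasiCompact.isCompact_preimage s ho hc)
  · have h1 : IsCompact (g ⁻¹' s)ᶜ := QuasiCompact.isCompact_preimage (f := g) sᶜ hc.isOpen_compl hc'
    have := H28Top.isClosed_constr_of_compactOpen (hc.preimage g.continuous).isOpen_compl h1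
    rwa [← @isOpen_compl_iff Z _ (constructibleTopology Z), compl_compl] at this

/-- Pro-constructible subsets of the stages with no common point are eventually empty. -/
theorem exists_eq_empty_of_proCons {I : Type u} [SmallCategory I] [IsCofiltered I]
    (D : I ⥤ Scheme.{u}) (c : Cone D) (hc : IsLimit c)
    [∀ (i j : I) (f : i ⟶ j), IsAffineHom (D.map f)] (i₀ : I) [CompactSpace (D.obj i₀)]
    (C : ∀ i, Set (D.obj i)) (hC : ∀ i, ProCons.IsProConstructible (C i))
    (hCm : ∀ (i j : I) (φ : i ⟶ j), C i ⊆ D.map φ ⁻¹' C j)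
    (h : (⋂ i, c.π.app i ⁻¹' C i : Set c.pt) = ∅) : ∃ (i : I) (_ : i ⟶ i₀), C i = ∅ := by
  classical
  by_contra hne
  push Not at hne
  -- an affine open of the base stage which all the sets meet
  obtain ⟨U, hU, hUne⟩ : ∃ U : (D.obj i₀).Opens, IsAffineOpen U ∧
      ∀ a : Over i₀, ((D.map a.hom ⁻¹ᵁ U : Set (D.obj a.left)) ∩ C a.left).Nonempty := by
    by_contra hno
    push Not at hno
    choose a ha using fun U : (D.obj i₀).affineOpens => hno U.1 U.2
    obtain ⟨t, ht⟩ := isCompact_univ.elim_finite_subcover (fun U : (D.obj i₀).affineOpens => (U.1 : Set (D.obj i₀)))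
      (fun U => U.1.2) (fun x _ => by
        obtain ⟨V, hV, hx, -⟩ := exists_isAffineOpen_mem_and_subset (U := (⊤ : (D.obj i₀).Opens)) (x := x) trivial
        exact Set.mem_iUnion.mpr ⟨⟨V, hV⟩, hx⟩)
    obtain ⟨b, hb⟩ := IsCofiltered.inf_objs_exists (t.image a)
    obtain ⟨y, hy⟩ := hne b.left b.hom
    obtain ⟨V, hV, hyV⟩ := Set.mem_iUnion₂.1 (ht (Set.mem_univ (D.map b.hom y)))
    obtain ⟨φ⟩ := hb (Finset.mem_image_of_mem a hV)
    refine (ha V).le ⟨?_, hCm _ _ φ.left hy⟩
    show D.map (a V).hom (D.map φ.left y) ∈ V.1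
    rwa [← Scheme.Hom.comp_apply, ← D.map_comp, Over.w φ]
  let V : ∀ a : Over i₀, (D.obj a.left).Opens := fun a => D.map a.hom ⁻¹ᵁ U
  haveI hVaff : ∀ a : Over i₀, IsAffine (V a).toScheme := fun a => hU.preimage _
  haveI : ∀ i, IsAffineHom (c.π.app i) := fun i => isAffineHom_π_app D c hc i
  let P : c.pt.Opens := c.π.app i₀ ⁻¹ᵁ U
  haveI : IsAffine P.toScheme := hU.preimage _
  have hPV : ∀ a : Over i₀, P ≤ c.π.app a.left ⁻¹ᵁ V a := fun a x hx => by
    show D.map a.hom (c.π.app a.left x) ∈ U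
    rw [← Scheme.Hom.comp_apply, c.w]
    exact hx
  have hne' : ∀ a : Over i₀, (((V a).ι ⁻¹' C a.left) : Set (V a).toScheme).Nonempty := fun a => by
    obtain ⟨y, hy, hy'⟩ := hUne a
    exact ⟨⟨y, hy⟩, hy'⟩
  have himage : ∀ a : Over i₀, ∃ x : P.toScheme, c.π.app a.left (P.ι x) ∈ C a.left := fun a => by
    have hle : ∀ b : Over a, V b.left ≤ D.map b.hom.left ⁻¹ᵁ V a := fun b x hx => by
      show D.map a.hom (D.map b.hom.left x) ∈ U
      rw [← Scheme.Hom.comp_apply, ← D.map_comp, Over.w]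
      exact hx
    let r : ∀ b : Over a, (V b.left).toScheme ⟶ (V a).toScheme := fun b =>
      (D.map b.hom.left).resLE (V a) (V b.left) (hle b)
    have hr : ∀ (b : Over a) (z : (V b.left).toScheme),
        (V a).ι (r b z) = D.map b.hom.left ((V b.left).ι z) := fun b z => by
      rw [← Scheme.Hom.comp_apply, ← Scheme.Hom.comp_apply, Scheme.Hom.resLE_comp_ι]
    let K : Over a → Set (V a).toScheme := fun b => r b '' ((V b.left).ι ⁻¹' C b.left.left)
    haveI : ∀ b : Over a, IsAffine (V b.left).toScheme := fun b => hVaff _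
    have hKc : ∀ b, @IsCompact _ (constructibleTopology (V a).toScheme) (K b) := fun b =>
      @IsCompact.image _ _ (constructibleTopology (V b.left).toScheme) (constructibleTopology (V a).toScheme) _ _
        (@IsClosed.isCompact _ (constructibleTopology (V b.left).toScheme) _ (H28Top.compactSpace_constr _)
          (isClosed_constr_preimage (hC _) _)) (continuous_constr_of_affine (r b))
    have hKcl : ∀ b, IsClosed[constructibleTopology (V a).toScheme] (K b) := fun b =>
      @IsCompact.isClosed _ (constructibleTopology (V a).toScheme) (H28Top.t2Space_constr _) _ (hKc b)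
    have hdir : Directed (· ⊇ ·) K := fun b b' => by
      have sub : ∀ {d e : Over a} (m : d ⟶ e), K d ⊆ K e := fun {d e} m => by
        rintro _ ⟨z, hz, rfl⟩
        have hze : D.map m.left.left ((V d.left).ι z) ∈ V e.left := by
          show D.map e.left.hom (D.map m.left.left _) ∈ U
          rw [← Scheme.Hom.comp_apply, ← D.map_comp, Over.w]
          exact z.2
        refine ⟨⟨_, hze⟩, hCm _ _ m.left.left hz, (V a).ι.isOpenEmbedding.injective ?_⟩
        rw [hr, hr]
        show D.map e.hom.left (D.map m.left.left ((V d.left).ι z)) = _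
        rw [← Scheme.Hom.comp_apply, ← D.map_comp, ← Over.comp_left, Over.w]
      exact ⟨IsCofiltered.min b b', sub (IsCofiltered.minToLeft b b'), sub (IsCofiltered.minToRight b b')⟩
    haveI : Nonempty (Over a) := ⟨Over.mk (𝟙 a)⟩
    obtain ⟨s, hs⟩ := @IsCompact.nonempty_iInter_of_directed_nonempty_isCompact_isClosed _
      (constructibleTopology (V a).toScheme) _ _ K hdir (fun b => (hne' b.left).image _) hKc hKcl
    rw [Set.mem_iInter] at hs
    have hsr : (V a).ι s ∈ Set.range (c.π.app a.left) := by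
      rw [range_π_eq_iInter hc]
      refine Set.mem_iInter₂.2 fun k φ => ?_
      obtain ⟨z, -, hz⟩ := hs (Over.mk (Over.homMk φ rfl : Over.mk (φ ≫ a.hom) ⟶ a))
      refine ⟨(V _).ι z, ?_⟩
      rw [← hz, hr]
      rfl
    obtain ⟨x, hx⟩ := hsr
    refine ⟨⟨x, ?_⟩, ?_⟩
    · show c.π.app i₀ x ∈ U
      have e : c.π.app i₀ x = D.map a.hom ((V a).ι s) :=
        ((congrArg (fun f : c.pt ⟶ D.obj i₀ => f x) (c.w a.hom)).symm.trans
          (Scheme.Hom.comp_apply (c.π.app a.left) (D.map a.hom) x)).trans (congrArg (D.map a.hom) hx)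
      exact e ▸ s.2
    · obtain ⟨z, hz, hzs⟩ := hs (Over.mk (𝟙 a))
      show c.π.app a.left x ∈ C a.left
      rw [hx, ← hzs, hr]
      simpa using hz
  let S : Over i₀ → Set P.toScheme := fun a => (P.ι ≫ c.π.app a.left) ⁻¹' C a.left
  have hScl : ∀ a, IsClosed[constructibleTopology P.toScheme] (S a) := fun a =>
    isClosed_constr_preimage (hC _) _
  have hSc : ∀ a, @IsCompact _ (constructibleTopology P.toScheme) (S a) := fun a =>
    @IsClosed.isCompact _ (constructibleTopology P.toScheme) _ (H28Top.compactSpace_constr _) (hScl a)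
  have hSsub : ∀ {a b : Over i₀} (m : a ⟶ b), S a ⊆ S b := fun {a b} m x hx => by
    show c.π.app b.left (P.ι x) ∈ C b.left
    rw [← c.w m.left, Scheme.Hom.comp_apply]
    exact hCm _ _ m.left hx
  haveI : Nonempty (Over i₀) := ⟨Over.mk (𝟙 i₀)⟩
  obtain ⟨x, hx⟩ := @IsCompact.nonempty_iInter_of_directed_nonempty_isCompact_isClosed _
    (constructibleTopology P.toScheme) _ _ S
    (fun a b => ⟨IsCofiltered.min a b, hSsub (IsCofiltered.minToLeft a b), hSsub (IsCofiltered.minToRight a b)⟩)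
    (fun a => himage a) hSc hScl
  rw [Set.mem_iInter] at hx
  refine Set.eq_empty_iff_forall_notMem.1 h (P.ι x) (Set.mem_iInter.2 fun i => ?_)
  have h1 := hx (Over.mk (IsCofiltered.minToRight i i₀))
  show c.π.app i (P.ι x) ∈ C i
  rw [← c.w (IsCofiltered.minToLeft i i₀), Scheme.Hom.comp_apply]
  exact hCm _ _ (IsCofiltered.minToLeft i i₀) h1

theorem subset_iff_eventually {I : Type u} [SmallCategory I] [IsCofiltered I]
    (D : I ⥤ Scheme.{u}) (c : Cone D) (hc : IsLimit c)
    [∀ (i j : I) (f : i ⟶ j), IsAffineHom (D.map f)] (i₀ : I)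
    [CompactSpace (D.obj i₀)] (E F : ∀ i : I, Set (D.obj i))
    (hE : ∀ i, ProCons.IsProConstructible (E i)) (hF : ∀ i, ProCons.IsIndConstructible (F i))
    (hEm : ∀ (i j : I) (φ : i ⟶ j), E i ⊆ ⇑(D.map φ) ⁻¹' E j)
    (hFm : ∀ (i j : I) (φ : i ⟶ j), ⇑(D.map φ) ⁻¹' F j ⊆ F i) :
    (⋂ i, ⇑(c.π.app i) ⁻¹' E i : Set c.pt) ⊆ (⋃ i, ⇑(c.π.app i) ⁻¹' F i : Set c.pt) ↔
      ∃ (i : I) (_ : i ⟶ i₀), ∀ (j : I) (_ : j ⟶ i), E j ⊆ F j := by
  constructor
  · intro h
    obtain ⟨i, φ, hi⟩ := exists_eq_empty_of_proCons D c hc i₀ (fun i => E i \ F i)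
      (fun i => isProConstructible_sdiff' (hE i) (hF i))
      (fun i j φ x hx => ⟨hEm i j φ hx.1, fun h' => hx.2 (hFm i j φ h')⟩)
      (Set.eq_empty_iff_forall_notMem.2 fun x hx => by
        rw [Set.mem_iInter] at hx
        obtain ⟨i, hi⟩ := Set.mem_iUnion.1 (h (Set.mem_iInter.2 fun i => (hx i).1))
        exact (hx i).2 hi)
    refine ⟨i, φ, fun j ψ x hx => ?_⟩
    by_contra hxF
    exact (Set.eq_empty_iff_forall_notMem.1 hi (D.map ψ x))
      ⟨hEm j i ψ hx, fun h' => hxF (hFm j i ψ h')⟩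
  · rintro ⟨i, -, hi⟩ x hx
    exact Set.mem_iUnion.2 ⟨i, hi i (𝟙 i) (Set.mem_iInter.1 hx i)⟩

end Groth.Agent.H7Lim
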