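import Mathlib.CategoryTheory.Monoidal.Grp
import Mathlib.CategoryTheory.Monoidal.Cartesian.Grp

/-!
# Group structures seen through a product preserving functor
-/

set_option autoImplicit false

universe v₁ v₂ u₁ u₂

open CategoryTheory MonoidalCategory CartesianMonoidalCategory MonObj GrpObj

namespace Groth.Agent.H7Lim.GrpDesc

variable {C : Type u₁} {E : Type u₂} [Category.{v₁} C] [Category.{v₂} E] [CartesianMonoidalCategory C]
  [CartesianMonoidalCategory E] (F : C ⥤ E) [F.Monoidal] {X : C} (m : X ⊗ X ⟶ X) (e : 𝟙_ C ⟶ X) (i : X ⟶ X)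

/-- The five group identities after applying a functor. -/
structure Eqs : Prop where
  one_mul : F.map (lift (toUnit X ≫ e) (𝟙 X) ≫ m) = F.map (𝟙 X)
  mul_one : F.map (lift (𝟙 X) (toUnit X ≫ e) ≫ m) = F.map (𝟙 X)
  left_inv : F.map (lift i (𝟙 X) ≫ m) = F.map (toUnit X ≫ e)
  right_inv : F.map (lift (𝟙 X) i ≫ m) = F.map (toUnit X ≫ e)
  mul_assoc : F.map (lift (lift (fst (X ⊗ X) X ≫ fst X X) (fst (X ⊗ X) X ≫ snd X X) ≫ m) (snd (X ⊗ X) X) ≫ m) =
    F.map (lift (fst (X ⊗ X) X ≫ fst X X) (lift (fst (X ⊗ X) X ≫ snd X X) (snd (X ⊗ X) X) ≫ m) ≫ m)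

theorem map_lift_comp {T : C} (a b : T ⟶ X) :
    F.map (lift a b ≫ m) = lift (F.map a) (F.map b) ≫ Functor.LaxMonoidal.μ F X X ≫ F.map m := by
  rw [F.map_comp, ← Functor.Monoidal.lift_μ, Category.assoc]

theorem map_toUnit_comp (T : C) :
    F.map (toUnit T ≫ e) = toUnit (F.obj T) ≫ Functor.LaxMonoidal.ε F ≫ F.map e := by
  rw [F.map_comp, ← Category.assoc (toUnit (F.obj T))]
  congr 1
  rw [← cancel_mono (Functor.Monoidal.εIso F).inv]
  exact toUnit_unique _ _

/-- The identities hold for the structure of a group object on the image. -/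
theorem eqs_of_grpObj [GrpObj (F.obj X)] (hm : Functor.LaxMonoidal.μ F X X ≫ F.map m = μ[F.obj X])
    (he : Functor.LaxMonoidal.ε F ≫ F.map e = η[F.obj X]) (hi : F.map i = ι[F.obj X]) : Eqs F m e i where
  one_mul := by
    rw [map_lift_comp, map_toUnit_comp, hm, he, F.map_id, lift_comp_one_left]
  mul_one := by
    rw [map_lift_comp, map_toUnit_comp, hm, he, F.map_id, lift_comp_one_right]
  left_inv := by
    rw [map_lift_comp, map_toUnit_comp, hm, he, hi, F.map_id, left_inv]
  right_inv := by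
    rw [map_lift_comp, map_toUnit_comp, hm, he, hi, F.map_id, right_inv]
  mul_assoc := by
    simp only [map_lift_comp, hm]
    rw [lift_lift_assoc]

variable {F m e i}

/-- The group object defined by the identities. -/
@[reducible]
def Eqs.grpObj (h : Eqs F m e i) : GrpObj (F.obj X) where
  one := Functor.LaxMonoidal.ε F ≫ F.map e
  mul := Functor.LaxMonoidal.μ F X X ≫ F.map m
  inv := F.map i
  one_mul := by
    have h1 := h.one_mul
    rw [map_lift_comp, map_toUnit_comp, F.map_id] at h1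
    have h2 : (Functor.LaxMonoidal.ε F ≫ F.map e) ▷ F.obj X = (λ_ (F.obj X)).hom ≫
        lift (toUnit _ ≫ Functor.LaxMonoidal.ε F ≫ F.map e) (𝟙 _) := by
      apply CartesianMonoidalCategory.hom_ext
      · simp only [whiskerRight_fst, Category.assoc, lift_fst, leftUnitor_hom]
        rw [← Category.assoc (snd _ _) (toUnit _)]
        exact congrArg (· ≫ _) (toUnit_unique _ _)
      · rw [whiskerRight_snd, Category.assoc, lift_snd, Category.comp_id, leftUnitor_hom]
    rw [h2, Category.assoc, h1, Category.comp_id]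
  mul_one := by
    have h1 := h.mul_one
    rw [map_lift_comp, map_toUnit_comp, F.map_id] at h1
    have h2 : F.obj X ◁ (Functor.LaxMonoidal.ε F ≫ F.map e) = (ρ_ (F.obj X)).hom ≫
        lift (𝟙 _) (toUnit _ ≫ Functor.LaxMonoidal.ε F ≫ F.map e) := by
      apply CartesianMonoidalCategory.hom_ext
      · rw [whiskerLeft_fst, Category.assoc, lift_fst, Category.comp_id, rightUnitor_hom]
      · simp only [whiskerLeft_snd, Category.assoc, lift_snd, rightUnitor_hom]
        rw [← Category.assoc (fst _ _) (toUnit _)]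
        exact congrArg (· ≫ _) (toUnit_unique _ _)
    rw [h2, Category.assoc, h1, Category.comp_id]
  left_inv := by
    have h1 := h.left_inv
    rwa [map_lift_comp, map_toUnit_comp, F.map_id] at h1
  right_inv := by
    have h1 := h.right_inv
    rwa [map_lift_comp, map_toUnit_comp, F.map_id] at h1
  mul_assoc := by
    have h1 := h.mul_assoc
    simp only [map_lift_comp] at h1
    let d : (F.obj X ⊗ F.obj X) ⊗ F.obj X ⟶ F.obj ((X ⊗ X) ⊗ X) :=
      Functor.LaxMonoidal.μ F X X ▷ F.obj X ≫ Functor.LaxMonoidal.μ F (X ⊗ X) X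
    have d1 : d ≫ F.map (fst (X ⊗ X) X ≫ fst X X) = fst _ _ ≫ fst _ _ := by
      simp [d, Functor.Monoidal.μ_fst_assoc]
    have d2 : d ≫ F.map (fst (X ⊗ X) X ≫ snd X X) = fst _ _ ≫ snd _ _ := by
      simp [d, Functor.Monoidal.μ_fst_assoc]
    have d3 : d ≫ F.map (snd (X ⊗ X) X) = snd _ _ := by simp [d]
    have h2 := congrArg (d ≫ ·) h1
    simp only [comp_lift_assoc, d1, d2, d3] at h2
    have hA : (Functor.LaxMonoidal.μ F X X ≫ F.map m) ▷ F.obj X =
        lift (lift (fst (F.obj X ⊗ F.obj X) (F.obj X) ≫ fst (F.obj X) (F.obj X))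
          (fst (F.obj X ⊗ F.obj X) (F.obj X) ≫ snd (F.obj X) (F.obj X)) ≫ Functor.LaxMonoidal.μ F X X ≫ F.map m)
          (snd (F.obj X ⊗ F.obj X) (F.obj X)) := by
      apply CartesianMonoidalCategory.hom_ext
      · simp only [whiskerRight_fst, lift_fst, ← comp_lift, lift_fst_snd, Category.comp_id]
      · simp
    have hB : (α_ (F.obj X) (F.obj X) (F.obj X)).hom ≫ F.obj X ◁ (Functor.LaxMonoidal.μ F X X ≫ F.map m) =
        lift (fst (F.obj X ⊗ F.obj X) (F.obj X) ≫ fst (F.obj X) (F.obj X))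
          (lift (fst (F.obj X ⊗ F.obj X) (F.obj X) ≫ snd (F.obj X) (F.obj X))
            (snd (F.obj X ⊗ F.obj X) (F.obj X)) ≫ Functor.LaxMonoidal.μ F X X ≫ F.map m) := by
      apply CartesianMonoidalCategory.hom_ext
      · simp
      · simp only [lift_snd, Category.assoc, whiskerLeft_snd]
        rw [← Category.assoc]
        congr 1
        apply CartesianMonoidalCategory.hom_ext <;> simp
    rw [← Category.assoc (α_ _ _ _).hom, hA, hB]
    exact h2

end Groth.Agent.H7Lim.GrpDesc
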