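import Groth.Agent.H7Lim.GrpPropStage
import Groth.Agent.H7Lim.GrpDesc
import Groth.Agent.H7Lim.FPDescent.Exists

/-!
# Finitely presented group schemes over a limit come from a stage
-/

set_option autoImplicit false
set_option maxHeartbeats 400000
set_option linter.style.haveILetI false
set_option backward.isDefEq.respectTransparency false
set_option backward.defeqAttrib.useBackward true

universe u

open CategoryTheory Limits AlgebraicGeometry MonoidalCategory CartesianMonoidalCategory MonObj GrpObj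

namespace Groth.Agent.H7Lim.OverStage

section monoidal

variable {C C' E : Type*} [Category* C] [Category* C'] [Category* E] [CartesianMonoidalCategory C]
  [CartesianMonoidalCategory C'] [CartesianMonoidalCategory E] {F : C ⥤ C'} {F' : C' ⥤ E}
    {G : C ⥤ E} [F.Monoidal] [F'.Monoidal] [G.Monoidal]

theorem tensor_app (α : F ⋙ F' ⟶ G) (A B : C) :
    Functor.LaxMonoidal.μ F' (F.obj A) (F.obj B) ≫ F'.map (Functor.LaxMonoidal.μ F A B) ≫ α.app (A ⊗ B) = (α.app A ⊗ₘ α.app B) ≫ Functor.LaxMonoidal.μ G A B := by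
  have h2 : (Functor.LaxMonoidal.μ F' (F.obj A) (F.obj B) ≫ F'.map (Functor.LaxMonoidal.μ F A B)) ≫ α.app (A ⊗ B) =
      (α.app A ⊗ₘ α.app B) ≫ Functor.LaxMonoidal.μ G A B := NatTrans.IsMonoidal.tensor (τ := α) A B
  simpa using h2

theorem unit_app (α : F ⋙ F' ⟶ G) :
    Functor.LaxMonoidal.ε F' ≫ F'.map (Functor.LaxMonoidal.ε F) ≫ α.app (𝟙_ C) = Functor.LaxMonoidal.ε G := by
  have h1 : (Functor.LaxMonoidal.ε F' ≫ F'.map (Functor.LaxMonoidal.ε F)) ≫ α.app (𝟙_ C) = Functor.LaxMonoidal.ε G := NatTrans.IsMonoidal.unit (τ := α)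
  simpa using h1

end monoidal

theorem compIso_tensor {S S' S'' : Scheme.{u}} {g : S'' ⟶ S'} {f : S' ⟶ S} {h : S'' ⟶ S} (w : g ≫ f = h)
    (A B : Over S) : Functor.LaxMonoidal.μ (Over.pullback g) (Red.bc f A) (Red.bc f B) ≫ (Over.pullback g).map (Functor.LaxMonoidal.μ (Over.pullback f) A B) ≫
      (compIso w (A ⊗ B)).hom = ((compIso w A).hom ⊗ₘ (compIso w B).hom) ≫ Functor.LaxMonoidal.μ (Over.pullback h) A B := by
  subst w
  have h1 : ∀ Z, (compIso (rfl : g ≫ f = _) Z).hom = (Over.pullbackComp g f).inv.app Z := fun Z => by simp [compIso]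
  simp only [h1]
  exact tensor_app (F := Over.pullback f) (F' := Over.pullback g) (Over.pullbackComp g f).inv A B

theorem compIso_unit {S S' S'' : Scheme.{u}} {g : S'' ⟶ S'} {f : S' ⟶ S} {h : S'' ⟶ S} (w : g ≫ f = h) :
    Functor.LaxMonoidal.ε (Over.pullback g) ≫ (Over.pullback g).map (Functor.LaxMonoidal.ε (Over.pullback f)) ≫ (compIso w (𝟙_ (Over S))).hom =
      Functor.LaxMonoidal.ε (Over.pullback h) := by
  subst w
  have h1 : ∀ Z, (compIso (rfl : g ≫ f = _) Z).hom = (Over.pullbackComp g f).inv.app Z := fun Z => by simp [compIso]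
  simp only [h1]
  exact unit_app (F := Over.pullback f) (F' := Over.pullback g) (Over.pullbackComp g f).inv

theorem compIso_natural {S S' S'' : Scheme.{u}} {g : S'' ⟶ S'} {f : S' ⟶ S} {h : S'' ⟶ S} (w : g ≫ f = h)
    {A B : Over S} (v : A ⟶ B) : (Over.pullback g).map ((Over.pullback f).map v) ≫ (compIso w B).hom =
      (compIso w A).hom ≫ (Over.pullback h).map v := by
  apply bc_hom_ext
  rw [Over.comp_left, Over.comp_left, Category.assoc, Category.assoc, compIso_hom_left_fst, map_left_fst,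
    ← Category.assoc, map_left_fst, Category.assoc, map_left_fst, ← Category.assoc, ← Category.assoc,
    compIso_hom_left_fst]

variable {I : Type u} [Category.{u} I] [IsCofiltered I] {D : I ⥤ Scheme.{u}} {c : Cone D}
  [∀ (i i' : I) (f : i ⟶ i'), IsAffineHom (D.map f)]

/-- A finitely presented scheme over the limit with operations, at a stage. -/
theorem exists_ops (hc : IsLimit c) [∀ i, CompactSpace (D.obj i)] [∀ i, QuasiSeparatedSpace (D.obj i)]
    (G : Over c.pt) [GrpObj G] [LocallyOfFinitePresentation G.hom] [QuasiCompact G.hom] [QuasiSeparated G.hom] :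
    ∃ (i : I) (X : Over (D.obj i)) (e : G ≅ Red.bc (c.π.app i) X) (m : X ⊗ X ⟶ X) (o : 𝟙_ (Over (D.obj i)) ⟶ X)
      (n : X ⟶ X), LocallyOfFinitePresentation X.hom ∧ QuasiCompact X.hom ∧ QuasiSeparated X.hom ∧
      Functor.LaxMonoidal.μ (Over.pullback (c.π.app i)) X X ≫ (Over.pullback (c.π.app i)).map m = (e.inv ⊗ₘ e.inv) ≫ μ[G] ≫ e.hom ∧
      Functor.LaxMonoidal.ε (Over.pullback (c.π.app i)) ≫ (Over.pullback (c.π.app i)).map o = η[G] ≫ e.hom ∧
      (Over.pullback (c.π.app i)).map n = e.inv ≫ ι[G] ≫ e.hom := by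
  obtain ⟨j, ⟨M⟩⟩ := FPDescent.exists_model hc G.hom
  let X₀ : Over (D.obj j) := Over.mk M.p
  let e₀ : G ≅ Red.bc (c.π.app j) X₀ := Over.isoMk M.hpb.isoPullback M.hpb.isoPullback_hom_snd
  haveI : LocallyOfFinitePresentation X₀.hom := M.lfp
  haveI : QuasiCompact X₀.hom := M.qc
  haveI : QuasiSeparated X₀.hom := M.qs
  haveI := compactSpace_tensor X₀ X₀
  haveI := quasiSeparatedSpace_tensor X₀ X₀
  haveI : QuasiCompact (𝟙_ (Over (D.obj j))).hom := inferInstanceAs (QuasiCompact (𝟙 _))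
  haveI : QuasiSeparated (𝟙_ (Over (D.obj j))).hom := inferInstanceAs (QuasiSeparated (𝟙 _))
  haveI := compactSpace_left (𝟙_ (Over (D.obj j)))
  haveI := quasiSeparatedSpace_left (𝟙_ (Over (D.obj j)))
  haveI := compactSpace_left X₀
  haveI := quasiSeparatedSpace_left X₀
  obtain ⟨i₁, f₁, v₁, hv₁⟩ := exists_hom hc
    (Functor.OplaxMonoidal.δ (Over.pullback (c.π.app j)) X₀ X₀ ≫ (e₀.inv ⊗ₘ e₀.inv) ≫ μ[G] ≫ e₀.hom)
  obtain ⟨i₂, f₂, v₂, hv₂⟩ := exists_hom hc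
    (Functor.OplaxMonoidal.η (Over.pullback (c.π.app j)) ≫ η[G] ≫ e₀.hom)
  obtain ⟨i₃, f₃, v₃, hv₃⟩ := exists_hom hc (e₀.inv ≫ ι[G] ≫ e₀.hom)
  obtain ⟨k, a₁, a₂, ha⟩ := IsCofiltered.cospan f₁ f₂
  obtain ⟨i, b, a₃, hb⟩ := IsCofiltered.cospan (a₁ ≫ f₁) f₃
  let f := (b ≫ a₁) ≫ f₁
  have hf₂ : (b ≫ a₂) ≫ f₂ = f := by simp only [f, Category.assoc, ha]
  have hf₃ : a₃ ≫ f₃ = f := by simp only [f, Category.assoc, hb]
  have h₁ := compat_later f₁ (b ≫ a₁) _ v₁ hv₁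
  have h₂ : ∀ (g : i ⟶ j), (b ≫ a₂) ≫ f₂ = g → ∃ w, (Over.pullback (c.π.app i)).map w =
      (compIso (c.w g) (𝟙_ (Over (D.obj j)))).hom ≫
        (Functor.OplaxMonoidal.η (Over.pullback (c.π.app j)) ≫ η[G] ≫ e₀.hom) ≫ (compIso (c.w g) X₀).inv := by
    rintro g rfl
    exact ⟨_, compat_later f₂ (b ≫ a₂) _ v₂ hv₂⟩
  obtain ⟨w₂, hw₂⟩ := h₂ f hf₂
  have h₃ : ∀ (g : i ⟶ j), a₃ ≫ f₃ = g → ∃ w, (Over.pullback (c.π.app i)).map w =
      (compIso (c.w g) X₀).hom ≫ (e₀.inv ≫ ι[G] ≫ e₀.hom) ≫ (compIso (c.w g) X₀).inv := by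
    rintro g rfl
    exact ⟨_, compat_later f₃ a₃ _ v₃ hv₃⟩
  obtain ⟨w₃, hw₃⟩ := h₃ f hf₃
  obtain ⟨w₁, hw₁⟩ : ∃ w, (Over.pullback (c.π.app i)).map w = _ := ⟨_, h₁⟩
  refine ⟨i, Red.bc (D.map f) X₀, e₀ ≪≫ (compIso (c.w f) X₀).symm, Functor.LaxMonoidal.μ (Over.pullback (D.map f)) X₀ X₀ ≫ w₁,
    Functor.LaxMonoidal.ε (Over.pullback (D.map f)) ≫ w₂, w₃, MorphismProperty.pullback_snd _ _ M.lfp,
    MorphismProperty.pullback_snd _ _ M.qc, MorphismProperty.pullback_snd _ _ M.qs, ?_, ?_, ?_⟩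
  · have hw₁' : (Over.pullback (c.π.app i)).map w₁ = (compIso (c.w f) (X₀ ⊗ X₀)).hom ≫
        (Functor.OplaxMonoidal.δ (Over.pullback (c.π.app j)) X₀ X₀ ≫ (e₀.inv ⊗ₘ e₀.inv) ≫ μ[G] ≫ e₀.hom) ≫
          (compIso (c.w f) X₀).inv := hw₁
    rw [(Over.pullback (c.π.app i)).map_comp, hw₁', reassoc_of% (compIso_tensor (c.w f) X₀ X₀)]
    simp only [Category.assoc, Functor.Monoidal.μ_δ_assoc, Iso.trans_hom, Iso.trans_inv, Iso.symm_hom, Iso.symm_inv,
      ← MonoidalCategory.tensorHom_comp_tensorHom]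
  · rw [(Over.pullback (c.π.app i)).map_comp, hw₂, reassoc_of% (compIso_unit (c.w f))]
    simp only [Category.assoc, Functor.Monoidal.ε_η_assoc, Iso.trans_hom, Iso.symm_hom]
  · rw [hw₃]
    simp only [Category.assoc, Iso.trans_hom, Iso.trans_inv, Iso.symm_hom, Iso.symm_inv]

/-- A finitely presented group scheme over the limit comes from a stage. -/
theorem exists_grpModel (hc : IsLimit c) [∀ i, CompactSpace (D.obj i)] [∀ i, QuasiSeparatedSpace (D.obj i)]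
    (G : Over c.pt) [GrpObj G] [LocallyOfFinitePresentation G.hom] [QuasiCompact G.hom] [QuasiSeparated G.hom] :
    ∃ (j : I) (Gj : Over (D.obj j)) (_ : GrpObj Gj) (e : G ≅ Red.bc (c.π.app j) Gj),
      IsMonHom e.hom ∧ LocallyOfFinitePresentation Gj.hom ∧ QuasiCompact Gj.hom ∧ QuasiSeparated Gj.hom := by
  obtain ⟨i, X, e, m, o, n, _, _, _, hm, ho, hn⟩ := exists_ops hc G
  let F := Over.pullback (c.π.app i)
  letI : GrpObj (F.obj X) := GrpObj.ofIso e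
  have hμ : μ[F.obj X] = (e.inv ⊗ₘ e.inv) ≫ μ[G] ≫ e.hom := by simp [F, GrpObj.ofIso]
  have hη : η[F.obj X] = η[G] ≫ e.hom := rfl
  have hι : ι[F.obj X] = e.inv ≫ ι[G] ≫ e.hom := rfl
  obtain ⟨h1, h2, h3, h4, h5⟩ := GrpDesc.eqs_of_grpObj F m o n (hm.trans hμ.symm) (ho.trans hη.symm) (hn.trans hι.symm)
  haveI := compactSpace_left X
  haveI := quasiSeparatedSpace_left X
  haveI : QuasiCompact (X ⊗ X).hom := by
    show QuasiCompact (pullback.fst X.hom X.hom ≫ X.hom)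
    infer_instance
  haveI : QuasiSeparated (X ⊗ X).hom := by
    show QuasiSeparated (pullback.fst X.hom X.hom ≫ X.hom)
    infer_instance
  haveI := compactSpace_tensor (X ⊗ X) X
  haveI := quasiSeparatedSpace_tensor (X ⊗ X) X
  haveI : LocallyOfFiniteType X.hom := inferInstance
  obtain ⟨k₁, g₁, e₁⟩ := exists_map_eq₀ hc _ _ h1
  obtain ⟨k₂, g₂, e₂⟩ := exists_map_eq₀ hc _ _ h2
  obtain ⟨k₃, g₃, e₃⟩ := exists_map_eq₀ hc _ _ h3
  obtain ⟨k₄, g₄, e₄⟩ := exists_map_eq₀ hc _ _ h4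
  obtain ⟨k₅, g₅, e₅⟩ := exists_map_eq₀ hc _ _ h5
  obtain ⟨l₁, p₁, p₂, hp⟩ := IsCofiltered.cospan g₁ g₂
  obtain ⟨l₂, q₃, q₄, hq⟩ := IsCofiltered.cospan g₃ g₄
  obtain ⟨l₃, r₁, r₅, hr⟩ := IsCofiltered.cospan (p₁ ≫ g₁) g₅
  obtain ⟨j, s₁, s₂, hs⟩ := IsCofiltered.cospan (r₁ ≫ p₁ ≫ g₁) (q₃ ≫ g₃)
  let g := s₁ ≫ r₁ ≫ p₁ ≫ g₁
  have later : ∀ {k : I} (g₀ : k ⟶ i) (a : j ⟶ k), a ≫ g₀ = g → D.map a ≫ D.map g₀ = D.map g :=
    fun g₀ a ha => by rw [← D.map_comp, ha]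
  have E : GrpDesc.Eqs (Over.pullback (D.map g)) m o n :=
    ⟨map_eq_later (later g₁ (s₁ ≫ r₁ ≫ p₁) (by simp [g])) e₁,
      map_eq_later (later g₂ (s₁ ≫ r₁ ≫ p₂) (by simp [g, hp])) e₂,
      map_eq_later (later g₃ (s₂ ≫ q₃) (by simp [g, hs])) e₃,
      map_eq_later (later g₄ (s₂ ≫ q₄) (by simp [g, hs, hq])) e₄,
      map_eq_later (later g₅ (s₁ ≫ r₅) (by simp [g, hr])) e₅⟩
  let Gj := Red.bc (D.map g) X
  letI : GrpObj Gj := E.grpObj
  let cI := compIso (c.w g) X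
  let e' : G ≅ Red.bc (c.π.app j) Gj := e ≪≫ cI.symm
  haveI : IsMonHom cI.hom := by
    constructor
    · show (Functor.LaxMonoidal.ε (Over.pullback (c.π.app j)) ≫ (Over.pullback (c.π.app j)).map
        (Functor.LaxMonoidal.ε (Over.pullback (D.map g)) ≫ (Over.pullback (D.map g)).map o)) ≫ cI.hom = η[F.obj X]
      rw [Category.assoc, (Over.pullback (c.π.app j)).map_comp, Category.assoc, compIso_natural (c.w g) o,
        reassoc_of% (compIso_unit (c.w g)), hη, ho]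
    · show (Functor.LaxMonoidal.μ (Over.pullback (c.π.app j)) Gj Gj ≫ (Over.pullback (c.π.app j)).map
        (Functor.LaxMonoidal.μ (Over.pullback (D.map g)) X X ≫ (Over.pullback (D.map g)).map m)) ≫ cI.hom = (cI.hom ⊗ₘ cI.hom) ≫ μ[F.obj X]
      rw [Category.assoc, (Over.pullback (c.π.app j)).map_comp, Category.assoc, compIso_natural (c.w g) m,
        reassoc_of% (compIso_tensor (c.w g) X X), hμ, hm]
  haveI : IsMonHom e.hom :=
    ⟨hη.symm, by rw [hμ, MonoidalCategory.tensorHom_comp_tensorHom_assoc, e.hom_inv_id, MonoidalCategory.id_tensorHom_id, Category.id_comp]⟩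
  exact ⟨j, Gj, inferInstance, e', inferInstanceAs (IsMonHom (e.hom ≫ cI.inv)),
    MorphismProperty.pullback_snd _ _ ‹LocallyOfFinitePresentation X.hom›,
    MorphismProperty.pullback_snd _ _ ‹QuasiCompact X.hom›,
    MorphismProperty.pullback_snd _ _ ‹QuasiSeparated X.hom›⟩

end Groth.Agent.H7Lim.OverStage
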