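import Groth.Agent.H7Lim.AmpleDescent
import Groth.Agent.H7Lim.Basic
import Groth.Agent.H11Ample.RelAmple

/-!
# Relative ampleness descends to a stage (EGA IV 8.10.5.2)
-/

set_option autoImplicit false
set_option backward.isDefEq.respectTransparency false
set_option linter.style.haveILetI false

noncomputable section

universe u

open CategoryTheory CategoryTheory.Limits AlgebraicGeometry Opposite TopologicalSpace
open Groth.Agent.H11Tilde Groth.Agent.H11Ample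

namespace Groth.Agent.H7Lim.RelAmpleDescent

variable {X₀ Y₀ S₀ : Scheme.{u}} (f₀ : X₀ ⟶ Y₀) (g₀ : Y₀ ⟶ S₀) (L₀ : X₀.Modules)

/-- The piece of a base change over an open of the target. -/
abbrev piece (V : Y₀.Opens) {S' : Scheme.{u}} (w : S' ⟶ S₀) : Prop :=
  CohB1.IsAmple ((Scheme.Modules.pullback (pullback.fst ((f₀ ⁻¹ᵁ V).ι ≫ f₀ ≫ g₀) w)).obj
    ((Scheme.Modules.pullback (f₀ ⁻¹ᵁ V).ι).obj L₀))

/-- Relative ampleness of a base change, tested on the pieces over an affine cover. -/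
theorem isRelAmple_iff_pieces [QuasiCompact f₀] {A : Type*} (V : A → Y₀.Opens) (hV : ∀ a, IsAffineOpen (V a))
    (hcov : ∀ y, ∃ a, y ∈ V a) {S' X Y : Scheme.{u}} (w : S' ⟶ S₀) [IsAffineHom w] (f : X ⟶ Y) (g : Y ⟶ S')
    (qY : Y ⟶ Y₀) (qX : X ⟶ X₀) (hY : IsPullback qY g g₀ w) (hX : IsPullback qX f f₀ qY) :
    RelAmple.IsRelAmple f ((Scheme.Modules.pullback qX).obj L₀) ↔ ∀ a, piece f₀ g₀ L₀ (V a) w := by
  haveI : IsAffineHom qY := MorphismProperty.of_isPullback hY.flip ‹IsAffineHom w›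
  haveI : QuasiCompact f := MorphismProperty.of_isPullback hX ‹QuasiCompact f₀›
  have key : ∀ a, AmpleOn ((Scheme.Modules.pullback qX).obj L₀) (f ⁻¹ᵁ (qY ⁻¹ᵁ V a)) ↔ piece f₀ g₀ L₀ (V a) w := by
    intro a
    have e0 : f ⁻¹ᵁ (qY ⁻¹ᵁ V a) = qX ⁻¹ᵁ (f₀ ⁻¹ᵁ V a) := by
      rw [← Scheme.Hom.comp_preimage, ← hX.w, Scheme.Hom.comp_preimage]
    rw [e0, AmpleOn]
    let U := f₀ ⁻¹ᵁ V a
    have sq : IsPullback (qX ∣_ U) ((qX ⁻¹ᵁ U).ι ≫ f ≫ g) (U.ι ≫ f₀ ≫ g₀) w :=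
      (isPullback_morphismRestrict qX U).paste_vert (hX.paste_vert hY)
    show CohB1.IsAmple ((Scheme.Modules.pullback (qX ⁻¹ᵁ U).ι).obj ((Scheme.Modules.pullback qX).obj L₀)) ↔ _
    rw [← isAmple_pullback_comp_iff, ← morphismRestrict_ι, isAmple_pullback_comp_iff,
      ← sq.isoPullback_hom_fst, isAmple_pullback_comp_iff, isAmple_pullback_iso_iff sq.isoPullback]
  constructor
  · intro h a
    exact (key a).1 ((isRelAmple_iff.1 h).2 _ ((hV a).preimage qY))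
  · intro h
    refine isRelAmple_of_cover fun y => ?_
    obtain ⟨a, ha⟩ := hcov (qY y)
    exact ⟨qY ⁻¹ᵁ V a, (hV a).preimage qY, ha, (key a).2 (h a)⟩

variable {I : Type u} [SmallCategory I] [IsCofiltered I] (D : I ⥤ Scheme.{u}) (c : Cone D)
  [∀ (i j : I) (f : i ⟶ j), IsAffineHom (D.map f)]

/-- Descent of relative ampleness. -/
theorem isRelAmple_iff_eventually (hc : IsLimit c) (i₀ : I) [CompactSpace (D.obj i₀)]
    {X₀ Y₀ : Scheme.{u}} (f₀ : X₀ ⟶ Y₀) (g₀ : Y₀ ⟶ D.obj i₀) [QuasiCompact g₀] [QuasiSeparated g₀]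
    [QuasiCompact (f₀ ≫ g₀)] [QuasiSeparated (f₀ ≫ g₀)]
    (L₀ : X₀.Modules) (hL₀ : PicF.IsInvertible L₀)
    {X Y : Scheme.{u}} (f : X ⟶ Y) (g : Y ⟶ c.pt) (qY : Y ⟶ Y₀) (qX : X ⟶ X₀)
    (hY : IsPullback qY g g₀ (c.π.app i₀)) (hX : IsPullback qX f f₀ qY) :
    RelAmple.IsRelAmple f ((Scheme.Modules.pullback qX).obj L₀) ↔
      ∃ (j : I) (φ : j ⟶ i₀) (Xj Yj : Scheme.{u}) (fj : Xj ⟶ Yj) (gj : Yj ⟶ D.obj j) (pY : Yj ⟶ Y₀)
        (pX : Xj ⟶ X₀), IsPullback pY gj g₀ (D.map φ) ∧ IsPullback pX fj f₀ pY ∧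
          RelAmple.IsRelAmple fj ((Scheme.Modules.pullback pX).obj L₀) := by
  haveI : ∀ {i j : I} (f : i ⟶ j), IsAffineHom (D.map f) := fun f => ‹∀ (i j : I) (f : i ⟶ j), IsAffineHom (D.map f)› _ _ f
  haveI : QuasiCompact f₀ := QuasiCompact.of_comp f₀ g₀
  haveI : QuasiSeparated f₀ := QuasiSeparated.of_comp f₀ g₀
  haveI : CompactSpace Y₀ := QuasiCompact.compactSpace_of_compactSpace g₀
  haveI : IsAffineHom (c.π.app i₀) := isAffineHom_π_app D c hc i₀
  obtain ⟨S, hS, hSeq⟩ := isCompact_iff_finite_and_eq_biUnion_affineOpens.1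
    (show IsCompact ((⊤ : Y₀.Opens) : Set Y₀) from isCompact_univ)
  haveI := hS.to_subtype
  let V : S → Y₀.Opens := fun a => a.1.1
  have hV : ∀ a, IsAffineOpen (V a) := fun a => a.1.2
  have hcov : ∀ y, ∃ a, y ∈ V a := fun y => by
    have hy : y ∈ ⨆ U ∈ S, (U : Y₀.Opens) := hSeq.le (show y ∈ (⊤ : Y₀.Opens) from trivial)
    rw [iSup_subtype'] at hy
    exact Opens.mem_iSup.1 hy
  have hpieces := isRelAmple_iff_pieces f₀ g₀ L₀ V hV hcov (c.π.app i₀) f g qY qX hY hX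
  have hT : ∀ a, CompactSpace (f₀ ⁻¹ᵁ V a).toScheme ∧ QuasiSeparatedSpace (f₀ ⁻¹ᵁ V a).toScheme := fun a => by
    haveI : IsAffine (V a).toScheme := hV a
    haveI : QuasiCompact (f₀ ∣_ V a) := IsZariskiLocalAtTarget.restrict (P := @QuasiCompact) inferInstance _
    haveI : QuasiSeparated (f₀ ∣_ V a) := IsZariskiLocalAtTarget.restrict (P := @QuasiSeparated) inferInstance _
    exact ⟨QuasiCompact.compactSpace_of_compactSpace (f₀ ∣_ V a), quasiSeparatedSpace_of_quasiSeparated (f₀ ∣_ V a)⟩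
  constructor
  · intro h
    have hlim := hpieces.1 h
    have hloc : ∀ a, ∃ (j : I) (φ : j ⟶ i₀), piece f₀ g₀ L₀ (V a) (D.map φ) := by
      intro a
      let b := (f₀ ⁻¹ᵁ V a).ι ≫ f₀ ≫ g₀
      haveI := (hT a).1
      haveI := (hT a).2
      haveI : ∀ {k l : Over i₀} (f : k ⟶ l), IsAffineHom ((pbDiagram D i₀ b).map f) := fun f => inferInstance
      let k₀ : Over i₀ := Over.mk (𝟙 i₀)
      let N := (Scheme.Modules.pullback ((pbFst D i₀ b).app k₀)).obj
        ((Scheme.Modules.pullback (f₀ ⁻¹ᵁ V a).ι).obj L₀)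
      have hN : PicF.IsInvertible N := isInvertible_pullback _ (isInvertible_pullback _ hL₀)
      have hN' : CohB1.IsAmple ((Scheme.Modules.pullback ((pbCone D c i₀ b).π.app k₀)).obj N) := by
        rw [← isAmple_pullback_comp_iff]
        have e : (pbCone D c i₀ b).π.app k₀ ≫ (pbFst D i₀ b).app k₀ = pullback.fst b (c.π.app i₀) := by simp [k₀]
        rw [e]
        exact hlim a
      obtain ⟨j, φ, hj⟩ := AmpleDescent.exists_isAmple_stage (isLimitPbCone D i₀ b hc) hN hN'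
      refine ⟨j.left, j.hom, ?_⟩
      rw [← isAmple_pullback_comp_iff] at hj
      have e : (pbDiagram D i₀ b).map φ ≫ (pbFst D i₀ b).app k₀ = pullback.fst b (D.map j.hom) :=
        ((pbFst D i₀ b).naturality φ).trans (Category.comp_id _)
      rw [e] at hj
      exact hj
    obtain ⟨j, φ, hj⟩ := AmpleDescent.exists_common (i₀ := i₀) (fun a j φ => piece f₀ g₀ L₀ (V a) (D.map φ))
      (fun a j j' φ χ h => by
        let b := (f₀ ⁻¹ᵁ V a).ι ≫ f₀ ≫ g₀
        let m : Over.mk (χ ≫ φ) ⟶ Over.mk φ := Over.homMk χ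
        have h' := isAmple_pullback_of_isAffineHom ((pbDiagram D i₀ b).map m) h
        rw [← isAmple_pullback_comp_iff] at h'
        have e : (pbDiagram D i₀ b).map m ≫ pullback.fst b (D.map φ) = pullback.fst b (D.map (χ ≫ φ)) :=
          ((pbFst D i₀ b).naturality m).trans (Category.comp_id _)
        show CohB1.IsAmple _
        rw [← e]
        exact h') hloc
    refine ⟨j, φ, _, _, pullback.snd f₀ (pullback.fst g₀ (D.map φ)), pullback.snd g₀ (D.map φ),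
      pullback.fst g₀ (D.map φ), pullback.fst f₀ (pullback.fst g₀ (D.map φ)), IsPullback.of_hasPullback _ _,
      IsPullback.of_hasPullback _ _, ?_⟩
    exact (isRelAmple_iff_pieces f₀ g₀ L₀ V hV hcov (D.map φ) _ _ _ _ (IsPullback.of_hasPullback _ _)
      (IsPullback.of_hasPullback _ _)).2 hj
  · rintro ⟨j, φ, Xj, Yj, fj, gj, pY, pX, hYj, hXj, hj⟩
    refine hpieces.2 fun a => ?_
    let b := (f₀ ⁻¹ᵁ V a).ι ≫ f₀ ≫ g₀
    have hja : CohB1.IsAmple ((Scheme.Modules.pullback (pullback.fst b (D.map φ))).obj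
        ((Scheme.Modules.pullback (f₀ ⁻¹ᵁ V a).ι).obj L₀)) :=
      (isRelAmple_iff_pieces f₀ g₀ L₀ V hV hcov (D.map φ) fj gj pY pX hYj hXj).1 hj a
    haveI : ∀ {k l : Over i₀} (f : k ⟶ l), IsAffineHom ((pbDiagram D i₀ b).map f) := fun f => inferInstance
    haveI : IsAffineHom ((pbCone D c i₀ b).π.app (Over.mk φ)) :=
      isAffineHom_π_app (pbDiagram D i₀ b) _ (isLimitPbCone D i₀ b hc) _
    have h' := isAmple_pullback_of_isAffineHom ((pbCone D c i₀ b).π.app (Over.mk φ)) hja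
    rw [← isAmple_pullback_comp_iff] at h'
    have e : (pbCone D c i₀ b).π.app (Over.mk φ) ≫ pullback.fst b (D.map φ) = pullback.fst b (c.π.app i₀) := by simp
    show CohB1.IsAmple _
    rw [← e]
    exact h'

end Groth.Agent.H7Lim.RelAmpleDescent
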