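import Groth.Agent.H7Lim.Topology
import Mathlib.Topology.Connected.Clopen

/-!
# Connectedness and irreducibility in cofiltered limits
-/

set_option autoImplicit false
set_option backward.isDefEq.respectTransparency false

universe u

open CategoryTheory Limits AlgebraicGeometry TopologicalSpace

namespace Groth.Agent.H7Lim

lemma denseRange_of_isDominant {X Y : Scheme.{u}} (f : X ⟶ Y) [IsDominant f] : DenseRange f :=
  f.denseRange

lemma exists_disjoint_of_not_preirreducible {X : Type*} [TopologicalSpace X]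
    (h : ¬ PreirreducibleSpace X) :
    ∃ U V : Set X, IsOpen U ∧ IsOpen V ∧ U.Nonempty ∧ V.Nonempty ∧ U ∩ V = ∅ := by
  by_contra! H
  refine h ⟨?_⟩
  rintro U V hU hV ⟨x, -, hx⟩ ⟨y, -, hy⟩
  obtain ⟨z, hz⟩ := H U V hU hV ⟨x, hx⟩ ⟨y, hy⟩
  exact ⟨z, trivial, hz⟩

lemma preirreducibleSpace_of_denseRange {X Y : Type*} [TopologicalSpace X] [TopologicalSpace Y]
    {f : X → Y} (hf : Continuous f) (hd : DenseRange f) [PreirreducibleSpace X] :
    PreirreducibleSpace Y := by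
  refine ⟨?_⟩
  have := ((PreirreducibleSpace.isPreirreducible_univ (X := X)).image f hf.continuousOn).closure
  rwa [Set.image_univ, hd.closure_range] at this

variable {I : Type u} [Category.{u} I] [IsCofiltered I] {D : I ⥤ Scheme.{u}} {c : Cone D}
  [∀ (i j : I) (f : i ⟶ j), IsAffineHom (D.map f)] (hc : IsLimit c)

include hc in
lemma isDominant_π_app (i : I) (h : ∀ (j : I) (φ : j ⟶ i), IsDominant (D.map φ)) :
    IsDominant (c.π.app i) := by
  refine ⟨?_⟩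
  rw [DenseRange, dense_iff_inter_open]
  rintro U hU ⟨x, hx⟩
  obtain ⟨_, ⟨V, hV, rfl⟩, hxV, hVU⟩ :=
    (D.obj i).isBasis_affineOpens.exists_subset_of_mem_open hx hU
  by_contra hne
  obtain ⟨j, φ, hφ⟩ := QCImage.exists_preimage_eq_empty hc
    (qcImage_of_isOpen_isCompact V.2 (IsAffineOpen.isCompact hV))
    (Set.eq_empty_of_forall_notMem fun y hy ↦ hne ⟨_, hVU hy, y, rfl⟩)
  obtain ⟨_, hy, y, rfl⟩ := (h j φ).denseRange.inter_open_nonempty _ V.2 ⟨x, hxV⟩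
  exact hφ.le (show y ∈ D.map φ ⁻¹' (V : Set (D.obj i)) from hy)

include hc in
/-- The limit is nonempty if all stages over a quasi-compact one are. -/
lemma nonempty_pt (i : I) [CompactSpace (D.obj i)]
    (h : ∀ (j : I) (_ : j ⟶ i), Nonempty (D.obj j)) : Nonempty c.pt := by
  by_contra hn
  rw [not_nonempty_iff] at hn
  obtain ⟨j, φ, hj⟩ := QCImage.exists_preimage_eq_empty hc (E := (Set.univ : Set (D.obj i)))
    (qcImage_of_isOpen_isCompact isOpen_univ isCompact_univ) (Set.eq_empty_of_forall_notMem fun x _ ↦ IsEmpty.false (α := c.pt) x)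
  rw [Set.preimage_univ, Set.univ_eq_empty_iff] at hj
  exact hj.elim (h j φ).some

include hc in
/-- A disconnection of the limit descends to a pair of quasi-compact opens covering a stage. -/
lemma exists_cover_of_not_preconnectedSpace (i₀ : I) [CompactSpace (D.obj i₀)]
    (h : ¬ PreconnectedSpace c.pt) :
    ∃ (i : I) (_ : i ⟶ i₀) (U V : Set (D.obj i)), IsOpen U ∧ IsOpen V ∧ IsCompact U ∧
      IsCompact V ∧ U ∪ V = Set.univ ∧ c.π.app i ⁻¹' (U ∩ V) = ∅ ∧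
      (c.π.app i ⁻¹' U).Nonempty ∧ (c.π.app i ⁻¹' V).Nonempty := by
  have := compactSpace_pt_of_isAffineHom hc i₀
  obtain ⟨A, hA, hA₀, hA₁⟩ : ∃ A : Set c.pt, IsClopen A ∧ A.Nonempty ∧ Aᶜ.Nonempty := by
    rw [preconnectedSpace_iff_clopen] at h
    push Not at h
    obtain ⟨A, hA, h₀, h₁⟩ := h
    exact ⟨A, hA, h₀, Set.nonempty_compl.mpr h₁⟩
  obtain ⟨i, φ, U, hU, hU', eU⟩ :=
    exists_isCompact_isOpen_preimage_eq hc i₀ hA.2 hA.1.isCompact
  obtain ⟨j, ψ, V, hV, hV', eV⟩ :=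
    exists_isCompact_isOpen_preimage_eq hc i hA.compl.2 hA.compl.1.isCompact
  rw [← preimage_π_map ψ] at eU
  have hU₂ : IsCompact (D.map ψ ⁻¹' U) := QuasiCompact.isCompact_preimage _ hU hU'
  have hU₃ : IsOpen (D.map ψ ⁻¹' U) := hU.preimage (D.map ψ).continuous
  have := compactSpace_of_hom D (ψ ≫ φ)
  obtain ⟨k, χ, hk⟩ := QCImage.exists_preimage_eq_empty hc
    (E := (D.map ψ ⁻¹' U ∪ V)ᶜ)
    (by
      simpa using (qcImage_of_isOpen_isCompact (X := D.obj j) isOpen_univ isCompact_univ).inter_isClosed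
        (hU₃.union hV).isClosed_compl)
    (by rw [Set.preimage_compl, Set.preimage_union, eU, eV, Set.union_compl_self, Set.compl_univ])
  rw [← preimage_π_map χ] at eU eV
  refine ⟨k, χ ≫ ψ ≫ φ, D.map χ ⁻¹' (D.map ψ ⁻¹' U), D.map χ ⁻¹' V, hU₃.preimage (D.map χ).continuous,
    hV.preimage (D.map χ).continuous, QuasiCompact.isCompact_preimage _ hU₃ hU₂,
    QuasiCompact.isCompact_preimage _ hV hV', ?_, ?_, by rwa [eU], by rwa [eV]⟩
  · rw [← Set.preimage_union, ← compl_compl (D.map ψ ⁻¹' U ∪ V), Set.preimage_compl, hk,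
      Set.compl_empty]
  · rw [Set.preimage_inter, eU, eV, Set.inter_compl_self]

omit [IsCofiltered I] [∀ (i j : I) (f : i ⟶ j), IsAffineHom (D.map f)] in
lemma not_preconnectedSpace_of_cover {i k : I} (χ : k ⟶ i) {U V : Set (D.obj i)}
    (hU : IsOpen U) (hV : IsOpen V) (h : U ∪ V = Set.univ)
    (he : D.map χ ⁻¹' (U ∩ V) = ∅)
    (h₁ : (c.π.app i ⁻¹' U).Nonempty) (h₂ : (c.π.app i ⁻¹' V).Nonempty) :
    ¬ PreconnectedSpace (D.obj k) := by
  intro H
  obtain ⟨x, hx⟩ := h₁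
  obtain ⟨y, hy⟩ := h₂
  obtain ⟨z, -, hz⟩ := H.isPreconnected_univ (D.map χ ⁻¹' U) (D.map χ ⁻¹' V)
    (hU.preimage (D.map χ).continuous) (hV.preimage (D.map χ).continuous)
    (by rw [← Set.preimage_union, h, Set.preimage_univ])
    ⟨c.π.app k x, trivial, (preimage_π_map χ U).ge hx⟩
    ⟨c.π.app k y, trivial, (preimage_π_map χ V).ge hy⟩
  exact he.le (show z ∈ D.map χ ⁻¹' (U ∩ V) from hz)

include hc in
lemma exists_not_preconnectedSpace (i₀ : I) [CompactSpace (D.obj i₀)]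
    [QuasiSeparatedSpace (D.obj i₀)] (h : ¬ PreconnectedSpace c.pt) :
    ∃ (i : I) (_ : i ⟶ i₀), ∀ (j : I) (_ : j ⟶ i), ¬ PreconnectedSpace (D.obj j) := by
  obtain ⟨i, φ, U, V, hU, hV, hU', hV', hcov, he, h₁, h₂⟩ :=
    exists_cover_of_not_preconnectedSpace hc i₀ h
  have := quasiSeparatedSpace_of_hom D φ
  obtain ⟨j, ψ, hj⟩ := QCImage.exists_preimage_eq_empty hc
    (qcImage_of_isOpen_isCompact (hU.inter hV) (hU'.inter_of_isOpen hV' hU hV)) he
  exact ⟨j, ψ ≫ φ, fun k χ ↦ not_preconnectedSpace_of_cover (χ ≫ ψ) hU hV hcov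
    (by rw [← preimage_map_map, hj, Set.preimage_empty]) h₁ h₂⟩

include hc in
lemma preconnectedSpace_pt (i₀ : I) [CompactSpace (D.obj i₀)]
    (hd : ∀ (j k : I) (φ : j ⟶ k), IsDominant (D.map φ))
    (h : ∀ (j : I) (_ : j ⟶ i₀), PreconnectedSpace (D.obj j)) : PreconnectedSpace c.pt := by
  by_contra hn
  obtain ⟨i, φ, U, V, hU, hV, -, -, hcov, he, h₁, h₂⟩ :=
    exists_cover_of_not_preconnectedSpace hc i₀ hn
  have := isDominant_π_app hc i fun j ψ ↦ hd j i ψ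
  have he' : U ∩ V = ∅ := by
    by_contra hne
    obtain ⟨_, hy, y, rfl⟩ :=
      (denseRange_of_isDominant (c.π.app i)).inter_open_nonempty _ (hU.inter hV)
        (Set.nonempty_iff_ne_empty.mpr hne)
    exact he.le hy
  exact not_preconnectedSpace_of_cover (𝟙 i) hU hV hcov (by rw [he', Set.preimage_empty]) h₁ h₂
    (h i φ)

include hc in
/-- Two disjoint nonempty opens in the limit descend to some stage. -/
lemma exists_opens_of_not_preirreducible (i₀ : I) (h : ¬ PreirreducibleSpace c.pt) :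
    ∃ (i : I) (_ : i ⟶ i₀) (U V : (D.obj i).Opens), IsCompact (U : Set (D.obj i)) ∧
      IsCompact (V : Set (D.obj i)) ∧
      c.π.app i ⁻¹' ((U : Set (D.obj i)) ∩ V) = ∅ ∧
      (c.π.app i ⁻¹' (U : Set (D.obj i))).Nonempty ∧
      (c.π.app i ⁻¹' (V : Set (D.obj i))).Nonempty := by
  obtain ⟨A, B, hA, hB, ⟨a, ha⟩, ⟨b, hb⟩, hAB⟩ := exists_disjoint_of_not_preirreducible h
  obtain ⟨_, ⟨i, U, hU, rfl⟩, haU, hUA⟩ := Opens.isBasis_iff_nbhd.mp
    (isBasis_preimage_isAffineOpen D c hc) (U := ⟨A, hA⟩) ha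
  obtain ⟨_, ⟨j, V, hV, rfl⟩, hbV, hVB⟩ := Opens.isBasis_iff_nbhd.mp
    (isBasis_preimage_isAffineOpen D c hc) (U := ⟨B, hB⟩) hb
  obtain ⟨k₁, f, g, -⟩ := IsCofilteredOrEmpty.cone_objs i j
  obtain ⟨k, p, q, -⟩ := IsCofilteredOrEmpty.cone_objs k₁ i₀
  have eU := preimage_π_map (c := c) (p ≫ f) (U : Set (D.obj i))
  have eV := preimage_π_map (c := c) (p ≫ g) (V : Set (D.obj j))
  refine ⟨k, q, D.map (p ≫ f) ⁻¹ᵁ U, D.map (p ≫ g) ⁻¹ᵁ V, (hU.preimage _).isCompact,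
    (hV.preimage _).isCompact, ?_, ⟨a, eU.ge haU⟩, ⟨b, eV.ge hbV⟩⟩
  refine Set.eq_empty_of_forall_notMem fun x hx ↦ hAB.le ⟨hUA (eU.le hx.1), hVB (eV.le hx.2)⟩

include hc in
lemma irreducibleSpace_pt (i₀ : I) [CompactSpace (D.obj i₀)]
    (hd : ∀ (j k : I) (φ : j ⟶ k), IsDominant (D.map φ))
    (h : ∀ (j : I) (_ : j ⟶ i₀), IrreducibleSpace (D.obj j)) : IrreducibleSpace c.pt := by
  have := nonempty_pt hc i₀ fun j φ ↦ (h j φ).toNonempty
  by_contra hn
  have hn' : ¬ PreirreducibleSpace c.pt := fun _ ↦ hn ⟨this⟩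
  obtain ⟨i, φ, U, V, -, -, he, ⟨a, ha⟩, ⟨b, hb⟩⟩ := exists_opens_of_not_preirreducible hc i₀ hn'
  have := h i φ
  have := isDominant_π_app hc i fun j ψ ↦ hd j i ψ
  obtain ⟨_, hy, y, rfl⟩ :=
    (denseRange_of_isDominant (c.π.app i)).inter_open_nonempty _ (U.2.inter V.2)
      (nonempty_preirreducible_inter U.2 V.2 ⟨_, ha⟩ ⟨_, hb⟩)
  exact he.le hy

include hc in
lemma exists_not_irreducibleSpace (i₀ : I) [CompactSpace (D.obj i₀)]
    [QuasiSeparatedSpace (D.obj i₀)] (h : ¬ IrreducibleSpace c.pt) :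
    ∃ (i : I) (_ : i ⟶ i₀), ∀ (j : I) (_ : j ⟶ i), ¬ IrreducibleSpace (D.obj j) := by
  by_cases hne : Nonempty c.pt
  · have hn : ¬ PreirreducibleSpace c.pt := fun _ ↦ h ⟨hne⟩
    obtain ⟨i, φ, U, V, hU, hV, he, ⟨a, ha⟩, ⟨b, hb⟩⟩ :=
      exists_opens_of_not_preirreducible hc i₀ hn
    have := quasiSeparatedSpace_of_hom D φ
    obtain ⟨j, ψ, hj⟩ := QCImage.exists_preimage_eq_empty hc
      (qcImage_of_isOpen_isCompact (U.2.inter V.2) (hU.inter_of_isOpen hV U.2 V.2)) he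
    refine ⟨j, ψ ≫ φ, fun k χ hk ↦ ?_⟩
    obtain ⟨z, hz⟩ := nonempty_preirreducible_inter (X := D.obj k)
      (U.2.preimage (D.map (χ ≫ ψ)).continuous) (V.2.preimage (D.map (χ ≫ ψ)).continuous)
      ⟨c.π.app k a, (preimage_π_map (χ ≫ ψ) _).ge ha⟩
      ⟨c.π.app k b, (preimage_π_map (χ ≫ ψ) _).ge hb⟩
    have : z ∈ D.map χ ⁻¹' (D.map ψ ⁻¹' ((U : Set (D.obj i)) ∩ V)) := by
      rw [preimage_map_map]; exact hz
    exact Set.notMem_empty z ((Set.preimage_mono (f := D.map χ) hj.le) this)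
  · rw [not_nonempty_iff] at hne
    obtain ⟨j, φ, hj⟩ := QCImage.exists_preimage_eq_empty hc (E := (Set.univ : Set (D.obj i₀)))
      (qcImage_of_isOpen_isCompact isOpen_univ isCompact_univ) (Set.eq_empty_of_forall_notMem fun x _ ↦ IsEmpty.false (α := c.pt) x)
    rw [Set.preimage_univ, Set.univ_eq_empty_iff] at hj
    exact ⟨j, φ, fun k χ hk ↦ (Function.isEmpty (D.map χ)).elim hk.toNonempty.some⟩

end Groth.Agent.H7Lim
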