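import Groth.Agent.H7Lim.Sections
import Groth.Agent.H7Lim.Points

/-!
# Stalks and residue fields of cofiltered limits
-/

set_option autoImplicit false
set_option backward.isDefEq.respectTransparency false

universe u

open CategoryTheory Limits AlgebraicGeometry TopologicalSpace Topology

namespace Groth.Agent.H7Lim

variable {I : Type u} [Category.{u} I] [IsCofiltered I] {D : I ⥤ Scheme.{u}} {c : Cone D}
  [∀ (i j : I) (f : i ⟶ j), IsAffineHom (D.map f)] (hc : IsLimit c)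

include hc in
/-- Every germ of the limit comes from some stage over a given one. -/
lemma exists_stalkMap_eq (i : I) (s : c.pt) (a : c.pt.presheaf.stalk s) :
    ∃ (j : I) (_ : j ⟶ i) (b : (D.obj j).presheaf.stalk (c.π.app j s)),
      (c.π.app j).stalkMap s b = a := by
  obtain ⟨O, hO, r, rfl⟩ := c.pt.presheaf.exists_germ_eq a
  obtain ⟨_, ⟨j, V, hV, rfl⟩, hsV, hVO⟩ := Opens.isBasis_iff_nbhd.mp
    (isBasis_preimage_isAffineOpen D c hc) hO
  obtain ⟨k, f, g, -⟩ := IsCofilteredOrEmpty.cone_objs j i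
  have hVk : IsAffineOpen (D.map f ⁻¹ᵁ V) := hV.preimage _
  have hsub : c.π.app k ⁻¹ᵁ D.map f ⁻¹ᵁ V ≤ O := by
    rw [← Scheme.Hom.comp_preimage, c.w f]; exact hVO
  obtain ⟨l, ψ, t, ht⟩ := exists_secπ_eq hc hVk
    (c.pt.presheaf.map (homOfLE hsub).op r)
  have hs : c.π.app k s ∈ D.map f ⁻¹ᵁ V := by
    show D.map f (c.π.app k s) ∈ V
    rw [← Scheme.Hom.comp_apply, c.w f]; exact hsV
  have hs' : c.π.app l s ∈ D.map ψ ⁻¹ᵁ D.map f ⁻¹ᵁ V := by
    show D.map ψ (c.π.app l s) ∈ D.map f ⁻¹ᵁ V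
    rw [← Scheme.Hom.comp_apply, c.w ψ]; exact hs
  refine ⟨l, ψ ≫ g, (D.obj l).presheaf.germ _ _ hs' t, ?_⟩
  have := congrArg (c.pt.presheaf.germ (c.π.app k ⁻¹ᵁ D.map f ⁻¹ᵁ V) s hs) ht
  rw [Scheme.Hom.germ_stalkMap_apply]
  simp only [secπ, Scheme.Hom.appLE, CommRingCat.comp_apply, TopCat.Presheaf.germ_res_apply] at this
  erw [TopCat.Presheaf.germ_res_apply] at this
  exact this

section OpenImmersion

variable (hoi : ∀ (i j : I) (φ : i ⟶ j), IsOpenImmersion (D.map φ))

include hc hoi in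
lemma isEmbedding_π_app (i : I) : IsEmbedding (c.π.app i) := by
  have hind : IsInducing (c.π.app i) := by
    refine ⟨le_antisymm (c.π.app i).continuous.le_induced fun U hU ↦ ?_⟩
    refine isOpen_induced_iff.mpr ⟨⋃ (j : I) (V : (D.obj j).Opens) (k : I) (f : k ⟶ j) (g : k ⟶ i)
      (_ : c.π.app j ⁻¹' (V : Set (D.obj j)) ⊆ U), D.map g '' (D.map f ⁻¹' V), ?_, ?_⟩
    · refine isOpen_iUnion fun j ↦ isOpen_iUnion fun V ↦ isOpen_iUnion fun k ↦ isOpen_iUnion
        fun f ↦ isOpen_iUnion fun g ↦ isOpen_iUnion fun _ ↦ ?_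
      have := hoi k i g
      exact (D.map g).isOpenEmbedding.isOpenMap _ (V.2.preimage (D.map f).continuous)
    ext x
    simp only [Set.mem_preimage, Set.mem_iUnion, exists_prop]
    refine ⟨fun ⟨j, V, k, f, g, hVU, y, hy, e⟩ ↦ hVU ?_, fun hx ↦ ?_⟩
    · have := hoi k i g
      have : y = c.π.app k x := (D.map g).isOpenEmbedding.injective (by
        refine Eq.trans e ?_
        rw [← Scheme.Hom.comp_apply, c.w g]; rfl)
      subst this
      exact (preimage_π_map f (V : Set (D.obj j))).le hy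
    · obtain ⟨_, ⟨j, V, -, rfl⟩, hxV, hVU⟩ := Opens.isBasis_iff_nbhd.mp
        (isBasis_preimage_isAffineOpen D c hc) (U := ⟨U, hU⟩) hx
      obtain ⟨k, f, g, -⟩ := IsCofilteredOrEmpty.cone_objs j i
      exact ⟨j, V, k, f, g, hVU, c.π.app k x, (preimage_π_map f (V : Set (D.obj j))).ge hxV,
        by show D.map g (c.π.app k x) = _; rw [← Scheme.Hom.comp_apply, c.w g]; rfl⟩
  exact hind.isEmbedding

omit [IsCofiltered I] [∀ (i j : I) (f : i ⟶ j), IsAffineHom (D.map f)] in
lemma germ_eq_of_eq {X : Scheme.{u}} {U : X.Opens} {x y : X} (e : x = y) (hx : x ∈ U)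
    (t : Γ(X, U)) (h : X.presheaf.germ U x hx t = 0) :
    X.presheaf.germ U y (e ▸ hx) t = 0 := by
  subst e; exact h

include hc hoi in
lemma isIso_stalkMap_π_app (i : I) (s : c.pt) : IsIso ((c.π.app i).stalkMap s) := by
  rw [ConcreteCategory.isIso_iff_bijective]
  refine ⟨(injective_iff_map_eq_zero ((c.π.app i).stalkMap s).hom).mpr fun b hb ↦ ?_, fun a ↦ ?_⟩
  · obtain ⟨V, hV, t, rfl⟩ := (D.obj i).presheaf.exists_germ_eq b
    change (c.π.app i).stalkMap s _ = 0 at hb
    rw [Scheme.Hom.germ_stalkMap_apply, ← map_zero (c.pt.presheaf.germ (c.π.app i ⁻¹ᵁ V) s hV).hom]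
      at hb
    obtain ⟨W, hsW, i₁, i₂, hW⟩ := c.pt.presheaf.germ_eq s hV hV _ _ hb
    obtain ⟨O, hO, hOW⟩ := (isEmbedding_π_app hc hoi i).isInducing.isOpen_iff.mp W.2
    obtain ⟨_, ⟨V', hV', rfl⟩, hsV', hV'sub⟩ :=
      (D.obj i).isBasis_affineOpens.exists_subset_of_mem_open
        (show c.π.app i s ∈ (V : Set (D.obj i)) ∩ O from ⟨hV, hOW.ge hsW⟩) (V.2.inter hO)
    have hle : V' ≤ V := fun y hy ↦ (hV'sub hy).1
    have hle' : c.π.app i ⁻¹ᵁ V' ≤ W := fun y hy ↦ hOW.le (hV'sub hy).2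
    obtain ⟨j, φ, hj⟩ := exists_app_map_eq_zero_of_isLimit D c hc (U := V') hV'.isCompact
      ((D.obj i).presheaf.map (homOfLE hle).op t) (by
        have := congrArg (c.pt.presheaf.map (homOfLE hle').op) hW
        simp only [map_zero, ← CommRingCat.comp_apply, ← Functor.map_comp] at this
        rw [← CommRingCat.comp_apply, Scheme.Hom.naturality, CommRingCat.comp_apply]
        refine Eq.trans ?_ this; exact congrArg (fun g ↦ c.pt.presheaf.map g ((c.π.app i).app V t)) (Subsingleton.elim _ _))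
    have e : D.map φ (c.π.app j s) = c.π.app i s := by rw [← Scheme.Hom.comp_apply, c.w φ]; rfl
    have := hoi j i φ
    have h0 : (D.obj i).presheaf.germ V' (D.map φ (c.π.app j s)) (e ▸ hsV')
        ((D.obj i).presheaf.map (homOfLE hle).op t) = 0 := by
      apply ((ConcreteCategory.isIso_iff_bijective ((D.map φ).stalkMap (c.π.app j s))).mp
        inferInstance).injective
      rw [Scheme.Hom.germ_stalkMap_apply, hj, map_zero, map_zero]
    simpa using germ_eq_of_eq e _ _ h0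
  · obtain ⟨j, φ, b, rfl⟩ := exists_stalkMap_eq hc i s a
    have := hoi j i φ
    obtain ⟨b', rfl⟩ := ((ConcreteCategory.isIso_iff_bijective
      ((D.map φ).stalkMap (c.π.app j s))).mp inferInstance).surjective b
    refine ⟨((D.obj i).presheaf.stalkCongr (.of_eq (by rw [← Scheme.Hom.comp_apply, c.w φ]; rfl))).hom b',
      ?_⟩
    rw [← CommRingCat.comp_apply, ← CommRingCat.comp_apply]
    congr 2
    rw [← Scheme.Hom.stalkMap_comp]
    exact (Scheme.Hom.stalkMap_congr_hom _ _ (c.w φ) s).symm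

end OpenImmersion

end Groth.Agent.H7Lim
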