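import Groth.Agent.H7Lim.MaximalPoints
import Groth.Agent.H7Lim.Connected
import Groth.Agent.H7Lim.Stalks
import Mathlib.Topology.NoetherianSpace

/-!
# Irreducible and connected components in cofiltered limits
-/

set_option autoImplicit false
set_option backward.isDefEq.respectTransparency false

universe u

open CategoryTheory Limits AlgebraicGeometry TopologicalSpace Topology

namespace Groth.Agent.H7Lim

section Topology

variable {X Y : Type*} [TopologicalSpace X] [TopologicalSpace Y] (f : X → Y)

/-- A criterion for `C ↦ closure (f '' C)` to be a bijection of irreducible components. -/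
lemma bijOn_irreducibleComponents (hf : Continuous f) (hfin : (irreducibleComponents X).Finite)
    (hd : DenseRange f)
    (hinj : ∀ A ∈ irreducibleComponents X, ∀ B ∈ irreducibleComponents X,
      closure (f '' A) ⊆ closure (f '' B) → A = B) :
    Set.BijOn (fun A : Set X ↦ closure (f '' A)) (irreducibleComponents X)
      (irreducibleComponents Y) := by
  have hirr {A : Set X} (hA : A ∈ irreducibleComponents X) : IsIrreducible (closure (f '' A)) :=
    (hA.1.image f hf.continuousOn).closure
  have hcover : (⋃ A ∈ irreducibleComponents X, closure (f '' A)) = Set.univ := by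
    refine (hfin.isClosed_biUnion fun _ _ ↦ isClosed_closure).closure_eq.symm.trans
      (Set.eq_univ_of_univ_subset ?_)
    rw [← hd.closure_range]
    refine closure_mono ?_
    rintro _ ⟨x, rfl⟩
    exact Set.mem_biUnion (irreducibleComponent_mem_irreducibleComponents x)
      (subset_closure ⟨x, mem_irreducibleComponent, rfl⟩)
  classical
  have key {T : Set Y} (hT : IsIrreducible T) :
      ∃ A ∈ irreducibleComponents X, T ⊆ closure (f '' A) := by
    obtain ⟨z, hz, hTz⟩ := isIrreducible_iff_sUnion_isClosed.mp hT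
      ((hfin.image fun A ↦ closure (f '' A)).toFinset) (by simp) (by simp [hcover])
    simp only [Set.Finite.mem_toFinset, Set.mem_image] at hz
    obtain ⟨A, hA, rfl⟩ := hz
    exact ⟨A, hA, hTz⟩
  have hmaps : Set.MapsTo (fun A : Set X ↦ closure (f '' A)) (irreducibleComponents X)
      (irreducibleComponents Y) := fun A hA ↦ by
    refine ⟨hirr hA, fun T hT hAT ↦ ?_⟩
    obtain ⟨B, hB, hTB⟩ := key hT
    obtain rfl := hinj A hA B hB (hAT.trans hTB)
    exact hTB
  refine ⟨hmaps, fun A hA B hB e ↦ hinj A hA B hB e.le, fun T hT ↦ ?_⟩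
  obtain ⟨A, hA, hTA⟩ := key hT.1
  exact ⟨A, hA, le_antisymm (hT.2 (hirr hA) hTA) hTA⟩

/-- A criterion for `C ↦ closure (f '' C)` to be a bijection of connected components. -/
lemma bijOn_connectedComponents (hf : Continuous f)
    (hfin : (Set.range (connectedComponent : X → Set X)).Finite) (hd : DenseRange f)
    (hdisj : ∀ x y, connectedComponent x ≠ connectedComponent y →
      Disjoint (closure (f '' connectedComponent x)) (closure (f '' connectedComponent y))) :
    Set.BijOn (fun A : Set X ↦ closure (f '' A)) (Set.range (connectedComponent : X → Set X))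
      (Set.range (connectedComponent : Y → Set Y)) := by
  let F (x : X) := closure (f '' connectedComponent x)
  have hpre (x : X) : IsPreconnected (F x) :=
    (isPreconnected_connectedComponent.image f hf.continuousOn).closure
  have hmem (x : X) : f x ∈ F x := subset_closure ⟨x, mem_connectedComponent, rfl⟩
  have hcover (y : Y) : ∃ x, y ∈ F x := by
    have : IsClosed (⋃ A ∈ Set.range (connectedComponent : X → Set X), closure (f '' A)) :=
      hfin.isClosed_biUnion fun _ _ ↦ isClosed_closure
    have h := closure_minimal (s := Set.range f) (by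
      rintro _ ⟨x, rfl⟩
      exact Set.mem_biUnion ⟨x, rfl⟩ (hmem x)) this
    rw [hd.closure_range] at h
    obtain ⟨_, ⟨x, rfl⟩, hx⟩ := Set.mem_iUnion₂.mp (h (Set.mem_univ y))
    exact ⟨x, hx⟩
  have key {x : X} {y : Y} (hy : y ∈ F x) : connectedComponent y = F x := by
    refine Set.Subset.antisymm ?_ ((hpre x).subset_connectedComponent hy)
    have hclopen : IsClopen (F x) := by
      refine ⟨isClosed_closure, isClosed_compl_iff.mp ?_⟩
      have : (F x)ᶜ = ⋃ A ∈ Set.range (connectedComponent : X → Set X) \ {connectedComponent x},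
          closure (f '' A) := by
        ext z
        simp only [Set.mem_compl_iff, Set.mem_iUnion, exists_prop]
        refine ⟨fun hz ↦ ?_, ?_⟩
        · obtain ⟨w, hw⟩ := hcover z
          exact ⟨connectedComponent w, ⟨⟨w, rfl⟩, fun e ↦ hz (by
            show z ∈ closure (f '' connectedComponent x)
            rw [← (e : connectedComponent w = connectedComponent x)]; exact hw)⟩, hw⟩
        · rintro ⟨_, ⟨⟨w, rfl⟩, hne⟩, hw⟩ hz
          exact (hdisj w x hne).notMem_of_mem_left hw hz
      rw [this]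
      exact hfin.sdiff.isClosed_biUnion fun _ _ ↦ isClosed_closure
    exact hclopen.connectedComponent_subset hy
  refine ⟨?_, ?_, ?_⟩
  · rintro _ ⟨x, rfl⟩
    exact ⟨f x, key (hmem x)⟩
  · rintro _ ⟨x, rfl⟩ _ ⟨y, rfl⟩ (e : F x = F y)
    by_contra hne
    exact (hdisj x y hne).notMem_of_mem_left (hmem x) (e.le (hmem x))
  · rintro _ ⟨y, rfl⟩
    obtain ⟨x, hx⟩ := hcover y
    exact ⟨_, ⟨x, rfl⟩, (key hx).symm⟩

/-- In a Noetherian space connected components are open and finitely many. -/
lemma finite_connectedComponents [NoetherianSpace X] :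
    (Set.range (connectedComponent : X → Set X)).Finite ∧
      ∀ x : X, IsClopen (connectedComponent x) := by
  classical
  have hfin := NoetherianSpace.finite_irreducibleComponents (α := X)
  have : Finite (irreducibleComponents X) := hfin
  have hfr : (Set.range (connectedComponent : X → Set X)).Finite := by
    refine (Set.finite_range fun A : irreducibleComponents X ↦
      connectedComponent A.2.1.1.choose).subset ?_
    rintro _ ⟨x, rfl⟩
    refine ⟨⟨_, irreducibleComponent_mem_irreducibleComponents x⟩, connectedComponent_eq ?_⟩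
    exact connectedComponent_eq_iff_mem.mp <|
      (connectedComponent_eq (irreducibleComponent_subset_connectedComponent
        (irreducibleComponent_mem_irreducibleComponents x).1.1.choose_spec))
  refine ⟨hfr, fun x ↦ ⟨isClosed_connectedComponent, isClosed_compl_iff.mp ?_⟩⟩
  have : (connectedComponent x)ᶜ =
      ⋃ A ∈ Set.range (connectedComponent : X → Set X) \ {connectedComponent x}, A := by
    ext z
    simp only [Set.mem_compl_iff, Set.mem_iUnion, exists_prop]
    refine ⟨fun hz ↦ ⟨connectedComponent z, ⟨⟨z, rfl⟩, fun e ↦ hz (by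
      simpa [← show connectedComponent z = connectedComponent x from e] using
        mem_connectedComponent (x := z))⟩, mem_connectedComponent⟩, ?_⟩
    rintro ⟨_, ⟨⟨w, rfl⟩, hne⟩, hw⟩ hz
    exact hne ((connectedComponent_eq hw).trans (connectedComponent_eq hz).symm)
  rw [this]
  exact hfr.sdiff.isClosed_biUnion fun A hA ↦ by
    obtain ⟨w, rfl⟩ := hA.1
    exact isClosed_connectedComponent

end Topology

variable {I : Type u} [Category.{u} I] [IsCofiltered I] {D : I ⥤ Scheme.{u}} {c : Cone D}
  [∀ (i j : I) (f : i ⟶ j), IsAffineHom (D.map f)] (hc : IsLimit c)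

omit [IsCofiltered I] [∀ (i j : I) (f : i ⟶ j), IsAffineHom (D.map f)] in
lemma image_π_map {i j : I} (φ : j ⟶ i) (A : Set c.pt) :
    D.map φ '' (c.π.app j '' A) = c.π.app i '' A := by
  rw [← Set.image_comp, ← TopCat.coe_comp, ← Scheme.Hom.comp_base, c.w φ]
  rfl

omit [IsCofiltered I] [∀ (i j : I) (f : i ⟶ j), IsAffineHom (D.map f)] in
lemma closure_image_mapsTo {i j : I} (φ : j ⟶ i) (A : Set c.pt) :
    Set.MapsTo (D.map φ) (closure (c.π.app j '' A)) (closure (c.π.app i '' A)) :=
  fun _ hx ↦ by
    have := image_closure_subset_closure_image (D.map φ).continuous ⟨_, hx, rfl⟩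
    rwa [image_π_map] at this

omit [∀ (i j : I) (f : i ⟶ j), IsAffineHom (D.map f)] in
/-- Choose a common stage for a property stable under going up. -/
lemma exists_forall_stage {κ : Type*} [Finite κ] (i₀ : I) (P : κ → ∀ j : I, (j ⟶ i₀) → Prop)
    (hP : ∀ k, ∃ (j : I) (φ : j ⟶ i₀), P k j φ)
    (hup : ∀ k {j j' : I} (φ : j ⟶ i₀) (ψ : j' ⟶ j), P k j φ → P k j' (ψ ≫ φ)) :
    ∃ (j : I) (φ : j ⟶ i₀), ∀ k, P k j φ := by
  choose j φ h using hP
  obtain ⟨n, ⟨e⟩⟩ := Finite.exists_equiv_fin κ
  obtain ⟨j', φ', ψ, hψ⟩ := IsCofiltered.wideCospan fun a ↦ φ (e.symm a)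
  refine ⟨j', φ', fun k ↦ ?_⟩
  obtain ⟨a, rfl⟩ := e.symm.surjective k
  rw [← hψ a]
  exact hup _ _ _ (h _)

include hc in
lemma eventually_bijOn_irreducibleComponents_of_isDominant (i₀ : I) [NoetherianSpace c.pt]
    (hd : ∀ (i j : I) (φ : i ⟶ j), IsDominant (D.map φ)) :
    ∃ (i : I) (_ : i ⟶ i₀), ∀ (j : I) (_ : j ⟶ i),
      Set.BijOn (fun Y : Set c.pt => closure (c.π.app j '' Y))
        (irreducibleComponents c.pt) (irreducibleComponents (D.obj j)) := by
  have hfin := NoetherianSpace.finite_irreducibleComponents (α := c.pt)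
  have : Finite (irreducibleComponents c.pt) := hfin
  obtain ⟨i, φ, hi⟩ := exists_forall_stage i₀
    (fun (p : irreducibleComponents c.pt × irreducibleComponents c.pt) (j : I) _ ↦
      closure (c.π.app j '' p.1.1) ⊆ closure (c.π.app j '' p.2.1) → p.1 = p.2)
    (fun ⟨A, B⟩ ↦ by
      by_cases e : A = B
      · exact ⟨i₀, 𝟙 _, fun _ ↦ e⟩
      by_contra! H
      refine e (Subtype.ext ?_)
      obtain ⟨a, ha⟩ := quasiSober_iff _ |>.mp inferInstance A.2.1
        (isClosed_of_mem_irreducibleComponents _ A.2)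
      have hgB := B.2.1.isGenericPoint_genericPoint (isClosed_of_mem_irreducibleComponents _ B.2)
      have : B.2.1.genericPoint ⤳ a := specializes_of_π hc i₀ fun j φ ↦ by
        rw [specializes_iff_mem_closure]
        have h := (H j φ).1 (subset_closure ⟨a, ha.mem, rfl⟩)
        rw [← hgB.def, closure_image_closure (c.π.app j).continuous, Set.image_singleton] at h
        exact h
      have hAB : A.1 ⊆ B.1 := by
        rw [← ha.def]
        exact closure_minimal (Set.singleton_subset_iff.mpr ((hgB.specializes_iff_mem).mp this))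
          (isClosed_of_mem_irreducibleComponents _ B.2)
      exact le_antisymm hAB (A.2.2 B.2.1 hAB))
    (fun ⟨A, B⟩ j j' φ ψ h h' ↦ h (closure_minimal (by
      rw [← image_π_map ψ]
      exact Set.image_subset_iff.mpr fun x hx ↦ closure_image_mapsTo ψ B.1 (h' (subset_closure hx)))
      isClosed_closure))
  refine ⟨i, φ, fun j ψ ↦ ?_⟩
  have := isDominant_π_app hc j fun k χ ↦ hd k j χ
  refine bijOn_irreducibleComponents _ (c.π.app j).continuous hfin
    (denseRange_of_isDominant (c.π.app j)) fun A hA B hB h ↦ congrArg Subtype.val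
      (hi (⟨A, hA⟩, ⟨B, hB⟩) ?_)
  refine closure_minimal ?_ isClosed_closure
  rw [← image_π_map ψ]
  exact Set.image_subset_iff.mpr fun x hx ↦ closure_image_mapsTo ψ B (h (subset_closure hx))

include hc in
lemma eventually_bijOn_connectedComponents_of_isDominant (i₀ : I) [CompactSpace (D.obj i₀)]
    [NoetherianSpace c.pt] (hd : ∀ (i j : I) (φ : i ⟶ j), IsDominant (D.map φ)) :
    ∃ (i : I) (_ : i ⟶ i₀), ∀ (j : I) (_ : j ⟶ i),
      Set.BijOn (fun C : Set c.pt => closure (c.π.app j '' C))
        (Set.range (connectedComponent : c.pt → Set c.pt))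
        (Set.range (connectedComponent : D.obj j → Set (D.obj j))) := by
  obtain ⟨hfin, hclopen⟩ := finite_connectedComponents (X := c.pt)
  have : Finite (Set.range (connectedComponent : c.pt → Set c.pt)) := hfin
  choose x hx using fun C : Set.range (connectedComponent : c.pt → Set c.pt) ↦ C.2
  choose l φl A hAo hAc hA using fun C : Set.range (connectedComponent : c.pt → Set c.pt) ↦
    exists_isCompact_isOpen_preimage_eq hc i₀ (hx C ▸ hclopen (x C)).2
      (hx C ▸ hclopen (x C)).1.isCompact
  obtain ⟨n, ⟨e⟩⟩ := Finite.exists_equiv_fin (Set.range (connectedComponent : c.pt → Set c.pt))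
  obtain ⟨m, φm, p, hp⟩ := IsCofiltered.wideCospan fun a ↦ φl (e.symm a)
  let U (a : Fin n) : Set (D.obj m) := D.map (p a) ⁻¹' A (e.symm a)
  have hUo (a : Fin n) : IsOpen (U a) := (hAo _).preimage (D.map (p a)).continuous
  have hU (a : Fin n) : c.π.app m ⁻¹' U a = (e.symm a : Set c.pt) := by
    rw [preimage_π_map, hA]
  have := compactSpace_of_hom D φm
  obtain ⟨i, χ, hχ⟩ := QCImage.exists_preimage_eq_empty hc
    (E := (⋃ a, U a)ᶜ)
    (by simpa using (qcImage_of_isOpen_isCompact (X := D.obj m) isOpen_univ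
      isCompact_univ).inter_isClosed (isOpen_iUnion hUo).isClosed_compl)
    (by
      refine Set.eq_empty_of_forall_notMem fun z hz ↦ hz ?_
      obtain ⟨a, ha⟩ := e.symm.surjective ⟨connectedComponent z, z, rfl⟩
      refine Set.mem_iUnion.mpr ⟨a, (hU a).ge ?_⟩
      rw [ha]
      exact mem_connectedComponent)
  refine ⟨i, χ ≫ φm, fun j ψ ↦ ?_⟩
  have := isDominant_π_app hc j fun k χ ↦ hd k j χ
  refine bijOn_connectedComponents _ (c.π.app j).continuous hfin
    (denseRange_of_isDominant (c.π.app j)) fun y z hne ↦ ?_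
  let V (a : Fin n) : Set (D.obj j) := D.map (ψ ≫ χ) ⁻¹' U a
  have hVo (a : Fin n) : IsOpen (V a) := (hUo a).preimage (D.map _).continuous
  have hV (a : Fin n) : c.π.app j ⁻¹' V a = (e.symm a : Set c.pt) := by
    rw [preimage_π_map, hU]
  have hcov : ∀ w, ∃ a, w ∈ V a := fun w ↦ by
    by_contra! h
    exact Set.notMem_empty (D.map ψ w) (hχ.le (by
      simp only [Set.mem_preimage, Set.mem_compl_iff, Set.mem_iUnion, not_exists]
      intro a ha
      exact h a (by rw [show V a = D.map ψ ⁻¹' (D.map χ ⁻¹' U a) from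
        (preimage_map_map χ ψ _).symm]; exact ha)))
  have hVd {a b : Fin n} (hab : a ≠ b) : V a ∩ V b = ∅ := by
    by_contra hne'
    obtain ⟨_, hw, w, rfl⟩ := (denseRange_of_isDominant (c.π.app j)).inter_open_nonempty _
      ((hVo a).inter (hVo b)) (Set.nonempty_iff_ne_empty.mpr hne')
    obtain ⟨u, hu⟩ := (e.symm a).2
    obtain ⟨v, hv⟩ := (e.symm b).2
    refine hab (e.symm.injective (Subtype.ext ?_))
    have h₁ := (hV a).le hw.1
    have h₂ := (hV b).le hw.2
    rw [← hu] at h₁ ⊢
    rw [← hv] at h₂ ⊢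
    exact (connectedComponent_eq h₁).trans (connectedComponent_eq h₂).symm
  have hclosed (a : Fin n) : IsClosed (V a) := by
    have : V a = (⋃ b ∈ {b | b ≠ a}, V b)ᶜ := by
      ext w
      simp only [Set.mem_compl_iff, Set.mem_iUnion, exists_prop, not_exists, not_and]
      refine ⟨fun h b hb hb' ↦ (hVd hb).le ⟨hb', h⟩, fun h ↦ ?_⟩
      obtain ⟨b, hb⟩ := hcov w
      rcases eq_or_ne b a with rfl | hne'
      · exact hb
      · exact absurd hb (h b hne')
    rw [this]
    exact (isOpen_biUnion fun b _ ↦ hVo b).isClosed_compl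
  obtain ⟨a, ha⟩ := e.symm.surjective ⟨connectedComponent y, y, rfl⟩
  obtain ⟨b, hb⟩ := e.symm.surjective ⟨connectedComponent z, z, rfl⟩
  have hab : a ≠ b := fun h ↦ hne (congrArg Subtype.val (ha.symm.trans ((congrArg e.symm h).trans hb)))
  refine Set.disjoint_of_subset (closure_minimal ?_ (hclosed a)) (closure_minimal ?_ (hclosed b))
    (Set.disjoint_iff_inter_eq_empty.mpr (hVd hab))
  · rw [Set.image_subset_iff, hV, ha]
  · rw [Set.image_subset_iff, hV, hb]

section Embedding

variable (he : ∀ (i j : I) (φ : i ⟶ j), IsEmbedding (D.map φ))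

include hc he in
lemma isInducing_π_app (i : I) : IsInducing (c.π.app i) := by
  refine ⟨le_antisymm (c.π.app i).continuous.le_induced fun U hU ↦ ?_⟩
  have : ∀ x ∈ U, ∃ O : Set (D.obj i), IsOpen O ∧ c.π.app i x ∈ O ∧ c.π.app i ⁻¹' O ⊆ U := by
    intro x hx
    obtain ⟨_, ⟨j, V, -, rfl⟩, hxV, hVU⟩ := Opens.isBasis_iff_nbhd.mp
      (isBasis_preimage_isAffineOpen D c hc) (U := ⟨U, hU⟩) hx
    obtain ⟨k, f, g, -⟩ := IsCofilteredOrEmpty.cone_objs j i
    obtain ⟨O, hO, hOV⟩ := (he k i g).isInducing.isOpen_iff.mp (V.2.preimage (D.map f).continuous)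
    have : c.π.app i ⁻¹' O = c.π.app j ⁻¹' (V : Set (D.obj j)) := by
      rw [← preimage_π_map g, hOV]
      exact preimage_π_map f _
    exact ⟨O, hO, this.ge hxV, this.le.trans hVU⟩
  choose O hO hxO hOU using this
  refine isOpen_induced_iff.mpr ⟨⋃ (x) (hx : x ∈ U), O x hx,
    isOpen_iUnion fun x ↦ isOpen_iUnion fun hx ↦ hO x hx, ?_⟩
  ext y
  simp only [Set.mem_preimage, Set.mem_iUnion]
  exact ⟨fun ⟨x, hx, h⟩ ↦ hOU x hx h, fun hy ↦ ⟨y, hy, hxO y hy⟩⟩

include hc he in
/-- Embedded into a stage, a closed set of the limit is the trace of its closure. -/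
lemma preimage_closure_image (i : I) {A : Set c.pt} (hA : IsClosed A) :
    c.π.app i ⁻¹' closure (c.π.app i '' A) = A := by
  rw [← (isInducing_π_app hc he i).closure_eq_preimage_closure_image, hA.closure_eq]

include hc in
lemma exists_subset_iUnion_closure (i₀ : I) [NoetherianSpace (D.obj i₀)] {S : Set (Set c.pt)}
    (hS : S.Finite) (hcov : ∀ x : c.pt, ∃ A ∈ S, x ∈ A) :
    ∃ (i : I) (φ : i ⟶ i₀), ∀ y : D.obj i, ∃ A ∈ S, D.map φ y ∈ closure (c.π.app i₀ '' A) := by
  have hcl : IsClosed (⋃ A ∈ S, closure (c.π.app i₀ '' A)) :=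
    hS.isClosed_biUnion fun _ _ ↦ isClosed_closure
  obtain ⟨i, φ, hi⟩ := QCImage.exists_preimage_eq_empty hc
    (E := (⋃ A ∈ S, closure (c.π.app i₀ '' A))ᶜ)
    (qcImage_of_isOpen_isCompact hcl.isOpen_compl (NoetherianSpace.isCompact _))
    (Set.eq_empty_of_forall_notMem fun x hx ↦ hx (by
      obtain ⟨A, hA, hxA⟩ := hcov x
      exact Set.mem_biUnion hA (subset_closure ⟨x, hxA, rfl⟩)))
  refine ⟨i, φ, fun y ↦ ?_⟩
  by_contra! h
  exact hi.le (show y ∈ D.map φ ⁻¹' (⋃ A ∈ S, closure (c.π.app i₀ '' A))ᶜ by simpa using h)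

omit [IsCofiltered I] [∀ (i j : I) (f : i ⟶ j), IsAffineHom (D.map f)] in
include he in
lemma preimage_closure_image_map {i j : I} (φ : j ⟶ i) (A : Set c.pt) :
    D.map φ ⁻¹' closure (c.π.app i '' A) = closure (c.π.app j '' A) := by
  rw [← image_π_map φ, (he j i φ).isInducing.closure_eq_preimage_closure_image]

include hc he in
lemma eventually_bijOn_irreducibleComponents_of_isEmbedding (i₀ : I)
    [NoetherianSpace (D.obj i₀)] [NoetherianSpace c.pt] :
    ∃ (i : I) (_ : i ⟶ i₀), ∀ (j : I) (_ : j ⟶ i),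
      Set.BijOn (fun Y : Set c.pt => closure (c.π.app j '' Y))
        (irreducibleComponents c.pt) (irreducibleComponents (D.obj j)) := by
  have hfin := NoetherianSpace.finite_irreducibleComponents (α := c.pt)
  obtain ⟨i, φ, hi⟩ := exists_subset_iUnion_closure hc i₀ hfin
    fun x ↦ ⟨_, irreducibleComponent_mem_irreducibleComponents x, mem_irreducibleComponent⟩
  refine ⟨i, φ, fun j ψ ↦ bijOn_irreducibleComponents _ (c.π.app j).continuous hfin ?_
    fun A hA B hB h ↦ ?_⟩
  · intro y
    obtain ⟨A, -, hy⟩ := hi (D.map ψ y)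
    rw [← Scheme.Hom.comp_apply, ← D.map_comp] at hy
    exact closure_mono (Set.image_subset_range _ _)
      ((preimage_closure_image_map he (ψ ≫ φ) A).le hy)
  · have : A ⊆ B := by
      rw [← preimage_closure_image hc he j (isClosed_of_mem_irreducibleComponents _ hA),
        ← preimage_closure_image hc he j (isClosed_of_mem_irreducibleComponents _ hB)]
      exact Set.preimage_mono h
    exact le_antisymm this (hA.2 hB.1 this)

include hc he in
lemma eventually_bijOn_connectedComponents_of_isEmbedding (i₀ : I)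
    [NoetherianSpace (D.obj i₀)] [NoetherianSpace c.pt] :
    ∃ (i : I) (_ : i ⟶ i₀), ∀ (j : I) (_ : j ⟶ i),
      Set.BijOn (fun C : Set c.pt => closure (c.π.app j '' C))
        (Set.range (connectedComponent : c.pt → Set c.pt))
        (Set.range (connectedComponent : D.obj j → Set (D.obj j))) := by
  obtain ⟨hfin, -⟩ := finite_connectedComponents (X := c.pt)
  have : Finite (Set.range (connectedComponent : c.pt → Set c.pt)) := hfin
  let K := Set.range (connectedComponent : c.pt → Set c.pt)
  let E := fun p : K × K ↦ closure (c.π.app i₀ '' p.1.1) ∩ closure (c.π.app i₀ '' p.2.1)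
  obtain ⟨m, φm, hm⟩ := exists_forall_stage i₀
    (fun (p : K × K) (j : I) (φ : j ⟶ i₀) ↦ p.1 ≠ p.2 → D.map φ ⁻¹' E p = ∅)
    (fun p ↦ by
      by_cases hp : p.1 = p.2
      · exact ⟨i₀, 𝟙 _, fun h ↦ absurd hp h⟩
      obtain ⟨j, φ, hj⟩ := QCImage.exists_preimage_eq_empty hc
        (E := (Set.univ : Set (D.obj i₀)) ∩ E p)
        ((qcImage_of_isOpen_isCompact isOpen_univ isCompact_univ).inter_isClosed
          (isClosed_closure.inter isClosed_closure))
        (by
          obtain ⟨⟨_, x, rfl⟩, ⟨_, y, rfl⟩⟩ := p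
          rw [Set.univ_inter, Set.preimage_inter,
            preimage_closure_image hc he i₀ isClosed_connectedComponent,
            preimage_closure_image hc he i₀ isClosed_connectedComponent]
          exact Set.disjoint_iff_inter_eq_empty.mp (connectedComponent_disjoint
            fun e ↦ hp (Subtype.ext e)))
      exact ⟨j, φ, fun _ ↦ by simpa using hj⟩)
    (fun p j j' φ ψ h hp ↦ by rw [← preimage_map_map, h hp, Set.preimage_empty])
  obtain ⟨i, φ, hi⟩ := exists_subset_iUnion_closure hc i₀ hfin
    fun x ↦ ⟨_, ⟨x, rfl⟩, mem_connectedComponent⟩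
  obtain ⟨k, f, g, hfg⟩ := IsCofiltered.cospan φm φ
  refine ⟨k, f ≫ φm, fun j ψ ↦ bijOn_connectedComponents _ (c.π.app j).continuous hfin ?_
    fun x y hne ↦ ?_⟩
  · intro w
    obtain ⟨A, -, hw⟩ := hi (D.map (ψ ≫ g) w)
    rw [← Scheme.Hom.comp_apply, ← D.map_comp] at hw
    exact closure_mono (Set.image_subset_range _ _)
      ((preimage_closure_image_map he _ A).le hw)
  · rw [Set.disjoint_iff_inter_eq_empty, ← preimage_closure_image_map he (ψ ≫ f ≫ φm),
      ← preimage_closure_image_map he (ψ ≫ f ≫ φm), ← Set.preimage_inter, ← Category.assoc,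
      ← preimage_map_map φm]
    rw [hm (⟨_, x, rfl⟩, ⟨_, y, rfl⟩) fun e ↦ hne (congrArg Subtype.val e), Set.preimage_empty]

end Embedding

end Groth.Agent.H7Lim
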