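import Groth.Agent.H25Gor.BaseChange
import Groth.Agent.H25Gor.Scheme
import Groth.Agent.H02CA.GorFlat
import Groth.Agent.H11Val.Point
import Groth.Agent.H4DR.Dualizing.GorensteinLocus
import Groth.Agent.H8Props.FlatApproxAffine
import Groth.Agent.H06Curve130.Core
import Groth.Agent.S0377
import Groth.Agent.S0342
import Groth.Agent.H22Alg.RedIntegral
import Mathlib.AlgebraicGeometry.Morphisms.Proper

/-!
# The Gorenstein locus of a flat morphism locally of finite presentation is open
-/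

set_option autoImplicit false
set_option linter.style.haveILetI false
set_option backward.isDefEq.respectTransparency false

universe u

open CategoryTheory Limits AlgebraicGeometry TopologicalSpace Topology IsLocalRing LocCoh

attribute [local instance] HasDerivedCategory.standard

namespace Groth.Agent.H7Lim.GorOpen

/-- In a Noetherian sober space a generalization stable set is open as soon as it contains a neighbourhood
of each of its points in the closure of that point. -/
theorem isOpen_of_genOpen {X : Type*} [TopologicalSpace X] [QuasiSober X] [NoetherianSpace X] {E : Set X}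
    (hs : StableUnderGeneralization E)
    (h : ∀ x ∈ E, ∃ U : Set X, IsOpen U ∧ x ∈ U ∧ ∀ z ∈ U, x ⤳ z → z ∈ E) : IsOpen E := by
  rw [← isClosed_compl_iff]
  refine isClosed_of_closure_subset fun w hw hwE => ?_
  obtain ⟨S, hSf, hSc, hSi, hS⟩ :=
    NoetherianSpace.exists_finite_set_isClosed_irreducible (isClosed_closure (s := Eᶜ))
  rw [hS] at hw
  obtain ⟨Z₀, hZ₀, hwZ₀⟩ := hw
  obtain ⟨Z, ⟨hZ, hle⟩, hmax⟩ := (hSf.subset (fun T (hT : T ∈ {T ∈ S | Z₀ ⊆ T}) => hT.1)).exists_maximal
    ⟨Z₀, hZ₀, subset_rfl⟩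
  have hg := (hSi Z hZ).isGenericPoint_genericPoint (hSc Z hZ)
  set η := (hSi Z hZ).genericPoint
  obtain ⟨U, hU, hηU, hUE⟩ := h η (hs (hg.specializes (hle hwZ₀)) hwE)
  have hopen : IsOpen (U \ ⋃₀ {T ∈ S | η ∉ T}) :=
    hU.sdiff (Set.sUnion_eq_biUnion ▸
      (hSf.subset fun T (hT : T ∈ {T ∈ S | η ∉ T}) => hT.1).isClosed_biUnion fun T hT => hSc T hT.1)
  have hη : η ∈ closure Eᶜ := by
    rw [hS]
    exact ⟨Z, hZ, hg.mem⟩
  obtain ⟨c, ⟨hcU, hcT⟩, hc⟩ := mem_closure_iff.1 hη _ hopen ⟨hηU, fun ⟨T, hT, hηT⟩ => hT.2 hηT⟩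
  obtain ⟨T, hT, hcT'⟩ : c ∈ ⋃₀ S := hS ▸ subset_closure hc
  have hηT : η ∈ T := by
    by_contra hn
    exact hcT ⟨T, ⟨hT, hn⟩, hcT'⟩
  have hZT : Z ⊆ T := hg.def.symm.le.trans ((hSc T hT).closure_subset_iff.2 (Set.singleton_subset_iff.2 hηT))
  exact hc (hUE c hcU (hg.specializes (hmax ⟨hT, hle.trans hZT⟩ hZT hcT')))

/-- Gorenstein local rings are stable under generalization. -/
theorem gor_stalk_of_specializes {X : Scheme.{u}} {x y : X} (hxy : x ⤳ y)
    (h : IsGorensteinLocalRing (X.presheaf.stalk y)) : IsGorensteinLocalRing (X.presheaf.stalk x) := by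
  obtain ⟨_, ⟨U, hU, rfl⟩, hyU, -⟩ :=
    X.isBasis_affineOpens.exists_subset_of_mem_open (Set.mem_univ y) isOpen_univ
  have hxU : x ∈ U := hxy.mem_open U.2 hyU
  rw [H25Gor.gor_stalk_iff hU y hyU] at h
  rw [H25Gor.gor_stalk_iff hU x hxU]
  set p := (hU.primeIdealOf ⟨x, hxU⟩)
  set q := (hU.primeIdealOf ⟨y, hyU⟩)
  have hle : p.asIdeal ≤ q.asIdeal := by
    refine (PrimeSpectrum.le_iff_specializes p q).2 (hU.fromSpec.isEmbedding.specializes_iff.1 ?_)
    rw [hU.fromSpec_primeIdealOf, hU.fromSpec_primeIdealOf]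
    exact hxy
  haveI := h
  have hd : Disjoint (q.asIdeal.primeCompl : Set Γ(X, U)) (p.asIdeal : Set Γ(X, U)) :=
    Set.disjoint_left.2 fun a ha hp => ha (hle hp)
  let P := p.asIdeal.map (algebraMap Γ(X, U) (Localization.AtPrime q.asIdeal))
  haveI : P.IsPrime := IsLocalization.isPrime_of_isPrime_disjoint q.asIdeal.primeCompl _ p.asIdeal p.2 hd
  have h1 := (H02CA.GorFlat.gor_localization_iff q.asIdeal.primeCompl (Localization.AtPrime q.asIdeal) P).1
    ((H02CA.GorFlat.isGorensteinRing_of_local (Localization.AtPrime q.asIdeal)).isGorensteinLocalRing_localization P)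
  exact (H02CA.GorFlat.gor_congr (IsLocalization.under_map_of_isPrime_disjoint q.asIdeal.primeCompl _ p.2 hd)).1 h1

theorem isDedekindDomain_ulift_int : IsDedekindDomain (ULift.{u} ℤ) :=
  haveI : IsDomain (ULift.{u} ℤ) := ULift.ringEquiv.injective.isDomain
  haveI : IsPrincipalIdealRing (ULift.{u} ℤ) :=
    IsPrincipalIdealRing.of_surjective (ULift.ringEquiv.symm : ℤ ≃+* ULift.{u} ℤ)
      (ULift.ringEquiv.symm : ℤ ≃+* ULift.{u} ℤ).surjective
  inferInstance

/-- Algebras of finite type over `ℤ` have dualizing complexes. -/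
theorem exists_dualizing (B : Type u) [CommRing B] [Algebra.FiniteType ℤ B] :
    ∃ ω : Dual.D B, Dual.IsDualizing B ω := by
  haveI := isDedekindDomain_ulift_int.{u}
  let φ : ULift.{u} ℤ →+* B := (algebraMap ℤ B).comp ULift.ringEquiv.toRingHom
  have hφ : φ.FiniteType := (RingHom.finiteType_algebraMap.2 ‹_›).comp
    (RingHom.FiniteType.of_surjective _ ULift.ringEquiv.surjective)
  letI : Algebra (ULift.{u} ℤ) B := φ.toAlgebra
  haveI : Algebra.FiniteType (ULift.{u} ℤ) B := hφ
  refine S0377.result (ULift.{u} ℤ) _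
    (H4DR.Dualizing.isDualizing_self_of_regular ?_
      fun p => H06Curve130.isRegularLocalRing_localization (ULift.{u} ℤ) p.asIdeal _) B
  refine lt_of_le_of_lt (Ring.krullDimLE_iff.1 (inferInstance : Ring.KrullDimLE 1 (ULift.{u} ℤ))) ?_
  exact WithBot.coe_lt_coe.2 (ENat.natCast_lt_top 1)

/-- The Gorenstein points of a scheme locally of finite type over `ℤ` form an open set. -/
theorem isOpen_gor_stalk {W : Scheme.{u}} (s : W ⟶ Spec (CommRingCat.of (ULift.{u} ℤ)))
    [LocallyOfFiniteType s] : IsOpen {w : W | IsGorensteinLocalRing (W.presheaf.stalk w)} := by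
  haveI := isDedekindDomain_ulift_int.{u}
  haveI : IsLocallyNoetherian W := LocallyOfFiniteType.isLocallyNoetherian s
  rw [isOpen_iff_forall_mem_open]
  intro w hw
  obtain ⟨_, ⟨U, hU, rfl⟩, hwU, -⟩ :=
    W.isBasis_affineOpens.exists_subset_of_mem_open (Set.mem_univ w) isOpen_univ
  haveI : IsNoetherianRing Γ(W, U) := IsLocallyNoetherian.component_noetherian ⟨U, hU⟩
  haveI : Algebra.FiniteType ℤ Γ(W, U) := by
    have h := (s.finiteType_appLE (U := ⊤) (V := U) (isAffineOpen_top _) hU le_top).comp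
      (RingHom.FiniteType.of_surjective
        ((Scheme.ΓSpecIso (CommRingCat.of (ULift.{u} ℤ))).inv.hom.comp (ULift.ringEquiv.symm : ℤ ≃+* ULift.{u} ℤ).toRingHom)
        ((ConcreteCategory.bijective_of_isIso (Scheme.ΓSpecIso (CommRingCat.of (ULift.{u} ℤ))).inv).2.comp
          (ULift.ringEquiv.symm : ℤ ≃+* ULift.{u} ℤ).surjective))
    exact RingHom.finiteType_algebraMap.1 (RingHom.ext_int _ (algebraMap ℤ Γ(W, U)) ▸ h)
  obtain ⟨ω, hω⟩ := exists_dualizing Γ(W, U)
  refine ⟨_, ?_, hU.fromSpec.isOpenEmbedding.isOpenMap _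
    (H4DR.Dualizing.isOpen_gorenstein_locus hω), ⟨hU.primeIdealOf ⟨w, hwU⟩,
      (H25Gor.gor_stalk_iff hU w hwU).1 hw, hU.fromSpec_primeIdealOf ⟨w, hwU⟩⟩⟩
  rintro _ ⟨p, hp, rfl⟩
  have hpU : hU.fromSpec p ∈ U := hU.range_fromSpec.subset ⟨p, rfl⟩
  refine (H25Gor.gor_stalk_iff hU _ hpU).2 ?_
  have hpe : hU.primeIdealOf ⟨hU.fromSpec p, hpU⟩ = p :=
    hU.fromSpec.isEmbedding.injective (hU.fromSpec_primeIdealOf _)
  exact (H02CA.GorFlat.gor_congr (congrArg PrimeSpectrum.asIdeal hpe)).2 hp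

/-- Being Gorenstein at a point, for a flat morphism to a point with Gorenstein local ring. -/
theorem isGorensteinAt_iff_stalk {X Y : Scheme.{u}} [IsLocallyNoetherian X] [IsLocallyNoetherian Y]
    (f : X ⟶ Y) [Flat f] (x : X) (hy : IsGorensteinLocalRing (Y.presheaf.stalk (f x))) :
    Dual3.IsGorensteinAt f x ↔ IsGorensteinLocalRing (X.presheaf.stalk x) := by
  have hfl : (f.stalkMap x).hom.Flat := Flat.stalkMap f x
  rw [H25Gor.isGorensteinAt_iff]
  letI := (f.stalkMap x).hom.toAlgebra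
  haveI : Module.Flat (Y.presheaf.stalk (f x)) (X.presheaf.stalk x) := hfl
  haveI : IsLocalHom (algebraMap (Y.presheaf.stalk (f x)) (X.presheaf.stalk x)) :=
    inferInstanceAs (IsLocalHom (f.stalkMap x).hom)
  have := H02CA.GorFlat.gor_iff_of_flat_local (Y.presheaf.stalk (f x)) (X.presheaf.stalk x)
  exact ⟨fun h => this.2 ⟨hy, h.2⟩, fun h => ⟨hfl, (this.1 h).2⟩⟩

theorem isGorensteinAt_baseChange_iff {X Y X' Y' : Scheme.{u}} {f : X ⟶ Y} [Flat f] [LocallyOfFiniteType f]
    {g : Y' ⟶ Y} {f' : X' ⟶ Y'} {g' : X' ⟶ X} (hsq : IsPullback g' f' f g) (x' : X') :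
    Dual3.IsGorensteinAt f' x' ↔ Dual3.IsGorensteinAt f (g' x') := by
  haveI : Flat f' := MorphismProperty.of_isPullback hsq inferInstance
  have hfib : ∀ y, IsLocallyNoetherian (f.fiber y) := fun y =>
    haveI := H8Props.FieldDim.locallyOfFiniteType_fiberToSpec f y
    LocallyOfFiniteType.isLocallyNoetherian (f.fiberToSpecResidueField y)
  have hb := H25Gor.fibre_gor_baseChange hsq x' hfib (Or.inl ‹_›)
  exact ⟨fun h => ⟨Flat.stalkMap f _, hb.mp h.2⟩, fun h => ⟨Flat.stalkMap f' _, hb.mpr h.2⟩⟩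

section Noetherian

variable {X Y : Scheme.{u}} (f : X ⟶ Y) [Flat f] [LocallyOfFiniteType f]

/-- The Gorenstein locus of a flat morphism is stable under generalization. -/
theorem isGorensteinAt_of_specializes [IsLocallyNoetherian Y] {x y : X} (hxy : x ⤳ y)
    (h : Dual3.IsGorensteinAt f y) : Dual3.IsGorensteinAt f x := by
  by_cases hne : y = x
  · exact hne ▸ h
  haveI : IsLocallyNoetherian X := LocallyOfFiniteType.isLocallyNoetherian f
  obtain ⟨A, g, hA, hgc, hgA⟩ := H11Val.exists_dvr_hom_through (𝟙 X) x y hxy hne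
  rw [Category.comp_id] at hgA
  let sA : Spec (CommRingCat.of A) ⟶ pullback f (g ≫ f) := pullback.lift g (𝟙 _) (by simp)
  let fA := pullback.snd f (g ≫ f)
  have hsq : IsPullback (pullback.fst f (g ≫ f)) fA f (g ≫ f) := IsPullback.of_hasPullback _ _
  haveI : IsNoetherianRing (CommRingCat.of A : Type u) := inferInstanceAs (IsNoetherianRing A)
  haveI : IsLocallyNoetherian (pullback f (g ≫ f)) := LocallyOfFiniteType.isLocallyNoetherian fA
  haveI : IsGorensteinRing (CommRingCat.of A : Type u) :=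
    haveI : IsGorensteinLocalRing A := S0342.result A
    H02CA.GorFlat.isGorensteinRing_of_local A
  have key : ∀ a : Spec (CommRingCat.of A),
      Dual3.IsGorensteinAt f (g a) ↔ IsGorensteinLocalRing ((pullback f (g ≫ f)).presheaf.stalk (sA a)) := by
    intro a
    rw [← isGorensteinAt_iff_stalk fA (sA a) (H25Gor.gor_spec _ _), isGorensteinAt_baseChange_iff hsq (sA a)]
    refine iff_of_eq (congrArg _ ?_)
    rw [← Scheme.Hom.comp_apply, pullback.lift_fst]
  let η : Spec (CommRingCat.of A) :=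
    Spec.map (CommRingCat.ofHom A.subtype) (closedPoint (X.residueField x))
  have hη : g η = x := by
    show g (Spec.map (CommRingCat.ofHom A.subtype) (closedPoint (X.residueField x))) = x
    rw [← Scheme.Hom.comp_apply, hgA]
    exact Scheme.fromSpecResidueField_apply _ _
  rw [← hη, key]
  refine gor_stalk_of_specializes ((specializes_closedPoint η).map sA.continuous) ?_
  rw [← key, hgc]
  exact h

/-- Over a base locally of finite type over `ℤ` the Gorenstein locus contains a neighbourhood of each of its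
points in the closure of that point. -/
theorem exists_nhd_in_closure (s : Y ⟶ Spec (CommRingCat.of (ULift.{u} ℤ))) [LocallyOfFiniteType s] {x : X}
    (h : Dual3.IsGorensteinAt f x) :
    ∃ U : Set X, IsOpen U ∧ x ∈ U ∧ ∀ z ∈ U, x ⤳ z → Dual3.IsGorensteinAt f z := by
  haveI := isDedekindDomain_ulift_int.{u}
  let I := Scheme.IdealSheafData.vanishingIdeal (⟨closure ({f x} : Set Y), isClosed_closure⟩ : Closeds Y)
  let ι := I.subschemeι
  have hrange : Set.range ι = closure ({f x} : Set Y) := H17.range_vanishingIdeal_subschemeι _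
  haveI : IsLocallyNoetherian Y := LocallyOfFiniteType.isLocallyNoetherian s
  haveI : IsIntegral I.subscheme := H22Alg.isIntegral_vanishingIdeal_closure (f x)
  haveI : LocallyOfFiniteType (ι ≫ s) := inferInstance
  haveI : IsLocallyNoetherian I.subscheme := LocallyOfFiniteType.isLocallyNoetherian (ι ≫ s)
  let f' := pullback.snd f ι
  let p := pullback.fst f ι
  have hsq : IsPullback p f' f ι := IsPullback.of_hasPullback _ _
  haveI : IsLocallyNoetherian (pullback f ι) := LocallyOfFiniteType.isLocallyNoetherian (f' ≫ ι ≫ s)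
  haveI : LocallyOfFiniteType (f' ≫ ι ≫ s) := inferInstance
  obtain ⟨z₀, hz₀⟩ : f x ∈ Set.range ι := hrange ▸ subset_closure rfl
  obtain ⟨x', hx', hx'z⟩ := Scheme.Pullback.exists_preimage_pullback (f := f) (g := ι) x z₀ hz₀.symm
  have hgen : z₀ = genericPoint I.subscheme := by
    refine ((genericPoint_spec I.subscheme).eq ?_).symm
    refine isGenericPoint_def.2 (Set.eq_univ_of_forall fun z => ?_)
    rw [← specializes_iff_mem_closure, ← ι.isEmbedding.specializes_iff, hz₀, specializes_iff_mem_closure]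
    exact hrange.le ⟨z, rfl⟩
  have hGZ : IsGorensteinLocalRing (I.subscheme.presheaf.stalk z₀) := by
    subst hgen
    exact S0342.result I.subscheme.functionField
  obtain ⟨O, hO, hOW⟩ := (p.isClosedEmbedding.isInducing.isOpen_iff).1
    ((isOpen_gor_stalk (f' ≫ ι ≫ s)).inter ((isOpen_gor_stalk (ι ≫ s)).preimage f'.continuous))
  refine ⟨O, hO, ?_, fun z hz hxz => ?_⟩
  · have h1 : x' ∈ p ⁻¹' O := by
      rw [hOW]
      have hf : IsGorensteinLocalRing (I.subscheme.presheaf.stalk (f' x')) := hx'z ▸ hGZ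
      exact ⟨(isGorensteinAt_iff_stalk f' x' hf).1 ((isGorensteinAt_baseChange_iff hsq x').2 (hx' ▸ h)), hf⟩
    exact hx' ▸ h1
  · obtain ⟨z₁, hz₁⟩ : f z ∈ Set.range ι := hrange ▸ specializes_iff_mem_closure.1 (hxz.map f.continuous)
    obtain ⟨w, hw, -⟩ := Scheme.Pullback.exists_preimage_pullback (f := f) (g := ι) z z₁ hz₁.symm
    have hwO : w ∈ p ⁻¹' O := by
      show p w ∈ O
      rwa [hw]
    rw [hOW] at hwO
    exact hw ▸ (isGorensteinAt_baseChange_iff hsq w).1 ((isGorensteinAt_iff_stalk f' w hwO.2).2 hwO.1)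

/-- The Gorenstein locus of a flat morphism over a base locally of finite type over `ℤ` is open. -/
theorem isOpen_gorensteinLocus_of_lft_int (s : Y ⟶ Spec (CommRingCat.of (ULift.{u} ℤ)))
    [LocallyOfFiniteType s] : IsOpen {x : X | Dual3.IsGorensteinAt f x} := by
  haveI := isDedekindDomain_ulift_int.{u}
  haveI : IsLocallyNoetherian Y := LocallyOfFiniteType.isLocallyNoetherian s
  haveI : IsLocallyNoetherian X := LocallyOfFiniteType.isLocallyNoetherian f
  rw [isOpen_iff_forall_mem_open]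
  intro x hx
  obtain ⟨_, ⟨W', hW', rfl⟩, hxW, -⟩ :=
    X.isBasis_affineOpens.exists_subset_of_mem_open (Set.mem_univ x) isOpen_univ
  let W : X.Opens := W'
  haveI : IsAffine W := hW'

  haveI : IsNoetherian W.toScheme :=
    haveI : IsLocallyNoetherian W.toScheme := isLocallyNoetherian_of_isOpenImmersion W.ι
    {}
  have hE : IsOpen {w : W.toScheme | Dual3.IsGorensteinAt f (W.ι w)} := by
    refine isOpen_of_genOpen (fun a b hba ha => isGorensteinAt_of_specializes f (hba.map W.ι.continuous) ha)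
      fun a ha => ?_
    obtain ⟨U, hU, haU, hUE⟩ := exists_nhd_in_closure f s ha
    exact ⟨W.ι ⁻¹' U, hU.preimage W.ι.continuous, haU, fun z hz haz => hUE _ hz (haz.map W.ι.continuous)⟩
  refine ⟨_, ?_, W.ι.isOpenEmbedding.isOpenMap _ hE, ⟨⟨x, hxW⟩, hx, rfl⟩⟩
  rintro _ ⟨w, hw, rfl⟩
  exact hw

end Noetherian

theorem isPullback_of_mono {U Y V : Scheme.{u}} {h : U ⟶ Y} {k : U ⟶ V} {i : V ⟶ Y} [Mono i]
    (w : 𝟙 U ≫ h = k ≫ i) : IsPullback (𝟙 U) k h i :=
  IsPullback.of_isLimit (PullbackCone.IsLimit.mk w (fun s => s.fst) (fun s => Category.comp_id _)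
    (fun s => by rw [← cancel_mono i, Category.assoc, ← w, Category.id_comp, s.condition])
    (fun s m h1 _ => by rw [← h1, Category.comp_id]))

theorem isGorensteinAt_openImmersion_comp {U X Y : Scheme.{u}} (j : U ⟶ X) [IsOpenImmersion j] (f : X ⟶ Y)
    [Flat f] (u : U) : Dual3.IsGorensteinAt (j ≫ f) u ↔ Dual3.IsGorensteinAt f (j u) := by
  rw [H25Gor.isGorensteinAt_iff, H25Gor.isGorensteinAt_iff]
  refine and_congr (iff_of_true (Flat.stalkMap (j ≫ f) u) (Flat.stalkMap f _)) ?_
  let e := (asIso (j.stalkMap u)).commRingCatIsoToRingEquiv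
  refine (H02CA.GorFlat.gor_iff_of_ringEquiv (Ideal.quotientEquiv _ _ e ?_)).symm
  rw [Scheme.Hom.stalkMap_comp, CommRingCat.hom_comp]
  exact (Ideal.map_map _ _).symm

/-- The Gorenstein locus of a flat morphism locally of finite presentation is open. -/
theorem isOpen_gorensteinLocus {X Y : Scheme.{u}} (f : X ⟶ Y) [Flat f] [LocallyOfFinitePresentation f] :
    IsOpen {x : X | Dual3.IsGorensteinAt f x} := by
  rw [isOpen_iff_forall_mem_open]
  intro x hx
  obtain ⟨_, ⟨V', hV, rfl⟩, hxV, -⟩ :=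
    Y.isBasis_affineOpens.exists_subset_of_mem_open (Set.mem_univ (f x)) isOpen_univ
  let V : Y.Opens := V'
  obtain ⟨_, ⟨U', hU, rfl⟩, hxU, hUV⟩ :=
    X.isBasis_affineOpens.exists_subset_of_mem_open (show x ∈ (f ⁻¹ᵁ V : Set X) from hxV) (f ⁻¹ᵁ V).2
  let U : X.Opens := U'
  haveI : IsAffine U := hU
  haveI : IsAffine V := hV
  let fU : U.toScheme ⟶ V.toScheme := f.resLE V U hUV
  haveI : Flat fU := MorphismProperty.of_postcomp (W := @Flat) (W' := @IsOpenImmersion) fU V.ι inferInstance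
    (by rw [Scheme.Hom.resLE_comp_ι]; infer_instance)
  haveI : LocallyOfFinitePresentation fU :=
    MorphismProperty.of_postcomp (W := @LocallyOfFinitePresentation) (W' := @IsOpenImmersion) fU V.ι inferInstance
      (by rw [Scheme.Hom.resLE_comp_ι]; infer_instance)
  obtain ⟨X₀, S₀, f₀, g, g', _, _, hsq, hft, _, _, _⟩ := H8Props.FlatApprox.exists_isPullback fU
  let s : S₀ ⟶ Spec (CommRingCat.of (ULift.{u} ℤ)) :=
    S₀.isoSpec.hom ≫ Spec.map (CommRingCat.ofHom ((algebraMap ℤ Γ(S₀, ⊤)).comp ULift.ringEquiv.toRingHom))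
  haveI : LocallyOfFiniteType s := by
    have : LocallyOfFiniteType
        (Spec.map (CommRingCat.ofHom ((algebraMap ℤ Γ(S₀, ⊤)).comp ULift.ringEquiv.toRingHom))) :=
      (HasRingHomProperty.Spec_iff (P := @LocallyOfFiniteType)).2
        ((RingHom.finiteType_algebraMap.2 hft).comp
          (RingHom.FiniteType.of_surjective _ ULift.ringEquiv.surjective))
    infer_instance
  have hiff : ∀ u : U.toScheme, Dual3.IsGorensteinAt f (U.ι u) ↔ Dual3.IsGorensteinAt f₀ (g' u) := by
    intro u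
    rw [← isGorensteinAt_baseChange_iff hsq u, ← isGorensteinAt_openImmersion_comp U.ι f u]
    have hres : IsPullback (𝟙 _) fU (U.ι ≫ f) V.ι :=
      isPullback_of_mono (by rw [Category.id_comp, Scheme.Hom.resLE_comp_ι])
    haveI : LocallyOfFiniteType (U.ι ≫ f) := inferInstance
    exact (isGorensteinAt_baseChange_iff hres u).symm
  refine ⟨U.ι '' (g' ⁻¹' {x₀ | Dual3.IsGorensteinAt f₀ x₀}), ?_,
    U.ι.isOpenEmbedding.isOpenMap _ ((isOpen_gorensteinLocus_of_lft_int f₀ s).preimage g'.continuous),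
    ⟨⟨x, hxU⟩, (hiff _).1 hx, rfl⟩⟩
  rintro _ ⟨u, hu, rfl⟩
  exact (hiff u).2 hu

end Groth.Agent.H7Lim.GorOpen
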