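import Groth.Agent.H7Lim.Topology
import Groth.Agent.H7Lim.Points
import Mathlib.Topology.Sober
import Mathlib.CategoryTheory.CofilteredSystem

/-!
# Maximal points (generic points of components) in cofiltered limits
-/

set_option autoImplicit false
set_option backward.isDefEq.respectTransparency false

universe u

open CategoryTheory Limits AlgebraicGeometry TopologicalSpace

namespace Groth.Agent.H7Lim

/-- `s` has no proper generization. -/
def IsMaxPoint {α : Type*} [TopologicalSpace α] (s : α) : Prop := ∀ z : α, z ⤳ s → z = s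

lemma exists_isMaxPoint_specializes {α : Type*} [TopologicalSpace α] [QuasiSober α] [T0Space α]
    (s : α) : ∃ z : α, IsMaxPoint z ∧ z ⤳ s := by
  have hC := irreducibleComponent_mem_irreducibleComponents s
  have hg := hC.1.isGenericPoint_genericPoint isClosed_irreducibleComponent
  refine ⟨hC.1.genericPoint, fun w hw ↦ ?_, hg.specializes mem_irreducibleComponent⟩
  have : closure {w} = irreducibleComponent s := by
    refine le_antisymm (hC.2 isIrreducible_singleton.closure ?_) ?_ <;>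
      rw [← hg.def] <;>
      exact closure_minimal (Set.singleton_subset_iff.mpr (specializes_iff_mem_closure.mp hw))
        isClosed_closure
  exact IsGenericPoint.eq this hg

lemma mem_of_dense_of_isMaxPoint {α : Type*} [TopologicalSpace α] [QuasiSober α] [T0Space α]
    (hfin : {z : α | IsMaxPoint z}.Finite) {V : Set α} (hV : IsOpen V) (hd : Dense V) {s : α}
    (hs : IsMaxPoint s) : s ∈ V := by
  let F : Set α := ⋃ z ∈ {z : α | IsMaxPoint z} \ {s}, closure {z}
  have hF : IsClosed F := hfin.sdiff.isClosed_biUnion fun _ _ ↦ isClosed_closure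
  have hsF : s ∈ Fᶜ := by
    simp only [F, Set.mem_compl_iff, Set.mem_iUnion, not_exists]
    rintro z ⟨-, hzs⟩ h
    exact hzs (hs z (specializes_iff_mem_closure.mpr h))
  obtain ⟨p, hp, hpV⟩ := hd.inter_open_nonempty _ hF.isOpen_compl ⟨s, hsF⟩
  obtain ⟨z, hz, hzp⟩ := exists_isMaxPoint_specializes p
  obtain rfl : z = s := by
    by_contra hne
    exact hp (Set.mem_biUnion (x := z) ⟨hz, hne⟩ (specializes_iff_mem_closure.mp hzp))
  exact hzp.mem_open hV hpV

lemma dense_of_forall_isMaxPoint_mem {α : Type*} [TopologicalSpace α] [QuasiSober α] [T0Space α]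
    {V : Set α} (h : ∀ s : α, IsMaxPoint s → s ∈ V) : Dense V := fun x ↦ by
  obtain ⟨z, hz, hzx⟩ := exists_isMaxPoint_specializes x
  exact hzx.mem_closed isClosed_closure (subset_closure (h z hz))

variable {I : Type u} [Category.{u} I] [IsCofiltered I] {D : I ⥤ Scheme.{u}} {c : Cone D}
  [∀ (i j : I) (f : i ⟶ j), IsAffineHom (D.map f)] (hc : IsLimit c)

include hc in
lemma specializes_of_π (i₀ : I) {x y : c.pt}
    (h : ∀ (i : I), (i ⟶ i₀) → c.π.app i x ⤳ c.π.app i y) : x ⤳ y := by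
  refine specializes_iff_forall_open.mpr fun U hU hy ↦ ?_
  obtain ⟨_, ⟨j, V, -, rfl⟩, hyV, hVU⟩ := Opens.isBasis_iff_nbhd.mp
    (isBasis_preimage_isAffineOpen D c hc) (U := ⟨U, hU⟩) hy
  obtain ⟨k, f, g, -⟩ := IsCofilteredOrEmpty.cone_objs j i₀
  have hpre := preimage_π_map (c := c) f (V : Set (D.obj j))
  exact hVU (hpre.le ((h k g).mem_open (V.2.preimage (D.map f).continuous) (hpre.ge hyV)))

include hc in
lemma isMaxPoint_pt_iff (hfin : ∀ i : I, {s : D.obj i | IsMaxPoint s}.Finite)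
    (hsys : ∀ (i j : I) (g : i ⟶ j) (s : D.obj i), IsMaxPoint s → IsMaxPoint (D.map g s))
    (s : c.pt) : IsMaxPoint s ↔ ∀ i, IsMaxPoint (c.π.app i s) := by
  refine ⟨fun hs i ↦ ?_, fun h z hz ↦ ext_of_π_app_eq hc fun i ↦
    h i _ (hz.map (c.π.app i).continuous)⟩
  let F : I ⥤ Type u :=
  { obj j := {z : D.obj j // IsMaxPoint z ∧ z ⤳ c.π.app j s}
    map {j k} g := ↾fun z ↦ ⟨D.map g z.1, hsys j k g z.1 z.2.1, by
      have := z.2.2.map (D.map g).continuous
      rwa [← Scheme.Hom.comp_apply, c.w g] at this⟩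
    map_id j := by ext z; simp
    map_comp f g := by ext z; simp }
  have : ∀ j, Finite (F.obj j) := fun j ↦
    ((hfin j).subset fun _ hz ↦ hz.1 : ({z : D.obj j | IsMaxPoint z ∧ z ⤳ c.π.app j s}).Finite)
  have : ∀ j, Nonempty (F.obj j) := fun j ↦
    let ⟨z, hz, hz'⟩ := exists_isMaxPoint_specializes (c.π.app j s)
    ⟨⟨z, hz, hz'⟩⟩
  obtain ⟨w, hw⟩ := nonempty_sections_of_finite_cofiltered_system F
  obtain ⟨x, hx⟩ := exists_π_app_eq hc (fun j ↦ (w j).1) fun j k g ↦ congrArg Subtype.val (hw g)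
  have : x = s := hs x (specializes_of_π hc i fun j _ ↦ by rw [hx j]; exact (w j).2.2)
  rw [← this, hx i]
  exact (w i).2.1

include hc in
lemma exists_forall_isMaxPoint_mem (hfin : ∀ i : I, {s : D.obj i | IsMaxPoint s}.Finite)
    (hsys : ∀ (i j : I) (g : i ⟶ j) (s : D.obj i), IsMaxPoint s → IsMaxPoint (D.map g s))
    (i₀ : I) {V : Set (D.obj i₀)}
    (h : ∀ s : c.pt, IsMaxPoint s → c.π.app i₀ s ∈ V) :
    ∃ (i : I) (g : i ⟶ i₀), ∀ s : D.obj i, IsMaxPoint s → D.map g s ∈ V := by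
  by_contra! H
  let F : Over i₀ ⥤ Type u :=
  { obj j := {z : D.obj j.left // IsMaxPoint z ∧ D.map j.hom z ∉ V}
    map {j k} g := ↾fun z ↦ ⟨D.map g.left z.1, hsys _ _ _ z.1 z.2.1, by
      rw [← Scheme.Hom.comp_apply, ← D.map_comp, Over.w g]; exact z.2.2⟩
    map_id j := by ext z; simp
    map_comp f g := by ext z; simp }
  have : ∀ j, Finite (F.obj j) := fun j ↦ ((hfin j.left).subset fun _ hz ↦ hz.1 :
    ({z : D.obj j.left | IsMaxPoint z ∧ D.map j.hom z ∉ V}).Finite)
  have : ∀ j, Nonempty (F.obj j) := fun j ↦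
    let ⟨z, hz, hz'⟩ := H j.left j.hom
    ⟨⟨z, hz, hz'⟩⟩
  obtain ⟨w, hw⟩ := nonempty_sections_of_finite_cofiltered_system F
  have hc' := (Functor.Initial.isLimitWhiskerEquiv (Over.forget i₀) c).symm hc
  obtain ⟨x, hx⟩ := exists_π_app_eq hc' (fun j ↦ (w j).1) fun j k g ↦ congrArg Subtype.val (hw g)
  have hmax : IsMaxPoint x := fun z hz ↦ by
    refine ext_of_π_app_eq hc fun i ↦ ?_
    obtain ⟨k, f, g, -⟩ := IsCofilteredOrEmpty.cone_objs i i₀
    have hk : IsMaxPoint (c.π.app k x) := (hx (Over.mk g)).symm ▸ (w (Over.mk g)).2.1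
    rw [← c.w f, Scheme.Hom.comp_apply, Scheme.Hom.comp_apply]
    exact congrArg (D.map f) (hk _ (hz.map (c.π.app k).continuous))
  have h₀ := (w (Over.mk (𝟙 i₀))).2.2
  rw [← hx (Over.mk (𝟙 i₀))] at h₀
  exact h₀ (by simpa using h x hmax)

end Groth.Agent.H7Lim
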