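import Groth.Agent.H11Ample.Ample
import Groth.Agent.H17.AmpleSep

/-!
# An affine locus of generation through the points of an integral algebra over a field
-/

set_option autoImplicit false
set_option linter.style.haveILetI false
set_option backward.isDefEq.respectTransparency false

noncomputable section

universe u

open CategoryTheory CategoryTheory.Limits AlgebraicGeometry Opposite TopologicalSpace
open Groth.Agent.H11Tilde Groth.Agent.H11Ample

namespace Groth.Agent.H7Lim.AmpleIntegral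

/-- The inverse of an integral unit over a field is integral. -/
theorem isIntegral_unit_inv {k B : Type u} [Field k] [CommRing B] [Algebra k B] (v : Bˣ)
    (h : IsIntegral k (v : B)) : IsIntegral k ((v⁻¹ : Bˣ) : B) := by
  let S := Algebra.adjoin k {(v : B)}
  haveI : Module.Finite k S := Algebra.finite_adjoin_simple_of_isIntegral h
  haveI : IsArtinianRing S := isArtinian_of_tower k inferInstance
  let b : S := ⟨v, Algebra.self_mem_adjoin_singleton k (v : B)⟩
  have hb : b ∈ nonZeroDivisors S :=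
    comap_nonZeroDivisors_le_of_injective (f := S.val) Subtype.val_injective v.isUnit.mem_nonZeroDivisors
  obtain ⟨w, hw⟩ := IsArtinianRing.isUnit_of_mem_nonZeroDivisors hb
  have e : ((v⁻¹ : Bˣ) : B) = ((w⁻¹ : Sˣ) : S).1 := by
    refine (Units.inv_eq_of_mul_eq_one_right (u := v) ?_)
    have h1 : ((w : S) * ((w⁻¹ : Sˣ) : S)).1 = (1 : S).1 := congrArg Subtype.val w.mul_inv
    rw [hw] at h1
    exact h1
  rw [e]
  exact (Algebra.IsIntegral.isIntegral (R := k) ((w⁻¹ : Sˣ) : S)).map S.val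

/-- A localisation at an element of an integral algebra over a field is integral. -/
theorem isIntegral_away {k A B : Type u} [Field k] [CommRing A] [CommRing B] [Algebra k A] [Algebra A B]
    [Algebra k B] [IsScalarTower k A B] [Algebra.IsIntegral k A] (h : A) [IsLocalization.Away h B] :
    Algebra.IsIntegral k B := by
  refine ⟨fun z => ?_⟩
  obtain ⟨⟨a, s⟩, hz⟩ := IsLocalization.surj (Submonoid.powers h) z
  obtain ⟨v, hv⟩ := IsLocalization.map_units B s
  have hz' : z = algebraMap A B a * ((v⁻¹ : Bˣ) : B) := by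
    rw [← hz, ← hv, mul_assoc, Units.mul_inv, mul_one]
  rw [hz']
  exact ((Algebra.IsIntegral.isIntegral (R := k) a).algebraMap).mul
    (isIntegral_unit_inv v (hv ▸ (Algebra.IsIntegral.isIntegral (R := k) (s : A)).algebraMap))

open Polynomial in
/-- An integral polynomial with constant term `1` coprime to a given monic polynomial. -/
theorem exists_poly_coprime (k : Type u) [Field k] (f : k[X]) (hf : f.Monic) :
    ∃ P : ℤ[X], P.coeff 0 = 1 ∧ 0 < (P.map (Int.castRingHom k)).natDegree ∧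
      IsCoprime (P.map (Int.castRingHom k)) f := by
  classical
  let K := AlgebraicClosure k
  let R := (f.aroots K).toFinset.filter fun ρ => ∃ M : ℤ[X], M.map (Int.castRingHom k) ≠ 0 ∧
    aeval ρ (M.map (Int.castRingHom k)) = 0
  have hR : ∀ ρ ∈ R, ∃ M : ℤ[X], M.map (Int.castRingHom k) ≠ 0 ∧
      aeval ρ (M.map (Int.castRingHom k)) = 0 := fun ρ hρ => (Finset.mem_filter.1 hρ).2
  choose M hM hMρ using hR
  let N : ℤ[X] := ∏ ρ ∈ R.attach, M ρ.1 ρ.2
  let P : ℤ[X] := 1 + X * N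
  have hN : N.map (Int.castRingHom k) ≠ 0 := by
    rw [Polynomial.map_prod, Finset.prod_ne_zero_iff]
    exact fun ρ _ => hM ρ.1 ρ.2
  have hPk : P.map (Int.castRingHom k) = 1 + X * N.map (Int.castRingHom k) := by simp [P]
  have hdeg : 0 < (P.map (Int.castRingHom k)).natDegree := by
    rw [hPk, natDegree_add_eq_right_of_natDegree_lt]
    · rw [natDegree_X_mul hN]; omega
    · rw [natDegree_one, natDegree_X_mul hN]; omega
  refine ⟨P, by simp [P], hdeg, ?_⟩
  rw [Polynomial.isCoprime_iff_aeval_ne_zero_of_isAlgClosed (k := k) K]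
  intro ρ
  by_contra hρ
  push Not at hρ
  obtain ⟨h1, h2⟩ := hρ
  have hmem : ρ ∈ R := Finset.mem_filter.2 ⟨by
    rw [Multiset.mem_toFinset, mem_aroots]
    exact ⟨hf.ne_zero, h2⟩, P, ne_zero_of_natDegree_gt hdeg, h1⟩
  have hN0 : aeval ρ (N.map (Int.castRingHom k)) = 0 := by
    rw [Polynomial.map_prod, map_prod]
    exact Finset.prod_eq_zero (Finset.mem_attach _ ⟨ρ, hmem⟩) (hMρ ρ hmem)
  rw [hPk, map_add, map_mul, hN0, mul_zero, add_zero, map_one] at h1
  exact one_ne_zero h1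

variable {X : Scheme.{u}} {L : X.Modules}

/-- Monomials in two sections. -/
theorem exists_mono (hL : PicF.IsInvertible L) (s t : Γ(L, ⊤)) {i j D : ℕ} (h : i + j = D) :
    ∃ m : Γ(CohB1.tensorPow L D, ⊤), ∀ (V : X.Opens) (e : Γ(L, V)) (a b : Γ(X, V)),
      L.presheaf.map (homOfLE le_top).op s = a • e → L.presheaf.map (homOfLE le_top).op t = b • e →
        (CohB1.tensorPow L D).presheaf.map (homOfLE le_top).op m = (a ^ i * b ^ j) • spow e D := by
  subst h
  obtain ⟨φ, hφ⟩ := exists_iso_add hL i j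
  refine ⟨φ.hom.app ⊤ (tm (spow s i) (spow t j)), fun V e a b ha hb => ?_⟩
  rw [← app_map_apply, tm_res, spow_res, spow_res, ha, hb, spow_smul, spow_smul, tm_smul_left, tm_smul_right,
    smul_smul, Scheme.Modules.Hom.app_smul, hφ]

/-- A combination of sections with affine loci of generation has an affine locus of generation. -/
theorem gen_combination {M : X.Modules} (hM : PicF.IsInvertible M) {ι : Type*} (T : Finset ι)
    (m : ι → Γ(M, ⊤)) (c : ι → Γ(X, ⊤)) {U : X.Opens}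
    (haff : ∀ i ∈ T, IsAffineOpen (gen M (m i))) (hle : ∀ i ∈ T, gen M (m i) ≤ U) :
    IsAffineOpen (gen M (∑ i ∈ T, c i • m i)) ∧ gen M (∑ i ∈ T, c i • m i) ≤ U := by
  classical
  let σ := ∑ i ∈ T, c i • m i
  let W := gen M σ
  have hσW := isGen_gen (L := M) σ
  choose a ha using fun i => exists_coeff hσW (M.presheaf.map (homOfLE le_top).op (m i))
  have hD : ∀ i, gen M (m i) ⊓ W = X.basicOpen (a i) := fun i => gen_inf_eq_basicOpen hσW (m i) (a i) (ha i)
  let r : ι → Γ(X, W) := fun i => X.presheaf.map (homOfLE le_top).op (c i)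
  have h1 : ∑ i ∈ T, r i * a i = 1 := (hσW.bijective le_rfl).1 (by
    beta_reduce
    rw [H10Coh.mres_self, one_smul, Finset.sum_smul]
    refine (Finset.sum_congr rfl fun i _ => ?_).trans (map_sum _ _ _).symm
    rw [mul_smul, ← ha i]
    exact (Scheme.Modules.map_smul M _ _ _).symm)
  have hspan : Ideal.span (a '' (T : Set ι)) = ⊤ := by
    rw [Ideal.eq_top_iff_one, ← h1]
    exact Ideal.sum_mem _ fun i hi => Ideal.mul_mem_left _ _ (Ideal.subset_span ⟨i, hi, rfl⟩)
  refine ⟨isAffineOpen_of_isAffineOpen_basicOpen W (a '' (T : Set ι)) hspan ?_, fun y hy => ?_⟩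
  · rintro _ ⟨i, hi, rfl⟩
    rw [← hD i, inf_comm]
    exact isAffineOpen_gen_inf (V := gen M (m i)) (haff i hi) (isGen_gen (L := M) (m i)) σ
  · by_contra hyU
    have hz : ∀ i ∈ T, X.presheaf.germ W y hy (a i) ∈ IsLocalRing.maximalIdeal (X.presheaf.stalk y) :=
      fun i hi => (IsLocalRing.mem_maximalIdeal _).2 fun hu =>
        hyU (hle i hi ((hD i).ge ((X.mem_basicOpen _ y hy).2 hu)).1)
    refine (IsLocalRing.maximalIdeal.isMaximal (X.presheaf.stalk y)).ne_top ((Ideal.eq_top_iff_one _).2 ?_)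
    rw [← map_one (X.presheaf.germ W y hy).hom, ← h1, map_sum]
    exact Ideal.sum_mem _ fun i hi => by rw [map_mul]; exact Ideal.mul_mem_left _ _ (hz i hi)

open Polynomial in
/-- Combine two sections. -/
theorem exists_combine [X.IsSeparated] (hL : PicF.IsInvertible L) {k A : Type u} [Field k] [CommRing A]
    [Algebra k A] [Algebra.IsIntegral k A] (W : X.Opens) (g : Spec (CommRingCat.of A) ⟶ X) (s t : Γ(L, ⊤))
    (hs : IsAffineOpen (gen L s)) (ht : IsAffineOpen (gen L t)) (hsW : gen L s ≤ W) (htW : gen L t ≤ W) :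
    ∃ (D : ℕ) (σ : Γ(CohB1.tensorPow L D, ⊤)), 0 < D ∧ IsAffineOpen (gen _ σ) ∧ gen _ σ ≤ W ∧
      ∀ q, g q ∈ gen L s ⊔ gen L t → g q ∈ gen (CohB1.tensorPow L D) σ := by
  classical
  let Y := Spec (CommRingCat.of A)
  -- the ratio on the preimage of the locus of `t`
  have het := isGen_gen (L := L) t
  obtain ⟨φ, hφ⟩ := exists_coeff het (L.presheaf.map (homOfLE le_top).op s)
  letI : Algebra k Γ(Y, ⊤) :=
    ((Scheme.ΓSpecIso (CommRingCat.of A)).inv.hom.comp (algebraMap k A)).toAlgebra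
  haveI : Algebra.IsIntegral k Γ(Y, ⊤) := by
    let e : A →ₐ[k] Γ(Y, ⊤) := ⟨(Scheme.ΓSpecIso (CommRingCat.of A)).inv.hom, fun _ => rfl⟩
    exact Algebra.IsIntegral.of_surjective e (ConcreteCategory.bijective_of_isIso (Scheme.ΓSpecIso (CommRingCat.of A)).inv).2
  have hc : IsCompact (g ⁻¹ᵁ gen L t : Set Y) := g.isCompact_preimage ht.isCompact
  obtain ⟨E, hE, hEeq⟩ := (isCompact_and_isOpen_iff_finite_and_eq_biUnion_basicOpen
    (X := Y) (U := (g ⁻¹ᵁ gen L t : Set Y))).mp ⟨hc, (g ⁻¹ᵁ gen L t).2⟩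
  have hle : ∀ h ∈ E, Y.basicOpen h ≤ g ⁻¹ᵁ gen L t := fun h hh y hy =>
    (hEeq.ge (Set.mem_iUnion₂.2 ⟨h, hh, hy⟩) : y ∈ g ⁻¹ᵁ gen L t)
  have hint : ∀ h : E, ∃ f : k[X], f.Monic ∧
      letI := ((Y.presheaf.map (homOfLE (le_top : Y.basicOpen h.1 ≤ ⊤)).op).hom.comp (algebraMap k Γ(Y, ⊤))).toAlgebra
      aeval (g.appLE (gen L t) (Y.basicOpen h.1) (hle h.1 h.2) φ) f = 0 := fun h => by
    letI := ((Y.presheaf.map (homOfLE (le_top : Y.basicOpen h.1 ≤ ⊤)).op).hom.comp (algebraMap k Γ(Y, ⊤))).toAlgebra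
    haveI : IsScalarTower k Γ(Y, ⊤) Γ(Y, Y.basicOpen h.1) := .of_algebraMap_eq fun _ => rfl
    haveI := (isAffineOpen_top Y).isLocalization_basicOpen h.1
    haveI := isIntegral_away (k := k) (A := Γ(Y, ⊤)) (B := Γ(Y, Y.basicOpen h.1)) h.1
    exact Algebra.IsIntegral.isIntegral (R := k) (g.appLE (gen L t) (Y.basicOpen h.1) (hle h.1 h.2) φ)
  choose f hfm hf using hint
  haveI := hE.fintype
  obtain ⟨P, hP0, hPdeg, hPcop⟩ := exists_poly_coprime k (∏ h, f h) (monic_prod_of_monic _ _ fun h _ => hfm h)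
  let D := (P.map (Int.castRingHom k)).natDegree
  let c : ℕ → ℤ := fun i => P.coeff i
  -- the combination
  choose m hm using fun i : Finset.range (D + 1) =>
    exists_mono hL s t (Nat.add_sub_cancel' (Nat.lt_succ_iff.1 (Finset.mem_range.1 i.2)))
  have hLD := isInvertible_tensorPow hL D
  let σ := ∑ i ∈ (Finset.range (D + 1)).attach, ((c i.1 : ℤ) : Γ(X, ⊤)) • m i
  have hcoef : ∀ (V : X.Opens) (e : Γ(L, V)) (a b : Γ(X, V)),
      L.presheaf.map (homOfLE le_top).op s = a • e → L.presheaf.map (homOfLE le_top).op t = b • e →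
      (CohB1.tensorPow L D).presheaf.map (homOfLE le_top).op σ =
        (∑ i ∈ Finset.range (D + 1), (c i : Γ(X, V)) * (a ^ i * b ^ (D - i))) • spow e D := by
    intro V e a b ha hb
    rw [map_sum, ← Finset.sum_attach (Finset.range (D + 1)), Finset.sum_smul]
    refine Finset.sum_congr rfl fun i _ => ?_
    rw [Scheme.Modules.map_smul, hm i V e a b ha hb, smul_smul, map_intCast]
  -- loci of the monomials
  have hmono : ∀ i : Finset.range (D + 1),
      IsAffineOpen (gen (CohB1.tensorPow L D) (m i)) ∧ gen (CohB1.tensorPow L D) (m i) ≤ W := by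
    intro i
    have hi := Nat.lt_succ_iff.1 (Finset.mem_range.1 i.2)
    have key : ∀ y, (y ∈ gen (CohB1.tensorPow L D) (m i) ↔
        (0 < i.1 → y ∈ gen L s) ∧ (0 < D - i.1 → y ∈ gen L t)) := by
      intro y
      obtain ⟨V, e, hyV, he⟩ := exists_gen hL y
      obtain ⟨a, ha⟩ := exists_coeff he (L.presheaf.map (homOfLE le_top).op s)
      obtain ⟨b, hb⟩ := exists_coeff he (L.presheaf.map (homOfLE le_top).op t)
      have h1 : ∀ {M : X.Modules} {e : Γ(M, V)} (_ : IsGen M e) (z : Γ(M, ⊤)) (d : Γ(X, V)),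
          M.presheaf.map (homOfLE le_top).op z = d • e → (y ∈ gen M z ↔ IsUnit (X.presheaf.germ V y hyV d)) :=
        fun he' z d hd => ⟨fun h => (X.mem_basicOpen _ y hyV).1 ((gen_inf_eq_basicOpen he' z d hd).le ⟨h, hyV⟩),
          fun h => ((gen_inf_eq_basicOpen he' z d hd).ge ((X.mem_basicOpen _ y hyV).2 h)).1⟩
      rw [h1 (isGen_spow he D) _ _ (hm i V e a b ha hb), h1 he s a ha, h1 he t b hb, map_mul, IsUnit.mul_iff,
        map_pow, map_pow]
      exact ⟨fun h => ⟨fun h0 => (isUnit_pow_iff h0.ne').1 h.1, fun h0 => (isUnit_pow_iff h0.ne').1 h.2⟩,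
        fun h => ⟨(Nat.eq_zero_or_pos i.1).elim (fun h0 => by rw [h0, pow_zero]; exact isUnit_one) fun h0 => (h.1 h0).pow _,
          (Nat.eq_zero_or_pos (D - i.1)).elim (fun h0 => by rw [h0, pow_zero]; exact isUnit_one) fun h0 => (h.2 h0).pow _⟩⟩
    by_cases h0 : 0 < i.1
    · by_cases h1 : 0 < D - i.1
      · have e : gen (CohB1.tensorPow L D) (m i) = gen L s ⊓ gen L t := by
          ext y; rw [SetLike.mem_coe, key]; exact ⟨fun h => ⟨h.1 h0, h.2 h1⟩, fun h => ⟨fun _ => h.1, fun _ => h.2⟩⟩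
        rw [e]
        exact ⟨H17.AmpleSep.isAffineOpen_inf_gen hL t hs, inf_le_left.trans hsW⟩
      · have e : gen (CohB1.tensorPow L D) (m i) = gen L s := by
          ext y; rw [SetLike.mem_coe, key]; exact ⟨fun h => h.1 h0, fun h => ⟨fun _ => h, fun h' => absurd h' h1⟩⟩
        rw [e]; exact ⟨hs, hsW⟩
    · have h1 : 0 < D - i.1 := by omega
      have e : gen (CohB1.tensorPow L D) (m i) = gen L t := by
        ext y; rw [SetLike.mem_coe, key]; exact ⟨fun h => h.2 h1, fun h => ⟨fun h' => absurd h' h0, fun _ => h⟩⟩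
      rw [e]; exact ⟨ht, htW⟩
  obtain ⟨hσaff, hσW⟩ := gen_combination hLD (Finset.range (D + 1)).attach m
    (fun i => ((c i.1 : ℤ) : Γ(X, ⊤))) (fun i _ => (hmono i).1) (fun i _ => (hmono i).2)
  refine ⟨D, σ, hPdeg, hσaff, hσW, fun q hq => ?_⟩
  by_cases hqt : g q ∈ gen L t
  · -- `P` does not vanish at the ratio
    let U := gen L t
    let ψ : Γ(X, U) := ∑ i ∈ Finset.range (D + 1), (c i : Γ(X, U)) * (φ ^ i * 1 ^ (D - i))
    have hσt := hcoef U _ φ 1 hφ (one_smul _ _).symm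
    refine ((gen_inf_eq_basicOpen (isGen_spow het D) σ ψ hσt).ge ?_).1
    obtain ⟨h, hh, hqh⟩ := Set.mem_iUnion₂.1 (hEeq.le (show q ∈ g ⁻¹ᵁ U from hqt))
    let B := Γ(Y, Y.basicOpen h)
    letI : Algebra k B := ((Y.presheaf.map (homOfLE (le_top : Y.basicOpen h ≤ ⊤)).op).hom.comp (algebraMap k Γ(Y, ⊤))).toAlgebra
    let r : B := g.appLE U (Y.basicOpen h) (hle h hh) φ
    have hr : aeval r (∏ h, f h) = 0 := by
      rw [map_prod]; exact Finset.prod_eq_zero (Finset.mem_univ (⟨h, hh⟩ : E)) (hf ⟨h, hh⟩)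
    obtain ⟨u', v', huv⟩ := hPcop
    have hu : IsUnit (aeval r (P.map (Int.castRingHom k))) := by
      have := congrArg (aeval r) huv
      rw [map_add, map_mul, map_mul, hr, mul_zero, add_zero, map_one] at this
      exact IsUnit.of_mul_eq_one_right _ this
    have hψ : g.appLE U (Y.basicOpen h) (hle h hh) ψ = aeval r (P.map (Int.castRingHom k)) := by
      rw [aeval_eq_sum_range, map_sum]
      refine Finset.sum_congr rfl fun i _ => ?_
      rw [coeff_map, map_mul, map_mul, map_intCast, map_pow, one_pow, map_one, mul_one, Algebra.smul_def]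
      simp [c, r]
    have h3 : q ∈ Y.basicOpen (g.appLE U (Y.basicOpen h) (hle h hh) ψ) := by
      rw [hψ, Scheme.basicOpen_of_isUnit _ hu]; exact hqh
    rw [Scheme.Hom.appLE, CommRingCat.comp_apply, Scheme.basicOpen_res, ← Scheme.Hom.preimage_basicOpen] at h3
    exact h3.2
  · have hqs : g q ∈ gen L s := hq.resolve_right hqt
    have hes := isGen_gen (L := L) s
    obtain ⟨b, hb⟩ := exists_coeff hes (L.presheaf.map (homOfLE le_top).op t)
    have hσs := hcoef (gen L s) _ 1 b (one_smul _ _).symm hb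
    refine ((gen_inf_eq_basicOpen (isGen_spow hes D) σ _ hσs).ge ((X.mem_basicOpen _ _ hqs).2 ?_)).1
    have hbm : X.presheaf.germ (gen L s) (g q) hqs b ∈ IsLocalRing.maximalIdeal (X.presheaf.stalk (g q)) :=
      (IsLocalRing.mem_maximalIdeal _).2 fun hu => hqt
        ((gen_inf_eq_basicOpen hes t b hb).ge ((X.mem_basicOpen _ _ hqs).2 hu)).1
    have hD : IsUnit ((c D : ℤ) : X.presheaf.stalk (g q)) := by
      refine IsUnit.of_map (g.stalkMap q).hom _ ?_
      rw [map_intCast]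
      have h1 : IsUnit ((c D : ℤ) : A) := by
        have h0 : ((c D : ℤ) : k) ≠ 0 := by
          have := leadingCoeff_ne_zero.2 (ne_zero_of_natDegree_gt hPdeg)
          rw [leadingCoeff, coeff_map, eq_intCast] at this
          exact this
        have h0' := (isUnit_iff_ne_zero.2 h0).map (algebraMap k A)
        rwa [map_intCast] at h0'
      have h2 := (h1.map (Scheme.ΓSpecIso (CommRingCat.of A)).inv.hom).map (Y.presheaf.germ ⊤ q trivial).hom
      rw [map_intCast, map_intCast] at h2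
      exact h2
    rw [Finset.sum_range_succ, map_add, add_comm]
    by_contra hne
    refine (IsLocalRing.mem_maximalIdeal _).1 ?_ hD
    have hrest : X.presheaf.germ (gen L s) (g q) hqs
        (∑ i ∈ Finset.range D, (c i : Γ(X, gen L s)) * (1 ^ i * b ^ (D - i))) ∈
          IsLocalRing.maximalIdeal (X.presheaf.stalk (g q)) := by
      rw [map_sum]
      refine Ideal.sum_mem _ fun i hi => ?_
      rw [map_mul, map_mul, map_pow, map_pow]
      exact Ideal.mul_mem_left _ _ (Ideal.mul_mem_left _ _ (Ideal.pow_mem_of_mem _ hbm _ (Nat.sub_pos_of_lt (Finset.mem_range.1 hi))))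
    have := Ideal.sub_mem _ ((IsLocalRing.mem_maximalIdeal _).2 hne) hrest
    simpa using this

/-- A locus of generation can be moved to a multiple degree. -/
theorem exists_gen_of_dvd (hL : PicF.IsInvertible L) {n N : ℕ} (h : n ∣ N) (hN : 0 < N)
    (s : Γ(CohB1.tensorPow L n, ⊤)) :
    ∃ t : Γ(CohB1.tensorPow L N, ⊤), gen _ t = gen _ s := by
  obtain ⟨d, rfl⟩ := h
  obtain ⟨φ, -⟩ := exists_iso_mul hL n d
  exact ⟨φ.hom.app ⊤ (spow s d), by
    rw [gen_iso, gen_spow (isInvertible_tensorPow hL _) _ d (Nat.pos_of_mul_pos_left hN)]⟩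

/-- An affine locus of generation inside `W` through all points of `Spec A`. -/
theorem exists_gen_through (hA : CohB1.IsAmple L) {k A : Type u} [Field k] [CommRing A]
    [Algebra k A] [Algebra.IsIntegral k A] (W : X.Opens) (g : Spec (CommRingCat.of A) ⟶ X)
    (hg : Set.range g.base ⊆ (W : Set X)) :
    ∃ (n : ℕ) (s : Γ(CohB1.tensorPow L n, ⊤)), 0 < n ∧ IsAffineOpen (gen _ s) ∧ gen _ s ≤ W ∧
      Set.range g.base ⊆ (gen (CohB1.tensorPow L n) s : Set X) := by
  classical
  haveI := H17.AmpleSep.isSeparated_of_isAmple hA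
  haveI : CompactSpace X := hA.2.1
  have hL := hA.1
  let Y := Spec (CommRingCat.of A)
  choose n s hn hqs hsW hs using fun q : Y =>
    exists_affine_gen_le hA (U := W) (x := g q) (hg ⟨q, rfl⟩)
  obtain ⟨T, hT⟩ := CompactSpace.elim_nhds_subcover (fun q : Y => (g ⁻¹ᵁ gen _ (s q) : Set Y))
    (fun q => (g ⁻¹ᵁ gen _ (s q)).2.mem_nhds (hqs q))
  suffices ∀ T : Finset Y, ∃ (N : ℕ) (σ : Γ(CohB1.tensorPow L N, ⊤)), 0 < N ∧ IsAffineOpen (gen _ σ) ∧
      gen _ σ ≤ W ∧ ∀ q ∈ T, g ⁻¹ᵁ gen _ (s q) ≤ g ⁻¹ᵁ gen _ σ by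
    obtain ⟨N, σ, hN, hσ, hσW, hcov⟩ := this T
    refine ⟨N, σ, hN, hσ, hσW, ?_⟩
    rintro _ ⟨y, rfl⟩
    obtain ⟨q, hq, hyq⟩ := Set.mem_iUnion₂.1 (hT.ge (Set.mem_univ y))
    exact hcov q hq hyq
  intro T
  induction T using Finset.induction with
  | empty =>
    obtain ⟨N, σ, hN, -, hσW, hσ⟩ := exists_affine_gen_nhd_finite hA (Set.finite_empty) (U := W) (Set.empty_subset _)
    exact ⟨N, σ, hN, hσ, hσW, fun q hq => absurd hq (Finset.notMem_empty q)⟩
  | @insert a T _ ih =>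
    obtain ⟨N, σ, hN, hσ, hσW, hcov⟩ := ih
    have hpos : 0 < n a * N := Nat.mul_pos (hn a) hN
    obtain ⟨t₁, ht₁⟩ := exists_gen_of_dvd hL (dvd_mul_right (n a) N) hpos (s a)
    obtain ⟨t₂, ht₂⟩ := exists_gen_of_dvd hL (dvd_mul_left N (n a)) hpos σ
    obtain ⟨D, τ, hD, hτ, hτW, hτq⟩ := exists_combine (k := k) (isInvertible_tensorPow hL _) W g t₁ t₂
      (ht₁ ▸ hs a) (ht₂ ▸ hσ) (ht₁ ▸ hsW a) (ht₂ ▸ hσW)
    obtain ⟨φ, -⟩ := exists_iso_mul hL (n a * N) D
    refine ⟨_, φ.hom.app ⊤ τ, Nat.mul_pos hpos hD, by rwa [gen_iso], by rwa [gen_iso], fun q hq y hy => ?_⟩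
    show g y ∈ gen _ _
    rw [gen_iso]
    refine hτq y ?_
    rw [ht₁, ht₂]
    rcases Finset.mem_insert.1 hq with rfl | hq
    · exact Or.inl hy
    · exact Or.inr (hcov q hq hy)

end Groth.Agent.H7Lim.AmpleIntegral
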