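import Mathlib.AlgebraicGeometry.Pullbacks
import Mathlib.AlgebraicGeometry.Morphisms.FinitePresentation
import Mathlib.AlgebraicGeometry.Morphisms.QuasiCompact
import Mathlib.AlgebraicGeometry.PullbackCarrier
import Mathlib.RingTheory.TensorProduct.Maps

/-!
# A closed set avoiding a fibre is cut out by one defined over an affine scheme of finite presentation

Algebra: if `V(I) ⊆ Spec (B ⊗_R A)` avoids the fibre over a prime `p` of `A`, some element of `I` is a unit on
that fibre and comes from `B ⊗_R R[σ]` for a finite set `σ ⊆ A`.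
-/

set_option autoImplicit false
set_option linter.style.haveILetI false
set_option backward.isDefEq.respectTransparency false
universe u

open CategoryTheory CategoryTheory.Limits AlgebraicGeometry TopologicalSpace TensorProduct

noncomputable section

namespace Groth.Agent.H7Lim.AvoidFibre

section Alg

variable (R A : Type u) [CommRing R] [CommRing A] [Algebra R A] (B : Type u) [CommRing B] [Algebra R B]

/-- Evaluation at the elements of `σ`. -/
def evalSub (σ : Finset A) : MvPolynomial {a // a ∈ σ} R →ₐ[R] A := MvPolynomial.aeval Subtype.val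

/-- The map on tensor products. -/
def evalTensor (σ : Finset A) : B ⊗[R] MvPolynomial {a // a ∈ σ} R →ₐ[R] B ⊗[R] A :=
  Algebra.TensorProduct.map (AlgHom.id R B) (evalSub R A σ)

variable {R A B}

theorem evalSub_X {σ : Finset A} {a : A} (ha : a ∈ σ) : evalSub R A σ (MvPolynomial.X ⟨a, ha⟩) = a :=
  MvPolynomial.aeval_X _ _

theorem exists_support (y : B ⊗[R] A) :
    ∃ s : Finset A, ∀ σ : Finset A, s ⊆ σ → y ∈ (evalTensor R A B σ).range := by
  classical
  induction y using TensorProduct.induction_on with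
  | zero => exact ⟨∅, fun σ _ => zero_mem _⟩
  | tmul b a =>
    refine ⟨{a}, fun σ h => ⟨b ⊗ₜ MvPolynomial.X ⟨a, h (Finset.mem_singleton_self a)⟩, ?_⟩⟩
    show evalTensor R A B σ _ = _
    rw [evalTensor, Algebra.TensorProduct.map_tmul, evalSub_X]
    rfl
  | add x y hx hy =>
    obtain ⟨s, hs⟩ := hx
    obtain ⟨t, ht⟩ := hy
    exact ⟨s ∪ t, fun σ h => add_mem (hs σ (Finset.subset_union_left.trans h))
      (ht σ (Finset.subset_union_right.trans h))⟩

variable (B)

/-- An element of `I` which is a unit on the fibre over `p` is defined over a finite set of variables. -/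
theorem exists_descended_element (p : PrimeSpectrum A) (I : Ideal (B ⊗[R] A))
    (h : ∀ P : PrimeSpectrum (B ⊗[R] A), I ≤ P.asIdeal →
      PrimeSpectrum.comap (Algebra.TensorProduct.includeRight : A →ₐ[R] B ⊗[R] A).toRingHom P ≠ p) :
    ∃ s : Finset A, ∀ σ : Finset A, s ⊆ σ →
      ∃ h' : B ⊗[R] MvPolynomial {a // a ∈ σ} R, evalTensor R A B σ h' ∈ I ∧
        ∀ P : PrimeSpectrum (B ⊗[R] MvPolynomial {a // a ∈ σ} R),
          PrimeSpectrum.comap (Algebra.TensorProduct.includeRight :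
              MvPolynomial {a // a ∈ σ} R →ₐ[R] B ⊗[R] MvPolynomial {a // a ∈ σ} R).toRingHom P =
            PrimeSpectrum.comap (evalSub R A σ).toRingHom p → h' ∉ P.asIdeal := by
  classical
  let inr : A →+* B ⊗[R] A := (Algebra.TensorProduct.includeRight : A →ₐ[R] B ⊗[R] A).toRingHom
  obtain ⟨s₀, hs₀, hmem⟩ : ∃ s₀ ∉ p.asIdeal, inr s₀ ∈ I ⊔ p.asIdeal.map inr := by
    by_contra! hn
    obtain ⟨P, hP, hle, hdisj⟩ := Ideal.exists_le_prime_disjoint (I ⊔ p.asIdeal.map inr)
      (p.asIdeal.primeCompl.map inr) <| Set.disjoint_left.mpr fun y hy hy' => by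
        obtain ⟨a, ha, rfl⟩ := hy'
        exact hn a ha hy
    refine h ⟨P, hP⟩ (le_sup_left.trans hle) (PrimeSpectrum.ext (le_antisymm (fun a ha => ?_) fun a ha => ?_))
    · by_contra hap
      exact Set.disjoint_left.mp hdisj (show inr a ∈ (P : Set (B ⊗[R] A)) from ha) ⟨a, hap, rfl⟩
    · exact hle (le_sup_right (a := I) (Ideal.mem_map_of_mem inr ha))
  obtain ⟨y, hy, z, hz, hyz⟩ := Submodule.mem_sup.mp hmem
  rw [Ideal.map, Ideal.span, Finsupp.mem_span_image_iff_linearCombination (B ⊗[R] A)] at hz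
  obtain ⟨l, hlp, hl⟩ := hz
  choose S hS using fun a => exists_support (R := R) (l a)
  refine ⟨{s₀} ∪ l.support ∪ l.support.biUnion S, fun σ hσ => ?_⟩
  have hs₀σ : s₀ ∈ σ := hσ (by simp)
  have hlσ : ∀ a ∈ l.support, a ∈ σ := fun a ha => hσ (by simp [ha])
  have hSσ : ∀ a ∈ l.support, S a ⊆ σ := fun a ha b hb => hσ (by
    simp only [Finset.mem_union, Finset.mem_biUnion]
    exact Or.inr ⟨a, ha, hb⟩)
  choose c hc using fun a : l.support => hS a.1 σ (hSσ a.1 a.2)
  let inr' : MvPolynomial {a // a ∈ σ} R →+* B ⊗[R] MvPolynomial {a // a ∈ σ} R :=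
    (Algebra.TensorProduct.includeRight : MvPolynomial {a // a ∈ σ} R →ₐ[R] _).toRingHom
  have hinr : ∀ a (ha : a ∈ σ), evalTensor R A B σ (inr' (MvPolynomial.X ⟨a, ha⟩)) = inr a := fun a ha => by
    show evalTensor R A B σ (1 ⊗ₜ MvPolynomial.X ⟨a, ha⟩) = (1 : B) ⊗ₜ a
    rw [evalTensor, Algebra.TensorProduct.map_tmul, evalSub_X]
    simp
  refine ⟨inr' (MvPolynomial.X ⟨s₀, hs₀σ⟩) -
    ∑ a : l.support, c a * inr' (MvPolynomial.X ⟨a.1, hlσ a.1 a.2⟩), ?_, fun P hP hmemP => ?_⟩
  · have hsum : evalTensor R A B σ (∑ a : l.support, c a * inr' (MvPolynomial.X ⟨a.1, hlσ a.1 a.2⟩)) = z := by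
      rw [map_sum, ← hl, Finsupp.linearCombination_apply, Finsupp.sum]
      refine Eq.trans ?_ (Finset.sum_coe_sort l.support fun a => l a • inr a)
      apply Fintype.sum_congr
      intro a
      rw [map_mul, hinr, show evalTensor R A B σ (c a) = l a.1 from hc a, smul_eq_mul]
    rw [map_sub, hinr, hsum, ← hyz, add_sub_cancel_right]
    exact hy
  · have hX : ∀ a (ha : a ∈ σ), inr' (MvPolynomial.X ⟨a, ha⟩) ∈ P.asIdeal ↔ a ∈ p.asIdeal := fun a ha => by
      have h1 := SetLike.ext_iff.mp (congrArg PrimeSpectrum.asIdeal hP) (MvPolynomial.X ⟨a, ha⟩)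
      simp only [PrimeSpectrum.comap_asIdeal, Ideal.mem_comap] at h1
      refine h1.trans ?_
      show evalSub R A σ _ ∈ _ ↔ _
      rw [evalSub_X]
    refine hs₀ ((hX s₀ hs₀σ).mp ?_)
    have hsum : ∑ a : l.support, c a * inr' (MvPolynomial.X ⟨a.1, hlσ a.1 a.2⟩) ∈ P.asIdeal :=
      Ideal.sum_mem _ fun a _ => Ideal.mul_mem_left _ _ ((hX a.1 _).mpr
        ((Finsupp.mem_supported _ _).mp hlp a.2))
    simpa using add_mem hmemP hsum

end Alg

/-- The chart of `X ×_S Spec R'` over an affine open `U` of `X` above an affine open `W` of `S`. -/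
theorem exists_chart {X S : Scheme.{u}} (f : X ⟶ S) {W : S.Opens} (hW : IsAffineOpen W) {U : X.Opens}
    (hU : IsAffineOpen U) (e : U ≤ f ⁻¹ᵁ W) (R' : Type u) [CommRing R'] [Algebra Γ(S, W) R'] :
    letI := (f.appLE W U e).hom.toAlgebra
    ∃ j : Spec (CommRingCat.of (Γ(X, U) ⊗[Γ(S, W)] R')) ⟶
        pullback f (Spec.map (CommRingCat.ofHom (algebraMap Γ(S, W) R')) ≫ hW.fromSpec),
      IsOpenImmersion j ∧ Set.range j = pullback.fst f _ ⁻¹' (U : Set X) ∧
      j ≫ pullback.fst f _ = Spec.map (CommRingCat.ofHom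
        (Algebra.TensorProduct.includeLeftRingHom : Γ(X, U) →+* Γ(X, U) ⊗[Γ(S, W)] R')) ≫ hU.fromSpec ∧
      j ≫ pullback.snd f _ = Spec.map (CommRingCat.ofHom
        (Algebra.TensorProduct.includeRight : R' →ₐ[Γ(S, W)] Γ(X, U) ⊗[Γ(S, W)] R').toRingHom) := by
  letI := (f.appLE W U e).hom.toAlgebra
  let φ := Spec.map (f.appLE W U e)
  let ψ := Spec.map (CommRingCat.ofHom (algebraMap Γ(S, W) R'))
  let inl := Spec.map (CommRingCat.ofHom
    (Algebra.TensorProduct.includeLeftRingHom : Γ(X, U) →+* Γ(X, U) ⊗[Γ(S, W)] R'))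
  let inr := Spec.map (CommRingCat.ofHom
    (Algebra.TensorProduct.includeRight : R' →ₐ[Γ(S, W)] Γ(X, U) ⊗[Γ(S, W)] R').toRingHom)
  have h1 : IsPullback inl inr φ ψ :=
    isPullback_SpecMap_of_isPushout _ _ _ _ (CommRingCat.isPushout_tensorProduct Γ(S, W) Γ(X, U) R')
  have hφ : φ ≫ hW.fromSpec = hU.fromSpec ≫ f := IsAffineOpen.SpecMap_appLE_fromSpec f hW hU e
  have h2 : IsPullback inl inr (hU.fromSpec ≫ f) (ψ ≫ hW.fromSpec) := by
    rw [← hφ]
    exact IsPullback.of_isLimit' ⟨h1.w_assoc _⟩ (PullbackCone.IsLimit.mk _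
      (fun s => h1.lift s.fst s.snd ((cancel_mono hW.fromSpec).mp (by simpa using s.condition)))
      (fun _ => h1.lift_fst _ _ _) (fun _ => h1.lift_snd _ _ _)
      (fun s m a b => h1.hom_ext (a.trans (h1.lift_fst _ _ _).symm) (b.trans (h1.lift_snd _ _ _).symm)))
  let j := pullback.lift (f := f) (g := ψ ≫ hW.fromSpec) (inl ≫ hU.fromSpec) inr
    (by rw [Category.assoc]; exact h2.w)
  have hj : IsPullback j inl (pullback.fst f (ψ ≫ hW.fromSpec)) hU.fromSpec :=
    IsPullback.of_right (h₁₂ := pullback.snd f (ψ ≫ hW.fromSpec)) (h₂₂ := f) (v₁₃ := ψ ≫ hW.fromSpec)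
      (by rw [pullback.lift_snd]; exact h2.flip) (pullback.lift_fst _ _ _)
      (IsPullback.of_hasPullback f (ψ ≫ hW.fromSpec)).flip
  refine ⟨j, MorphismProperty.of_isPullback hj.flip inferInstance, ?_, pullback.lift_fst _ _ _,
    pullback.lift_snd _ _ _⟩
  rw [← hj.isoPullback_hom_fst, Scheme.Hom.comp_base, TopCat.coe_comp, Set.range_comp]
  erw [hj.isoPullback.hom.homeomorph.surjective.range_eq]
  rw [Set.image_univ, Scheme.Pullback.range_fst]
  erw [hU.range_fromSpec]

end Groth.Agent.H7Lim.AvoidFibre
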