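import Mathlib

/-!
# Affine Zariski coverings of inverse systems over cofinite posets
-/

set_option autoImplicit false
set_option backward.isDefEq.respectTransparency false
set_option linter.style.haveILetI false
set_option linter.unusedSectionVars false

universe u v

open AlgebraicGeometry CategoryTheory CategoryTheory.Limits Opposite TopologicalSpace

namespace Groth.Agent.H7Lim.CofiniteCover

variable {Λ : Type v} [PartialOrder Λ] (hΛ : ∀ l : Λ, (Set.Iic l).Finite) (X : Λᵒᵖ ⥤ Scheme.{u})
  [∀ l, CompactSpace (X.obj (op l))] [∀ l, QuasiSeparatedSpace (X.obj (op l))]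

include hΛ in
theorem wellFounded_lt : WellFounded (fun a b : Λ => a < b) := by
  refine Subrelation.wf (r := InvImage (· < ·) fun l => (hΛ l).toFinset.card) ?_
    (InvImage.wf _ (inferInstance : WellFoundedLT ℕ).wf)
  intro a b hab
  refine Finset.card_lt_card ((Finset.ssubset_iff_of_subset ?_).2 ⟨b, by simp, by simpa using hab.not_ge⟩)
  intro x hx
  simp only [Set.Finite.mem_toFinset, Set.mem_Iic] at hx ⊢
  exact hx.trans hab.le

/-- A finite affine covering of a quasi-compact open. -/
noncomputable def cov (m : Λ) (O : (X.obj (op m)).Opens) : Set (X.obj (op m)).affineOpens :=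
  open scoped Classical in
  if h : IsCompact (O : Set (X.obj (op m))) then
    ((isCompact_iff_finite_and_eq_biUnion_affineOpens).1 h).choose
  else ∅

theorem finite_cov (m : Λ) (O : (X.obj (op m)).Opens) : (cov X m O).Finite := by
  unfold cov
  split
  · exact (isCompact_iff_finite_and_eq_biUnion_affineOpens.1 ‹_›).choose_spec.1
  · exact Set.finite_empty

theorem le_of_mem_cov {m : Λ} {O : (X.obj (op m)).Opens} {U : (X.obj (op m)).affineOpens}
    (hU : U ∈ cov X m O) : U.1 ≤ O := by
  unfold cov at hU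
  split at hU
  · rename_i h
    exact (le_iSup₂ (f := fun (U : (X.obj (op m)).affineOpens) _ => U.1) U hU).trans_eq
      (isCompact_iff_finite_and_eq_biUnion_affineOpens.1 h).choose_spec.2.symm
  · exact hU.elim

theorem exists_mem_cov {m : Λ} {O : (X.obj (op m)).Opens} (hO : IsCompact (O : Set (X.obj (op m))))
    {x : X.obj (op m)} (hx : x ∈ O) : ∃ U ∈ cov X m O, x ∈ U.1 := by
  rw [cov, dif_pos hO]
  have h := (isCompact_iff_finite_and_eq_biUnion_affineOpens.1 hO).choose_spec.2.le hx
  simp only [Opens.mem_iSup] at h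
  obtain ⟨U, hU, hxU⟩ := h
  exact ⟨U, hU, hxU⟩

/-- The open to be covered at `m`, given choices below `m`. -/
noncomputable def below (m : Λ) (a : ∀ n, n < m → (X.obj (op n)).affineOpens) : (X.obj (op m)).Opens :=
  open scoped Classical in
  (hΛ m).toFinset.attach.inf fun n =>
    if h : n.1 < m then X.map (homOfLE h.le).op ⁻¹ᵁ (a n.1 h).1 else ⊤

theorem below_le {m : Λ} (a : ∀ n, n < m → (X.obj (op n)).affineOpens) {n : Λ} (h : n < m) :
    below hΛ X m a ≤ X.map (homOfLE h.le).op ⁻¹ᵁ (a n h).1 := by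
  classical
  refine (Finset.inf_le (b := ⟨n, (Set.Finite.mem_toFinset _).2 h.le⟩) (Finset.mem_attach _ _)).trans ?_
  rw [dif_pos h]

theorem mem_below {m : Λ} (a : ∀ n, n < m → (X.obj (op n)).affineOpens) {x : X.obj (op m)}
    (h : ∀ n (hn : n < m), X.map (homOfLE hn.le).op x ∈ (a n hn).1) : x ∈ below hΛ X m a := by
  classical
  have : ∀ s : Finset {n // n ∈ (hΛ m).toFinset}, x ∈ s.inf fun n =>
      if h : n.1 < m then X.map (homOfLE h.le).op ⁻¹ᵁ (a n.1 h).1 else ⊤ := fun s => by
    induction s using Finset.induction with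
    | empty => simp
    | @insert n s _ ih =>
      rw [Finset.inf_insert]
      refine ⟨?_, ih⟩
      split
      · rename_i hn; exact h _ hn
      · trivial
  exact this _

theorem isCompact_below {m : Λ} (a : ∀ n, n < m → (X.obj (op n)).affineOpens) :
    IsCompact (below hΛ X m a : Set (X.obj (op m))) := by
  classical
  let F : {n // n ∈ (hΛ m).toFinset} → (X.obj (op m)).Opens := fun n =>
    if h : n.1 < m then X.map (homOfLE h.le).op ⁻¹ᵁ (a n.1 h).1 else ⊤
  have : ∀ s : Finset {n // n ∈ (hΛ m).toFinset},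
      IsCompact ((s.inf F : (X.obj (op m)).Opens) : Set (X.obj (op m))) := fun s => by
    induction s using Finset.induction with
    | empty => simpa using isCompact_univ
    | @insert n s _ ih =>
      rw [Finset.inf_insert, Opens.coe_inf]
      refine QuasiSeparatedSpace.inter_isCompact _ _ (Opens.isOpen _) ?_ (Opens.isOpen _) ih
      simp only [F]
      split
      · rename_i hn
        exact Scheme.Hom.isCompact_preimage _ (a _ hn).2.isCompact
      · simpa using isCompact_univ
  exact this _

/-- Compatible choices of affine opens below `l`. -/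
def Fam (l : Λ) : Type (max u v) :=
  {a : ∀ m, m ≤ l → (X.obj (op m)).affineOpens //
    ∀ m (hm : m ≤ l), a m hm ∈ cov X m (below hΛ X m fun n hn => a n (hn.le.trans hm))}

/-- Restriction of choices. -/
def res {l m : Λ} (h : m ≤ l) (a : Fam hΛ X l) : Fam hΛ X m :=
  ⟨fun n hn => a.1 n (hn.trans h), fun n hn => a.2 n (hn.trans h)⟩

/-- The affine open of a choice. -/
abbrev top {l : Λ} (a : Fam hΛ X l) : (X.obj (op l)).affineOpens := a.1 l le_rfl

theorem top_le {l m : Λ} (h : m ≤ l) (a : Fam hΛ X l) :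
    (top hΛ X a).1 ≤ X.map (homOfLE h).op ⁻¹ᵁ (top hΛ X (res hΛ X h a)).1 := by
  rcases h.eq_or_lt with rfl | h'
  · intro x hx
    show X.map (homOfLE h).op x ∈ (top hΛ X a).1
    rw [show (homOfLE h).op = 𝟙 (op m) from rfl, X.map_id]
    exact hx
  · exact (le_of_mem_cov X (a.2 l le_rfl)).trans (below_le hΛ X _ h')

theorem finite_fam (l : Λ) : Finite (Fam hΛ X l) := by
  induction l using (wellFounded_lt hΛ).induction with
  | h l ih =>
    haveI : Finite {n // n < l} := ((hΛ l).subset fun n (hn : n < l) => hn.le).to_subtype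
    haveI : ∀ n : {n // n < l}, Finite (Fam hΛ X n.1) := fun n => ih n.1 n.2
    let bot : ∀ b : ∀ n : {n // n < l}, Fam hΛ X n.1, (X.obj (op l)).Opens := fun b =>
      below hΛ X l fun n hn => (top hΛ X (b ⟨n, hn⟩))
    haveI : ∀ b, Finite (cov X l (bot b)) := fun b => (finite_cov X l (bot b)).to_subtype
    refine Finite.of_injective (β := Σ b, cov X l (bot b))
      (fun a => ⟨fun n => res hΛ X n.2.le a, ⟨top hΛ X a, a.2 l le_rfl⟩⟩) fun a a' h => ?_
    have h1 := congrArg Sigma.fst h
    have h2 : top hΛ X a = top hΛ X a' := congrArg (fun p : Σ b, cov X l (bot b) => p.2.1) h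
    refine Subtype.ext (funext fun m => funext fun hm => ?_)
    rcases hm.eq_or_lt with rfl | hm'
    · exact h2
    · exact congrArg (fun c => top hΛ X c) (congrFun h1 ⟨m, hm'⟩)

theorem exists_fam {l : Λ} (x : X.obj (op l)) : ∃ a : Fam hΛ X l, x ∈ (top hΛ X a).1 := by
  classical
  let G : ∀ m, (∀ n, n < m → (n ≤ l → (X.obj (op n)).affineOpens)) → (m ≤ l → (X.obj (op m)).affineOpens) :=
    fun m rec hm =>
      if h : X.map (homOfLE hm).op x ∈ below hΛ X m fun n hn => rec n hn (hn.le.trans hm) then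
        (exists_mem_cov X (isCompact_below hΛ X _) h).choose
      else ⟨⊥, isAffineOpen_bot _⟩
  let a := (wellFounded_lt hΛ).fix G
  have ha : ∀ m (hm : m ≤ l), a m hm = G m (fun n _ => a n) hm := fun m hm =>
    congrFun ((wellFounded_lt hΛ).fix_eq G m) hm
  have key : ∀ m (hm : m ≤ l), X.map (homOfLE hm).op x ∈ (a m hm).1 ∧
      a m hm ∈ cov X m (below hΛ X m fun n hn => a n (hn.le.trans hm)) := by
    intro m
    induction m using (wellFounded_lt hΛ).induction with
    | h m ih =>
      intro hm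
      have h : X.map (homOfLE hm).op x ∈ below hΛ X m fun n hn => a n (hn.le.trans hm) :=
        mem_below hΛ X _ fun n hn => by
          rw [← Scheme.Hom.comp_apply, ← X.map_comp]
          exact (ih n hn _).1
      have hs := (exists_mem_cov X (isCompact_below hΛ X _) h).choose_spec
      rw [ha m hm]
      simp only [G, dif_pos h]
      exact ⟨hs.2, hs.1⟩
  refine ⟨⟨a, fun m hm => (key m hm).2⟩, ?_⟩
  have := (key l le_rfl).1
  rwa [show (homOfLE (le_refl l)).op = 𝟙 (op l) from rfl, X.map_id] at this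

instance (l : Λ) : Small.{u} (Fam hΛ X l) :=
  haveI := finite_fam hΛ X l
  Countable.toSmall _

/-- The covering system. -/
noncomputable def Y : Λᵒᵖ ⥤ Scheme.{u} where
  obj l := ∐ fun a : Fam hΛ X l.unop => (top hΛ X a).1.toScheme
  map {l m} g := Sigma.desc fun a =>
    (X.map g).resLE _ _ (top_le hΛ X g.unop.le a) ≫
      Sigma.ι (fun b : Fam hΛ X m.unop => (top hΛ X b).1.toScheme) (res hΛ X g.unop.le a)
  map_id l := Sigma.hom_ext _ _ fun a => by
    rw [Sigma.ι_desc, Category.comp_id]
    have : (X.map (𝟙 l)).resLE (top hΛ X (res hΛ X (le_refl _) a)).1 (top hΛ X a).1 (top_le hΛ X le_rfl a) = 𝟙 _ := by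
      rw [← cancel_mono (top hΛ X a).1.ι, Category.id_comp]
      refine (Scheme.Hom.resLE_comp_ι _ _).trans ?_
      rw [X.map_id, Category.comp_id]
    exact (congrArg (fun k => k ≫ Sigma.ι (fun b : Fam hΛ X l.unop => (top hΛ X b).1.toScheme) a) this).trans
      (Category.id_comp _)
  map_comp {l m n} g g' := Sigma.hom_ext _ _ fun a => by
    rw [Sigma.ι_desc, Sigma.ι_desc_assoc, Category.assoc, Sigma.ι_desc, ← Category.assoc, Scheme.Hom.resLE_comp_resLE]
    simp only [← X.map_comp]
    rfl

/-- The covering map. -/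
noncomputable def π : Y hΛ X ⟶ X where
  app l := Sigma.desc fun a => (top hΛ X a).1.ι
  naturality {l m} g := Sigma.hom_ext _ _ fun a => by
    simp [Y, Scheme.Hom.resLE_comp_ι]

include hΛ in
/-- **Affine Zariski coverings of systems over cofinite posets exist.** -/
theorem exists_covering :
    ∃ (Y : Λᵒᵖ ⥤ Scheme.{u}) (π : Y ⟶ X), ∀ l : Λ,
      IsAffine (Y.obj (op l)) ∧ Surjective (π.app (op l)) ∧
        ∃ (ι : Type u) (U : ι → (Y.obj (op l)).Opens),
          Pairwise (fun i j => Disjoint (U i) (U j)) ∧ iSup U = ⊤ ∧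
            ∀ i, IsOpenImmersion ((U i).ι ≫ π.app (op l)) := by
  refine ⟨Y hΛ X, π hΛ X, fun l => ?_⟩
  haveI := finite_fam hΛ X l
  let g : Fam hΛ X l → Scheme.{u} := fun a => (top hΛ X a).1.toScheme
  haveI : ∀ a, IsAffine (g a) := fun a => (top hΛ X a).2
  have hι : ∀ a, Sigma.ι g a ≫ (π hΛ X).app (op l) = (top hΛ X a).1.ι := fun a => Sigma.ι_desc _ _
  have hY : IsAffine (∐ g) := inferInstance
  refine ⟨hY, ⟨fun x => ?_⟩, Shrink.{u} (Fam hΛ X l), fun i => (Sigma.ι g ((equivShrink _).symm i)).opensRange,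
    fun i j hij => disjoint_opensRange_sigmaι g _ _ fun h => hij ((equivShrink _).symm.injective h), ?_, fun i => ?_⟩
  · obtain ⟨a, ha⟩ := exists_fam hΛ X x
    refine ⟨Sigma.ι g a ⟨x, ha⟩, ?_⟩
    exact congr($(hι a) ⟨x, ha⟩)
  · refine top_le_iff.1 fun y _ => ?_
    obtain ⟨a, z, hz⟩ := (sigmaOpenCover g).exists_eq y
    refine Opens.mem_iSup.2 ⟨equivShrink _ a, ?_⟩
    show y ∈ (Sigma.ι g ((equivShrink _).symm (equivShrink _ a))).opensRange
    rw [Equiv.symm_apply_apply]
    exact ⟨z, hz⟩
  · let s := Sigma.ι g ((equivShrink _).symm i)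
    have e : s.opensRange.ι ≫ (π hΛ X).app (op l) =
        s.isoOpensRange.inv ≫ (top hΛ X ((equivShrink _).symm i)).1.ι := by
      rw [← hι, ← Category.assoc]
      congr 1
      exact ((Iso.inv_comp_eq _).2 s.isoOpensRange_hom_ι.symm).symm
    show IsOpenImmersion (s.opensRange.ι ≫ _)
    rw [e]
    infer_instance

end Groth.Agent.H7Lim.CofiniteCover
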