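import Groth.Agent.H8Props.GeometricDescent

/-!
# A field containing arbitrarily many given extensions of a field
-/

set_option autoImplicit false

universe u

open MvPolynomial

namespace Groth.Agent.H7Lim

variable {k : Type u} [Field k] {ι : Type u} (K : ι → Type u) [∀ i, Field (K i)]
  (φ : ∀ i, k →+* K i)

theorem exists_field_of_finset (F : Finset ι) :
    ∃ (Ω : Type u) (_ : Field Ω) (ψ : k →+* Ω), ∀ i ∈ F, ∃ a : K i →+* Ω, a.comp (φ i) = ψ := by
  classical
  induction F using Finset.induction_on with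
  | empty => exact ⟨k, inferInstance, RingHom.id k, by simp⟩
  | insert j F _ ih =>
    obtain ⟨Ω, _, ψ, h⟩ := ih
    obtain ⟨Ω', _, a, b, hab⟩ := H8Props.GeometricDescent.exists_compositum ψ (φ j)
    refine ⟨Ω', inferInstance, a.comp ψ, fun i hi ↦ ?_⟩
    obtain rfl | hi := Finset.mem_insert.mp hi
    · exact ⟨b, hab.symm⟩
    · obtain ⟨c, hc⟩ := h i hi
      exact ⟨a.comp c, by rw [RingHom.comp_assoc, hc]⟩

/-- The relations making `x ↦ X ⟨i, x⟩` a ring homomorphism over `k`. -/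
def rels (i : ι) : Set (MvPolynomial (Σ i, K i) k) :=
  Set.range (fun p : K i × K i ↦ X ⟨i, p.1 + p.2⟩ - X ⟨i, p.1⟩ - X ⟨i, p.2⟩) ∪
    Set.range (fun p : K i × K i ↦ X ⟨i, p.1 * p.2⟩ - X ⟨i, p.1⟩ * X ⟨i, p.2⟩) ∪
    Set.range (fun c : k ↦ X ⟨i, φ i c⟩ - C c)

/-- Arbitrarily many extensions of a field embed compatibly into a common field. -/
theorem exists_field_of_family :
    ∃ (Ω : Type u) (_ : Field Ω) (ψ : k →+* Ω), ∀ i, ∃ a : K i →+* Ω, a.comp (φ i) = ψ := by
  classical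
  let J : Ideal (MvPolynomial (Σ i, K i) k) := Ideal.span (⋃ i, rels K φ i)
  have hJ : J ≠ ⊤ := by
    intro h
    obtain ⟨t, ht, h1⟩ := Submodule.mem_span_finite_of_mem_span
      (show (1 : MvPolynomial (Σ i, K i) k) ∈ J from h ▸ trivial)
    choose idx hidx using fun r : t ↦ Set.mem_iUnion.mp (ht r.2)
    obtain ⟨Ω, _, ψ, hΩ⟩ := exists_field_of_finset K φ (t.attach.image idx)
    choose a ha using hΩ
    let v : (Σ i, K i) → Ω := fun p ↦
      if h : p.1 ∈ t.attach.image idx then a p.1 h p.2 else 0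
    have hle : Ideal.span (t : Set (MvPolynomial (Σ i, K i) k)) ≤
        RingHom.ker (MvPolynomial.eval₂Hom ψ v) := by
      rw [Ideal.span_le]
      intro r hr
      have hi : idx ⟨r, hr⟩ ∈ t.attach.image idx :=
        Finset.mem_image_of_mem _ (Finset.mem_attach _ _)
      have hc : ∀ c, a _ hi (φ _ c) = ψ c := fun c ↦ congr($(ha _ hi) c)
      have hv : ∀ x, MvPolynomial.eval₂Hom ψ v (X ⟨idx ⟨r, hr⟩, x⟩) = a _ hi x := fun x ↦ by
        exact (eval₂Hom_X' _ _ _).trans (dif_pos hi)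
      rcases hidx ⟨r, hr⟩ with (⟨p, hp⟩ | ⟨p, hp⟩) | ⟨c, hp⟩ <;>
        simp only at hp <;> rw [SetLike.mem_coe, RingHom.mem_ker, ← hp]
      · simp only [map_sub, hv, map_add]; ring
      · simp only [map_sub, map_mul, hv]; ring
      · rw [map_sub, hv, hc, eval₂Hom_C, sub_self]
    exact one_ne_zero ((map_one (MvPolynomial.eval₂Hom ψ v)).symm.trans (hle h1))
  obtain ⟨m, hm, hJm⟩ := J.exists_le_maximal hJ
  let q := Ideal.Quotient.mk m
  have hq : ∀ i, ∀ r ∈ rels K φ i, q r = 0 := fun i r hr ↦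
    Ideal.Quotient.eq_zero_iff_mem.mpr (hJm (Ideal.subset_span (Set.mem_iUnion.mpr ⟨i, hr⟩)))
  refine ⟨_, Ideal.Quotient.field m, q.comp C, fun i ↦ ?_⟩
  have hadd (x y : K i) : q (X ⟨i, x + y⟩) = q (X ⟨i, x⟩) + q (X ⟨i, y⟩) := by
    have := hq i _ (Or.inl (Or.inl ⟨(x, y), rfl⟩))
    simp only [map_sub] at this
    linear_combination this
  have hmul (x y : K i) : q (X ⟨i, x * y⟩) = q (X ⟨i, x⟩) * q (X ⟨i, y⟩) := by
    have := hq i _ (Or.inl (Or.inr ⟨(x, y), rfl⟩))
    simp only [map_sub, map_mul] at this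
    linear_combination this
  have hC (c : k) : q (X ⟨i, φ i c⟩) = q (C c) := by
    have := hq i _ (Or.inr ⟨c, rfl⟩)
    simp only [map_sub] at this
    linear_combination this
  let g : K i →+* MvPolynomial (Σ i, K i) k ⧸ m :=
    RingHom.mk' { toFun := fun x ↦ q (X ⟨i, x⟩)
                  map_one' := by simpa using hC 1
                  map_mul' := hmul } hadd
  exact ⟨g, RingHom.ext hC⟩

end Groth.Agent.H7Lim
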