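import Groth.Agent.H7Lim.SectionConn
import Groth.Agent.H7Flat.GenericGeomReduced
import Groth.Agent.H13AlgSp.SmoothSection
import Groth.Agent.H17.LocusBC
import Groth.Agent.S1353
import Groth.Agent.H13AlgSp.LocP
import Mathlib.AlgebraicGeometry.Morphisms.IsIso
import Groth.Prelude.Def_Hens2

/-!
# Spreading geometrically connected opens of a fibre over etale neighbourhoods
-/

set_option autoImplicit false
set_option linter.style.haveILetI false
set_option backward.isDefEq.respectTransparency false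

universe u

open CategoryTheory Limits AlgebraicGeometry TopologicalSpace Topology IsLocalRing

namespace Groth.Agent.H7Lim.ConnSpread

open SectionConn

theorem geometricallyReduced_comp {U X S : Scheme.{u}} (j : U ⟶ X) [IsOpenImmersion j] (f : X ⟶ S)
    [GeometricallyReduced f] : GeometricallyReduced (j ≫ f) := by
  refine ⟨fun K _ a Z fst snd H => ?_⟩
  haveI : IsReduced (pullback f a) :=
    GeometricallyReduced.geometrically_isReduced a _ _ (IsPullback.of_hasPullback f a)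
  let k : Z ⟶ pullback f a := pullback.lift (fst ≫ j) snd (by rw [Category.assoc, H.w])
  have hk : IsPullback fst k j (pullback.fst f a) := by
    refine IsPullback.of_bot (v₂₁ := pullback.snd f a) (v₂₂ := f) (h₃₁ := a) ?_ (pullback.lift_fst _ _ _).symm
      (IsPullback.of_hasPullback f a)
    rw [pullback.lift_snd]
    exact H
  haveI : IsOpenImmersion k := MorphismProperty.of_isPullback hk ‹_›
  exact isReduced_of_isOpenImmersion k

theorem fiberι_mem_smoothLocus {Y S : Scheme.{u}} (h : Y ⟶ S) [Flat h] [LocallyOfFinitePresentation h] (s : S)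
    [LocallyOfFinitePresentation (h.fiberToSpecResidueField s)] (v : h.fiber s)
    (hv : v ∈ (h.fiberToSpecResidueField s).smoothLocus) : h.fiberι s v ∈ h.smoothLocus := by
  obtain ⟨x, hx⟩ : ∃ x, h.fiberι s v = x := ⟨_, rfl⟩
  have hfx : h x = s := by
    have : h.fiberι s v ∈ h ⁻¹' {s} := h.range_fiberι s ▸ Set.mem_range_self v
    exact hx ▸ this
  subst hfx
  have e : h.asFiber x = v := (h.fiberι (h x)).isEmbedding.injective (by rw [h.fiberι_asFiber, hx])
  rw [hx]
  exact H17.LocusBC.mem_smoothLocus_of_flat_of_fiber h x (Flat.stalkMap h x) (e ▸ hv)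

theorem geometricallyConnected_snd_of_fibres {U S S' : Scheme.{u}} (b : U ⟶ S) (ι : S' ⟶ S)
    (hb : ∀ s' : S', GeometricallyConnected (b.fiberToSpecResidueField (ι s'))) :
    GeometricallyConnected (pullback.snd b ι) := by
  refine ⟨(geometrically_iff_forall_fiberToSpecResidueField (P := (ConnectedSpace ·))).2 fun s' => ?_⟩
  obtain ⟨α, π, hsq⟩ := exists_fibre_square b ι (ι s') s' rfl
  exact (MorphismProperty.of_isPullback (P := @GeometricallyConnected) hsq (hb s')).geometrically_connectedSpace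

theorem geometricallyConnected_fibre_of_range {W X S : Scheme.{u}} (j : W ⟶ X) [IsOpenImmersion j] (f : X ⟶ S)
    (s : S) {C : Scheme.{u}} (i : C ⟶ f.fiber s) [IsOpenImmersion i]
    (hi : Set.range i = f.fiberι s ⁻¹' Set.range j) (hC : GeometricallyConnected (i ≫ f.fiberToSpecResidueField s)) :
    GeometricallyConnected ((j ≫ f).fiberToSpecResidueField s) := by
  let k : (j ≫ f).fiber s ⟶ f.fiber s := H06EGA9.fibMap j f s
  have hk := H06EGA9.isPullback_fibMap j f s
  haveI : IsOpenImmersion k := MorphismProperty.of_isPullback hk ‹IsOpenImmersion j›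
  have hr : Set.range k = Set.range i := (range_of_isPullback hk).trans hi.symm
  have hw : (IsOpenImmersion.isoOfRangeEq k i hr).hom ≫ i = k := IsOpenImmersion.isoOfRangeEq_hom_fac _ _ _
  rw [show (j ≫ f).fiberToSpecResidueField s = k ≫ f.fiberToSpecResidueField s from (pullback.lift_snd _ _ _).symm,
    ← hw, Category.assoc]
  exact (MorphismProperty.cancel_left_of_respectsIso (P := @GeometricallyConnected) _ _).2 hC

theorem isEtaleNbhd_openImmersion_comp {S' U S : Scheme.{u}} (ι : S' ⟶ U) [IsOpenImmersion ι] (g : U ⟶ S)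
    (u : S') (s : S) (h : Hens2.IsEtaleNbhd g (ι u) s) : Hens2.IsEtaleNbhd (ι ≫ g) u s where
  etale := haveI := h.etale; inferInstance
  base_eq := by rw [← h.base_eq]; rfl
  residue_bijective := by
    rw [Scheme.residueFieldMap_comp]
    exact (ConcreteCategory.bijective_of_isIso (ι.residueFieldMap u)).comp h.residue_bijective

/-- The case where the whole fibre is geometrically connected. -/
theorem exists_nbhd_of_connected_fibre {Y S : Scheme.{u}} (h : Y ⟶ S) [Flat h] [LocallyOfFinitePresentation h]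
    [QuasiCompact h] [QuasiSeparated h] [GeometricallyReduced h] (s : S)
    (hs : GeometricallyConnected (h.fiberToSpecResidueField s)) :
    ∃ (S' : Scheme.{u}) (g : S' ⟶ S) (s' : S'), IsAffine S' ∧ Hens2.IsEtaleNbhd g s' s ∧
      ∃ V : (pullback h g).Opens, IsCompact (V : Set ↑(pullback h g)) ∧
        GeometricallyConnected (V.ι ≫ pullback.snd h g) ∧ pullback.snd h g ⁻¹' {s'} ⊆ V := by
  haveI : LocallyOfFinitePresentation (h.fiberToSpecResidueField s) :=
    MorphismProperty.pullback_snd (P := @LocallyOfFinitePresentation) _ _ inferInstance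
  haveI : GeometricallyReduced (h.fiberToSpecResidueField s) :=
    MorphismProperty.pullback_snd (P := @GeometricallyReduced) _ _ ‹_›
  haveI : ConnectedSpace ↥(h.fiber s) := hs.geometrically_connectedSpace (𝟙 _) _ _
    (IsPullback.of_horiz_isIso (fst := 𝟙 (h.fiber s)) ⟨by rw [Category.id_comp, Category.comp_id]⟩)
  obtain ⟨v, hv⟩ := (H7Flat.GenericFibre.dense_smoothLocus_of_geometricallyReduced
    (h.fiberToSpecResidueField s)).nonempty
  haveI := H17.LocusBC.smooth_restrict_smoothLocus h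
  obtain ⟨U', e, r, he, hre, hse⟩ := H13AlgSp.SmoothSection.exists_etale_section
    (h.smoothLocus.ι ≫ h) ⟨_, fiberι_mem_smoothLocus h s v hv⟩
  haveI := he
  obtain ⟨u₀, hu₀⟩ : s ∈ Set.range e := by
    have hfx : h (h.fiberι s v) = s := by
      have : h.fiberι s v ∈ h ⁻¹' {s} := h.range_fiberι s ▸ Set.mem_range_self v
      exact this
    rw [← hfx]
    exact hse
  haveI := H13AlgSp.locallyQuasiFinite_of_etale e
  obtain ⟨U₁, g₁, u₁, hnb, V₁, v₁, hv₁, hfin, hv₁u, -, -, -⟩ := S1353.result e u₀ (e.quasiFiniteAt u₀)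
  rw [hu₀] at hnb
  haveI := hfin
  haveI := hnb.etale
  let Z := V₁.toScheme
  let gZ : Z ⟶ U₁ := V₁.ι ≫ pullback.snd e g₁
  haveI : Etale gZ := inferInstance
  have hgZ : Mor2.IsFinLocFree gZ := ⟨hfin, inferInstance, inferInstance⟩
  let q := pullback.snd h g₁
  let σ : Z ⟶ pullback h g₁ :=
    pullback.lift (V₁.ι ≫ pullback.fst e g₁ ≫ r ≫ h.smoothLocus.ι) gZ (by
      simp only [gZ, Category.assoc, hre]
      rw [pullback.condition])
  have hσ : σ ≫ q = gZ := pullback.lift_snd _ _ _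
  have hu₁ : u₁ ∈ Set.range gZ := ⟨⟨v₁, hv₁⟩, hv₁u⟩
  obtain ⟨α, π, hsq⟩ := exists_fibre_square h g₁ s u₁ hnb.base_eq
  have hq : GeometricallyConnected (q.fiberToSpecResidueField u₁) := MorphismProperty.of_isPullback hsq hs
  haveI : GeometricallyReduced q := MorphismProperty.pullback_snd _ _ ‹_›
  obtain ⟨U, hUc, hUy, hU, A, hA, hUA⟩ := exists_open_geometricallyConnected_fibres q gZ hgZ σ hσ u₁ hu₁ hq
  let b := U.ι ≫ q
  have hbo : IsOpen (Set.range b) := b.isOpenMap.isOpen_range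
  have hu₁b : u₁ ∈ Set.range b := by
    haveI : ConnectedSpace ↥(q.fiber u₁) := hq.geometrically_connectedSpace (𝟙 _) _ _
      (IsPullback.of_horiz_isIso (fst := 𝟙 (q.fiber u₁)) ⟨by rw [Category.id_comp, Category.comp_id]⟩)
    obtain ⟨w⟩ := (inferInstance : Nonempty ↥(q.fiber u₁))
    have hw : q.fiberι u₁ w ∈ q ⁻¹' {u₁} := q.range_fiberι u₁ ▸ Set.mem_range_self w
    exact ⟨⟨_, hUy hw⟩, hw⟩
  obtain ⟨_, ⟨S₂', hS₂', rfl⟩, hu₁S₂, hS₂le⟩ := U₁.isBasis_affineOpens.exists_subset_of_mem_open hu₁b hbo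
  let S₂ : U₁.Opens := S₂'
  haveI : IsAffine S₂ := hS₂'
  let s' : S₂.toScheme := ⟨u₁, hu₁S₂⟩
  let m : pullback h (S₂.ι ≫ g₁) ⟶ pullback h g₁ :=
    pullback.lift (pullback.fst _ _) (pullback.snd h (S₂.ι ≫ g₁) ≫ S₂.ι)
      (by rw [Category.assoc]; exact pullback.condition)
  have hm : IsPullback m (pullback.snd h (S₂.ι ≫ g₁)) q S₂.ι := by
    refine IsPullback.of_right (h₁₂ := pullback.fst h g₁) (h₂₂ := g₁) (v₁₃ := h) ?_
      (pullback.lift_snd _ _ _) (IsPullback.of_hasPullback _ _)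
    rw [pullback.lift_fst]
    exact IsPullback.of_hasPullback _ _
  haveI : IsOpenImmersion m := MorphismProperty.of_isPullback hm.flip (inferInstanceAs (IsOpenImmersion S₂.ι))
  let V : (pullback h (S₂.ι ≫ g₁)).Opens := m ⁻¹ᵁ U
  have hV : IsPullback (m ∣_ U) (V.ι ≫ pullback.snd h (S₂.ι ≫ g₁)) b S₂.ι :=
    (isPullback_morphismRestrict m U).paste_vert hm
  refine ⟨S₂.toScheme, S₂.ι ≫ g₁, s', inferInstance, isEtaleNbhd_openImmersion_comp S₂.ι g₁ s' s hnb, V, ?_, ?_, ?_⟩
  · have hS₂A : S₂ ≤ A := fun t ht => by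
      obtain ⟨⟨x, hxU⟩, hx⟩ := hS₂le ht
      exact hx ▸ hUA hxU
    haveI : IsAffine A := hA
    haveI : QuasiSeparatedSpace (q ⁻¹ᵁ A).toScheme := quasiSeparatedSpace_of_quasiSeparated (q ∣_ A)
    have hqs : IsQuasiSeparated (q ⁻¹ᵁ A : Set ↑(pullback h g₁)) :=
      isQuasiSeparated_iff_quasiSeparatedSpace _ (q ⁻¹ᵁ A).2 |>.2 ‹_›
    have hqS : IsCompact ((q ⁻¹ᵁ S₂ : (pullback h g₁).Opens) : Set ↑(pullback h g₁)) :=
      QuasiCompact.isCompact_preimage _ S₂.2 hS₂'.isCompact
    have hc := hqs _ _ hUA U.2 hUc (fun x hx => hS₂A hx) (q ⁻¹ᵁ S₂).2 hqS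
    refine m.isOpenEmbedding.isInducing.isCompact_iff.2 ?_
    rw [show m '' (V : Set ↑(pullback h (S₂.ι ≫ g₁))) = (U : Set ↑(pullback h g₁)) ∩ Set.range m from
      Set.image_preimage_eq_inter_range, range_of_isPullback hm.flip, Scheme.Opens.range_ι]
    exact hc
  · rw [← hV.isoPullback_hom_snd]
    refine (MorphismProperty.cancel_left_of_respectsIso (P := @GeometricallyConnected) _ _).2
      (geometricallyConnected_snd_of_fibres b S₂.ι fun t => hU _ ?_)
    obtain ⟨⟨x, hxU⟩, hx⟩ := hS₂le t.2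
    exact ⟨x, hxU, hx⟩
  · intro x hx
    refine hUy ?_
    show q (m x) = u₁
    rw [← Scheme.Hom.comp_apply, hm.w, Scheme.Hom.comp_apply, show pullback.snd h (S₂.ι ≫ g₁) x = s' from hx]
    rfl

/-- An open of the fibre which is geometrically connected spreads over an etale neighbourhood. -/
theorem exists_nbhd_of_connected_open {Y S : Scheme.{u}} (h : Y ⟶ S) [Flat h] [LocallyOfFinitePresentation h]
    [QuasiCompact h] [QuasiSeparated h] [GeometricallyReduced h] (s : S) (T : (h.fiber s).Opens)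
    (hT : GeometricallyConnected (T.ι ≫ h.fiberToSpecResidueField s)) :
    ∃ (S' : Scheme.{u}) (g : S' ⟶ S) (s' : S'), IsAffine S' ∧ Hens2.IsEtaleNbhd g s' s ∧
      ∃ V : (pullback h g).Opens, IsCompact (V : Set ↑(pullback h g)) ∧
        GeometricallyConnected (V.ι ≫ pullback.snd h g) ∧
        ∀ y' : ↑(pullback h g), pullback.snd h g y' = s' →
          (y' ∈ V ↔ pullback.fst h g y' ∈ (h.fiberι s) '' (T : Set ↑(h.fiber s))) := by
  obtain ⟨O, hO, hOT⟩ := (h.fiberι s).isEmbedding.isInducing.isOpen_iff.1 T.2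
  obtain ⟨_, ⟨S₀', hS₀, rfl⟩, hsS₀, -⟩ :=
    S.isBasis_affineOpens.exists_subset_of_mem_open (Set.mem_univ s) isOpen_univ
  let S₀ : S.Opens := S₀'
  haveI : IsAffine S₀ := hS₀
  have hTc : IsCompact (T : Set ↑(h.fiber s)) := by
    haveI : LocallyOfFiniteType (h.fiberToSpecResidueField s) := H8Props.FieldDim.locallyOfFiniteType_fiberToSpec h s
    haveI : IsLocallyNoetherian (h.fiber s) := LocallyOfFiniteType.isLocallyNoetherian (h.fiberToSpecResidueField s)
    haveI : CompactSpace ↥(h.fiber s) := QuasiCompact.compactSpace_of_compactSpace (h.fiberToSpecResidueField s)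
    haveI : IsNoetherian (h.fiber s) := {}
    exact NoetherianSpace.isCompact _
  have hfs : ∀ v : h.fiber s, h (h.fiberι s v) = s := fun v => by
    have : h.fiberι s v ∈ h ⁻¹' {s} := h.range_fiberι s ▸ Set.mem_range_self v
    exact this
  have hTO : h.fiberι s '' (T : Set ↑(h.fiber s)) ⊆ O ∩ (h ⁻¹ᵁ S₀ : Set Y) := by
    rintro _ ⟨v, hv, rfl⟩
    exact ⟨show v ∈ h.fiberι s ⁻¹' O from hOT.ge hv,
      show h (h.fiberι s v) ∈ S₀ from (hfs v).symm ▸ hsS₀⟩
  have hcov : ∀ y ∈ h.fiberι s '' (T : Set ↑(h.fiber s)), ∃ A : Y.Opens,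
      IsAffineOpen A ∧ y ∈ A ∧ (A : Set Y) ⊆ O ∩ (h ⁻¹ᵁ S₀ : Set Y) := by
    intro y hy
    obtain ⟨_, ⟨A, hA, rfl⟩, hyA, hAle⟩ :=
      Y.isBasis_affineOpens.exists_subset_of_mem_open (hTO hy) (hO.inter (h ⁻¹ᵁ S₀).2)
    exact ⟨A, hA, hyA, hAle⟩
  choose A hA hyA hAle using hcov
  obtain ⟨F, hF⟩ := (hTc.image (h.fiberι s).continuous).elim_finite_subcover
    (fun y : ↥(h.fiberι s '' (T : Set ↑(h.fiber s))) => (A y.1 y.2 : Set Y)) (fun y => (A y.1 y.2).2)
    (fun y hy => Set.mem_iUnion.2 ⟨⟨y, hy⟩, hyA y hy⟩)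
  let W : Y.Opens := ⟨⋃ y ∈ F, (A y.1 y.2 : Set Y), isOpen_biUnion fun y _ => (A y.1 y.2).2⟩
  have hWc : IsCompact (W : Set Y) := F.isCompact_biUnion fun y _ => (hA y.1 y.2).isCompact
  have hWle : (W : Set Y) ⊆ O ∩ (h ⁻¹ᵁ S₀ : Set Y) := Set.iUnion₂_subset fun y _ => hAle y.1 y.2
  have hWT : h.fiberι s ⁻¹' (W : Set Y) = (T : Set ↑(h.fiber s)) := by
    refine Set.Subset.antisymm (fun v hv => ?_) (fun v hv => hF ⟨v, hv, rfl⟩)
    exact hOT.le (show v ∈ h.fiberι s ⁻¹' O from (hWle hv).1)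
  have hWh : GeometricallyConnected ((W.ι ≫ h).fiberToSpecResidueField s) :=
    geometricallyConnected_fibre_of_range W.ι h s T.ι (by rw [Scheme.Opens.range_ι, Scheme.Opens.range_ι, hWT]) hT
  let b₀ := pullback.snd (W.ι ≫ h) S₀.ι
  haveI : QuasiCompact b₀ := by
    haveI : IsIso (pullback.fst (W.ι ≫ h) S₀.ι) := by
      haveI : Surjective (pullback.fst (W.ι ≫ h) S₀.ι) := ⟨fun w => by
        have : w ∈ Set.range (pullback.fst (W.ι ≫ h) S₀.ι) := by
          rw [Scheme.Pullback.range_fst, Scheme.Opens.range_ι]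
          exact (hWle w.2).2
        exact this⟩
      exact (isIso_iff_isOpenImmersion_and_surjective _).2 ⟨inferInstance, ‹_›⟩
    haveI : CompactSpace W.toScheme := isCompact_iff_compactSpace.1 hWc
    haveI : CompactSpace ↥(pullback (W.ι ≫ h) S₀.ι) :=
      (Scheme.Hom.homeomorph (pullback.fst (W.ι ≫ h) S₀.ι)).symm.compactSpace
    exact (quasiCompact_iff_compactSpace b₀).2 inferInstance
  haveI : GeometricallyReduced (W.ι ≫ h) := geometricallyReduced_comp W.ι h
  haveI : GeometricallyReduced b₀ := MorphismProperty.pullback_snd _ _ ‹_›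
  obtain ⟨α, π, hsq⟩ := exists_fibre_square (W.ι ≫ h) S₀.ι s ⟨s, hsS₀⟩ rfl
  have hb₀ : GeometricallyConnected (b₀.fiberToSpecResidueField ⟨s, hsS₀⟩) := MorphismProperty.of_isPullback hsq hWh
  obtain ⟨S', g, s', hS', hnb, V, hVc, hVg, hVs⟩ := exists_nbhd_of_connected_fibre b₀ ⟨s, hsS₀⟩ hb₀
  let g' : S' ⟶ S := g ≫ S₀.ι
  have hnb' : Hens2.IsEtaleNbhd g' s' s :=
    { etale := haveI := hnb.etale; inferInstance
      base_eq := by
        show S₀.ι (g.base s') = s
        rw [hnb.base_eq]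
        rfl
      residue_bijective := by
        rw [Scheme.residueFieldMap_comp]
        exact hnb.residue_bijective.comp (ConcreteCategory.bijective_of_isIso (S₀.ι.residueFieldMap _)) }
  let a : pullback b₀ g ⟶ W.toScheme := pullback.fst b₀ g ≫ pullback.fst (W.ι ≫ h) S₀.ι
  have hbig : IsPullback a (pullback.snd b₀ g) (W.ι ≫ h) g' :=
    ((IsPullback.of_hasPullback b₀ g).paste_horiz (IsPullback.of_hasPullback (W.ι ≫ h) S₀.ι))
  let j : pullback b₀ g ⟶ pullback h g' :=
    pullback.lift (a ≫ W.ι) (pullback.snd b₀ g) (by rw [Category.assoc, hbig.w])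
  have hj : IsPullback a j W.ι (pullback.fst h g') := by
    refine IsPullback.of_bot (v₂₁ := pullback.snd h g') (v₂₂ := h) (h₃₁ := g') ?_ (pullback.lift_fst _ _ _).symm
      (IsPullback.of_hasPullback h g')
    rw [pullback.lift_snd]
    exact hbig
  haveI : IsOpenImmersion j := MorphismProperty.of_isPullback hj (inferInstanceAs (IsOpenImmersion W.ι))
  have hjr : Set.range j = pullback.fst h g' ⁻¹' (W : Set Y) := by rw [range_of_isPullback hj, Scheme.Opens.range_ι]
  let V' : (pullback h g').Opens := j ''ᵁ V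
  refine ⟨S', g', s', hS', hnb', V', ?_, ?_, fun y hy => ⟨?_, ?_⟩⟩
  · rw [show (V' : Set ↑(pullback h g')) = j '' (V : Set ↑(pullback b₀ g)) from rfl]
    exact hVc.image j.continuous
  · have hr : Set.range (V.ι ≫ j) = Set.range V'.ι := by
      rw [Scheme.Hom.comp_base, TopCat.coe_comp, Set.range_comp, Scheme.Opens.range_ι, Scheme.Opens.range_ι]
      rfl
    have hw : (IsOpenImmersion.isoOfRangeEq (V.ι ≫ j) V'.ι hr).hom ≫ V'.ι = V.ι ≫ j :=
      IsOpenImmersion.isoOfRangeEq_hom_fac _ _ _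
    refine (MorphismProperty.cancel_left_of_respectsIso (P := @GeometricallyConnected)
      (IsOpenImmersion.isoOfRangeEq (V.ι ≫ j) V'.ι hr).hom _).1 ?_
    rw [← Category.assoc, hw, Category.assoc, pullback.lift_snd]
    exact hVg
  · rintro ⟨w, hw, rfl⟩
    have h1 : pullback.fst h g' (j w) ∈ (W : Set Y) := hjr.le ⟨w, rfl⟩
    have h2 : h (pullback.fst h g' (j w)) = s := by
      rw [← Scheme.Hom.comp_apply, pullback.condition, Scheme.Hom.comp_apply]
      exact (congrArg g' hy).trans hnb'.base_eq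
    obtain ⟨v, hv⟩ := (h.range_fiberι s).ge (show pullback.fst h g' (j w) ∈ h ⁻¹' {s} from h2)
    exact ⟨v, hWT.le (show h.fiberι s v ∈ (W : Set Y) from hv.symm ▸ h1), hv⟩
  · rintro ⟨v, hv, hvy⟩
    obtain ⟨w, rfl⟩ : y ∈ Set.range j :=
      hjr.ge (show pullback.fst h g' y ∈ (W : Set Y) from hvy ▸ hWT.ge hv)
    refine ⟨w, hVs ?_, rfl⟩
    show pullback.snd b₀ g w = s'
    rw [← show j ≫ pullback.snd h g' = pullback.snd b₀ g from pullback.lift_snd _ _ _, Scheme.Hom.comp_apply]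
    exact hy

end Groth.Agent.H7Lim.ConnSpread
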