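import Mathlib.RingTheory.Spectrum.Prime.ConstructibleSet
import Mathlib.RingTheory.FiniteType

/-!
# A constructible set containing the image of the spectrum contains the image of a finite stage
-/

set_option autoImplicit false

universe u

open PrimeSpectrum

namespace Groth.Agent.H7Lim.ConstrStage

/-- If a constructible set of the spectrum of a finitely generated subalgebra contains the image of the
spectrum of the whole ring, it contains the image of that of a larger finitely generated subalgebra. -/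
theorem exists_fg_le_comap_mem {R : Type u} [CommRing R] (A : Subalgebra ℤ R) (hA : A.FG)
    {E : Set (PrimeSpectrum A)} (hE : Topology.IsConstructible E)
    (h : ∀ p : PrimeSpectrum R, comap A.val.toRingHom p ∈ E) :
    ∃ (A' : Subalgebra ℤ R) (hle : A ≤ A'), A'.FG ∧
      ∀ p : PrimeSpectrum A', comap (Subalgebra.inclusion hle).toRingHom p ∈ E := by
  classical
  obtain ⟨S, hS⟩ := exists_constructibleSetData_iff.2 hE.compl
  have hc : ∀ C ∈ S, ∃ (r : Fin C.n → R) (n : ℕ), (C.f : R) ^ n = ∑ j, r j * (C.g j : R) := by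
    intro C hC
    have hrad : (C.f : R) ∈ (Ideal.span (Set.range fun j => (C.g j : R))).radical := by
      rw [Ideal.radical_eq_sInf, Submodule.mem_sInf]
      rintro P ⟨hle, hP⟩
      by_contra hf
      have hmem : comap A.val.toRingHom ⟨P, hP⟩ ∈ C.toSet := by
        refine ⟨?_, fun hz => hf (hz (Set.mem_singleton _))⟩
        rintro _ ⟨j, rfl⟩
        exact hle (Ideal.subset_span ⟨j, rfl⟩)
      have : comap A.val.toRingHom ⟨P, hP⟩ ∈ S.toSet := Set.mem_biUnion hC hmem
      rw [hS] at this
      exact this (h _)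
    obtain ⟨n, hn⟩ := hrad
    obtain ⟨r, hr⟩ := Ideal.mem_span_range_iff_exists_fun.1 hn
    exact ⟨r, n, hr.symm⟩
  choose r n hrn using hc
  obtain ⟨t, ht⟩ := hA
  let u : Finset R := t ∪ S.attach.biUnion fun C => Finset.univ.image (r C.1 C.2)
  have hle : A ≤ Algebra.adjoin ℤ (u : Set R) := by
    rw [← ht]
    exact Algebra.adjoin_mono (by exact_mod_cast Finset.subset_union_left)
  refine ⟨Algebra.adjoin ℤ (u : Set R), hle, ⟨u, rfl⟩, fun p => ?_⟩
  by_contra hp
  have hp' : comap (Subalgebra.inclusion hle).toRingHom p ∈ S.toSet := hS ▸ hp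
  obtain ⟨C, hC, hg, hf⟩ : ∃ C ∈ S, comap (Subalgebra.inclusion hle).toRingHom p ∈ zeroLocus (Set.range C.g) ∧
      comap (Subalgebra.inclusion hle).toRingHom p ∉ zeroLocus {C.f} := by
    obtain ⟨C, hC, hmem⟩ := Set.mem_iUnion₂.1 hp'
    exact ⟨C, hC, hmem.1, hmem.2⟩
  refine hf (Set.singleton_subset_iff.2 ?_)
  have hru : ∀ j, r C hC j ∈ Algebra.adjoin ℤ (u : Set R) := fun j => Algebra.subset_adjoin
    (Finset.mem_coe.2 (Finset.mem_union_right _ (Finset.mem_biUnion.2
      ⟨⟨C, hC⟩, Finset.mem_attach _ _, Finset.mem_image.2 ⟨j, Finset.mem_univ _, rfl⟩⟩)))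
  have heq : Subalgebra.inclusion hle C.f ^ n C hC =
      ∑ j, (⟨r C hC j, hru j⟩ : Algebra.adjoin ℤ (u : Set R)) * Subalgebra.inclusion hle (C.g j) := by
    apply Subtype.ext
    simpa using hrn C hC
  refine p.2.mem_of_pow_mem (n C hC) ?_
  show Subalgebra.inclusion hle C.f ^ n C hC ∈ p.asIdeal
  rw [heq]
  exact Submodule.sum_mem _ fun j _ => Ideal.mul_mem_left _ _ (hg ⟨j, rfl⟩)

end Groth.Agent.H7Lim.ConstrStage
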