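import Groth.Agent.H7Lim.DescendFlat
import Groth.Agent.H13CI.Syntomic
import Groth.Agent.S2844

/-!
# Syntomic morphisms descend along limits
-/

set_option autoImplicit false
set_option backward.isDefEq.respectTransparency false
set_option backward.defeqAttrib.useBackward true
set_option linter.style.haveILetI false

universe u

open CategoryTheory Limits AlgebraicGeometry TopologicalSpace

namespace Groth.Agent.H7Lim

/-- Syntomic morphisms as a morphism property. -/
def syn : MorphismProperty Scheme.{u} := fun _ _ f => Synt.IsSyntomicMor f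

instance : MorphismProperty.RespectsIso syn.{u} := by
  refine MorphismProperty.RespectsIso.mk _ (fun {X Y Z} e f hf => ?_) (fun {X Y Z} e f hf => ?_)
  · have hCI := S2844.result f (𝟙 Z) ((H13CI.isSyntomicMor_iff_isCIMorphism f).1 hf)
    obtain ⟨h1, h2, h3⟩ := hCI
    obtain ⟨h1', h2', -⟩ := (H13CI.isSyntomicMor_iff_isCIMorphism f).1 hf
    haveI := h1'
    haveI := h2'
    refine (H13CI.isSyntomicMor_iff_isCIMorphism _).2 ⟨inferInstance, inferInstance, fun x => ?_⟩
    exact (H13CI.fibre_ci_baseChange (IsPullback.of_horiz_isIso ⟨by simp⟩ : IsPullback e.hom (e.hom ≫ f) f (𝟙 _)) x).mpr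
      (((H13CI.isSyntomicMor_iff_isCIMorphism f).1 hf).2.2 _)
  · obtain ⟨h1', h2', h3'⟩ := (H13CI.isSyntomicMor_iff_isCIMorphism f).1 hf
    haveI := h1'
    haveI := h2'
    refine (H13CI.isSyntomicMor_iff_isCIMorphism _).2 ⟨inferInstance, inferInstance, fun x => ?_⟩
    exact (H13CI.fibre_ci_baseChange (IsPullback.of_horiz_isIso ⟨by simp⟩ : IsPullback (𝟙 _) (f ≫ e.hom) f e.inv) x).mpr
      (h3' _)

/-- A syntomic base change at the limit comes from a syntomic base change at some stage. -/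
theorem descends_syntomic : Descends.{u} syn @LocallyOfFinitePresentation := by
  intro J _ _ E d hd _ e _ _ T a _ _ ha h
  obtain ⟨h1, h2, h3⟩ := (H13CI.isSyntomicMor_iff_isCIMorphism _).1 h
  obtain ⟨j, φ, hflat⟩ := descendsAffine_flat.descends J E d hd e a ha h1
  haveI : LocallyOfFinitePresentation a := ha
  let a' := pullback.snd a (E.map φ)
  haveI : Flat a' := hflat
  haveI := compactSpace_of_hom E φ
  haveI := quasiSeparatedSpace_of_hom E φ
  haveI : CompactSpace ↥(pullback a (E.map φ)) := QuasiCompact.compactSpace_of_compactSpace (pullback.fst a (E.map φ))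
  let U : Set ↥(pullback a (E.map φ)) := {x | Pi1.IsCompleteIntersection (CInt.fiberStalk a' x)}
  have hU : IsOpen U := H13CI.isOpen_fiberCI a'
  -- the limit maps into the complete intersection locus
  let Dg := pbDiagram E j a'
  let cg := pbCone E d j a'
  have hlim := isLimitPbCone E j a' hd
  have hpb : IsPullback (pullback.fst a' (d.π.app j) ≫ pullback.fst a (E.map φ)) (pullback.snd a' (d.π.app j)) a
      (d.π.app j ≫ E.map φ) :=
    (IsPullback.of_hasPullback a' (d.π.app j)).paste_horiz (IsPullback.of_hasPullback a (E.map φ))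
  have hsyn : syn (pullback.snd a' (d.π.app j)) := by
    rw [prop_iff_of_isPullback (P := syn) hpb, d.w φ]
    exact h
  obtain ⟨-, -, hall⟩ := (H13CI.isSyntomicMor_iff_isCIMorphism _).1 hsyn
  let e₀ : Over j := Over.mk (𝟙 j)
  let U₀ : (Dg.obj e₀).Opens := ⟨pullback.fst a' (E.map (𝟙 j)) ⁻¹' U, hU.preimage (pullback.fst a' (E.map (𝟙 j))).continuous⟩
  have htop : cg.π.app e₀ ⁻¹ᵁ U₀ = ⊤ := by
    refine top_le_iff.1 fun x _ => ?_
    show (cg.π.app e₀ ≫ pullback.fst a' (E.map (𝟙 j))) x ∈ U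
    rw [show cg.π.app e₀ ≫ pullback.fst a' (E.map (𝟙 j)) = pullback.fst a' (d.π.app j) by
      simp [cg, e₀]]
    exact (H13CI.fibre_ci_baseChange (IsPullback.of_hasPullback a' (d.π.app j)) x).mp (hall x)
  obtain ⟨k, ψ, hk⟩ := exists_map_eq_top Dg cg hlim U₀ htop
  refine ⟨k.left, k.hom ≫ φ, ?_⟩
  have hpb' : IsPullback (pullback.fst a' (E.map k.hom) ≫ pullback.fst a (E.map φ)) (pullback.snd a' (E.map k.hom)) a
      (E.map k.hom ≫ E.map φ) :=
    (IsPullback.of_hasPullback a' (E.map k.hom)).paste_horiz (IsPullback.of_hasPullback a (E.map φ))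
  suffices key : ∀ b, b = E.map k.hom ≫ E.map φ → syn (pullback.snd a b) from key _ (E.map_comp _ _)
  rintro _ rfl
  rw [← prop_iff_of_isPullback (P := syn) hpb']
  refine (H13CI.isSyntomicMor_iff_isCIMorphism _).2 ⟨inferInstance, inferInstance, fun x => ?_⟩
  refine (H13CI.fibre_ci_baseChange (IsPullback.of_hasPullback a' (E.map k.hom)) x).mpr ?_
  have hx : (Dg.map ψ ≫ pullback.fst a' (E.map (𝟙 j))) x ∈ U := hk.ge (Set.mem_univ x)
  rwa [show Dg.map ψ ≫ pullback.fst a' (E.map (𝟙 j)) = pullback.fst a' (E.map k.hom) by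
    simp [Dg, e₀]] at hx

/-- Descent of syntomic morphisms over a base changed system. -/
theorem exists_syntomic_stage {I : Type u} [SmallCategory I] [IsCofiltered I]
    (D : I ⥤ Scheme.{u}) (c : Cone D) (hc : IsLimit c)
    [∀ (i j : I) (f : i ⟶ j), IsAffineHom (D.map f)] (i₀ : I) [CompactSpace (D.obj i₀)]
    [QuasiSeparatedSpace (D.obj i₀)] {X₀ Y₀ : Scheme.{u}} (f₀ : X₀ ⟶ Y₀) (g₀ : Y₀ ⟶ D.obj i₀)
    [CompactSpace X₀] [QuasiSeparatedSpace X₀] [CompactSpace Y₀] [QuasiSeparatedSpace Y₀]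
    [LocallyOfFinitePresentation f₀]
    {X Y : Scheme.{u}} (f : X ⟶ Y) (g : Y ⟶ c.pt) (qY : Y ⟶ Y₀) (qX : X ⟶ X₀)
    (hY : IsPullback qY g g₀ (c.π.app i₀)) (hX : IsPullback qX f f₀ qY) (hf : Synt.IsSyntomicMor f) :
    ∃ (i : I) (φ : i ⟶ i₀) (Xi Yi : Scheme.{u}) (fi : Xi ⟶ Yi) (gi : Yi ⟶ D.obj i) (pY : Yi ⟶ Y₀)
      (pX : Xi ⟶ X₀), IsPullback pY gi g₀ (D.map φ) ∧ IsPullback pX fi f₀ pY ∧ Synt.IsSyntomicMor fi := by
  let E := pbDiagram D i₀ g₀
  let d := pbCone D c i₀ g₀
  have hd := isLimitPbCone D i₀ g₀ hc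
  let e₀ : Over i₀ := Over.mk (𝟙 i₀)
  let p₀ : E.obj e₀ ⟶ Y₀ := pullback.fst g₀ (D.map (𝟙 i₀))
  haveI : QuasiCompact p₀ := inferInstanceAs (QuasiCompact (pullback.fst g₀ (D.map (𝟙 i₀))))
  haveI : QuasiSeparated p₀ := inferInstanceAs (QuasiSeparated (pullback.fst g₀ (D.map (𝟙 i₀))))
  let a := pullback.snd f₀ p₀
  haveI : CompactSpace ↥(pullback f₀ p₀) := QuasiCompact.compactSpace_of_compactSpace (pullback.fst f₀ p₀)
  haveI : QuasiSeparatedSpace ↥(pullback f₀ p₀) := quasiSeparatedSpace_of_quasiSeparated (pullback.fst f₀ p₀)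
  have hp : d.π.app e₀ ≫ p₀ = pullback.fst g₀ (c.π.app i₀) := by simp [d, p₀, e₀]
  have hlimit : syn (pullback.snd a (d.π.app e₀)) := by
    have h1 := (IsPullback.of_hasPullback a (d.π.app e₀)).paste_horiz (IsPullback.of_hasPullback f₀ p₀)
    rw [prop_iff_of_isPullback (P := syn) h1, hp]
    have h2 : IsPullback qX (f ≫ hY.isoPullback.hom) f₀ (pullback.fst g₀ (c.π.app i₀)) :=
      hX.of_iso (Iso.refl _) (Iso.refl _) hY.isoPullback (Iso.refl _) (by simp) (by simp) (by simp) (by simp)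
    rw [← prop_iff_of_isPullback (P := syn) h2]
    exact MorphismProperty.RespectsIso.postcomp syn hY.isoPullback.hom f hf
  obtain ⟨k, ψ, hk⟩ := descends_syntomic (Over i₀) E d hd e₀ a
    (show LocallyOfFinitePresentation (pullback.snd f₀ p₀) from inferInstance) hlimit
  have h3 := (IsPullback.of_hasPullback a (E.map ψ)).paste_horiz (IsPullback.of_hasPullback f₀ p₀)
  refine ⟨k.left, k.hom, _, _, pullback.snd a (E.map ψ), pullback.snd g₀ (D.map k.hom),
    pullback.fst g₀ (D.map k.hom), pullback.fst a (E.map ψ) ≫ pullback.fst f₀ p₀, IsPullback.of_hasPullback _ _, ?_, hk⟩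
  rwa [show E.map ψ ≫ p₀ = pullback.fst g₀ (D.map k.hom) by simp [E, p₀, e₀]] at h3

end Groth.Agent.H7Lim
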