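import Groth.Agent.H11Val.Criteria
import Groth.Agent.H7Lim.Nagata.Criteria
import Groth.Agent.H8Props.Generic
import Groth.Agent.LeadChow.Dense
import Mathlib.RingTheory.DiscreteValuationRing.Basic

/-!
# Valuative criteria through dense families of points
-/

set_option autoImplicit false
set_option backward.isDefEq.respectTransparency false
set_option linter.style.haveILetI false

universe u

open CategoryTheory Limits AlgebraicGeometry IsLocalRing TopologicalSpace Topology

namespace Groth.Agent.H7Lim.DvrDense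

variable {X S U : Scheme.{u}}

/-- Uniqueness of lifts for discrete valuation subrings of the residue field of `w`. -/
def Uniq (f : X ⟶ S) (h : U ⟶ X) (w : U) : Prop :=
  ∀ (A : ValuationSubring (U.residueField w)), IsDiscreteValuationRing A →
    ∀ l₁ l₂ : Spec (CommRingCat.of A) ⟶ X, l₁ ≫ f = l₂ ≫ f →
      Spec.map (CommRingCat.ofHom A.subtype) ≫ l₁ = U.fromSpecResidueField w ≫ h →
      Spec.map (CommRingCat.ofHom A.subtype) ≫ l₂ = U.fromSpecResidueField w ≫ h → l₁ = l₂

/-- Existence of lifts for discrete valuation subrings of the residue field of `w`. -/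
def Exist (f : X ⟶ S) (h : U ⟶ X) (w : U) : Prop :=
  ∀ (A : ValuationSubring (U.residueField w)), IsDiscreteValuationRing A →
    ∀ y : Spec (CommRingCat.of A) ⟶ S,
      Spec.map (CommRingCat.ofHom A.subtype) ≫ y = U.fromSpecResidueField w ≫ h ≫ f →
      ∃ l : Spec (CommRingCat.of A) ⟶ X, l ≫ f = y ∧
        Spec.map (CommRingCat.ofHom A.subtype) ≫ l = U.fromSpecResidueField w ≫ h

theorem isSeparated_of_points [IsLocallyNoetherian S] (f : X ⟶ S) [LocallyOfFiniteType f]
    (h : U ⟶ X) [LocallyOfFiniteType h] (hgen : ∀ η ∈ genericPoints X, ∃ w, h w = η ∧ Uniq f h w) :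
    IsSeparated f := by
  haveI : IsLocallyNoetherian X := LocallyOfFiniteType.isLocallyNoetherian f
  haveI : QuasiSeparated f := .of_quasiSeparatedSpace f
  haveI : IsLocallyNoetherian (pullback f f) := LocallyOfFiniteType.isLocallyNoetherian (pullback.fst f f)
  let Δ := pullback.diagonal f
  have hsp : topologically @SpecializingMap Δ := by
    intro x z hxz
    obtain ⟨η, hη, hηx⟩ := H8Props.exists_genericPoints_specializes x
    obtain ⟨w, hw, huniq⟩ := hgen η hη
    have hηz : (h ≫ Δ) w ⤳ z := by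
      rw [Scheme.Hom.comp_apply, hw]
      exact (hηx.map Δ.continuous).trans hxz
    obtain ⟨x', hx'⟩ : z ∈ Set.range Δ := by
      rcases eq_or_ne z ((h ≫ Δ) w) with rfl | hne
      · exact ⟨h w, rfl⟩
      obtain ⟨A, g, hA, hg, hgA⟩ := H11Val.exists_dvr_hom_through (h ≫ Δ) w z hηz hne
      have h1 := huniq A hA (g ≫ pullback.fst f f) (g ≫ pullback.snd f f)
        (by rw [Category.assoc, Category.assoc, pullback.condition])
        (by rw [← Category.assoc, hgA, Category.assoc, Category.assoc, pullback.diagonal_fst, Category.comp_id])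
        (by rw [← Category.assoc, hgA, Category.assoc, Category.assoc, pullback.diagonal_snd, Category.comp_id])
      refine ⟨(g ≫ pullback.fst f f) (closedPoint A), ?_⟩
      have : (g ≫ pullback.fst f f) ≫ Δ = g := pullback.hom_ext
        (by simp [Δ]) (by simp [Δ]; exact h1)
      rw [← Scheme.Hom.comp_apply, this, hg]
    refine ⟨x', ?_, hx'⟩
    refine Δ.isEmbedding.isInducing.specializes_iff.1 ?_
    rw [hx']
    exact hxz
  exact ⟨.of_isPreimmersion _ ((isClosedMap_iff_specializingMap Δ).2 hsp).isClosed_range⟩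

/-- The image of a morphism of finite type with dense range contains the generic points. -/
theorem genericPoints_subset_range [IsLocallyNoetherian X] (h : U ⟶ X) [LocallyOfFiniteType h]
    [QuasiCompact h] (hd : DenseRange h) : genericPoints X ⊆ Set.range h := by
  intro η hη
  have hc : IsLocallyConstructible (Set.range h) := by
    rw [← Set.image_univ]
    exact h.isLocallyConstructible_image .univ
  obtain ⟨G, hG, hηG, hGE⟩ := Nagata.genOpen_of_isLocallyConstructible hc η
  obtain ⟨O, hO, hηO, hsub⟩ := H8Props.exists_open_nhd_subset_closure hη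
  obtain ⟨p, ⟨hpG, hpO⟩, hpE⟩ := Dense.inter_open_nonempty hd (G ∩ O) (hG.inter hO) ⟨η, hηG, hηO⟩
  exact (hGE p hpG (specializes_iff_mem_closure.2 (hsub hpO))).1 hpE

/-- A discrete valuation subring of the residue field transported along an open immersion. -/
theorem exists_transport {W : Scheme.{u}} (i : W ⟶ U) [IsOpenImmersion i] (w : W)
    (A : ValuationSubring (W.residueField w)) [IsDiscreteValuationRing A] :
    ∃ (A' : ValuationSubring (U.residueField (i w))) (ε : Spec (CommRingCat.of A) ⟶ Spec (CommRingCat.of A')),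
      IsDiscreteValuationRing A' ∧ IsIso ε ∧
        Spec.map (CommRingCat.ofHom A.subtype) ≫ ε =
          Spec.map (i.residueFieldMap w) ≫ Spec.map (CommRingCat.ofHom A'.subtype) := by
  haveI : IsIso (i.residueFieldMap w) := inferInstance
  let φ := (asIso (i.residueFieldMap w)).commRingCatIsoToRingEquiv
  let A' := A.comap φ.toRingHom
  let e : A' ≃+* A :=
    { toFun := fun a => ⟨φ a.1, a.2⟩
      invFun := fun a => ⟨φ.symm a.1, by show φ (φ.symm a.1) ∈ A; rw [φ.apply_symm_apply]; exact a.2⟩
      left_inv := fun a => Subtype.ext (φ.symm_apply_apply _)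
      right_inv := fun a => Subtype.ext (φ.apply_symm_apply _)
      map_mul' := fun a b => Subtype.ext (map_mul φ a.1 b.1)
      map_add' := fun a b => Subtype.ext (map_add φ a.1 b.1) }
  refine ⟨A', Spec.map e.toCommRingCatIso.hom, IsDiscreteValuationRing.RingEquivClass.isDiscreteValuationRing e.symm, inferInstance, ?_⟩
  rw [← Spec.map_comp, ← Spec.map_comp]
  rfl

theorem isProper_of_points_affine [IsLocallyNoetherian S] [CompactSpace S] (f : X ⟶ S) [IsSeparated f]
    [LocallyOfFiniteType f] [QuasiCompact f] (h : U ⟶ X) [LocallyOfFiniteType h]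
    (hgen : ∀ η ∈ genericPoints X, ∃ w, h w = η ∧ Exist f h w) : IsProper f := by
  haveI : IsLocallyNoetherian X := LocallyOfFiniteType.isLocallyNoetherian f
  haveI : CompactSpace X := QuasiCompact.compactSpace_of_compactSpace f
  haveI : IsNoetherian X := ⟨⟩
  obtain ⟨N, X', π, j, hj, hjS, hπ, ⟨O, hiso, hdO⟩, -, hsurj, -, -, -⟩ :=
    LeadChow.exists_chow_dense f NoetherianSpace.finite_irreducibleComponents
  let t := CohB1.ProjSpaceOver.toBase N S
  let P := CohB1.ProjSpaceOver N S
  haveI : IsProper t := inferInstance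
  haveI : IsLocallyNoetherian P := LocallyOfFiniteType.isLocallyNoetherian t
  haveI : CompactSpace P := QuasiCompact.compactSpace_of_compactSpace t
  haveI : IsLocallyNoetherian X' := LocallyOfFiniteType.isLocallyNoetherian π
  haveI : CompactSpace X' := QuasiCompact.compactSpace_of_compactSpace π
  haveI : IsNoetherian P := ⟨⟩
  haveI : IsNoetherian X' := ⟨⟩
  have hclosed : closure (Set.range j) ⊆ Set.range j := by
    intro z hz
    -- a generic point of `X'` specializing to `z`
    obtain ⟨η', hη', hηz⟩ : ∃ η' ∈ genericPoints X', j η' ⤳ z := by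
      have hu : Set.range j ⊆ ⋃ η' ∈ genericPoints X', closure {j η'} := by
        rintro _ ⟨x', rfl⟩
        obtain ⟨η', hη', hs⟩ := H8Props.exists_genericPoints_specializes x'
        exact Set.mem_iUnion₂.2 ⟨η', hη', (hs.map j.continuous).mem_closure⟩
      have hfin : (genericPoints X').Finite :=
        genericPoints.finite (NoetherianSpace.finite_irreducibleComponents)
      obtain ⟨η', hη', hs⟩ := Set.mem_iUnion₂.1
        (closure_minimal hu (hfin.isClosed_biUnion fun _ _ => isClosed_closure) hz)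
      exact ⟨η', hη', specializes_iff_mem_closure.2 hs⟩
    have hη'O : η' ∈ π ⁻¹ᵁ O := H8Props.genericPoints_subset_of_dense (π ⁻¹ᵁ O).2 hdO hη'
    have hgen' : π η' ∈ genericPoints X := by
      rw [H8Props.mem_genericPoints_iff] at hη' ⊢
      intro y hy
      have hyO : y ∈ O := hy.mem_open O.2 hη'O
      obtain ⟨y', hy'⟩ := (π ∣_ O).homeomorph.surjective ⟨y, hyO⟩
      have hy'' : π ((π ⁻¹ᵁ O).ι y') = y := by
        rw [← Scheme.Hom.comp_apply, ← morphismRestrict_ι, Scheme.Hom.comp_apply]
        exact congrArg Subtype.val hy'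
      have hs : y' ⤳ (⟨η', hη'O⟩ : (π ⁻¹ᵁ O).toScheme) := by
        rw [← (π ∣_ O).homeomorph.isInducing.specializes_iff, ← O.ι.isOpenEmbedding.isInducing.specializes_iff]
        show (π ∣_ O ≫ O.ι) y' ⤳ (π ∣_ O ≫ O.ι) _
        rw [morphismRestrict_ι, Scheme.Hom.comp_apply, Scheme.Hom.comp_apply, hy'']
        exact hy
      rw [← hy'', hη' _ (hs.map (π ⁻¹ᵁ O).ι.continuous)]
    obtain ⟨w, hw, hex⟩ := hgen (π η') hgen'
    let W : U.Opens := h ⁻¹ᵁ O
    let w' : W.toScheme := ⟨w, show h w ∈ O by rw [hw]; exact hη'O⟩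
    let p : W.toScheme ⟶ X' := (h ∣_ O) ≫ inv (π ∣_ O) ≫ (π ⁻¹ᵁ O).ι
    have hp : p ≫ π = W.ι ≫ h := by
      simp only [p, Category.assoc]
      rw [← morphismRestrict_ι π O, IsIso.inv_hom_id_assoc, morphismRestrict_ι]
    have hpw : p w' = η' := by
      have h1 : π (p w') = π η' := by rw [← Scheme.Hom.comp_apply, hp, ← hw]; rfl
      obtain ⟨a, ha⟩ : p w' ∈ Set.range (π ⁻¹ᵁ O).ι := ⟨_, rfl⟩
      rw [← ha] at h1 ⊢
      refine congrArg Subtype.val ((π ∣_ O).homeomorph.injective (a₁ := a) (a₂ := ⟨η', hη'O⟩) ?_)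
      refine O.ι.isOpenEmbedding.injective ?_
      show (π ∣_ O ≫ O.ι) a = (π ∣_ O ≫ O.ι) _
      rw [morphismRestrict_ι]
      exact h1
    haveI : LocallyOfFiniteType (h ∣_ O) := IsZariskiLocalAtTarget.restrict ‹_› _
    haveI : LocallyOfFiniteType (p ≫ j) := by dsimp [p]; infer_instance
    have hwres : Spec.map (W.ι.residueFieldMap w') ≫ U.fromSpecResidueField w =
        W.toScheme.fromSpecResidueField w' ≫ W.ι :=
      Scheme.Hom.SpecMap_residueFieldMap_fromSpecResidueField W.ι w'
    rcases eq_or_ne z ((p ≫ j) w') with rfl | hne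
    · exact ⟨_, rfl⟩
    obtain ⟨A, g, hA, hg, hgA⟩ := H11Val.exists_dvr_hom_through (p ≫ j) w' z
      (by rw [Scheme.Hom.comp_apply, hpw]; exact hηz) hne
    obtain ⟨A', ε, hA', hε, hsq⟩ := exists_transport W.ι w' A
    obtain ⟨l, hl₁, hl₂⟩ := hex A' hA' (inv ε ≫ g ≫ t) (by
      rw [← cancel_epi (Spec.map (W.ι.residueFieldMap w')), ← Category.assoc, ← hsq, Category.assoc,
        IsIso.hom_inv_id_assoc, ← Category.assoc, hgA, ← Category.assoc (Spec.map (W.ι.residueFieldMap w')),
        hwres]
      simp only [Category.assoc, t, hjS, ← reassoc_of% hp])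
    let V : ValuativeCommSq π :=
      { R := A, K := W.toScheme.residueField w', i₁ := W.toScheme.fromSpecResidueField w' ≫ p, i₂ := ε ≫ l
        commSq := ⟨by
          show _ = Spec.map (CommRingCat.ofHom A.subtype) ≫ ε ≫ l
          rw [Category.assoc, hp, ← Category.assoc (Spec.map _) ε, hsq, Category.assoc, hl₂, ← Category.assoc,
            ← Category.assoc, hwres]⟩ }
    have hucv : ValuativeCriterion.Existence π := by
      have := (inferInstance : UniversallyClosed π)
      rw [UniversallyClosed.eq_valuativeCriterion] at this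
      exact this.1
    obtain ⟨⟨l', hl'₁, hl'₂⟩⟩ := (hucv V).exists_lift
    have hge : l' ≫ j = g := by
      let V' : ValuativeCommSq t :=
        { R := A, K := W.toScheme.residueField w', i₁ := W.toScheme.fromSpecResidueField w' ≫ p ≫ j, i₂ := g ≫ t
          commSq := ⟨by
            show _ = Spec.map (CommRingCat.ofHom A.subtype) ≫ g ≫ t
            rw [← Category.assoc (Spec.map _), hgA, Category.assoc]⟩ }
      have := IsSeparated.valuativeCriterion t V'
      refine congrArg CommSq.LiftStruct.l (this.elim ⟨l' ≫ j, ?_, ?_⟩ ⟨g, ?_, rfl⟩)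
      · show Spec.map (CommRingCat.ofHom A.subtype) ≫ l' ≫ j = _
        rw [← Category.assoc, show Spec.map (CommRingCat.ofHom A.subtype) ≫ l' = _ from hl'₁, Category.assoc]
      · show (l' ≫ j) ≫ t = g ≫ t
        rw [Category.assoc, hjS, ← Category.assoc, show l' ≫ π = _ from hl'₂, Category.assoc, hl₁,
          IsIso.hom_inv_id_assoc]
      · show Spec.map (CommRingCat.ofHom A.subtype) ≫ g = _
        rw [hgA]
    exact ⟨l' (closedPoint A), by rw [← Scheme.Hom.comp_apply, hge, hg]⟩
  haveI : IsClosedImmersion j := .of_isPreimmersion _ (closure_eq_iff_isClosed.1 (hclosed.antisymm subset_closure))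
  haveI : IsProper (π ≫ f) := by rw [← hjS]; infer_instance
  haveI : Surjective π := hsurj
  haveI : UniversallyClosed f := UniversallyClosed.of_comp_surjective (f := π) (g := f)
  exact { }

theorem isProper_of_points [IsLocallyNoetherian S] (f : X ⟶ S) [IsSeparated f]
    [LocallyOfFiniteType f] [QuasiCompact f] (h : U ⟶ X) [LocallyOfFiniteType h]
    (hgen : ∀ η ∈ genericPoints X, ∃ w, h w = η ∧ Exist f h w) : IsProper f := by
  refine (IsZariskiLocalAtTarget.iff_of_iSup_eq_top (P := @IsProper) _ (iSup_affineOpens_eq_top S)).2 fun V => ?_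
  haveI : CompactSpace V.1.toScheme := isCompact_iff_compactSpace.mp V.2.isCompact
  haveI : IsLocallyNoetherian V.1.toScheme := LocallyOfFiniteType.isLocallyNoetherian V.1.ι
  haveI : IsSeparated (f ∣_ V.1) := IsZariskiLocalAtTarget.restrict ‹_› _
  haveI : LocallyOfFiniteType (f ∣_ V.1) := IsZariskiLocalAtTarget.restrict ‹_› _
  haveI : QuasiCompact (f ∣_ V.1) := IsZariskiLocalAtTarget.restrict ‹_› _
  let XV : X.Opens := f ⁻¹ᵁ V.1
  haveI : LocallyOfFiniteType (h ∣_ XV) := IsZariskiLocalAtTarget.restrict ‹_› _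
  refine isProper_of_points_affine _ (h ∣_ XV) fun η hη => ?_
  have hηX : XV.ι η ∈ genericPoints X := by
    rw [H8Props.mem_genericPoints_iff] at hη ⊢
    intro y hy
    exact congrArg XV.ι (hη ⟨y, hy.mem_open XV.2 η.2⟩ (XV.ι.isOpenEmbedding.isInducing.specializes_iff.1 hy))
  obtain ⟨w, hw, hex⟩ := hgen _ hηX
  let w' : (h ⁻¹ᵁ XV).toScheme := ⟨w, show h w ∈ XV by rw [hw]; exact η.2⟩
  refine ⟨w', XV.ι.isOpenEmbedding.injective (by
    rw [← Scheme.Hom.comp_apply, morphismRestrict_ι, Scheme.Hom.comp_apply]; exact hw), fun A hA y hy => ?_⟩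
  obtain ⟨A', ε, hA', hε, hsq⟩ := exists_transport (h ⁻¹ᵁ XV).ι w' A
  have hwres : Spec.map ((h ⁻¹ᵁ XV).ι.residueFieldMap w') ≫ U.fromSpecResidueField w =
      (h ⁻¹ᵁ XV).toScheme.fromSpecResidueField w' ≫ (h ⁻¹ᵁ XV).ι :=
    Scheme.Hom.SpecMap_residueFieldMap_fromSpecResidueField (h ⁻¹ᵁ XV).ι w'
  obtain ⟨l, hl₁, hl₂⟩ := hex A' hA' (inv ε ≫ y ≫ V.1.ι) (by
    rw [← cancel_epi (Spec.map ((h ⁻¹ᵁ XV).ι.residueFieldMap w')), ← Category.assoc, ← hsq, Category.assoc,
      IsIso.hom_inv_id_assoc, ← Category.assoc, hy, ← Category.assoc (Spec.map ((h ⁻¹ᵁ XV).ι.residueFieldMap w')),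
      hwres]
    simp only [Category.assoc, morphismRestrict_ι, morphismRestrict_ι_assoc, XV])
  have hr : Set.range (ε ≫ l) ⊆ Set.range XV.ι := by
    rw [Scheme.Opens.range_ι]
    rintro _ ⟨a, rfl⟩
    show f ((ε ≫ l) a) ∈ V.1
    rw [← Scheme.Hom.comp_apply, Category.assoc, hl₁, IsIso.hom_inv_id_assoc]
    exact (y a).2
  refine ⟨IsOpenImmersion.lift XV.ι (ε ≫ l) hr, ?_, ?_⟩
  · rw [← cancel_mono V.1.ι, Category.assoc, morphismRestrict_ι, ← Category.assoc,
      IsOpenImmersion.lift_fac, Category.assoc, hl₁, IsIso.hom_inv_id_assoc]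
  · rw [← cancel_mono XV.ι, Category.assoc, IsOpenImmersion.lift_fac, ← Category.assoc, hsq, Category.assoc, hl₂,
      ← Category.assoc, hwres, Category.assoc,
      Category.assoc, morphismRestrict_ι]

end Groth.Agent.H7Lim.DvrDense
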