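import Mathlib

/-!
# Finite separable extensions of the residue field at the generic point spread to finite etale algebras
-/

set_option autoImplicit false
set_option linter.style.haveILetI false

universe u

open Polynomial

namespace Groth.Agent.H7Lim.FieldSpread

variable {A K : Type u} [CommRing A] [Field K] [Algebra A K]

/-- A polynomial over the field has an integral multiple. -/
theorem exists_lifts_smul (hfrac : ∀ x : K, ∃ a s : A, algebraMap A K s ≠ 0 ∧ x * algebraMap A K s = algebraMap A K a)
    (Q : K[X]) : ∃ s : A, algebraMap A K s ≠ 0 ∧ C (algebraMap A K s) * Q ∈ lifts (algebraMap A K) := by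
  induction Q using Polynomial.induction_on' with
  | add p q hp hq =>
    obtain ⟨s, hs, hsp⟩ := hp
    obtain ⟨t, ht, htq⟩ := hq
    refine ⟨s * t, by rw [map_mul]; exact mul_ne_zero hs ht, ?_⟩
    rw [map_mul, C_mul, mul_add]
    refine Subsemiring.add_mem _ ?_ ?_
    · rw [mul_comm (C (algebraMap A K s)) (C (algebraMap A K t)), mul_assoc]
      exact Subsemiring.mul_mem _ (C_mem_lifts _ t) hsp
    · rw [mul_assoc]
      exact Subsemiring.mul_mem _ (C_mem_lifts _ s) htq
  | monomial n a =>
    obtain ⟨b, s, hs, hb⟩ := hfrac a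
    refine ⟨s, hs, ?_⟩
    rw [C_mul_monomial, mul_comm, hb]
    exact monomial_mem_lifts n ⟨b, rfl⟩

theorem isNilpotent_of_map_eq_zero (hN : ∀ a : A, algebraMap A K a = 0 → IsNilpotent a) (Q : A[X])
    (h : Q.map (algebraMap A K) = 0) : IsNilpotent Q := by
  rw [Polynomial.isNilpotent_iff]
  intro i
  refine hN _ ?_
  rw [← coeff_map, h, coeff_zero]

/-- A finite separable extension of the residue field spreads to a finite etale algebra over a localization,
with nilradical the kernel of the map to the extension. -/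
theorem exists_etale_spread (L : Type u) [Field L] [Algebra K L] [Algebra A L] [IsScalarTower A K L]
    [FiniteDimensional K L] [Algebra.IsSeparable K L]
    (hN : ∀ a : A, algebraMap A K a = 0 → IsNilpotent a)
    (hfrac : ∀ x : K, ∃ a s : A, algebraMap A K s ≠ 0 ∧ x * algebraMap A K s = algebraMap A K a) :
    ∃ (t : A) (B : Type u) (_ : CommRing B) (_ : Algebra (Localization.Away t) B) (θ : B →+* L),
      algebraMap A K t ≠ 0 ∧ Module.Finite (Localization.Away t) B ∧ Algebra.Etale (Localization.Away t) B ∧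
      Function.Surjective (PrimeSpectrum.comap (algebraMap (Localization.Away t) B)) ∧
      θ.comp ((algebraMap (Localization.Away t) B).comp (algebraMap A (Localization.Away t))) = algebraMap A L ∧
      (∀ b, θ b = 0 → IsNilpotent b) ∧
      ∀ x : L, ∃ b c : B, θ c ≠ 0 ∧ x * θ c = θ b := by
  classical
  obtain ⟨α, hα⟩ := Field.exists_primitive_element K L
  obtain ⟨s, hs, hsm⟩ := exists_lifts_smul hfrac (minpoly K α)
  set n := (minpoly K α).natDegree with hn
  set σs := algebraMap A K s
  set β : L := algebraMap K L σs * α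
  have hβ : IntermediateField.adjoin K {β} = ⊤ := by
    rw [eq_top_iff, ← hα, IntermediateField.adjoin_simple_le_iff]
    have h1 : algebraMap K L σs⁻¹ * β ∈ IntermediateField.adjoin K {β} :=
      mul_mem (IntermediateField.algebraMap_mem _ _) (IntermediateField.mem_adjoin_simple_self K β)
    rwa [show algebraMap K L σs⁻¹ * β = α by
      rw [← mul_assoc, ← map_mul, inv_mul_cancel₀ hs, map_one, one_mul]] at h1
  have hdeg : (minpoly K β).natDegree = n := by
    rw [hn, ← IntermediateField.adjoin.finrank (IsIntegral.of_finite K β),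
      ← IntermediateField.adjoin.finrank (IsIntegral.of_finite K α), hβ, hα]
  have hscale : minpoly K β = (minpoly K α).scaleRoots σs := by
    refine (Polynomial.eq_of_monic_of_dvd_of_natDegree_le (minpoly.monic (IsIntegral.of_finite K β))
      ((Polynomial.monic_scaleRoots_iff σs).2 (minpoly.monic (IsIntegral.of_finite K α)))
      (minpoly.dvd K β (scaleRoots_aeval_eq_zero (minpoly.aeval K α))) ?_).symm
    rw [natDegree_scaleRoots, hdeg]
  have hlift : minpoly K β ∈ lifts (algebraMap A K) := by
    rw [lifts_iff_coeff_lifts]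
    intro i
    rw [hscale, coeff_scaleRoots, ← hn]
    rcases lt_trichotomy i n with hi | hi | hi
    · obtain ⟨j, hj⟩ : ∃ j, n - i = j + 1 := ⟨n - i - 1, by omega⟩
      obtain ⟨c, hc⟩ := (lifts_iff_coeff_lifts _).1 hsm i
      rw [coeff_C_mul] at hc
      exact ⟨c * s ^ j, by rw [map_mul, map_pow, hc, hj, pow_succ]; ring⟩
    · refine ⟨1, ?_⟩
      rw [hi, hn, (minpoly.monic (IsIntegral.of_finite K α)).coeff_natDegree, Nat.sub_self, pow_zero, mul_one,
        map_one]
    · exact ⟨0, by rw [map_zero, coeff_eq_zero_of_natDegree_lt hi, zero_mul]⟩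
  obtain ⟨P, hP, -, hPm⟩ := lifts_and_degree_eq_and_monic hlift (minpoly.monic (IsIntegral.of_finite K β))
  obtain ⟨a, b, hab⟩ := Algebra.IsSeparable.isSeparable K β
  obtain ⟨t₁, ht₁, hta⟩ := exists_lifts_smul hfrac a
  obtain ⟨t₂, ht₂, htb⟩ := exists_lifts_smul hfrac b
  obtain ⟨a', ha'⟩ := (mem_lifts _).1 hta
  obtain ⟨b', hb'⟩ := (mem_lifts _).1 htb
  let t := t₁ * t₂
  have ht : algebraMap A K t ≠ 0 := by rw [map_mul]; exact mul_ne_zero ht₁ ht₂
  let R := Localization.Away t
  let Pt : R[X] := P.map (algebraMap A R)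
  have hnil : IsNilpotent (C t₂ * a' * P + C t₁ * b' * derivative P - C t) := by
    refine isNilpotent_of_map_eq_zero hN _ ?_
    rw [Polynomial.map_sub, Polynomial.map_add, Polynomial.map_mul, Polynomial.map_mul, Polynomial.map_mul,
      Polynomial.map_mul, map_C, map_C, map_C, ← derivative_map, hP, ha', hb', map_mul, C_mul, sub_eq_zero]
    linear_combination (C (algebraMap A K t₁) * C (algebraMap A K t₂)) * hab
  have hcop : IsCoprime Pt (derivative Pt) := by
    have hu : IsUnit ((C t₂ * a' * P + C t₁ * b' * derivative P).map (algebraMap A R)) := by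
      have h1 : IsUnit (C (algebraMap A R t)) := (IsLocalization.Away.algebraMap_isUnit t).map C
      have h2 := (hnil.map (Polynomial.mapRingHom (algebraMap A R))).isUnit_add_left_of_commute h1 (Commute.all _ _)
      rw [Polynomial.coe_mapRingHom, Polynomial.map_sub, map_C, add_sub_cancel] at h2
      exact h2
    obtain ⟨w, hw⟩ := hu.exists_left_inv
    refine ⟨w * (C t₂ * a').map (algebraMap A R), w * (C t₁ * b').map (algebraMap A R), ?_⟩
    rw [← hw, derivative_map]
    simp only [Polynomial.map_mul, Polynomial.map_add]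
    simp only [Pt]
    ring
  have hPtm : Pt.Monic := hPm.map _
  obtain ⟨c₁, c₂, hc⟩ := hcop
  let SP : StandardEtalePair R :=
    { f := Pt, monic_f := hPtm, g := 1, cond := ⟨c₂, c₁, 1, by rw [one_pow, ← hc]; ring⟩ }
  have hunit : IsUnit (algebraMap A K t) := isUnit_iff_ne_zero.2 ht
  let σ : R →+* K := IsLocalization.Away.lift t hunit
  have hσ : σ.comp (algebraMap A R) = algebraMap A K := IsLocalization.Away.lift_comp t hunit
  have hσN : ∀ r : R, σ r = 0 → IsNilpotent r := by
    intro r hr
    obtain ⟨x, y, rfl⟩ := IsLocalization.exists_mk'_eq (Submonoid.powers t) r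
    have h1 : algebraMap A K x = 0 := by
      rw [← hσ, RingHom.comp_apply, ← IsLocalization.mk'_spec R x y, map_mul, hr, zero_mul]
    rw [IsLocalization.mk'_eq_mul_mk'_one]
    exact Commute.isNilpotent_mul_right (Commute.all _ _) ((hN x h1).map (algebraMap A R))
  have hPσ : Pt.map σ = minpoly K β := by rw [Polynomial.map_map, hσ, hP]
  have hroot : Pt.eval₂ ((algebraMap K L).comp σ) β = 0 := by
    rw [← eval₂_map, hPσ]
    exact minpoly.aeval K β
  let θ : AdjoinRoot Pt →+* L := AdjoinRoot.lift ((algebraMap K L).comp σ) β hroot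
  have hθmk : ∀ Q : R[X], θ (AdjoinRoot.mk Pt Q) = aeval β (Q.map σ) := fun Q => by
    rw [AdjoinRoot.lift_mk, aeval_def, eval₂_map]
  haveI : Module.Finite R (AdjoinRoot Pt) := hPtm.finite_adjoinRoot
  refine ⟨t, AdjoinRoot Pt, inferInstance, inferInstance, θ, ht, inferInstance, ?_, ?_, ?_, ?_, ?_⟩
  · have e : SP.Ring ≃ₐ[R] AdjoinRoot Pt :=
      SP.equivAwayAdjoinRoot.trans ((IsLocalization.atUnit (AdjoinRoot Pt)
        (Localization.Away (AdjoinRoot.mk Pt (1 : R[X]))) (AdjoinRoot.mk Pt (1 : R[X]))
        (by rw [map_one]; exact isUnit_one)).symm.restrictScalars R)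
    exact Algebra.Etale.of_equiv e
  · haveI : Module.Free R (AdjoinRoot Pt) := Module.Free.of_basis (AdjoinRoot.powerBasis' hPtm).basis
    have hinj : Function.Injective (algebraMap R (AdjoinRoot Pt)) := by
      rcases subsingleton_or_nontrivial R with hR | hR
      · exact fun x y _ => Subsingleton.elim x y
      rw [injective_iff_map_eq_zero]
      intro r hr
      have hdvd : Pt ∣ C r := AdjoinRoot.mk_eq_zero.1 hr
      have hd : 0 < Pt.natDegree := by
        have h1 : (minpoly K β).natDegree = Pt.natDegree := by rw [← hPσ, hPtm.natDegree_map]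
        rw [← h1]
        exact minpoly.natDegree_pos (IsIntegral.of_finite K β)
      rw [← (modByMonic_eq_zero_iff_dvd hPtm), (modByMonic_eq_self_iff hPtm).2] at hdvd
      · exact C_eq_zero.1 hdvd
      · exact lt_of_le_of_lt degree_C_le (natDegree_pos_iff_degree_pos.1 hd)
    exact RingHom.IsIntegral.comap_surjective (f := algebraMap R (AdjoinRoot Pt))
      (algebraMap_isIntegral_iff.2 inferInstance) hinj
  · refine RingHom.ext fun x => ?_
    show θ (AdjoinRoot.of Pt (algebraMap A R x)) = _
    rw [AdjoinRoot.lift_of, RingHom.comp_apply, ← RingHom.comp_apply σ, hσ, ← IsScalarTower.algebraMap_apply]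
  · intro x hx
    obtain ⟨Q, rfl⟩ := AdjoinRoot.mk_surjective x
    rw [hθmk] at hx
    have hQ : (Q %ₘ Pt).map σ = 0 := by
      rw [map_modByMonic _ hPtm, hPσ]
      exact (modByMonic_eq_zero_iff_dvd (minpoly.monic (IsIntegral.of_finite K β))).2 (minpoly.dvd K β hx)
    have hmk : AdjoinRoot.mk Pt Q = AdjoinRoot.mk Pt (Q %ₘ Pt) :=
      AdjoinRoot.mk_eq_mk.2 ⟨Q /ₘ Pt, by rw [sub_eq_iff_eq_add, add_comm]; exact (modByMonic_add_div Q Pt).symm⟩
    rw [hmk]
    refine IsNilpotent.map ?_ _
    rw [Polynomial.isNilpotent_iff]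
    intro i
    refine hσN _ ?_
    rw [← coeff_map, hQ, coeff_zero]
  · intro x
    have hx : x ∈ Algebra.adjoin K ({β} : Set L) := by
      rw [← IntermediateField.adjoin_simple_toSubalgebra_of_isAlgebraic (Algebra.IsAlgebraic.isAlgebraic β), hβ]
      trivial
    obtain ⟨Q, rfl⟩ := Algebra.adjoin_singleton_eq_range_aeval K β ▸ hx
    obtain ⟨d, hd, hdQ⟩ := exists_lifts_smul hfrac Q
    obtain ⟨Q', hQ'⟩ := (mem_lifts _).1 hdQ
    refine ⟨AdjoinRoot.mk Pt (Q'.map (algebraMap A R)), AdjoinRoot.of Pt (algebraMap A R d), ?_, ?_⟩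
    · rw [AdjoinRoot.lift_of, RingHom.comp_apply, ← RingHom.comp_apply σ, hσ]
      exact (map_ne_zero (algebraMap K L)).2 hd
    · rw [AdjoinRoot.lift_of, RingHom.comp_apply, ← RingHom.comp_apply σ, hσ, hθmk, Polynomial.map_map, hσ,
        hQ', map_mul, aeval_C, mul_comm]
      rfl

end Groth.Agent.H7Lim.FieldSpread
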