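import Groth.Agent.H7Lim.GeomComponents
import Groth.Agent.H7Lim.FieldSpread
import Mathlib.AlgebraicGeometry.Morphisms.Etale

/-!
# Geometrically irreducible generic fibre components after a finite etale base change
-/

set_option autoImplicit false
set_option linter.style.haveILetI false
set_option backward.isDefEq.respectTransparency false

universe u

open CategoryTheory Limits AlgebraicGeometry TopologicalSpace IsLocalRing

namespace Groth.Agent.H7Lim.EtaleGenFibre

theorem exists_fraction {A : Type u} [CommRing A] (p : Ideal A) [p.IsPrime] (x : p.ResidueField) :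
    ∃ a s : A, algebraMap A p.ResidueField s ≠ 0 ∧
      x * algebraMap A p.ResidueField s = algebraMap A p.ResidueField a := by
  obtain ⟨y, rfl⟩ := IsLocalRing.residue_surjective (R := Localization.AtPrime p) x
  obtain ⟨a, b, rfl⟩ := IsLocalization.exists_mk'_eq p.primeCompl y
  refine ⟨a, b, fun h0 => b.2 (by rwa [← RingHom.mem_ker, Ideal.ker_algebraMap_residueField] at h0), ?_⟩
  rw [IsScalarTower.algebraMap_apply A (Localization.AtPrime p) p.ResidueField,
    IsScalarTower.algebraMap_apply A (Localization.AtPrime p) p.ResidueField]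
  show IsLocalRing.residue _ _ * IsLocalRing.residue _ _ = IsLocalRing.residue _ _
  rw [← map_mul, IsLocalization.mk'_spec]

theorem preimage_mem_irreducibleComponents {P Q : Scheme.{u}} (e : P ⟶ Q) [IsIso e] {Z : Set Q}
    (hZ : Z ∈ irreducibleComponents Q) : e ⁻¹' Z ∈ irreducibleComponents P := by
  let E := Scheme.Hom.homeomorph e
  have h1 : IsIrreducible (e ⁻¹' Z) := by
    have := hZ.1.image E.symm E.symm.continuous.continuousOn
    rwa [E.image_symm] at this
  refine ⟨h1, fun T hT hle x hx => ?_⟩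
  have h2 : Z ⊆ E '' T := fun z hz => ⟨E.symm z, hle (show e (E.symm z) ∈ Z from (E.apply_symm_apply z).symm ▸ hz),
    E.apply_symm_apply z⟩
  exact hZ.2 (hT.image E E.continuous.continuousOn) h2 ⟨x, hx, rfl⟩

/-- Finite etale base change making the components of the generic fibre geometrically irreducible. -/
theorem exists_base_change {X Y : Scheme.{u}} (f : X ⟶ Y) [IrreducibleSpace ↑Y] [LocallyOfFiniteType f]
    [QuasiCompact f] :
    ∃ (V : Y.Opens) (Y' : Scheme.{u}) (g : Y' ⟶ (V : Scheme.{u})) (hY' : IrreducibleSpace ↑Y'),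
      (V : Set ↑Y).Nonempty ∧ IsAffine Y' ∧ Surjective g ∧ IsFinite g ∧ Etale g ∧
      ∀ (Z : Set ↑((pullback.snd f (g ≫ V.ι)).fiber (genericPoint ↑Y')))
        (hZ : Z ∈ irreducibleComponents ↑((pullback.snd f (g ≫ V.ι)).fiber (genericPoint ↑Y'))),
        GeometricallyIrreducible ((Scheme.IdealSheafData.vanishingIdeal
            (⟨Z, isClosed_of_mem_irreducibleComponents Z hZ⟩ : TopologicalSpace.Closeds _)).subschemeι ≫
          (pullback.snd f (g ≫ V.ι)).fiberToSpecResidueField (genericPoint ↑Y')) := by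
  obtain ⟨_, ⟨W', hW', rfl⟩, hηW, -⟩ :=
    Y.isBasis_affineOpens.exists_subset_of_mem_open (Set.mem_univ (genericPoint Y)) isOpen_univ
  let W : Y.Opens := W'
  have hW : IsAffineOpen W := hW'
  let p : Ideal Γ(Y, W) := (hW.primeIdealOf ⟨genericPoint Y, hηW⟩).asIdeal
  haveI : p.IsPrime := (hW.primeIdealOf ⟨genericPoint Y, hηW⟩).2
  have hN : ∀ a : Γ(Y, W), algebraMap Γ(Y, W) p.ResidueField a = 0 → IsNilpotent a := by
    intro a ha
    rw [← mem_nilradical, nilradical_eq_sInf, Submodule.mem_sInf]
    intro q (hq : Ideal.IsPrime q)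
    rw [← RingHom.mem_ker, Ideal.ker_algebraMap_residueField] at ha
    refine (PrimeSpectrum.le_iff_specializes (hW.primeIdealOf ⟨genericPoint Y, hηW⟩) ⟨q, hq⟩).2
      (hW.fromSpec.isEmbedding.specializes_iff.1 ?_) ha
    rw [hW.fromSpec_primeIdealOf]
    exact genericPoint_specializes _
  let ψ : Spec (CommRingCat.of p.ResidueField) ⟶ Y :=
    Spec.map (CommRingCat.ofHom (algebraMap Γ(Y, W) p.ResidueField)) ≫ hW.fromSpec
  haveI : IsLocallyNoetherian (pullback f ψ) := LocallyOfFiniteType.isLocallyNoetherian (pullback.snd f ψ)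
  haveI : CompactSpace ↥(pullback f ψ) := QuasiCompact.compactSpace_of_compactSpace (pullback.snd f ψ)
  haveI : IsNoetherian (pullback f ψ) := {}
  haveI : Finite ↥(irreducibleComponents ↥(pullback f ψ)) :=
    (NoetherianSpace.finite_irreducibleComponents (α := ↥(pullback f ψ))).to_subtype
  obtain ⟨L, _, _, _, _, hL⟩ := GeomComponents.exists_separable_components (pullback.snd f ψ)
  letI : Algebra Γ(Y, W) L := ((algebraMap p.ResidueField L).comp (algebraMap Γ(Y, W) p.ResidueField)).toAlgebra
  haveI : IsScalarTower Γ(Y, W) p.ResidueField L := .of_algebraMap_eq fun _ => rfl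
  obtain ⟨t, B, _, _, θ, ht, hfin, het, hsurj, hθ, hθN, hθfrac⟩ :=
    FieldSpread.exists_etale_spread (A := Γ(Y, W)) (K := p.ResidueField) L hN (exists_fraction p)
  let ρ : CommRingCat.of Γ(Y, W) ⟶ CommRingCat.of (Localization.Away t) :=
    CommRingCat.ofHom (algebraMap Γ(Y, W) (Localization.Away t))
  let V : Y.Opens := Y.basicOpen t
  let c : Spec (CommRingCat.of (Localization.Away t)) ⟶ Y := Spec.map ρ ≫ hW.fromSpec
  haveI : IsOpenImmersion (Spec.map ρ) := IsOpenImmersion.of_isLocalization t
  have hcr : Set.range c = Set.range V.ι := by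
    rw [Scheme.Opens.range_ι, Scheme.Hom.comp_base, TopCat.coe_comp, Set.range_comp,
      show Set.range (Spec.map ρ) = (PrimeSpectrum.basicOpen t : Set (PrimeSpectrum Γ(Y, W))) from
        PrimeSpectrum.localization_away_comap_range (Localization.Away t) t]
    exact congrArg ((↑) : Y.Opens → Set Y) (hW.fromSpec_image_basicOpen t)
  let ε := IsOpenImmersion.isoOfRangeEq c V.ι hcr
  let β : Spec (CommRingCat.of B) ⟶ Spec (CommRingCat.of (Localization.Away t)) :=
    Spec.map (CommRingCat.ofHom (algebraMap (Localization.Away t) B))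
  let g : Spec (CommRingCat.of B) ⟶ V.toScheme := β ≫ ε.hom
  have hg : g ≫ V.ι = β ≫ Spec.map ρ ≫ hW.fromSpec := by
    rw [Category.assoc, IsOpenImmersion.isoOfRangeEq_hom_fac]
  haveI : IsFinite β := (IsFinite.SpecMap_iff _).2 (RingHom.finite_algebraMap.2 hfin)
  haveI : Etale β := (HasRingHomProperty.Spec_iff (P := @Etale)).2 (RingHom.etale_algebraMap.2 het)
  haveI : Surjective β := ⟨hsurj⟩
  haveI hker : (RingHom.ker θ).IsPrime := RingHom.ker_isPrime θ
  let η' : Spec (CommRingCat.of B) := ⟨RingHom.ker θ, hker⟩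
  have hgp : IsGenericPoint η' (Set.univ : Set (Spec (CommRingCat.of B))) := by
    refine isGenericPoint_def.2 (Set.eq_univ_of_forall fun q => ?_)
    rw [← specializes_iff_mem_closure]
    exact (PrimeSpectrum.le_iff_specializes η' q).1 fun b hb =>
      nilradical_le_prime q.asIdeal (mem_nilradical.2 (hθN b hb))
  haveI hY' : IrreducibleSpace ↥(Spec (CommRingCat.of B)) :=
    (irreducibleSpace_def _).2 (hgp.def ▸ isIrreducible_singleton.closure :
      IsIrreducible (Set.univ : Set (Spec (CommRingCat.of B))))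
  refine ⟨V, Spec (CommRingCat.of B), g, hY', ?_, inferInstance, inferInstance, inferInstance, inferInstance, ?_⟩
  · refine ⟨genericPoint Y, ?_⟩
    have h1 : hW.primeIdealOf ⟨genericPoint Y, hηW⟩ ∈ hW.fromSpec ⁻¹ᵁ Y.basicOpen t := by
      rw [hW.fromSpec_preimage_basicOpen]
      exact fun h0 => ht (by rw [← RingHom.mem_ker, Ideal.ker_algebraMap_residueField]; exact h0)
    have h2 : hW.fromSpec (hW.primeIdealOf ⟨genericPoint Y, hηW⟩) ∈ (V : Set Y) := h1
    rw [hW.fromSpec_primeIdealOf] at h2
    exact h2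
  have hη' : genericPoint ↥(Spec (CommRingCat.of B)) = η' := ((genericPoint_spec _).eq hgp)
  rw [hη']
  intro Z hZ
  let h := g ≫ V.ι
  let q := pullback.snd f h
  let θS : Spec (CommRingCat.of L) ⟶ Spec (CommRingCat.of B) := Spec.map (CommRingCat.ofHom θ)
  obtain ⟨φ, hφ⟩ : ∃ φ : (Spec (CommRingCat.of B)).residueField η' ⟶ CommRingCat.of L,
      θS = Spec.map φ ≫ (Spec (CommRingCat.of B)).fromSpecResidueField η' := by
    obtain ⟨y, α, hα⟩ : ∃ (y : Spec (CommRingCat.of B))
        (α : (Spec (CommRingCat.of B)).residueField y ⟶ CommRingCat.of L),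
        θS = Spec.map α ≫ (Spec (CommRingCat.of B)).fromSpecResidueField y :=
      ⟨_, _, ((Scheme.SpecToEquivOfField L _).symm_apply_apply θS).symm⟩
    have hy : y = η' := by
      have h1 : θS (closedPoint L) = y := by
        rw [hα, Scheme.Hom.comp_apply]
        exact Scheme.fromSpecResidueField_apply y _
      refine h1.symm.trans (PrimeSpectrum.ext ?_)
      show (IsLocalRing.maximalIdeal L).comap θ = RingHom.ker θ
      rw [IsLocalRing.maximalIdeal_eq_bot]
      rfl
    subst hy
    exact ⟨α, hα⟩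
  haveI : IsIso φ := by
    refine (ConcreteCategory.isIso_iff_bijective φ).2 ⟨φ.hom.injective, fun x => ?_⟩
    obtain ⟨ev, hev⟩ := Spec.map_surjective ((Spec (CommRingCat.of B)).fromSpecResidueField η')
    have hθev : CommRingCat.ofHom θ = ev ≫ φ := Spec.map_injective (by rw [Spec.map_comp, hev]; exact hφ)
    have hb : ∀ b, θ b = φ.hom (ev.hom b) := fun b => congrArg (fun m => m.hom b) hθev
    obtain ⟨b, c', hc, hx⟩ := hθfrac x
    refine ⟨ev.hom b / ev.hom c', ?_⟩
    show φ.hom _ = x
    rw [map_div₀, ← hb, ← hb, ← hx, mul_div_assoc, div_self hc, mul_one]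
  let φS := Spec.map φ
  let kl : Spec (CommRingCat.of L) ⟶ Spec (CommRingCat.of p.ResidueField) :=
    Spec.map (CommRingCat.ofHom (algebraMap p.ResidueField L))
  have hbase : kl ≫ ψ = θS ≫ h := by
    show Spec.map _ ≫ Spec.map _ ≫ hW.fromSpec = Spec.map _ ≫ g ≫ V.ι
    rw [hg, ← Spec.map_comp_assoc, ← Spec.map_comp_assoc, ← Spec.map_comp_assoc]
    congr 2
    refine CommRingCat.hom_ext ?_
    exact hθ.symm
  let P := FBase.bc (pullback.snd f ψ) L
  let m : P ⟶ pullback f h := pullback.lift (pullback.fst (pullback.snd f ψ) kl ≫ pullback.fst f ψ)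
    (pullback.snd (pullback.snd f ψ) kl ≫ θS) (by
      rw [Category.assoc, pullback.condition, ← Category.assoc, pullback.condition, Category.assoc, hbase,
        Category.assoc])
  let e : P ⟶ q.fiber η' := pullback.lift m (FBase.bcStr (pullback.snd f ψ) L ≫ φS) (by
    rw [pullback.lift_snd, Category.assoc, ← hφ]
    rfl)
  have hsq : IsPullback e (FBase.bcStr (pullback.snd f ψ) L) (q.fiberToSpecResidueField η') φS := by
    refine IsPullback.of_right (h₁₂ := q.fiberι η' ≫ pullback.fst f h)
      (h₂₂ := (Spec (CommRingCat.of B)).fromSpecResidueField η' ≫ h) (v₁₃ := f) ?_ (pullback.lift_snd _ _ _)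
      ((IsPullback.of_hasPullback q ((Spec (CommRingCat.of B)).fromSpecResidueField η')).paste_horiz
        (IsPullback.of_hasPullback f h))
    rw [← Category.assoc e, show e ≫ q.fiberι η' = m from pullback.lift_fst _ _ _, pullback.lift_fst,
      ← Category.assoc φS, ← hφ, ← hbase]
    exact (IsPullback.of_hasPullback (pullback.snd f ψ) kl).paste_horiz (IsPullback.of_hasPullback f ψ)
  haveI : IsIso e := MorphismProperty.of_isPullback (P := MorphismProperty.isomorphisms Scheme) hsq.flip
    (inferInstanceAs (IsIso φS))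
  have hT := preimage_mem_irreducibleComponents e hZ
  let IT := Scheme.IdealSheafData.vanishingIdeal
    (⟨e ⁻¹' Z, isClosed_of_mem_irreducibleComponents _ hT⟩ : Closeds ↥P)
  let IZ := Scheme.IdealSheafData.vanishingIdeal
    (⟨Z, isClosed_of_mem_irreducibleComponents Z hZ⟩ : Closeds ↥(q.fiber η'))
  haveI : IsReduced IT.subscheme := H17.isReduced_vanishingIdeal_subscheme _
  haveI : IsReduced IZ.subscheme := H17.isReduced_vanishingIdeal_subscheme _
  have hr : Set.range (IT.subschemeι ≫ e) = Set.range IZ.subschemeι := by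
    rw [Scheme.Hom.comp_base, TopCat.coe_comp, Set.range_comp, H17.range_vanishingIdeal_subschemeι,
      H17.range_vanishingIdeal_subschemeι]
    exact Set.image_preimage_eq _ (Scheme.Hom.homeomorph e).surjective
  obtain ⟨d, hd⟩ := H17.exists_iso_of_range_eq (IT.subschemeι ≫ e) IZ.subschemeι hr
  have h1 : GeometricallyIrreducible ((IT.subschemeι ≫ FBase.bcStr (pullback.snd f ψ) L) ≫ φS) :=
    (MorphismProperty.cancel_right_of_respectsIso (P := @GeometricallyIrreducible) _ φS).2 (hL _ hT)
  rw [Category.assoc, ← hsq.w, ← Category.assoc, ← hd, Category.assoc] at h1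
  exact (MorphismProperty.cancel_left_of_respectsIso (P := @GeometricallyIrreducible) d.hom _).1 h1

end Groth.Agent.H7Lim.EtaleGenFibre
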