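import Mathlib.AlgebraicGeometry.Morphisms.Finite
import Mathlib.AlgebraicGeometry.Morphisms.FinitePresentation
import Mathlib.RingTheory.RingHom.FinitePresentation

/-!
# Morphisms that are finite and locally of finite presentation over an open of the base
-/

set_option autoImplicit false
set_option linter.style.haveILetI false
set_option backward.isDefEq.respectTransparency false

universe u

open CategoryTheory AlgebraicGeometry TopologicalSpace

namespace Groth.Agent.H7Lim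

variable {X Y S : Scheme.{u}}

/-- Finite and locally of finite presentation. -/
def finFp : MorphismProperty Scheme.{u} := fun _ _ f => IsFinite f ∧ LocallyOfFinitePresentation f

theorem finFp_iff (f : X ⟶ Y) : finFp f ↔ IsFinite f ∧ LocallyOfFinitePresentation f := Iff.rfl

instance : finFp.{u}.RespectsIso :=
  MorphismProperty.RespectsIso.mk _
    (fun e f hf => ⟨(MorphismProperty.cancel_left_of_respectsIso @IsFinite e.hom f).2 hf.1,
      (MorphismProperty.cancel_left_of_respectsIso @LocallyOfFinitePresentation e.hom f).2 hf.2⟩)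
    (fun e f hf => ⟨(MorphismProperty.cancel_right_of_respectsIso @IsFinite f e.hom).2 hf.1,
      (MorphismProperty.cancel_right_of_respectsIso @LocallyOfFinitePresentation f e.hom).2 hf.2⟩)

/-- `f` is finite and locally of finite presentation over `U`. -/
def FinFpOver (f : X ⟶ Y) (U : Y.Opens) : Prop := finFp (f ∣_ U)

theorem finFpOver_of_finFp (f : X ⟶ Y) (hf : finFp f) (U : Y.Opens) : FinFpOver f U :=
  ⟨IsZariskiLocalAtTarget.restrict hf.1 U, IsZariskiLocalAtTarget.restrict hf.2 U⟩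

theorem finFpOver_top (f : X ⟶ Y) : FinFpOver f ⊤ ↔ finFp f := by
  haveI : IsIso (f ⁻¹ᵁ (⊤ : Y.Opens)).ι := X.topIso.isIso_hom
  haveI : IsIso (⊤ : Y.Opens).ι := Y.topIso.isIso_hom
  unfold FinFpOver
  rw [← MorphismProperty.cancel_right_of_respectsIso finFp _ (⊤ : Y.Opens).ι, morphismRestrict_ι,
    MorphismProperty.cancel_left_of_respectsIso finFp]

theorem finFpOver_mono {f : X ⟶ Y} {U V : Y.Opens} (h : FinFpOver f U) (hVU : V ≤ U) :
    FinFpOver f V := by
  have h1 : FinFpOver f (U.ι ''ᵁ (U.ι ⁻¹ᵁ V)) :=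
    (finFp.arrow_mk_iso_iff (morphismRestrictRestrict f U (U.ι ⁻¹ᵁ V))).1
      (finFpOver_of_finFp _ h _)
  rwa [show U.ι ''ᵁ (U.ι ⁻¹ᵁ V) = V by
    rw [Scheme.Hom.image_preimage_eq_opensRange_inf, Scheme.Opens.opensRange_ι, inf_eq_right.2 hVU]] at h1

/-- Locality on the base. -/
theorem finFpOver_sup {f : X ⟶ Y} {U V : Y.Opens} (hU : FinFpOver f U) (hV : FinFpOver f V) :
    FinFpOver f (U ⊔ V) := by
  let W : ULift.{u} Bool → (U ⊔ V).toScheme.Opens := fun b => (U ⊔ V).ι ⁻¹ᵁ (if b.down then U else V)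
  have hW : iSup W = ⊤ := by
    refine top_le_iff.1 fun x _ => Opens.mem_iSup.2 ?_
    rcases x.2 with hx | hx
    · exact ⟨⟨true⟩, hx⟩
    · exact ⟨⟨false⟩, hx⟩
  have key : ∀ b, finFp ((f ∣_ (U ⊔ V)) ∣_ W b) := by
    intro b
    refine (finFp.arrow_mk_iso_iff (morphismRestrictRestrict f _ _)).2 ?_
    have hle : (U ⊔ V).ι ''ᵁ W b ≤ (if b.down then U else V) := by
      rw [Scheme.Hom.image_preimage_eq_opensRange_inf]; exact inf_le_right
    rcases b with ⟨_ | _⟩
    · exact finFpOver_mono hV hle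
    · exact finFpOver_mono hU hle
  exact ⟨IsZariskiLocalAtTarget.of_iSup_eq_top W hW fun b => (key b).1,
    IsZariskiLocalAtTarget.of_iSup_eq_top W hW fun b => (key b).2⟩

theorem finFpOver_congr_comp {f : X ⟶ Y} {i : S ⟶ X} [IsOpenImmersion i] {U : Y.Opens}
    (h : f ⁻¹ᵁ U ≤ i.opensRange) : FinFpOver (i ≫ f) U ↔ FinFpOver f U := by
  unfold FinFpOver
  haveI : Surjective (i ∣_ (f ⁻¹ᵁ U)) := ⟨fun x => by
    obtain ⟨y, hy⟩ := h x.2
    exact ⟨⟨y, by show i y ∈ f ⁻¹ᵁ U; rw [hy]; exact x.2⟩, Subtype.ext ((morphismRestrict_base_coe _ _ _).trans hy)⟩⟩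
  haveI : IsIso (i ∣_ (f ⁻¹ᵁ U)) := by
    haveI : Epi (i ∣_ (f ⁻¹ᵁ U)).base := ConcreteCategory.epi_of_surjective _ (Scheme.Hom.surjective _)
    exact (isIso_iff_isOpenImmersion_and_epi_base _).2 ⟨inferInstance, inferInstance⟩
  rw [morphismRestrict_comp]
  exact MorphismProperty.cancel_left_of_respectsIso finFp _ _

theorem finFpOver_comp_openImm {T : Scheme.{u}} (f : X ⟶ Y) (ι : Y ⟶ T) [IsOpenImmersion ι] (O : Y.Opens) :
    FinFpOver (f ≫ ι) (ι ''ᵁ O) ↔ FinFpOver f O := by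
  unfold FinFpOver
  haveI : Surjective (ι ∣_ (ι ''ᵁ O)) := ⟨fun x => by
    obtain ⟨y, hy, hyx⟩ := x.2
    exact ⟨⟨y, ⟨y, hy, rfl⟩⟩, Subtype.ext ((morphismRestrict_base_coe _ _ _).trans hyx)⟩⟩
  haveI : IsIso (ι ∣_ (ι ''ᵁ O)) := by
    haveI : Epi (ι ∣_ (ι ''ᵁ O)).base := ConcreteCategory.epi_of_surjective _ (Scheme.Hom.surjective _)
    exact (isIso_iff_isOpenImmersion_and_epi_base _).2 ⟨inferInstance, inferInstance⟩
  rw [morphismRestrict_comp]
  refine (MorphismProperty.cancel_right_of_respectsIso finFp _ _).trans ?_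
  exact finFp.arrow_mk_iso_iff (morphismRestrictEq f (Scheme.Hom.preimage_image_eq ι O))

theorem finFpOver_iff_of_comp_ι {U : Y.Opens} (g : X ⟶ U) : FinFpOver (g ≫ U.ι) U ↔ finFp g := by
  rw [← finFpOver_top g, ← finFpOver_comp_openImm g U.ι ⊤]
  rw [Scheme.Hom.image_top_eq_opensRange, Scheme.Opens.opensRange_ι]

/-- Sections over an affine open inside the open. -/
theorem FinFpOver.app {f : X ⟶ Y} {U : Y.Opens} (h : FinFpOver f U) {D : Y.Opens}
    (hD : IsAffineOpen D) (hDU : D ≤ U) :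
    IsAffineOpen (f ⁻¹ᵁ D) ∧ (f.app D).hom.Finite ∧ (f.app D).hom.FinitePresentation := by
  obtain ⟨hfin, hfp⟩ := finFpOver_mono h hDU
  haveI : IsAffine D := hD
  haveI := hfin
  haveI := hfp
  have haff : IsAffineOpen (f ⁻¹ᵁ D) := isAffine_of_isAffineHom (f ∣_ D)
  haveI : IsAffine (f ⁻¹ᵁ D).toScheme := haff
  have h1 : (f ∣_ D).appTop.hom.Finite := Scheme.Hom.finite_appTop _
  have h2 : (f ∣_ D).appTop.hom.FinitePresentation :=
    (HasRingHomProperty.iff_of_isAffine (P := @LocallyOfFinitePresentation)).1 hfp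
  have e : D.ι ''ᵁ ⊤ = D := by rw [Scheme.Hom.image_top_eq_opensRange, Scheme.Opens.opensRange_ι]
  rw [morphismRestrict_appTop, CommRingCat.hom_comp,
    RingHom.finite_respectsIso.cancel_right_isIso] at h1
  rw [morphismRestrict_appTop, CommRingCat.hom_comp,
    RingHom.finitePresentation_respectsIso.cancel_right_isIso] at h2
  have key : ∀ E : Y.Opens, E = D → (f.app E).hom.Finite → (f.app E).hom.FinitePresentation →
      (f.app D).hom.Finite ∧ (f.app D).hom.FinitePresentation := fun E h a b => by subst h; exact ⟨a, b⟩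
  exact ⟨haff, key _ e h1 h2⟩

end Groth.Agent.H7Lim
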