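import Groth.Agent.H7Lim.ExtendAlgebra
import Groth.Agent.H7Lim.FinFp
import Mathlib.AlgebraicGeometry.Morphisms.Integral
import Mathlib.RingTheory.Localization.Integral
import Mathlib.RingTheory.RingHom.Integral
import Mathlib.AlgebraicGeometry.Morphisms.QuasiSeparated

/-!
# Extending a finite finitely presented scheme from a quasi-compact open of an affine scheme
-/

set_option autoImplicit false
set_option backward.isDefEq.respectTransparency false
set_option linter.style.haveILetI false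

universe u

open CategoryTheory AlgebraicGeometry TopologicalSpace

namespace Groth.Agent.H7Lim

theorem hint_hfp_of_localization {R M : Type u} [CommRing R] [CommRing M] [Algebra R M] (g : R)
    (Rg Mg : Type u) [CommRing Rg] [CommRing Mg] [Algebra R Rg] [IsLocalization.Away g Rg]
    [Algebra M Mg] [IsLocalization.Away (algebraMap R M g) Mg] (h : Rg →+* Mg)
    (hh : ∀ r, h (algebraMap R Rg r) = algebraMap M Mg (algebraMap R M r))
    (hfin : h.Finite) (hfp : h.FinitePresentation) :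
    (∀ z : Localization.Away (algebraMap R M g), ∃ e : ℕ, IsIntegral R (g ^ e • z)) ∧
      Algebra.FinitePresentation R (Localization.Away (algebraMap R M g)) := by
  letI : Algebra Rg Mg := h.toAlgebra
  letI : Algebra R Mg := ((algebraMap M Mg).comp (algebraMap R M)).toAlgebra
  haveI : IsScalarTower R M Mg := IsScalarTower.of_algebraMap_eq fun _ => rfl
  haveI : IsScalarTower R Rg Mg := IsScalarTower.of_algebraMap_eq fun r => (hh r).symm
  haveI : Module.Finite Rg Mg := hfin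
  haveI : Algebra.FinitePresentation Rg Mg := hfp
  haveI : Algebra.FinitePresentation R Rg := IsLocalization.Away.finitePresentation g
  haveI : Algebra.FinitePresentation R Mg := Algebra.FinitePresentation.trans R Rg Mg
  let e : Localization.Away (algebraMap R M g) ≃ₐ[R] Mg :=
    (IsLocalization.algEquiv (Submonoid.powers (algebraMap R M g)) _ Mg).restrictScalars R
  refine ⟨fun z => ?_, Algebra.FinitePresentation.equiv e.symm⟩
  obtain ⟨⟨_, n, rfl⟩, hn⟩ := IsIntegral.exists_multiple_integral_of_isLocalization (R := R)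
    (Submonoid.powers g) (e z) (Algebra.IsIntegral.isIntegral (R := Rg) (e z))
  refine ⟨n, ?_⟩
  have h1 := hn.map e.symm.toAlgHom
  simpa [Submonoid.smul_def] using h1

theorem bijective_of_localization {C M : Type u} [CommRing C] [CommRing M] (φ : C →+* M) (c : C) (m : M)
    (Cg Mg : Type u) [CommRing Cg] [CommRing Mg] [Algebra C Cg] [IsLocalization.Away c Cg]
    [Algebra M Mg] [IsLocalization.Away m Mg]
    (e : Localization.Away c ≃+* Localization.Away m)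
    (he : ∀ x, e (algebraMap C _ x) = algebraMap M _ (φ x))
    (h : Cg →+* Mg) (hh : ∀ x, h (algebraMap C Cg x) = algebraMap M Mg (φ x)) :
    Function.Bijective h := by
  let eC : Cg ≃+* Localization.Away c := (IsLocalization.algEquiv (Submonoid.powers c) _ _).toRingEquiv
  let eM : Localization.Away m ≃+* Mg := (IsLocalization.algEquiv (Submonoid.powers m) _ _).toRingEquiv
  have : h = ((eC.trans e).trans eM).toRingHom := by
    refine IsLocalization.ringHom_ext (Submonoid.powers c) (RingHom.ext fun x => ?_)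
    show h (algebraMap C Cg x) = eM (e (eC (algebraMap C Cg x)))
    rw [hh, show eC (algebraMap C Cg x) = algebraMap C (Localization.Away c) x from AlgEquiv.commutes _ x, he]
    exact (AlgEquiv.commutes _ (φ x)).symm
  rw [this]
  exact ((eC.trans e).trans eM).bijective

theorem exists_basicOpen_cover {T : Scheme.{u}} [IsAffine T] (O : T.Opens) (hO : IsCompact (O : Set T)) :
    ∃ s : Finset Γ(T, ⊤), O = ⨆ g : s, T.basicOpen g.1 := by
  have hsub : (O : Set T) ⊆ ⋃ g : {g : Γ(T, ⊤) // T.basicOpen g ≤ O}, (T.basicOpen g.1 : Set T) := by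
    intro x hx
    obtain ⟨g, hg, hxg⟩ := (isAffineOpen_top T).exists_basicOpen_le ⟨x, hx⟩ (Set.mem_univ x)
    exact Set.mem_iUnion.2 ⟨⟨g, hg⟩, hxg⟩
  obtain ⟨t, ht⟩ := hO.elim_finite_subcover
    (fun g : {g : Γ(T, ⊤) // T.basicOpen g ≤ O} => (T.basicOpen g.1 : Set T)) (fun g => (T.basicOpen g.1).2) hsub
  classical
  refine ⟨t.image Subtype.val, le_antisymm (fun x hx => ?_) (iSup_le ?_)⟩
  · obtain ⟨g, hg, hxg⟩ := Set.mem_iUnion₂.1 (ht hx)
    exact Opens.mem_iSup.2 ⟨⟨g.1, Finset.mem_image_of_mem _ hg⟩, hxg⟩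
  · rintro ⟨g, hg⟩
    obtain ⟨g, -, rfl⟩ := Finset.mem_image.1 hg
    exact g.2

theorem isCompact_of_range_subset {X Y : Scheme.{u}} [QuasiSeparatedSpace X] {q : Y ⟶ X} {O : X.Opens}
    (hq : FinFpOver q O) (hrange : q ⁻¹ᵁ O = ⊤) (hO : IsCompact (O : Set X)) :
    CompactSpace Y ∧ QuasiSeparatedSpace Y := by
  haveI : IsFinite (q ∣_ O) := hq.1
  haveI : CompactSpace O.toScheme := isCompact_iff_compactSpace.1 hO
  haveI : QuasiSeparatedSpace O.toScheme := quasiSeparatedSpace_of_quasiSeparated O.ι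
  haveI := QuasiCompact.compactSpace_of_compactSpace (q ∣_ O)
  haveI := quasiSeparatedSpace_of_quasiSeparated (q ∣_ O)
  let e : (q ⁻¹ᵁ O).toScheme ≅ Y := Scheme.isoOfEq _ hrange ≪≫ Y.topIso
  exact ⟨e.hom.homeomorph.compactSpace, quasiSeparatedSpace_of_quasiSeparated e.inv⟩

/-- The affine case of the extension step. -/
theorem exists_extension_affine {T Yo XV : Scheme.{u}} [IsAffine T] (O : T.Opens)
    (hO : IsCompact (O : Set T)) (q : Yo ⟶ T) (hq : FinFpOver q O) (hrange : q ⁻¹ᵁ O = ⊤)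
    (fV : XV ⟶ T) [IsIntegralHom fV] (ao : (fV ⁻¹ᵁ O).toScheme ⟶ Yo)
    (hao : ao ≫ q = (fV ⁻¹ᵁ O).ι ≫ fV) :
    ∃ (P : Scheme.{u}) (p : P ⟶ T) (j : Yo ⟶ P) (a : XV ⟶ P), finFp p ∧ IsOpenImmersion j ∧
      Set.range j = ↑(p ⁻¹ᵁ O) ∧ j ≫ p = q ∧ a ≫ p = fV ∧ (fV ⁻¹ᵁ O).ι ≫ a = ao ≫ j := by
  haveI : IsAffine XV := isAffine_of_isAffineHom fV
  obtain ⟨hYc, hYqs⟩ := isCompact_of_range_subset hq hrange hO
  obtain ⟨s, hs⟩ := exists_basicOpen_cover O hO
  let Xo := (fV ⁻¹ᵁ O).toScheme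
  letI : Algebra Γ(T, ⊤) Γ(Yo, ⊤) := q.appTop.hom.toAlgebra
  letI : Algebra Γ(T, ⊤) Γ(XV, ⊤) := fV.appTop.hom.toAlgebra
  letI : Algebra Γ(T, ⊤) Γ(Xo, ⊤) := ((fV ⁻¹ᵁ O).ι ≫ fV).appTop.hom.toAlgebra
  let α : Γ(Yo, ⊤) →ₐ[Γ(T, ⊤)] Γ(Xo, ⊤) :=
    ⟨ao.appTop.hom, fun r => by
      show ao.appTop (q.appTop r) = ((fV ⁻¹ᵁ O).ι ≫ fV).appTop r
      rw [← hao, Scheme.Hom.comp_appTop]; rfl⟩
  let β : Γ(XV, ⊤) →ₐ[Γ(T, ⊤)] Γ(Xo, ⊤) :=
    ⟨(fV ⁻¹ᵁ O).ι.appTop.hom, fun r => by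
      show (fV ⁻¹ᵁ O).ι.appTop (fV.appTop r) = ((fV ⁻¹ᵁ O).ι ≫ fV).appTop r
      rw [Scheme.Hom.comp_appTop]; rfl⟩
  haveI : Algebra.IsIntegral Γ(T, ⊤) Γ(XV, ⊤) :=
    ⟨fun x => IsIntegralHom.isIntegral_app fV ⊤ (isAffineOpen_top T) x⟩
  have hXo : IsCompact ((fV ⁻¹ᵁ O : XV.Opens) : Set XV) :=
    QuasiCompact.isCompact_preimage (f := fV) _ O.2 hO
  haveI : CompactSpace Xo := isCompact_iff_compactSpace.1 hXo
  haveI : QuasiSeparatedSpace Xo := quasiSeparatedSpace_of_quasiSeparated (fV ⁻¹ᵁ O).ι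
  have hbo : ∀ g : s, T.basicOpen g.1 ≤ O := fun g => hs ▸ le_iSup (fun g : s => T.basicOpen g.1) g
  have hoX : ∀ g : s, XV.basicOpen (algebraMap Γ(T, ⊤) Γ(XV, ⊤) g.1) ≤ fV ⁻¹ᵁ O := fun g => by
    show XV.basicOpen (fV.appTop g.1) ≤ _
    rw [← Scheme.preimage_basicOpen_top]
    exact fV.preimage_mono (hbo g)
  -- sections of the algebra on a basic open of the closure
  have hsurj : ∀ g : s, ∀ n : Γ(Xo, ⊤), ∃ (j : ℕ) (b : Γ(XV, ⊤)),
      algebraMap Γ(T, ⊤) Γ(Xo, ⊤) g.1 ^ j * n = β b := by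
    intro g n
    set c := algebraMap Γ(T, ⊤) Γ(XV, ⊤) g.1 with hc
    haveI := isLocalization_basicOpen_of_qcqs (X := XV) isCompact_univ (isQuasiSeparated_univ) c
    let n' : Γ(XV, XV.basicOpen c) :=
      XV.presheaf.map (homOfLE (show XV.basicOpen c ≤ (fV ⁻¹ᵁ O) from hoX g)).op
        ((fV ⁻¹ᵁ O).topIso.hom n)
    obtain ⟨j, b, hb⟩ := IsLocalization.Away.surj c n'
    have hco : algebraMap Γ(T, ⊤) Γ(Xo, ⊤) g.1 = β c := (β.commutes g.1).symm
    have hres : (XV.presheaf.map (homOfLE (hoX g)).op).hom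
        ((fV ⁻¹ᵁ O).topIso.hom (algebraMap Γ(T, ⊤) Γ(Xo, ⊤) g.1 ^ j * n)) =
        (XV.presheaf.map (homOfLE (hoX g)).op).hom ((fV ⁻¹ᵁ O).topIso.hom (β b)) := by
      rw [hco, map_mul, map_mul, map_pow, map_pow]
      have hβ : ∀ x, (XV.presheaf.map (homOfLE (hoX g)).op).hom ((fV ⁻¹ᵁ O).topIso.hom (β x)) =
          algebraMap Γ(XV, ⊤) Γ(XV, XV.basicOpen c) x := by
        intro x
        show (XV.presheaf.map _).hom ((fV ⁻¹ᵁ O).topIso.hom ((fV ⁻¹ᵁ O).ι.appTop x)) = XV.presheaf.map _ x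
        simp only [Scheme.Opens.topIso_hom, Scheme.Opens.ι_appTop, ← CommRingCat.comp_apply, ← Functor.map_comp]
        rfl
      rw [hβ, hβ, ← hb]
      ring
    have hco2 : XV.basicOpen ((fV ⁻¹ᵁ O).topIso.hom (β c)) ≤ XV.basicOpen c := by
      show XV.basicOpen ((fV ⁻¹ᵁ O).topIso.hom ((fV ⁻¹ᵁ O).ι.appTop c)) ≤ _
      simp only [Scheme.Opens.topIso_hom, Scheme.Opens.ι_appTop, ← CommRingCat.comp_apply, ← Functor.map_comp,
        Scheme.basicOpen_res]
      exact inf_le_right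
    have step : ∀ x y : Γ(XV, fV ⁻¹ᵁ O),
        (XV.presheaf.map (homOfLE (hoX g)).op) x = (XV.presheaf.map (homOfLE (hoX g)).op) y →
        (XV.presheaf.map (homOfLE (XV.basicOpen_le ((fV ⁻¹ᵁ O).topIso.hom (β c)))).op) x =
        (XV.presheaf.map (homOfLE (XV.basicOpen_le ((fV ⁻¹ᵁ O).topIso.hom (β c)))).op) y := fun x y h => by
      have h' := congrArg (fun t => (XV.presheaf.map (homOfLE hco2).op) t) h
      have hz : ∀ z : Γ(XV, fV ⁻¹ᵁ O),
          (XV.presheaf.map (homOfLE hco2).op) ((XV.presheaf.map (homOfLE (hoX g)).op) z) =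
          (XV.presheaf.map (homOfLE (XV.basicOpen_le ((fV ⁻¹ᵁ O).topIso.hom (β c)))).op) z := fun z => by
        rw [← CommRingCat.comp_apply, ← Functor.map_comp]; rfl
      exact ((hz x).symm.trans h').trans (hz y)
    obtain ⟨k, hk⟩ := exists_of_res_eq_of_qcqs (X := XV) hXo
      (isQuasiSeparated_univ.of_subset (Set.subset_univ _))
      (f := (fV ⁻¹ᵁ O).topIso.hom (algebraMap Γ(T, ⊤) Γ(Xo, ⊤) g.1 ^ j * n))
      (g := (fV ⁻¹ᵁ O).topIso.hom (β b)) (s := (fV ⁻¹ᵁ O).topIso.hom (β c)) (step _ _ hres)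
    refine ⟨k + j, c ^ k * b, ?_⟩
    apply (fV ⁻¹ᵁ O).topIso.commRingCatIsoToRingEquiv.injective
    show (fV ⁻¹ᵁ O).topIso.hom _ = (fV ⁻¹ᵁ O).topIso.hom _
    rw [map_mul β, map_pow β, pow_add, mul_assoc, map_mul, map_mul _ (β c ^ k), map_pow, map_pow, hco]
    rwa [hco] at hk
  have hinj : ∀ g : s, ∀ b : Γ(XV, ⊤), β b = 0 →
      ∃ e : ℕ, algebraMap Γ(T, ⊤) Γ(XV, ⊤) g.1 ^ e * b = 0 := by
    intro g b hb
    refine exists_pow_mul_eq_zero_of_res_basicOpen_eq_zero_of_isCompact XV isCompact_univ b _ ?_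
    have h1 : (XV.presheaf.map (homOfLE (hoX g)).op).hom ((fV ⁻¹ᵁ O).topIso.hom (β b)) = 0 := by
      rw [hb, map_zero, map_zero]
    rw [← h1]
    show _ = (XV.presheaf.map _).hom ((fV ⁻¹ᵁ O).topIso.hom ((fV ⁻¹ᵁ O).ι.appTop b))
    simp only [TopCat.Presheaf.restrictOpenCommRingCat_apply, Scheme.Opens.topIso_hom,
      Scheme.Opens.ι_appTop, ← CommRingCat.comp_apply, ← Functor.map_comp]
    rfl
  have hD : ∀ g : s, IsAffineOpen (T.basicOpen g.1) := fun g => (isAffineOpen_top T).basicOpen g.1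
  have hMloc : ∀ g : s,
      @IsLocalization.Away _ _ (q.appTop g.1) Γ(Yo, Yo.basicOpen (q.appTop g.1)) _ _ := fun g =>
    isLocalization_basicOpen_of_qcqs isCompact_univ isQuasiSeparated_univ _
  have hloc : ∀ g : s, (∀ z : Localization.Away (algebraMap Γ(T, ⊤) Γ(Yo, ⊤) g.1),
      ∃ e : ℕ, IsIntegral Γ(T, ⊤) (g.1 ^ e • z)) ∧
      Algebra.FinitePresentation Γ(T, ⊤) (Localization.Away (algebraMap Γ(T, ⊤) Γ(Yo, ⊤) g.1)) := by
    intro g
    haveI : IsLocalization.Away g.1 Γ(T, T.basicOpen g.1) := (isAffineOpen_top T).isLocalization_basicOpen g.1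
    haveI : IsLocalization.Away (algebraMap Γ(T, ⊤) Γ(Yo, ⊤) g.1) Γ(Yo, Yo.basicOpen (q.appTop g.1)) := hMloc g
    obtain ⟨-, h1, h2⟩ := FinFpOver.app hq (hD g) (hbo g)
    refine hint_hfp_of_localization g.1 Γ(T, T.basicOpen g.1) Γ(Yo, Yo.basicOpen (q.appTop g.1))
      (q.app (T.basicOpen g.1) ≫ Yo.presheaf.map (eqToHom (q.preimage_basicOpen_top g.1).symm).op).hom
      (fun r => ?_) ?_ ?_
    · show (q.app _ ≫ Yo.presheaf.map _) (T.presheaf.map _ r) = Yo.presheaf.map _ (q.appTop r)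
      simp only [← CommRingCat.comp_apply, Scheme.Hom.appTop, Scheme.Hom.app_eq_appLE,
        Scheme.Hom.map_appLE, Scheme.Hom.appLE_map]
    · rw [CommRingCat.hom_comp, RingHom.finite_respectsIso.cancel_right_isIso]; exact h1
    · rw [CommRingCat.hom_comp, RingHom.finitePresentation_respectsIso.cancel_right_isIso]; exact h2
  obtain ⟨C, _, _, φ, ψ, hCfin, hCfp, hcomp, hiso⟩ := exists_finite_extension α β (fun g : s => g.1)
    hsurj hinj (fun g => (hloc g).1) (fun g => (hloc g).2)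
  let γ : Γ(Spec (.of C), ⊤) ⟶ .of C := (Scheme.ΓSpecIso (.of C)).hom
  let p : Spec (.of C) ⟶ T := Spec.map (CommRingCat.ofHom (algebraMap Γ(T, ⊤) C)) ≫ T.isoSpec.inv
  let j : Yo ⟶ Spec (.of C) := Yo.toSpecΓ ≫ Spec.map (CommRingCat.ofHom φ.toRingHom)
  let a : XV ⟶ Spec (.of C) := XV.toSpecΓ ≫ Spec.map (CommRingCat.ofHom ψ.toRingHom)
  have hp : finFp p := by
    refine (MorphismProperty.cancel_right_of_respectsIso finFp _ _).2 ⟨?_, ?_⟩
    · exact (IsFinite.SpecMap_iff _).2 (RingHom.finite_algebraMap.2 hCfin)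
    · exact (HasRingHomProperty.Spec_iff (P := @LocallyOfFinitePresentation)).2
        (RingHom.finitePresentation_algebraMap.2 hCfp)
  have hp_top : p.appTop ≫ γ = CommRingCat.ofHom (algebraMap Γ(T, ⊤) C) := by
    simp [p, γ, Scheme.isoSpec]
    congr 1
    exact (Scheme.toSpecΓ_appTop T).symm
  have hj_top : j.appTop = γ ≫ CommRingCat.ofHom φ.toRingHom := by
    simp [j, γ, Scheme.toSpecΓ_appTop]
  have ha_top : a.appTop = γ ≫ CommRingCat.ofHom ψ.toRingHom := by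
    simp [a, γ, Scheme.toSpecΓ_appTop]
  have hjp : j ≫ p = q := by
    refine ext_of_isAffine ?_
    rw [Scheme.Hom.comp_appTop j p, hj_top, reassoc_of% hp_top]
    ext r; exact φ.commutes r
  have hap : a ≫ p = fV := by
    refine ext_of_isAffine ?_
    rw [Scheme.Hom.comp_appTop a p, ha_top, reassoc_of% hp_top]
    ext r; exact ψ.commutes r
  have hajo : (fV ⁻¹ᵁ O).ι ≫ a = ao ≫ j := by
    refine ext_of_isAffine ?_
    rw [Scheme.Hom.comp_appTop (fV ⁻¹ᵁ O).ι a, Scheme.Hom.comp_appTop ao j, ha_top, hj_top, Category.assoc, Category.assoc]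
    congr 1
    ext c; exact (AlgHom.congr_fun hcomp c).symm
  have hjle : ∀ y, j y ∈ p ⁻¹ᵁ O := fun y => by
    show p (j y) ∈ O
    rw [← Scheme.Hom.comp_apply, hjp]
    exact (SetLike.ext_iff.1 hrange y).2 trivial
  let j' : Yo ⟶ (p ⁻¹ᵁ O).toScheme := IsOpenImmersion.lift (p ⁻¹ᵁ O).ι j (by
    rw [Scheme.Opens.range_ι]; rintro _ ⟨y, rfl⟩; exact hjle y)
  have hj' : j' ≫ (p ⁻¹ᵁ O).ι = j := IsOpenImmersion.lift_fac _ _ _
  haveI hj'iso : IsIso j' := by
    let W : s → (p ⁻¹ᵁ O).toScheme.Opens := fun g => (p ⁻¹ᵁ O).ι ⁻¹ᵁ p ⁻¹ᵁ (T.basicOpen g.1)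
    have hW : iSup W = ⊤ := top_le_iff.1 fun x _ => by
      have hx : p x.1 ∈ (⨆ g : s, T.basicOpen g.1) := hs ▸ x.2
      obtain ⟨g, hg⟩ := Opens.mem_iSup.1 hx
      exact Opens.mem_iSup.2 ⟨g, hg⟩
    refine IsZariskiLocalAtTarget.of_iSup_eq_top (P := MorphismProperty.isomorphisms Scheme) W hW fun g => ?_
    have hE : IsAffineOpen (p ⁻¹ᵁ T.basicOpen g.1) := by
      rw [Scheme.preimage_basicOpen_top]
      exact (isAffineOpen_top _).basicOpen _
    obtain ⟨haffY, -, -⟩ := FinFpOver.app hq (hD g) (hbo g)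
    -- the restriction of `j` to the basic open
    have hjiso : IsIso (j ∣_ (p ⁻¹ᵁ T.basicOpen g.1)) := by
      haveI : IsAffine (p ⁻¹ᵁ T.basicOpen g.1).toScheme := hE
      haveI : IsAffine (j ⁻¹ᵁ p ⁻¹ᵁ T.basicOpen g.1).toScheme := by
        rw [← Scheme.Hom.comp_preimage, hjp]; exact haffY
      refine (HasAffineProperty.iff_of_isAffine (P := MorphismProperty.isomorphisms Scheme)).2 ⟨inferInstance, ?_⟩
      rw [morphismRestrict_appTop]
      suffices h : Function.Bijective (j.app (p ⁻¹ᵁ T.basicOpen g.1)) by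
        haveI : IsIso (j.app ((p ⁻¹ᵁ T.basicOpen g.1).ι ''ᵁ ⊤)) := by
          have key : ∀ E, E = p ⁻¹ᵁ T.basicOpen g.1 → IsIso (j.app E) := fun E hE => by
            subst hE; exact (ConcreteCategory.isIso_iff_bijective _).2 h
          exact key _ (by rw [Scheme.Hom.image_top_eq_opensRange, Scheme.Opens.opensRange_ι])
        infer_instance
      set D := p ⁻¹ᵁ T.basicOpen g.1 with hDdef
      let resC : C →+* Γ(Spec (.of C), D) :=
        ((Scheme.ΓSpecIso (.of C)).inv ≫ (Spec (.of C)).presheaf.map (homOfLE le_top).op).hom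
      letI : Algebra C Γ(Spec (.of C), D) := resC.toAlgebra
      haveI : IsLocalization.Away (algebraMap Γ(T, ⊤) C g.1) Γ(Spec (.of C), D) := by
        have hDb : D = (Spec (.of C)).basicOpen ((Scheme.ΓSpecIso (.of C)).inv (algebraMap Γ(T, ⊤) C g.1)) := by
          rw [hDdef, Scheme.preimage_basicOpen_top]
          congr 1
          show p.appTop g.1 = _
          rw [← Iso.eq_comp_inv] at hp_top
          rw [hp_top]; rfl
        have hDb' : D = PrimeSpectrum.basicOpen (algebraMap Γ(T, ⊤) C g.1) := by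
          rw [hDb, basicOpen_eq_of_affine', ← CommRingCat.comp_apply, Iso.inv_hom_id]; rfl
        have key : ∀ E : (Spec (.of C)).Opens,
            E = PrimeSpectrum.basicOpen (algebraMap Γ(T, ⊤) C g.1) →
            @IsLocalization.Away C _ (algebraMap Γ(T, ⊤) C g.1) Γ(Spec (.of C), E) _
              ((Scheme.ΓSpecIso (.of C)).inv ≫ (Spec (.of C)).presheaf.map (homOfLE le_top).op).hom.toAlgebra := by
          rintro E rfl
          convert! StructureSheaf.IsLocalization.to_basicOpen C (algebraMap Γ(T, ⊤) C g.1) using 1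
          exact Algebra.algebra_ext _ _ fun x => rfl
        exact key D hDb'
      have hDY : j ⁻¹ᵁ D = Yo.basicOpen (q.appTop g.1) := by
        rw [hDdef, ← Scheme.Hom.comp_preimage, hjp, Scheme.preimage_basicOpen_top]
      letI : Algebra Γ(Yo, ⊤) Γ(Yo, j ⁻¹ᵁ D) := (Yo.presheaf.map (homOfLE le_top).op).hom.toAlgebra
      haveI : IsLocalization.Away (algebraMap Γ(T, ⊤) Γ(Yo, ⊤) g.1) Γ(Yo, j ⁻¹ᵁ D) := by
        have key : ∀ E : Yo.Opens, E = Yo.basicOpen (q.appTop g.1) →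
            @IsLocalization.Away Γ(Yo, ⊤) _ (algebraMap Γ(T, ⊤) Γ(Yo, ⊤) g.1) Γ(Yo, E) _
              (Yo.presheaf.map (homOfLE le_top).op).hom.toAlgebra := by
          rintro E rfl; exact hMloc g
        exact key _ hDY
      obtain ⟨e, he⟩ := hiso g
      refine bijective_of_localization φ.toRingHom _ _ Γ(Spec (.of C), D) Γ(Yo, j ⁻¹ᵁ D) e he (j.app D).hom
        (fun x => ?_)
      show j.app D ((Spec (.of C)).presheaf.map _ ((Scheme.ΓSpecIso (.of C)).inv x)) = Yo.presheaf.map _ (φ x)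
      have hx : j.appTop ((Scheme.ΓSpecIso (.of C)).inv x) = φ x := by
        rw [hj_top]; simp [γ]
      rw [← hx]
      simp only [← CommRingCat.comp_apply, Scheme.Hom.appTop, Scheme.Hom.app_eq_appLE,
        Scheme.Hom.map_appLE, Scheme.Hom.appLE_map]
    show IsIso (j' ∣_ W g)
    haveI : IsIso (j' ∣_ W g ≫ (p ⁻¹ᵁ O).ι ∣_ (p ⁻¹ᵁ T.basicOpen g.1)) := by
      have key : ∀ k, k = j → IsIso (k ∣_ (p ⁻¹ᵁ T.basicOpen g.1)) := fun k hk => by subst hk; exact hjiso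
      rw [← morphismRestrict_comp]; exact key _ hj'
    haveI : IsIso ((p ⁻¹ᵁ O).ι ∣_ (p ⁻¹ᵁ T.basicOpen g.1)) := by
      haveI : Surjective ((p ⁻¹ᵁ O).ι ∣_ (p ⁻¹ᵁ T.basicOpen g.1)) := ⟨fun x =>
        ⟨⟨⟨x.1, hbo g x.2⟩, x.2⟩, Subtype.ext (morphismRestrict_base_coe _ _ _)⟩⟩
      haveI : Epi ((p ⁻¹ᵁ O).ι ∣_ (p ⁻¹ᵁ T.basicOpen g.1)).base :=
        ConcreteCategory.epi_of_surjective _ (Scheme.Hom.surjective _)
      exact (isIso_iff_isOpenImmersion_and_epi_base _).2 ⟨inferInstance, inferInstance⟩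
    exact IsIso.of_isIso_comp_right _ ((p ⁻¹ᵁ O).ι ∣_ (p ⁻¹ᵁ T.basicOpen g.1))
  haveI : IsOpenImmersion j := hj' ▸ inferInstance
  refine ⟨_, p, j, a, hp, inferInstance, ?_, hjp, hap, hajo⟩
  refine le_antisymm ?_ ?_
  · rintro _ ⟨y, rfl⟩; exact hjle y
  · intro x hx
    obtain ⟨y, hy⟩ := (asIso j').hom.homeomorph.surjective ⟨x, hx⟩
    refine ⟨y, ?_⟩
    rw [← hj', Scheme.Hom.comp_apply]
    exact congrArg Subtype.val hy

end Groth.Agent.H7Lim
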