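import Mathlib.RingTheory.FinitePresentation
import Mathlib.RingTheory.IntegralClosure.Algebra.Basic
import Mathlib.RingTheory.Localization.Away.Basic
import Mathlib.RingTheory.Localization.Away.AdjoinRoot
import Mathlib.RingTheory.Polynomial.ScaleRoots
import Mathlib.Algebra.Polynomial.AlgebraMap

/-!
# Extending a finite finitely presented algebra from a quasi-compact open of an affine scheme

The ring-theoretic core: `M` plays the role of the sections of the algebra on the open, `B` of an
integral algebra on the whole space and `N` of its sections on the open.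
-/

set_option autoImplicit false
set_option linter.style.haveILetI false

universe u

open Polynomial

namespace Groth.Agent.H7Lim

variable {R M B N : Type u} [CommRing R] [CommRing M] [CommRing B] [CommRing N]
  [Algebra R M] [Algebra R B] [Algebra R N] (α : M →ₐ[R] N) (β : B →ₐ[R] N)

theorem exists_pow_mul_eq_zero_of_localization {g : R} {m : M}
    (h : algebraMap M (Localization.Away (algebraMap R M g)) m = 0) :
    ∃ e : ℕ, algebraMap R M g ^ e * m = 0 := by
  obtain ⟨⟨_, e, rfl⟩, he⟩ :=
    (IsLocalization.map_eq_zero_iff (Submonoid.powers (algebraMap R M g)) _ m).1 h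
  exact ⟨e, he⟩

theorem exists_localization_equiv {F C : Type u} [CommRing F] [CommRing C] [Algebra R F] [Algebra R C]
    (q : F →ₐ[R] C) (hq : Function.Surjective q) (φ₀ : F →ₐ[R] M) (φ : C →ₐ[R] M) (hφ : φ.comp q = φ₀) (g : R)
    (φl : Localization.Away (algebraMap R F g) →ₐ[R] Localization.Away (algebraMap R M g))
    (hφl : ∀ x, φl (algebraMap F _ x) = algebraMap M _ (φ₀ x)) (hφlsurj : Function.Surjective φl)
    (T : Set F) (hT : ∀ x ∈ T, q x = 0)
    (hker : RingHom.ker φl.toRingHom ≤ Ideal.span (algebraMap F (Localization.Away (algebraMap R F g)) '' T)) :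
    ∃ e : Localization.Away (algebraMap R C g) ≃+* Localization.Away (algebraMap R M g),
      ∀ c, e (algebraMap C _ c) = algebraMap M _ (φ c) := by
  have hu' : IsUnit (((algebraMap M (Localization.Away (algebraMap R M g))).comp φ.toRingHom) (algebraMap R C g)) := by
    show IsUnit (algebraMap M _ (φ (algebraMap R C g)))
    rw [φ.commutes]
    exact IsLocalization.Away.algebraMap_isUnit _
  let e₀ : Localization.Away (algebraMap R C g) →+* Localization.Away (algebraMap R M g) :=
    IsLocalization.Away.lift (algebraMap R C g) hu'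
  have hqu : IsUnit (((algebraMap C (Localization.Away (algebraMap R C g))).comp q.toRingHom) (algebraMap R F g)) := by
    show IsUnit (algebraMap C _ (q (algebraMap R F g)))
    rw [q.commutes]
    exact IsLocalization.Away.algebraMap_isUnit _
  let π : Localization.Away (algebraMap R F g) →+* Localization.Away (algebraMap R C g) :=
    IsLocalization.Away.lift (algebraMap R F g) hqu
  have hπ : ∀ x, π (algebraMap F _ x) = algebraMap C _ (q x) := fun x => IsLocalization.Away.lift_eq _ hqu x
  have hπsurj : Function.Surjective π := by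
    intro z
    obtain ⟨n, c, hc⟩ := IsLocalization.Away.surj (algebraMap R C g) z
    obtain ⟨c, rfl⟩ := hq c
    obtain ⟨v, hv⟩ := (IsLocalization.Away.algebraMap_isUnit (S := Localization.Away (algebraMap R F g))
      (algebraMap R F g)).exists_right_inv
    refine ⟨v ^ n * algebraMap F _ c, ?_⟩
    have hv' := congrArg π hv
    rw [map_mul, map_one, hπ, q.commutes] at hv'
    rw [map_mul, map_pow, hπ, ← hc]
    calc π v ^ n * (z * algebraMap C _ (algebraMap R C g) ^ n)
        = z * (algebraMap C _ (algebraMap R C g) * π v) ^ n := by ring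
      _ = z := by rw [hv', one_pow, mul_one]
  have he₀π : e₀.comp π = φl.toRingHom := by
    refine IsLocalization.ringHom_ext (Submonoid.powers (algebraMap R F g)) (RingHom.ext fun x => ?_)
    show e₀ (π (algebraMap F _ x)) = φl (algebraMap F _ x)
    rw [hπ, hφl, IsLocalization.Away.lift_eq, RingHom.comp_apply, ← hφ]
    rfl
  refine ⟨RingEquiv.ofBijective e₀ ⟨?_, ?_⟩, fun c => IsLocalization.Away.lift_eq _ hu' c⟩
  · rw [injective_iff_map_eq_zero]
    intro z hz0
    obtain ⟨w, rfl⟩ := hπsurj z
    have hw : w ∈ RingHom.ker φl.toRingHom := by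
      rw [RingHom.mem_ker, ← he₀π]; exact hz0
    have : Ideal.span (algebraMap F (Localization.Away (algebraMap R F g)) '' T) ≤ RingHom.ker π :=
      Ideal.span_le.2 (by
        rintro _ ⟨y, hy, rfl⟩
        show π (algebraMap F _ y) = 0
        rw [hπ, hT y hy, map_zero])
    exact this (hker hw)
  · intro y
    obtain ⟨w, hw⟩ := hφlsurj y
    exact ⟨π w, (RingHom.congr_fun he₀π w).trans hw⟩

variable [Algebra.IsIntegral R B]

/-- Integral pairs generate the localised algebra. -/
theorem exists_pair (g : R)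
    (hsurj : ∀ n : N, ∃ (j : ℕ) (b : B), algebraMap R N g ^ j * n = β b)
    (hint : ∀ z : Localization.Away (algebraMap R M g), ∃ e : ℕ, IsIntegral R (g ^ e • z))
    (z : Localization.Away (algebraMap R M g)) :
    ∃ (a : ℕ) (m : M) (b : B) (P : R[X]), P.Monic ∧ aeval m P = 0 ∧ aeval b P = 0 ∧ α m = β b ∧
      algebraMap M _ m = g ^ a • z := by
  obtain ⟨e, P, hP, hPz⟩ := hint z
  obtain ⟨k, m, hm⟩ := IsLocalization.Away.surj (algebraMap R M g) z
  have hzk : algebraMap M (Localization.Away (algebraMap R M g)) m = g ^ k • z := by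
    rw [← hm, Algebra.smul_def, map_pow, IsScalarTower.algebraMap_apply R M (Localization.Away _)]
    ring
  obtain ⟨j, b, hb⟩ := hsurj (α m)
  -- scale so that the polynomial vanishes on the `M`-coordinate up to torsion
  set m₁ := algebraMap R M g ^ (e + j) * m with hm₁
  set b₁ := algebraMap R B g ^ e * b with hb₁
  have hαβ : α m₁ = β b₁ := by
    rw [hm₁, hb₁, map_mul, map_mul, map_pow, map_pow, AlgHom.commutes, AlgHom.commutes, ← hb, pow_add]
    ring
  have hz₁ : algebraMap M (Localization.Away (algebraMap R M g)) m₁ = g ^ (j + k) • (g ^ e • z) := by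
    rw [hm₁, map_mul, hzk, map_pow, ← IsScalarTower.algebraMap_apply, Algebra.smul_def, Algebra.smul_def,
      Algebra.smul_def, map_pow, map_pow, map_pow]
    ring
  set Q := P.scaleRoots (g ^ (j + k)) with hQ
  have hQm : Q.Monic := (monic_scaleRoots_iff _).2 hP
  have hQz : algebraMap M (Localization.Away (algebraMap R M g)) (aeval m₁ Q) = 0 := by
    rw [← aeval_algebraMap_apply, hz₁, Algebra.smul_def]
    exact scaleRoots_eval₂_eq_zero _ hPz
  obtain ⟨d, hd⟩ := exists_pow_mul_eq_zero_of_localization hQz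
  -- kill the torsion
  set Q' := (X * Q).scaleRoots (g ^ d) with hQ'
  have hQ'm : Q'.Monic := (monic_scaleRoots_iff _).2 (monic_X.mul hQm)
  have hQ'0 : aeval (algebraMap R M g ^ d * m₁) Q' = 0 := by
    rw [hQ', ← map_pow]
    show eval₂ (algebraMap R M) (algebraMap R M (g ^ d) * m₁) _ = 0
    rw [scaleRoots_eval₂_mul]
    show algebraMap R M (g ^ d) ^ (X * Q).natDegree * eval₂ (algebraMap R M) m₁ (X * Q) = 0
    rcases Nat.eq_zero_or_pos (X * Q).natDegree with h0 | h0
    · rcases subsingleton_or_nontrivial R with hR | hR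
      · haveI := (algebraMap R M).codomain_trivial
        exact Subsingleton.elim _ _
      · rw [Monic.natDegree_mul monic_X hQm, natDegree_X] at h0
        omega
    · obtain ⟨n, hn⟩ := Nat.exists_eq_add_of_le h0
      rw [hn, eval₂_mul, eval₂_X, map_pow]
      have : algebraMap R M g ^ d * eval₂ (algebraMap R M) m₁ Q = 0 := hd
      linear_combination ((algebraMap R M g ^ d) ^ n * m₁) * this
  obtain ⟨Pb, hPb, hPb0⟩ := Algebra.IsIntegral.isIntegral (R := R) (algebraMap R B g ^ d * b₁)
  refine ⟨d + (j + k + e), algebraMap R M g ^ d * m₁, algebraMap R B g ^ d * b₁, Q' * Pb,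
    hQ'm.mul hPb, by rw [map_mul, hQ'0, zero_mul],
    by rw [map_mul, show aeval (algebraMap R B g ^ d * b₁) Pb = 0 from hPb0, mul_zero], ?_, ?_⟩
  · rw [map_mul α (algebraMap R M g ^ d) m₁, map_mul β (algebraMap R B g ^ d) b₁, map_pow α, map_pow β,
      AlgHom.commutes, AlgHom.commutes, hαβ]
  · rw [map_mul, hz₁, map_pow, ← IsScalarTower.algebraMap_apply, Algebra.smul_def, Algebra.smul_def,
      Algebra.smul_def, map_pow, map_pow, map_pow]
    ring

/-- The extension step. -/
theorem exists_finite_extension {ι : Type u} [Finite ι] (g : ι → R)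
    (hsurj : ∀ l, ∀ n : N, ∃ (j : ℕ) (b : B), algebraMap R N (g l) ^ j * n = β b)
    (hinj : ∀ l, ∀ b : B, β b = 0 → ∃ e : ℕ, algebraMap R B (g l) ^ e * b = 0)
    (hint : ∀ l, ∀ z : Localization.Away (algebraMap R M (g l)), ∃ e : ℕ, IsIntegral R (g l ^ e • z))
    (hfp : ∀ l, Algebra.FinitePresentation R (Localization.Away (algebraMap R M (g l)))) :
    ∃ (C : Type u) (_ : CommRing C) (_ : Algebra R C) (φ : C →ₐ[R] M) (ψ : C →ₐ[R] B),
      Module.Finite R C ∧ Algebra.FinitePresentation R C ∧ α.comp φ = β.comp ψ ∧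
      ∀ l, ∃ e : Localization.Away (algebraMap R C (g l)) ≃+* Localization.Away (algebraMap R M (g l)),
        ∀ c, e (algebraMap C _ c) = algebraMap M _ (φ c) := by
  classical
  haveI := Fintype.ofFinite ι
  -- generators of the localised algebras
  choose s hs using fun l => (hfp l).out
  choose f hf using hs
  choose a m b P hP hPm hPb hαβ hz using fun (q : Σ l, Fin (s l)) =>
    exists_pair α β (g q.1) (hsurj q.1) (hint q.1) (f q.1 (MvPolynomial.X q.2))
  let σ := Σ l, Fin (s l)
  let K₀ : Ideal (MvPolynomial σ R) := Ideal.span (Set.range fun q => Polynomial.aeval (MvPolynomial.X q) (P q))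
  let F := MvPolynomial σ R ⧸ K₀
  have hK₀fg : K₀.FG := Submodule.fg_span (Set.finite_range _)
  haveI : Algebra.FinitePresentation R F := Algebra.FinitePresentation.quotient hK₀fg
  haveI : Algebra.IsIntegral R F := by
    refine ⟨fun x => ?_⟩
    obtain ⟨x, rfl⟩ := Ideal.Quotient.mk_surjective x
    have hX : ∀ q, IsIntegral R (Ideal.Quotient.mk K₀ (MvPolynomial.X q)) := fun q => ⟨P q, hP q, by
      show Polynomial.aeval (Ideal.Quotient.mkₐ R K₀ (MvPolynomial.X q)) (P q) = 0
      rw [Polynomial.aeval_algHom_apply]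
      exact Ideal.Quotient.eq_zero_iff_mem.2 (Ideal.subset_span ⟨q, rfl⟩)⟩
    induction x using MvPolynomial.induction_on with
    | C r => exact isIntegral_algebraMap
    | add p q hp hq => rw [map_add]; exact hp.add hq
    | mul_X p q hp => rw [map_mul]; exact hp.mul (hX q)
  haveI : Module.Finite R F := Algebra.finite_iff_isIntegral_and_finiteType.2 ⟨inferInstance, inferInstance⟩
  let φ₀ : F →ₐ[R] M := Ideal.Quotient.liftₐ K₀ (MvPolynomial.aeval m) fun x hx => by
    have : K₀ ≤ RingHom.ker (MvPolynomial.aeval m : MvPolynomial σ R →ₐ[R] M) := Ideal.span_le.2 (by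
      rintro _ ⟨q, rfl⟩
      show MvPolynomial.aeval m (Polynomial.aeval (MvPolynomial.X q) (P q)) = 0
      rw [← Polynomial.aeval_algHom_apply, MvPolynomial.aeval_X, hPm])
    exact this hx
  let ψ₀ : F →ₐ[R] B := Ideal.Quotient.liftₐ K₀ (MvPolynomial.aeval b) fun x hx => by
    have : K₀ ≤ RingHom.ker (MvPolynomial.aeval b : MvPolynomial σ R →ₐ[R] B) := Ideal.span_le.2 (by
      rintro _ ⟨q, rfl⟩
      show MvPolynomial.aeval b (Polynomial.aeval (MvPolynomial.X q) (P q)) = 0
      rw [← Polynomial.aeval_algHom_apply, MvPolynomial.aeval_X, hPb])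
    exact this hx
  have hcomp₀ : α.comp φ₀ = β.comp ψ₀ := by
    refine Ideal.Quotient.algHom_ext (R₁ := R) (MvPolynomial.algHom_ext fun q => ?_)
    show α (MvPolynomial.aeval m (MvPolynomial.X q)) = β (MvPolynomial.aeval b (MvPolynomial.X q))
    rw [MvPolynomial.aeval_X, MvPolynomial.aeval_X, hαβ]
  -- the localised maps and their kernels
  let L := fun l => Localization.Away (algebraMap R M (g l))
  let Fg := fun l => Localization.Away (algebraMap R F (g l))
  have hu : ∀ l, IsUnit ((algebraMap M (L l)).comp φ₀.toRingHom (algebraMap R F (g l))) := fun l => by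
    show IsUnit (algebraMap M (L l) (φ₀ (algebraMap R F (g l))))
    rw [φ₀.commutes]
    exact IsLocalization.Away.algebraMap_isUnit _
  let φl : ∀ l, Fg l →ₐ[R] L l := fun l =>
    ⟨IsLocalization.Away.lift (algebraMap R F (g l)) (hu l), fun r => by
      show IsLocalization.Away.lift (algebraMap R F (g l)) (hu l) (algebraMap R (Fg l) r) = _
      rw [IsScalarTower.algebraMap_apply R F (Fg l), IsLocalization.Away.lift_eq, RingHom.comp_apply]
      show algebraMap M (L l) (φ₀ (algebraMap R F r)) = _
      rw [φ₀.commutes, ← IsScalarTower.algebraMap_apply]⟩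
  have hφl : ∀ l x, φl l (algebraMap F (Fg l) x) = algebraMap M (L l) (φ₀ x) := fun l x =>
    IsLocalization.Away.lift_eq _ (hu l) x
  have hφlsurj : ∀ l, Function.Surjective (φl l) := by
    intro l y
    obtain ⟨p, rfl⟩ := (hf l).1 y
    induction p using MvPolynomial.induction_on with
    | C r => exact ⟨algebraMap R (Fg l) r, by rw [AlgHom.commutes]; exact ((f l).commutes r).symm⟩
    | add p q hp hq =>
      obtain ⟨x, hx⟩ := hp
      obtain ⟨y, hy⟩ := hq
      exact ⟨x + y, by rw [map_add, map_add, hx, hy]⟩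
    | mul_X p k hp =>
      obtain ⟨x, hx⟩ := hp
      obtain ⟨v, hv⟩ := (IsLocalization.Away.algebraMap_isUnit (S := Fg l) (algebraMap R F (g l))).exists_right_inv
      refine ⟨x * (v ^ a ⟨l, k⟩ * algebraMap F (Fg l) (Ideal.Quotient.mk K₀ (MvPolynomial.X ⟨l, k⟩))), ?_⟩
      have hv' := congrArg (φl l) hv
      rw [map_mul, map_one, hφl, φ₀.commutes] at hv'
      rw [map_mul, map_mul, map_mul, map_pow, hφl, hx]
      congr 1
      show φl l v ^ _ * algebraMap M (L l) (MvPolynomial.aeval m (MvPolynomial.X ⟨l, k⟩)) = _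
      rw [MvPolynomial.aeval_X, hz ⟨l, k⟩, Algebra.smul_def, map_pow, ← mul_assoc, ← mul_pow,
        IsScalarTower.algebraMap_apply R M (L l), mul_comm (φl l v), hv', one_pow, one_mul]
  have hkill : ∀ l, ∃ T : Finset F, (∀ k ∈ T, φ₀ k = 0 ∧ ψ₀ k = 0) ∧
      RingHom.ker (φl l).toRingHom ≤ Ideal.span (algebraMap F (Fg l) '' ↑T) := by
    intro l
    haveI : Algebra.FinitePresentation F (Fg l) :=
      IsLocalization.Away.finitePresentation (algebraMap R F (g l))
    haveI : Algebra.FinitePresentation R (Fg l) := Algebra.FinitePresentation.trans R F (Fg l)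
    haveI := hfp l
    obtain ⟨G, hG⟩ := Algebra.FinitePresentation.ker_fG_of_surjective (φl l) (hφlsurj l)
    have hnum : ∀ z ∈ G, ∃ k : F, φ₀ k = 0 ∧ ψ₀ k = 0 ∧ z ∈ Ideal.span {algebraMap F (Fg l) k} := by
      intro z hzG
      obtain ⟨n, k, hk⟩ := IsLocalization.Away.surj (algebraMap R F (g l)) z
      have hz0 : φl l z = 0 := by
        have : z ∈ RingHom.ker (φl l).toRingHom := hG ▸ Ideal.subset_span hzG
        exact this
      have hk0 : algebraMap M (L l) (φ₀ k) = 0 := by
        rw [← hφl, ← hk, map_mul, hz0, zero_mul]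
      obtain ⟨e, he⟩ := exists_pow_mul_eq_zero_of_localization hk0
      have hβ : β (ψ₀ (algebraMap R F (g l) ^ e * k)) = 0 := by
        have := (AlgHom.congr_fun hcomp₀ (algebraMap R F (g l) ^ e * k)).symm
        simp only [AlgHom.comp_apply] at this
        rw [this, map_mul, map_pow, φ₀.commutes, he, map_zero]
      obtain ⟨e', he'⟩ := hinj l _ hβ
      refine ⟨algebraMap R F (g l) ^ (e' + e) * k, ?_, ?_, ?_⟩
      · rw [map_mul, map_pow, φ₀.commutes, pow_add, mul_assoc, he, mul_zero]
      · rw [pow_add, mul_assoc, map_mul, map_pow, ψ₀.commutes]; exact he'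
      · rw [Ideal.mem_span_singleton', map_mul, ← hk]
        obtain ⟨v, hv⟩ := (IsLocalization.Away.algebraMap_isUnit (S := Fg l) (algebraMap R F (g l))).exists_left_inv
        refine ⟨v ^ (e' + e) * v ^ n, ?_⟩
        rw [map_pow, show v ^ (e' + e) * v ^ n * (algebraMap F (Fg l) (algebraMap R F (g l)) ^ (e' + e) *
          (z * algebraMap F (Fg l) (algebraMap R F (g l)) ^ n)) =
          (v * algebraMap F (Fg l) (algebraMap R F (g l))) ^ (e' + e) *
          (v * algebraMap F (Fg l) (algebraMap R F (g l))) ^ n * z by ring, hv, one_pow, one_pow, one_mul, one_mul]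
    choose! k hk1 hk2 hk3 using hnum
    refine ⟨G.image k, fun x hx => ?_, ?_⟩
    · obtain ⟨z, hzG, rfl⟩ := Finset.mem_image.1 hx
      exact ⟨hk1 z hzG, hk2 z hzG⟩
    · rw [← hG, Ideal.span_le]
      intro z hzG
      refine Ideal.span_mono ?_ (hk3 z hzG)
      simp only [Set.singleton_subset_iff, Finset.coe_image]
      exact ⟨k z, ⟨z, hzG, rfl⟩, rfl⟩
  choose T hT hker using hkill
  let K : Ideal F := Ideal.span ↑(Finset.univ.biUnion T)
  let C := F ⧸ K
  have hKφ : ∀ x ∈ K, φ₀ x = 0 := fun x hx => by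
    have : K ≤ RingHom.ker φ₀ := Ideal.span_le.2 fun y hy => by
      obtain ⟨l, -, hy⟩ := Finset.mem_biUnion.1 hy
      exact (hT l y hy).1
    exact this hx
  have hKψ : ∀ x ∈ K, ψ₀ x = 0 := fun x hx => by
    have : K ≤ RingHom.ker ψ₀ := Ideal.span_le.2 fun y hy => by
      obtain ⟨l, -, hy⟩ := Finset.mem_biUnion.1 hy
      exact (hT l y hy).2
    exact this hx
  let φ : C →ₐ[R] M := Ideal.Quotient.liftₐ K φ₀ hKφ
  let ψ : C →ₐ[R] B := Ideal.Quotient.liftₐ K ψ₀ hKψ
  haveI hCfin : Module.Finite R C := Module.Finite.of_surjective (Ideal.Quotient.mkₐ R K).toLinearMap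
    Ideal.Quotient.mk_surjective
  haveI hCfp : Algebra.FinitePresentation R C := Algebra.FinitePresentation.quotient ⟨_, rfl⟩
  have hcomp : α.comp φ = β.comp ψ :=
    Ideal.Quotient.algHom_ext (R₁ := R) (AlgHom.ext fun x => AlgHom.congr_fun hcomp₀ x)
  suffices key : ∀ l, ∃ e : Localization.Away (algebraMap R C (g l)) ≃+* Localization.Away (algebraMap R M (g l)),
      ∀ c, e (algebraMap C _ c) = algebraMap M _ (φ c) from
    ⟨C, Ideal.Quotient.commRing K, Ideal.Quotient.algebra R, φ, ψ, hCfin, hCfp, hcomp, key⟩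
  exact fun l => exists_localization_equiv (F := F) (C := F ⧸ K) (Ideal.Quotient.mkₐ R K) Ideal.Quotient.mk_surjective φ₀ φ
    (AlgHom.ext fun _ => rfl) (g l) (φl l) (hφl l) (hφlsurj l) ↑(T l)
    (fun x hx => Ideal.Quotient.eq_zero_iff_mem.2
      (Ideal.subset_span (Finset.mem_biUnion.2 ⟨l, Finset.mem_univ l, hx⟩))) (hker l)

end Groth.Agent.H7Lim
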