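import Groth.Agent.H7Lim.ExtendAffine
import Groth.Agent.H7Lim.GlueOpen
import Groth.Agent.H17.TwoGlue
import Mathlib.AlgebraicGeometry.Morphisms.QuasiCompact

/-!
# Extending a finite finitely presented factorisation of an integral morphism
-/

set_option autoImplicit false
set_option backward.isDefEq.respectTransparency false
set_option linter.style.haveILetI false

universe u

open CategoryTheory AlgebraicGeometry TopologicalSpace

namespace Groth.Agent.H7Lim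

theorem hom_ext_two {X Y : Scheme.{u}} {A B C : X.Opens} (hA : A ≤ C) (hB : B ≤ C) (hC : C ≤ A ⊔ B)
    {a b : C.toScheme ⟶ Y} (h₁ : X.homOfLE hA ≫ a = X.homOfLE hA ≫ b)
    (h₂ : X.homOfLE hB ≫ a = X.homOfLE hB ≫ b) : a = b := by
  refine Scheme.hom_ext_of_forall _ _ fun x => ?_
  have key : ∀ {D : X.Opens} (hD : D ≤ C), x.1 ∈ D → X.homOfLE hD ≫ a = X.homOfLE hD ≫ b →
      ∃ U : C.toScheme.Opens, x ∈ U ∧ U.ι ≫ a = U.ι ≫ b := fun {D} hD hx h => by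
    refine ⟨C.ι ⁻¹ᵁ D, hx, ?_⟩
    let k : (C.ι ⁻¹ᵁ D).toScheme ⟶ D.toScheme := IsOpenImmersion.lift D.ι ((C.ι ⁻¹ᵁ D).ι ≫ C.ι) (by
      rw [Scheme.Opens.range_ι]; rintro _ ⟨z, rfl⟩; exact z.2)
    have hk : k ≫ X.homOfLE hD = (C.ι ⁻¹ᵁ D).ι := by
      rw [← cancel_mono C.ι, Category.assoc, Scheme.homOfLE_ι, IsOpenImmersion.lift_fac]
    rw [← hk, Category.assoc, Category.assoc, h]
  rcases hC x.2 with hx | hx
  · exact key hA hx h₁
  · exact key hB hx h₂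

variable {X S : Scheme.{u}} (f : X ⟶ S) [IsIntegralHom f]

/-- A finite finitely presented factorisation of `f` over the open `W`. -/
structure FactorOver (W : S.Opens) where
  P : Scheme.{u}
  p : P ⟶ S
  fp : FinFpOver p W
  preimage_eq : p ⁻¹ᵁ W = ⊤
  a : (f ⁻¹ᵁ W).toScheme ⟶ P
  fac : a ≫ p = (f ⁻¹ᵁ W).ι ≫ f

variable {f}

/-- `E'` extends `E`. -/
def FactorOver.Extends {W W' : S.Opens} (E' : FactorOver f W') (E : FactorOver f W) : Prop :=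
  ∃ (h : W ≤ W') (i : E.P ⟶ E'.P), IsOpenImmersion i ∧ Set.range i = ↑(E'.p ⁻¹ᵁ W) ∧ i ≫ E'.p = E.p ∧
    X.homOfLE (f.preimage_mono h) ≫ E'.a = E.a ≫ i

theorem FactorOver.Extends.refl {W : S.Opens} (E : FactorOver f W) : E.Extends E :=
  ⟨le_rfl, 𝟙 _, inferInstance, by rw [E.preimage_eq]; simp, Category.id_comp _, by simp⟩

theorem FactorOver.Extends.trans {W W' W'' : S.Opens} {E'' : FactorOver f W''} {E' : FactorOver f W'}
    {E : FactorOver f W} (h₂ : E''.Extends E') (h₁ : E'.Extends E) : E''.Extends E := by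
  obtain ⟨h', i', hi', hr', hp', ha'⟩ := h₂
  obtain ⟨h, i, hi, hr, hp, ha⟩ := h₁
  refine ⟨h.trans h', i ≫ i', inferInstance, ?_, by rw [Category.assoc, hp', hp], ?_⟩
  · ext x
    constructor
    · rintro ⟨y, rfl⟩
      show E''.p ((i ≫ i') y) ∈ W
      rw [← Scheme.Hom.comp_apply, Category.assoc, hp']
      exact hr.le ⟨y, rfl⟩
    · intro hx
      obtain ⟨z, rfl⟩ : x ∈ Set.range i' := hr'.ge (h hx)
      have hz : z ∈ E'.p ⁻¹ᵁ W := by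
        show E'.p z ∈ W
        rw [← hp', Scheme.Hom.comp_apply]
        exact hx
      obtain ⟨y, rfl⟩ := hr.ge hz
      exact ⟨y, rfl⟩
  · rw [← X.homOfLE_homOfLE (f.preimage_mono h) (f.preimage_mono h'), Category.assoc, ha', reassoc_of% ha]

theorem exists_extends_sup [QuasiSeparatedSpace S] {W : S.Opens} (hW : IsCompact (W : Set S))
    (E : FactorOver f W) {V : S.Opens} (hV : IsAffineOpen V) :
    ∃ E' : FactorOver f (W ⊔ V), E'.Extends E := by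
  haveI : IsAffine V.toScheme := hV
  let O : V.toScheme.Opens := V.ι ⁻¹ᵁ W
  have hOimg : V.ι ''ᵁ O = V ⊓ W := by
    rw [Scheme.Hom.image_preimage_eq_opensRange_inf, Scheme.Opens.opensRange_ι]
  have hO : IsCompact (O : Set V.toScheme) := by
    rw [V.ι.isOpenEmbedding.isEmbedding.isCompact_iff]
    show IsCompact ((V.ι ''ᵁ O : S.Opens) : Set S)
    rw [hOimg]
    exact QuasiSeparatedSpace.inter_isCompact (α := S) (V : Set S) (W : Set S) V.2 hV.isCompact W.2 hW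
  let qo := E.p ∣_ V
  have hqo : FinFpOver qo O := by
    rw [← finFpOver_comp_openImm qo V.ι O, hOimg, show qo ≫ V.ι = (E.p ⁻¹ᵁ V).ι ≫ E.p from
      morphismRestrict_ι _ _]
    refine (finFpOver_congr_comp ?_).2 (finFpOver_mono E.fp inf_le_right)
    rw [Scheme.Opens.opensRange_ι]
    exact E.p.preimage_mono inf_le_left
  have hqr : qo ⁻¹ᵁ O = ⊤ := top_le_iff.1 fun y _ => by
    show ((E.p ∣_ V) y).1 ∈ W
    rw [morphismRestrict_base_coe]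
    exact (SetLike.ext_iff.1 E.preimage_eq y.1).2 trivial
  let fV := f ∣_ V
  have hle : ∀ z : (fV ⁻¹ᵁ O).toScheme, ((fV ⁻¹ᵁ O).ι ≫ (f ⁻¹ᵁ V).ι) z ∈ f ⁻¹ᵁ W := fun z => by
    show f z.1.1 ∈ W
    rw [← morphismRestrict_base_coe]
    exact z.2
  let u : (fV ⁻¹ᵁ O).toScheme ⟶ (f ⁻¹ᵁ W).toScheme :=
    IsOpenImmersion.lift (f ⁻¹ᵁ W).ι ((fV ⁻¹ᵁ O).ι ≫ (f ⁻¹ᵁ V).ι) (by
      rw [Scheme.Opens.range_ι]; rintro _ ⟨z, rfl⟩; exact hle z)
  have hu : u ≫ (f ⁻¹ᵁ W).ι = (fV ⁻¹ᵁ O).ι ≫ (f ⁻¹ᵁ V).ι := IsOpenImmersion.lift_fac _ _ _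
  have hua : (u ≫ E.a) ≫ E.p = ((fV ⁻¹ᵁ O).ι ≫ fV) ≫ V.ι := by
    rw [Category.assoc, E.fac, reassoc_of% hu, Category.assoc, morphismRestrict_ι]
  let ao : (fV ⁻¹ᵁ O).toScheme ⟶ (E.p ⁻¹ᵁ V).toScheme :=
    IsOpenImmersion.lift (E.p ⁻¹ᵁ V).ι (u ≫ E.a) (by
      rw [Scheme.Opens.range_ι]
      rintro _ ⟨z, rfl⟩
      show E.p ((u ≫ E.a) z) ∈ V
      rw [← Scheme.Hom.comp_apply, hua]
      exact Subtype.mem _)
  have hao' : ao ≫ (E.p ⁻¹ᵁ V).ι = u ≫ E.a := IsOpenImmersion.lift_fac _ _ _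
  have hao : ao ≫ qo = (fV ⁻¹ᵁ O).ι ≫ fV := by
    rw [← cancel_mono V.ι, Category.assoc, morphismRestrict_ι, reassoc_of% hao']
    simpa only [Category.assoc] using hua
  obtain ⟨P, p, j, aV, hp, hj, hjr, hjp, hap, hao2⟩ := exists_extension_affine O hO qo hqo hqr fV ao hao
  obtain ⟨G, i₁, i₂, g, hi₁, hi₂, hij, hg₁, hg₂, hcov, hmeet⟩ :=
    exists_glue_open (E.p ⁻¹ᵁ V).ι j E.p (p ≫ V.ι) (by
      rw [reassoc_of% hjp, morphismRestrict_ι])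
  have hr₁ : Set.range i₁ = ↑(g ⁻¹ᵁ W) := by
    ext x
    constructor
    · rintro ⟨y, rfl⟩
      show g (i₁ y) ∈ W
      rw [← Scheme.Hom.comp_apply, hg₁]
      exact (SetLike.ext_iff.1 E.preimage_eq y).2 trivial
    · intro hx
      rcases hcov x with h | ⟨c, rfl⟩
      · exact h
      · have hc : c ∈ p ⁻¹ᵁ O := by
          show (p ≫ V.ι) c ∈ W
          rw [← hg₂]; exact hx
        obtain ⟨y, rfl⟩ := hjr.ge hc
        refine ⟨(E.p ⁻¹ᵁ V).ι y, ?_⟩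
        rw [← Scheme.Hom.comp_apply, hij]; rfl
  have hr₂ : g ⁻¹ᵁ V ≤ i₂.opensRange := by
    intro x hx
    rcases hcov x with ⟨y, rfl⟩ | h
    · have hy : y ∈ E.p ⁻¹ᵁ V := by
        show E.p y ∈ V
        rw [← hg₁]; exact hx
      refine ⟨j ⟨y, hy⟩, ?_⟩
      show i₂ (j ⟨y, hy⟩) = i₁ y
      rw [← Scheme.Hom.comp_apply, ← hij]; rfl
    · exact h
  have hgW : FinFpOver g W := (finFpOver_congr_comp (i := i₁) (f := g) (U := W)
    (fun x hx => hr₁.ge hx)).1 (hg₁ ▸ E.fp)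
  have hgV : FinFpOver g V := by
    refine (finFpOver_congr_comp (i := i₂) (f := g) (U := V) hr₂).1 ?_
    rw [hg₂]
    exact (finFpOver_iff_of_comp_ι p).2 hp
  have hgtop : g ⁻¹ᵁ (W ⊔ V) = ⊤ := top_le_iff.1 fun x _ => by
    rcases hcov x with h | ⟨c, rfl⟩
    · exact Or.inl (hr₁.le h)
    · refine Or.inr ?_
      show g (i₂ c) ∈ V
      rw [← Scheme.Hom.comp_apply, hg₂]
      exact Subtype.mem _
  have hleO : ∀ z : (f ⁻¹ᵁ W ⊓ f ⁻¹ᵁ V : X.Opens).toScheme,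
      fV (X.homOfLE (inf_le_right : f ⁻¹ᵁ W ⊓ f ⁻¹ᵁ V ≤ f ⁻¹ᵁ V) z) ∈ O := fun z => by
    show ((f ∣_ V) _).1 ∈ W
    rw [morphismRestrict_base_coe, Scheme.homOfLE_apply]
    exact z.2.1
  let v : (f ⁻¹ᵁ W ⊓ f ⁻¹ᵁ V : X.Opens).toScheme ⟶ (fV ⁻¹ᵁ O).toScheme :=
    IsOpenImmersion.lift (fV ⁻¹ᵁ O).ι (X.homOfLE inf_le_right) (by
      rw [Scheme.Opens.range_ι]; rintro _ ⟨z, rfl⟩; exact hleO z)
  have hv : v ≫ (fV ⁻¹ᵁ O).ι = X.homOfLE inf_le_right := IsOpenImmersion.lift_fac _ _ _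
  have hvu : v ≫ u = X.homOfLE inf_le_left := by
    rw [← cancel_mono (f ⁻¹ᵁ W).ι, Category.assoc, hu, reassoc_of% hv, Scheme.homOfLE_ι, Scheme.homOfLE_ι]
  obtain ⟨a', ha'W, ha'V⟩ := H17.exists_glue_two (f ⁻¹ᵁ W) (f ⁻¹ᵁ V) (E.a ≫ i₁) (aV ≫ i₂) (by
    rw [← hvu, ← hv, Category.assoc, Category.assoc, reassoc_of% hao2, ← hij,
      reassoc_of% hao'])
  refine ⟨⟨G, g, finFpOver_sup hgW hgV, hgtop, a', ?_⟩, le_sup_left, i₁, hi₁, hr₁, hg₁, ha'W⟩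
  refine hom_ext_two (f.preimage_mono le_sup_left) (f.preimage_mono le_sup_right) le_rfl ?_ ?_
  · rw [reassoc_of% ha'W, Scheme.homOfLE_ι_assoc, hg₁, E.fac]
  · rw [reassoc_of% ha'V, Scheme.homOfLE_ι_assoc, hg₂, reassoc_of% hap, morphismRestrict_ι]

/-- A finite finitely presented factorisation over a quasi-compact open extends to the whole base. -/
theorem exists_extends [QuasiSeparatedSpace S] {W : S.Opens} (hW : IsCompact (W : Set S))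
    (E : FactorOver f W) (K : S.Opens) (hK : IsCompact (K : Set S)) :
    ∃ E' : FactorOver f (W ⊔ K), E'.Extends E := by
  refine compact_open_induction_on K hK ?_ ?_
  · rw [sup_bot_eq]
    exact ⟨E, .refl E⟩
  · rintro K' hK' U ⟨E', hE'⟩
    obtain ⟨E'', hE''⟩ := exists_extends_sup (W := W ⊔ K') (by
      rw [Opens.coe_sup]; exact hW.union hK') E' U.2
    rw [← sup_assoc]
    exact ⟨E'', hE''.trans hE'⟩

/-- Global form of the extension. -/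
theorem exists_extends_top [QuasiSeparatedSpace S] [CompactSpace S] {W : S.Opens}
    (hW : IsCompact (W : Set S)) (E : FactorOver f W) :
    ∃ (P : Scheme.{u}) (p : P ⟶ S) (a : X ⟶ P) (i : E.P ⟶ P), finFp p ∧ a ≫ p = f ∧
      IsOpenImmersion i ∧ Set.range i = ↑(p ⁻¹ᵁ W) ∧ i ≫ p = E.p ∧ (f ⁻¹ᵁ W).ι ≫ a = E.a ≫ i := by
  obtain ⟨E', hE'⟩ := exists_extends hW E ⊤ isCompact_univ
  revert E'
  rw [sup_top_eq]
  rintro E' ⟨h, i, hi, hr, hp, ha⟩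
  haveI : IsIso (f ⁻¹ᵁ (⊤ : S.Opens)).ι := X.topIso.isIso_hom
  refine ⟨E'.P, E'.p, inv (f ⁻¹ᵁ (⊤ : S.Opens)).ι ≫ E'.a, i, (finFpOver_top _).1 E'.fp, ?_, hi, hr, hp, ?_⟩
  · rw [Category.assoc, E'.fac, IsIso.inv_hom_id_assoc]
  · rw [← ha, ← Category.assoc]
    congr 1
    rw [IsIso.comp_inv_eq, Scheme.homOfLE_ι]

end Groth.Agent.H7Lim
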