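import Groth.Agent.H7Lim.ProCons
import Groth.Agent.H7Lim.Sections
import Groth.Agent.H05EGA4.ConsChart
import Mathlib.AlgebraicGeometry.Morphisms.UniversallyOpen
import Mathlib.CategoryTheory.Filtered.Final
import Mathlib

/-!
# Closures of pro-constructible sets along flat morphisms and flat limits
-/

set_option autoImplicit false
set_option backward.isDefEq.respectTransparency false
set_option linter.style.haveILetI false

universe u

open AlgebraicGeometry CategoryTheory Limits TopologicalSpace Topology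

namespace Groth.Agent.H7Lim

/-- Points of the closure of a pro-constructible set are specialisations of its points. -/
theorem exists_specializes_of_mem_closure_proCons {Y : Scheme.{u}} {Z : Set Y}
    (hZ : ProCons.IsProConstructible Z) {y : Y} (hy : y ∈ closure Z) : ∃ e ∈ Z, e ⤳ y := by
  obtain ⟨V, hV, hyV, -⟩ := exists_isAffineOpen_mem_and_subset (U := (⊤ : Y.Opens)) (x := y) trivial
  haveI : IsAffine V.toScheme := hV
  haveI : SpectralSpace V.toScheme := {}
  have h1 : (⟨y, hyV⟩ : V.toScheme) ∈ closure (V.ι ⁻¹' Z) := by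
    rw [← V.ι.isOpenEmbedding.isOpenMap.preimage_closure_eq_closure_preimage V.ι.continuous]
    exact hy
  obtain ⟨e, he, hey⟩ := H28Top.exists_specializes_of_mem_closure (isClosed_constr_preimage hZ V.ι) h1
  exact ⟨V.ι e, he, hey.map V.ι.continuous⟩

/-- For a flat morphism the inverse image of the closure of a pro-constructible set is the closure of
the inverse image. -/
theorem preimage_closure_eq_of_flat {X Y : Scheme.{u}} (f : X ⟶ Y) [Flat f] {Z : Set Y}
    (hZ : ProCons.IsProConstructible Z) : ⇑f ⁻¹' closure Z = closure (⇑f ⁻¹' Z) := by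
  refine subset_antisymm (fun p hp => ?_) (f.continuous.closure_preimage_subset Z)
  obtain ⟨e, he, hep⟩ := exists_specializes_of_mem_closure_proCons hZ hp
  obtain ⟨p', hp', hpe⟩ := Flat.generalizingMap f hep
  refine (specializes_iff_closure_subset.1 hp').trans ?_ (subset_closure rfl)
  exact closure_mono (Set.singleton_subset_iff.2 (show f p' ∈ Z from hpe ▸ he))

/-- Constructible sets are ind-constructible. -/
theorem isIndConstructible_of_isConstructible {Y : Scheme.{u}} {F : Set Y}
    (hF : IsConstructible F) : ProCons.IsIndConstructible F := fun _ =>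
  ⟨Set.univ, isOpen_univ, trivial, {Subtype.val ⁻¹' F}, fun T hT => by
    rw [Set.mem_singleton_iff.1 hT]
    exact hF.isLocallyConstructible.preimage_of_isOpenEmbedding isOpen_univ.isOpenEmbedding_subtypeVal,
    (Set.sUnion_singleton _).symm⟩

theorem subset_closure_preimage_iff {I : Type u} [SmallCategory I] [IsCofiltered I]
    (D : I ⥤ Scheme.{u}) (c : Cone D) (hc : IsLimit c)
    [∀ (i j : I) (f : i ⟶ j), IsAffineHom (D.map f)] (i₁ : I) [CompactSpace (D.obj i₁)]
    (hfl : ∀ (i j : I) (φ : i ⟶ j), Flat (D.map φ))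
    (Z' Z'' : Set (D.obj i₁)) (hZ' : ProCons.IsProConstructible Z') (hZ'' : ProCons.IsProConstructible Z'')
    (hcl : IsConstructible (closure Z')) :
    (⇑(c.π.app i₁) ⁻¹' Z'' : Set c.pt) ⊆ closure (⇑(c.π.app i₁) ⁻¹' Z' : Set c.pt) ↔
      ∃ (j : I) (φ : j ⟶ i₁), ⇑(D.map φ) ⁻¹' Z'' ⊆ closure (⇑(D.map φ) ⁻¹' Z') := by
  haveI : Flat (c.π.app i₁) := flat_π_app hc i₁ fun j φ => hfl j i₁ φ
  rw [← preimage_closure_eq_of_flat _ hZ']
  constructor
  · intro h
    let E : Set (D.obj i₁) := Z'' \ closure Z'
    have hE : ProCons.IsProConstructible E :=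
      isProConstructible_sdiff' hZ'' (isIndConstructible_of_isConstructible hcl)
    let D' : Over i₁ ⥤ Scheme.{u} := Over.forget i₁ ⋙ D
    haveI : ∀ (a b : Over i₁) (f : a ⟶ b), IsAffineHom (D'.map f) := fun a b f =>
      inferInstanceAs (IsAffineHom (D.map f.left))
    haveI : CompactSpace (D'.obj (Over.mk (𝟙 i₁))) := inferInstanceAs (CompactSpace (D.obj i₁))
    obtain ⟨a, -, ha⟩ := exists_eq_empty_of_proCons D' (c.whisker (Over.forget i₁))
      ((Functor.Initial.isLimitWhiskerEquiv (Over.forget i₁) c).symm hc) (Over.mk (𝟙 i₁))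
      (fun a => ⇑(D.map a.hom) ⁻¹' E) (fun a => H05EGA4.ConsChart.pro_preimage _ hE)
      (fun a b f x hx => by
        show D.map b.hom (D.map f.left x) ∈ E
        rw [← Scheme.Hom.comp_apply, ← D.map_comp, Over.w]
        exact hx)
      (Set.eq_empty_iff_forall_notMem.2 fun x hx => by
        have h1 : (D.map (𝟙 i₁)) (c.π.app i₁ x) ∈ E := Set.mem_iInter.1 hx (Over.mk (𝟙 i₁))
        rw [D.map_id] at h1
        exact h1.2 (h h1.1))
    refine ⟨a.left, a.hom, fun x hx => ?_⟩
    haveI : Flat (D.map a.hom) := hfl _ _ _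
    rw [← preimage_closure_eq_of_flat _ hZ']
    by_contra hn
    exact Set.eq_empty_iff_forall_notMem.1 ha x ⟨hx, hn⟩
  · rintro ⟨j, φ, hj⟩ x hx
    haveI : Flat (D.map φ) := hfl _ _ _
    rw [← preimage_closure_eq_of_flat _ hZ'] at hj
    have e : c.π.app i₁ x = D.map φ (c.π.app j x) := by
      rw [← Scheme.Hom.comp_apply, c.w]
      rfl
    show c.π.app i₁ x ∈ closure Z'
    rw [e]
    exact hj (show D.map φ (c.π.app j x) ∈ Z'' from e ▸ hx)

end Groth.Agent.H7Lim
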