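import Groth.Agent.S2514
import Groth.Agent.H22Alg.GeomReducedAt
import Groth.Agent.H06Curve130.Scheme
import Groth.Agent.H06Red.Scheme
import Groth.Agent.H17.Reduced
import Groth.Agent.H8Props.Reduced

/-!
# Making reductions geometrically reduced by a finite purely inseparable extension
-/

set_option autoImplicit false
set_option linter.style.haveILetI false
set_option backward.isDefEq.respectTransparency false

universe u

open CategoryTheory CategoryTheory.Limits AlgebraicGeometry TopologicalSpace TensorProduct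

namespace Groth.Agent.H7Lim.GRReduction

theorem range_of_isPullback' {P A B C : Scheme.{u}} {a : P ⟶ A} {b : P ⟶ B} {c : A ⟶ C} {d : B ⟶ C}
    (h : IsPullback a b c d) : Set.range b = d ⁻¹' Set.range c := by
  rw [← h.isoPullback_hom_snd, Scheme.Hom.comp_base, TopCat.coe_comp,
    h.isoPullback.hom.surjective.range_comp, Scheme.Pullback.range_snd]

theorem exists_common {k : Type u} [Field k] {ι : Type*} [Finite ι] (A : ι → Type u) [∀ i, CommRing (A i)]
    [∀ i, Algebra k (A i)] [∀ i, Algebra.FiniteType k (A i)] :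
    ∃ (k' : Type u) (_ : Field k') (_ : Algebra k k'), FiniteDimensional k k' ∧ IsPurelyInseparable k k' ∧
      ∀ i, Algebra.IsGeometricallyReduced k' ((k' ⊗[k] A i) ⧸ nilradical (k' ⊗[k] A i)) := by
  classical
  let K := perfectClosure k (AlgebraicClosure k)
  haveI : IsPurelyInseparable k K := perfectClosure.isPurelyInseparable k (AlgebraicClosure k)
  have key : ∀ (i : ι) (x : K ⊗[k] A i), ∃ s : Finset K, ∀ L : IntermediateField k K, (↑s : Set K) ⊆ L →
      x ∈ Set.range (Algebra.TensorProduct.map L.val (AlgHom.id k (A i))) := by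
    intro i x
    induction x with
    | zero => exact ⟨∅, fun L _ => ⟨0, map_zero _⟩⟩
    | tmul c a =>
      exact ⟨{c}, fun L hL => ⟨(⟨c, hL (by simp)⟩ : ↥L) ⊗ₜ[k] a, by simp⟩⟩
    | add x y hx hy =>
      obtain ⟨s, hs⟩ := hx
      obtain ⟨t, ht⟩ := hy
      refine ⟨s ∪ t, fun L hL => ?_⟩
      rw [Finset.coe_union, Set.union_subset_iff] at hL
      obtain ⟨a, ha⟩ := hs L hL.1
      obtain ⟨b, hb⟩ := ht L hL.2
      exact ⟨a + b, by rw [map_add, ha, hb]⟩
  choose s hs using key
  have hfg : ∀ i, ∃ T : Finset (K ⊗[k] A i), Ideal.span (T : Set (K ⊗[k] A i)) = nilradical (K ⊗[k] A i) := by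
    intro i
    haveI : IsNoetherianRing (K ⊗[k] A i) := Algebra.FiniteType.isNoetherianRing K (K ⊗[k] A i)
    exact (IsNoetherian.noetherian (nilradical (K ⊗[k] A i)) : (nilradical (K ⊗[k] A i)).FG)
  choose T hT using hfg
  haveI := Fintype.ofFinite ι
  let F : Finset K := Finset.univ.biUnion fun i => (T i).biUnion (s i)
  let k' := IntermediateField.adjoin k (↑F : Set K)
  haveI : FiniteDimensional k k' :=
    IntermediateField.finiteDimensional_adjoin fun x _ => Algebra.IsIntegral.isIntegral x
  haveI : IsPurelyInseparable k k' := IsPurelyInseparable.tower_bot k k' K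
  refine ⟨k', inferInstance, inferInstance, inferInstance, inferInstance, fun i => ?_⟩
  exact S2514.aux2 K (A i) k' (T i) (hT i) fun x hx => hs i x k' (Set.Subset.trans
    (fun a ha => Finset.mem_biUnion.mpr ⟨i, Finset.mem_univ i, Finset.mem_biUnion.mpr ⟨x, hx, ha⟩⟩)
    (IntermediateField.subset_adjoin k _))

/-- A reduced scheme onto which the spectrum of `k' ⊗ A` retracts is geometrically reduced as soon as
the reduction of `k' ⊗ A` is. -/
theorem spec_piece {k : Type u} [Field k] (k' A : Type u) [Field k'] [Algebra k k'] [CommRing A] [Algebra k A]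
    (hQ : Algebra.IsGeometricallyReduced k' ((k' ⊗[k] A) ⧸ nilradical (k' ⊗[k] A))) {R : Scheme.{u}}
    [IsReduced R] (r : R ⟶ pullback (Spec.map (CommRingCat.ofHom (algebraMap k A)))
      (Spec.map (CommRingCat.ofHom (algebraMap k k')))) [IsClosedImmersion r] [Surjective r] :
    GeometricallyReduced (r ≫ pullback.snd _ _) := by
  let Q := (k' ⊗[k] A) ⧸ nilradical (k' ⊗[k] A)
  let m : (A ⊗[k] k') →+* Q :=
    (Ideal.Quotient.mk (nilradical (k' ⊗[k] A))).comp (Algebra.TensorProduct.comm k A k').toAlgHom.toRingHom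
  have hm : Function.Surjective m :=
    Ideal.Quotient.mk_surjective.comp (Algebra.TensorProduct.comm k A k').surjective
  let c := Spec.map (CommRingCat.ofHom m) ≫ (pullbackSpecIso k A k').inv
  haveI : IsClosedImmersion (Spec.map (CommRingCat.ofHom m)) := IsClosedImmersion.spec_of_surjective _ hm
  haveI : Surjective (Spec.map (CommRingCat.ofHom m)) := by
    refine ⟨fun p => ?_⟩
    have h1 : (p : PrimeSpectrum (A ⊗[k] k')) ∈ Set.range (PrimeSpectrum.comap m) := by
      rw [_root_.range_comap_of_surjective _ m hm, PrimeSpectrum.mem_zeroLocus]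
      intro x hx
      have hx' : IsNilpotent (Algebra.TensorProduct.comm k A k' x) :=
        mem_nilradical.1 (Ideal.Quotient.eq_zero_iff_mem.1 hx)
      exact nilradical_le_prime _ (mem_nilradical.2
        ((IsNilpotent.map_iff (Algebra.TensorProduct.comm k A k').injective).1 hx'))
    exact h1
  have hc : c ≫ pullback.snd _ _ = Spec.map (CommRingCat.ofHom (algebraMap k' Q)) := by
    rw [Category.assoc, pullbackSpecIso_inv_snd, ← Spec.map_comp, ← CommRingCat.ofHom_comp]
    congr 2
  haveI : _root_.IsReduced Q := (Ideal.isRadical_iff_quotient_reduced _).1 (Ideal.radical_isRadical _)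
  haveI : IsReduced (Spec (CommRingCat.of Q)) := inferInstance
  obtain ⟨e, he⟩ := H17.exists_iso_of_range_eq r c (by rw [r.surjective.range_eq, c.surjective.range_eq])
  rw [← he, Category.assoc, hc, MorphismProperty.cancel_left_of_respectsIso (P := @GeometricallyReduced)]
  refine ⟨geometrically_iff_of_isClosedUnderIsomorphisms.2 fun K _ y => ?_⟩
  obtain ⟨φ, rfl⟩ := Spec.map_surjective y
  letI := φ.hom.toAlgebra
  haveI : IsReduced (pullback (Spec.map φ) (Spec.map (CommRingCat.ofHom (algebraMap k' Q)))) :=
    H06Red.isReduced_Spec_pullback Q K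
  exact isReduced_of_isOpenImmersion (pullbackSymmetry (Spec.map (CommRingCat.ofHom (algebraMap k' Q))) (Spec.map φ)).hom

/-- A finite purely inseparable extension making the reduction of the base change geometrically reduced. -/
theorem exists_extension {k : Type u} [Field k] {P : Scheme.{u}} (g : P ⟶ Spec (CommRingCat.of k))
    [LocallyOfFiniteType g] (hfin : (genericPoints P).Finite) :
    ∃ (k' : Type u) (_ : Field k') (_ : Algebra k k'), FiniteDimensional k k' ∧ IsPurelyInseparable k k' ∧
      ∀ (R : Scheme.{u}) [IsReduced R] (r : R ⟶ FBase.bc g k') [IsClosedImmersion r] [Surjective r],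
        GeometricallyReduced (r ≫ FBase.bcStr g k') := by
  haveI : Finite ↥(genericPoints P) := hfin.to_subtype
  have hch : ∀ η : ↥(genericPoints P), ∃ U : P.Opens, IsAffineOpen U ∧ η.1 ∈ U := fun η => by
    obtain ⟨_, ⟨U, hU, rfl⟩, hxU, -⟩ :=
      P.isBasis_affineOpens.exists_subset_of_mem_open (Set.mem_univ η.1) isOpen_univ
    exact ⟨U, hU, hxU⟩
  choose U hU hηU using hch
  have hψ : ∀ η, ∃ ψ : CommRingCat.of k ⟶ Γ(P, U η), Spec.map ψ = (hU η).fromSpec ≫ g :=
    fun η => Spec.map_surjective _
  choose ψ hψ using hψ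
  letI : ∀ η, Algebra k Γ(P, U η) := fun η => (ψ η).hom.toAlgebra
  haveI : ∀ η, Algebra.FiniteType k Γ(P, U η) := fun η => by
    have h : LocallyOfFiniteType (Spec.map (ψ η)) := by rw [hψ η]; infer_instance
    exact (HasRingHomProperty.Spec_iff (P := @LocallyOfFiniteType)).1 h
  obtain ⟨k', _, _, hk'fd, hk'pi, hk'⟩ := exists_common (k := k) (fun η : ↥(genericPoints P) => (Γ(P, U η) : Type u))
  refine ⟨k', inferInstance, inferInstance, hk'fd, hk'pi, fun R _ r _ _ => ?_⟩
  let s := r ≫ FBase.bcStr g k'
  letI : R.Over (Spec (CommRingCat.of k')) := ⟨s⟩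
  refine H22Alg.GeomReducedAt.geometricallyReduced_of_genericPoints k' R fun η hη => ?_
  let σ : Spec (CommRingCat.of k') ⟶ Spec (CommRingCat.of k) := Spec.map (CommRingCat.ofHom (algebraMap k k'))
  have hπ : IsHomeomorph (r ≫ FBase.bcπ g k') := by
    letI : P.Over (Spec (CommRingCat.of k)) := ⟨g⟩
    have h1 : IsHomeomorph (FBase.bcπ g k') := H06Curve130.isHomeomorph_bcFst k P k'
    have h2 : IsHomeomorph r := isHomeomorph_iff_continuous_isClosedMap_bijective.2
      ⟨r.continuous, r.isClosedEmbedding.isClosedMap, r.isClosedEmbedding.injective, r.surjective⟩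
    rw [Scheme.Hom.comp_base, TopCat.coe_comp]
    exact h1.comp h2
  have hgen : (r ≫ FBase.bcπ g k') η ∈ genericPoints P := by
    rw [H8Props.mem_genericPoints_iff] at hη ⊢
    intro w hw
    obtain ⟨w', rfl⟩ := hπ.surjective w
    rw [hη w' (hπ.isInducing.specializes_iff.1 hw)]
  let i : ↥(genericPoints P) := ⟨_, hgen⟩
  let a := Spec.map (CommRingCat.ofHom (algebraMap k Γ(P, U i)))
  have ha : a = (hU i).fromSpec ≫ g := hψ i
  let m : pullback a σ ⟶ FBase.bc g k' :=
    pullback.map a σ g σ (hU i).fromSpec (𝟙 _) (𝟙 _) (by rw [Category.comp_id, ha]) (by simp)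
  have hmsq : IsPullback m (pullback.fst a σ) (pullback.fst g σ) (hU i).fromSpec := by
    refine IsPullback.of_right ?_ (pullback.lift_fst _ _ _) (IsPullback.of_hasPullback g σ).flip
    rw [show m ≫ pullback.snd g σ = pullback.snd a σ from (pullback.lift_snd _ _ _).trans (Category.comp_id _), ← ha]
    exact (IsPullback.of_hasPullback a σ).flip
  haveI : IsOpenImmersion m := MorphismProperty.of_isPullback hmsq.flip inferInstance
  let b := pullback.fst r m
  haveI : IsReduced (pullback r m) := isReduced_of_isOpenImmersion b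
  have hGR : GeometricallyReduced (b ≫ s) := by
    have := spec_piece k' Γ(P, U i) (hk' i) (pullback.snd r m)
    rw [show pullback.snd r m ≫ pullback.snd a σ = b ≫ s by
      rw [← show m ≫ pullback.snd g σ = pullback.snd a σ from
        (pullback.lift_snd _ _ _).trans (Category.comp_id _), ← pullback.condition_assoc]
      rfl] at this
    exact this
  intro K _ _ x' hx'
  let σK : Spec (CommRingCat.of K) ⟶ Spec (CommRingCat.of k') := Spec.map (CommRingCat.ofHom (algebraMap k' K))
  haveI : IsReduced (pullback (b ≫ s) σK) := hGR.geometrically_isReduced _ _ _ (.of_hasPullback _ _)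
  haveI : IsReduced (pullback b (pullback.fst s σK)) :=
    isReduced_of_isOpenImmersion (pullbackRightPullbackFstIso s σK b).hom
  let j := pullback.snd b (pullback.fst s σK)
  obtain ⟨t, rfl⟩ : x' ∈ Set.range j := by
    rw [Scheme.Pullback.range_snd]
    show pullback.fst s σK x' ∈ Set.range b
    rw [Scheme.Pullback.range_fst]
    have hm : Set.range m = pullback.fst g σ ⁻¹' (U i : Set P) := by
      refine (range_of_isPullback' hmsq.flip).trans ?_
      exact congrArg (pullback.fst g σ ⁻¹' ·) (hU i).range_fromSpec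
    rw [Set.mem_preimage, hm, show pullback.fst s σK x' = η from hx']
    show pullback.fst g σ (r η) ∈ (U i : Set P)
    have h3 : (r ≫ FBase.bcπ g k') η = pullback.fst g σ (r η) := Scheme.Hom.comp_apply _ _ _
    rw [← h3]
    exact hηU i
  exact isReduced_of_injective (asIso (j.stalkMap t)).hom.hom
    (asIso (j.stalkMap t)).commRingCatIsoToRingEquiv.injective

end Groth.Agent.H7Lim.GRReduction
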