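import Groth.Agent.H8Props.SmoothStrat.Generic
import Groth.Agent.H13AlgSp.EtaleLocally
import Groth.Agent.H17.Reduced
import Mathlib.AlgebraicGeometry.Morphisms.UniversallyInjective
import Mathlib.FieldTheory.PurelyInseparable.Basic

/-!
# Stratifications of a scheme over a field by reduced smooth pieces
-/

set_option autoImplicit false
set_option linter.style.haveILetI false
set_option backward.isDefEq.respectTransparency false

universe u

open CategoryTheory CategoryTheory.Limits AlgebraicGeometry TopologicalSpace

namespace Groth.Agent.H7Lim.GRStrat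

theorem isPurelyInseparable_of_universallyInjective (k K : Type u) [Field k] [Field K] [Algebra k K]
    [FiniteDimensional k K] (h : UniversallyInjective (Spec.map (CommRingCat.ofHom (algebraMap k K)))) :
    IsPurelyInseparable k K := by
  rw [isPurelyInseparable_iff_finSepDegree_eq_one]
  haveI : Subsingleton (Field.Emb k K) := by
    refine ⟨fun a b => ?_⟩
    have hinj := ((tfae_universallyInjective _).out 0 1).1 h
    have e := @hinj (CommRingCat.of (AlgebraicClosure K)) (inferInstanceAs (Field (AlgebraicClosure K)))
      (Spec.map (CommRingCat.ofHom a.toRingHom)) (Spec.map (CommRingCat.ofHom b.toRingHom)) (by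
        show Spec.map _ ≫ Spec.map _ = Spec.map _ ≫ Spec.map _
        rw [← Spec.map_comp, ← Spec.map_comp, ← CommRingCat.ofHom_comp, ← CommRingCat.ofHom_comp,
          AlgHom.toRingHom_eq_coe, AlgHom.toRingHom_eq_coe, AlgHom.comp_algebraMap, AlgHom.comp_algebraMap])
    exact AlgHom.coe_ringHom_injective (congrArg CommRingCat.Hom.hom (Spec.map_injective e))
  haveI : Nonempty (Field.Emb k K) := ⟨IsAlgClosed.lift⟩
  exact Nat.card_unique

theorem locallyOfFiniteType_fromSpecResidueField {U V : Scheme.{u}} (v : V ⟶ U) [IsFinite v] [Subsingleton U] (z : V) :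
    LocallyOfFiniteType (V.fromSpecResidueField z) := by
  haveI : DiscreteTopology V := by
    have h := v.isDiscrete_preimage (s := Set.univ) Set.subsingleton_univ.isDiscrete
    rw [Set.preimage_univ] at h
    exact isDiscrete_univ_iff.1 h
  haveI : IsClosedImmersion (V.fromSpecResidueField z) :=
    IsClosedImmersion.of_isPreimmersion _ (isClosed_discrete _)
  infer_instance

/-- The radical ideals of a smooth stratification over a reduced base. -/
theorem exists_reduced_ideals {Z V : Scheme.{u}} [IsReduced V] {g : Z ⟶ V} (h : H8Props.SmoothStrat.Strat g) :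
    ∃ (t : ℕ) (I : Fin (t + 1) → Z.IdealSheafData), Monotone I ∧
      I 0 = Scheme.IdealSheafData.vanishingIdeal ⊤ ∧ I (Fin.last t) = ⊤ ∧
      ∀ i : Fin t, Smooth (((I i.castSucc).subschemeι ⁻¹ᵁ (I i.succ).support.compl).ι ≫
        (I i.castSucc).subschemeι ≫ g) := by
  obtain ⟨t, J, hmono, hlast, h0, -, hsm⟩ := h.exists_ideals
  let I : Fin (t + 1) → Z.IdealSheafData := fun i => Scheme.IdealSheafData.vanishingIdeal (J i).support
  have hI : ∀ i, (I i).support = (J i).support := fun i =>
    SetLike.coe_injective (by simp [I, Scheme.IdealSheafData.coe_support_vanishingIdeal])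
  refine ⟨t, I, fun a b hab => Scheme.IdealSheafData.vanishingIdeal_antimono
    (Scheme.IdealSheafData.support_antitone (hmono hab)), ?_, ?_, fun i => ?_⟩
  · exact congrArg Scheme.IdealSheafData.vanishingIdeal (SetLike.coe_injective (h0.trans (by simp)))
  · show Scheme.IdealSheafData.vanishingIdeal _ = ⊤
    rw [hlast, Scheme.IdealSheafData.support_top, Scheme.IdealSheafData.vanishingIdeal_bot]
  let a := ((J i.castSucc).subschemeι ⁻¹ᵁ (J i.succ).support.compl).ι ≫ (J i.castSucc).subschemeι
  let b := ((I i.castSucc).subschemeι ⁻¹ᵁ (I i.succ).support.compl).ι ≫ (I i.castSucc).subschemeι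
  haveI hsa : Smooth (a ≫ g) := by rw [Category.assoc]; exact hsm i
  haveI : IsClosedImmersion (J i.castSucc).subschemeι := IsClosedImmersion.instSubschemeι _
  haveI : IsClosedImmersion (I i.castSucc).subschemeι := IsClosedImmersion.instSubschemeι _
  haveI := H13AlgSp.isReduced_of_smooth_mor (a ≫ g)
  haveI : IsReduced (I i.castSucc).subscheme := H17.isReduced_vanishingIdeal_subscheme _
  haveI : IsReduced ((I i.castSucc).subschemeι ⁻¹ᵁ (I i.succ).support.compl).toScheme :=
    isReduced_of_isOpenImmersion (Scheme.Opens.ι _)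
  obtain ⟨e, he⟩ := H17.exists_iso_of_range_eq b a (by
    rw [Scheme.Hom.comp_base, Scheme.Hom.comp_base, TopCat.coe_comp, TopCat.coe_comp, Set.range_comp,
      Set.range_comp, Scheme.Opens.range_ι, Scheme.Opens.range_ι]
    show (I i.castSucc).subschemeι '' ((I i.castSucc).subschemeι ⁻¹' ((I i.succ).support : Set Z)ᶜ) =
      (J i.castSucc).subschemeι '' ((J i.castSucc).subschemeι ⁻¹' ((J i.succ).support : Set Z)ᶜ)
    rw [Set.image_preimage_eq_inter_range, Set.image_preimage_eq_inter_range,
      Scheme.IdealSheafData.range_subschemeι, Scheme.IdealSheafData.range_subschemeι, hI, hI])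
  rw [← Category.assoc]
  show Smooth (b ≫ g)
  rw [← he, Category.assoc]
  exact (MorphismProperty.cancel_left_of_respectsIso @Smooth e.hom _).2 hsa

end Groth.Agent.H7Lim.GRStrat
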