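import Groth.Agent.S4646
import Groth.Agent.H1CAlg.AlgClosureFinite
import Groth.Agent.H27Weil.Frobenius
import Groth.Agent.H17.Reduced
import Mathlib.AlgebraicGeometry.Geometrically.Irreducible

/-!
# Components become geometrically irreducible after a finite separable extension
-/

set_option autoImplicit false
set_option linter.style.haveILetI false
set_option backward.isDefEq.respectTransparency false

universe u

open CategoryTheory Limits AlgebraicGeometry TopologicalSpace

namespace Groth.Agent.H7Lim.GeomComponents

/-- A closed subset whose preimages in all extensions of the field are irreducible is geometrically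
irreducible. -/
theorem geometricallyIrreducible_of_preimage {L : Type u} [Field L] {P : Scheme.{u}}
    (q : P ⟶ Spec (CommRingCat.of L)) (T : Set P) (hT : IsClosed T)
    (h : ∀ (K : Type u) [Field K] [Algebra L K], IsIrreducible (⇑(FBase.bcπ q K) ⁻¹' T)) :
    GeometricallyIrreducible
      ((Scheme.IdealSheafData.vanishingIdeal (⟨T, hT⟩ : Closeds P)).subschemeι ≫ q) := by
  constructor
  rw [geometrically_iff_of_commRing_of_isClosedUnderIsomorphisms]
  intro K _ _
  let φ := Spec.map (CommRingCat.ofHom (algebraMap L K))
  let I := Scheme.IdealSheafData.vanishingIdeal (⟨T, hT⟩ : Closeds P)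
  let j : pullback (I.subschemeι ≫ q) φ ⟶ pullback q φ :=
    pullback.lift (pullback.fst _ _ ≫ I.subschemeι) (pullback.snd _ _) (by rw [Category.assoc, pullback.condition])
  have hj : IsPullback (pullback.fst (I.subschemeι ≫ q) φ) j I.subschemeι (pullback.fst q φ) := by
    refine IsPullback.of_bot (v₂₁ := pullback.snd q φ) (v₂₂ := q) (h₃₁ := φ) ?_ (pullback.lift_fst _ _ _).symm
      (IsPullback.of_hasPullback q φ)
    rw [pullback.lift_snd]
    exact IsPullback.of_hasPullback _ _
  haveI : IsClosedImmersion j := MorphismProperty.of_isPullback hj (inferInstanceAs (IsClosedImmersion I.subschemeι))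
  have hr : Set.range j = pullback.fst q φ ⁻¹' T := by
    rw [← hj.isoPullback_hom_snd, Scheme.Hom.comp_base, TopCat.coe_comp,
      hj.isoPullback.hom.surjective.range_comp, Scheme.Pullback.range_snd,
      H17.range_vanishingIdeal_subschemeι]
    rfl
  have hirr : IsIrreducible (Set.range j) := hr ▸ h K
  haveI := isIrreducible_iff_irreducibleSpace.1 hirr
  exact j.isEmbedding.toHomeomorph.symm.surjective.irreducibleSpace
    j.isEmbedding.toHomeomorph.symm.continuous

/-- The irreducible components become geometrically irreducible after a finite separable extension. -/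
theorem exists_separable_components {k : Type u} [Field k] {X : Scheme.{u}}
    (g : X ⟶ Spec (CommRingCat.of k)) [LocallyOfFiniteType g] [Finite ↥(irreducibleComponents ↥X)] :
    ∃ (L : Type u) (_ : Field L) (_ : Algebra k L), FiniteDimensional k L ∧ Algebra.IsSeparable k L ∧
      ∀ (T : Set ↥(FBase.bc g L)) (hT : T ∈ irreducibleComponents ↥(FBase.bc g L)),
        GeometricallyIrreducible
          ((Scheme.IdealSheafData.vanishingIdeal
            (⟨T, isClosed_of_mem_irreducibleComponents T hT⟩ : Closeds ↥(FBase.bc g L))).subschemeι ≫
            FBase.bcStr g L) := by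
  obtain ⟨L, _, _, hL, hsep, h⟩ := S4646.result g fun Z hZ => by
    obtain ⟨φ, hφ⟩ := Spec.map_surjective (X.fromSpecResidueField hZ.1.genericPoint ≫ g)
    refine ⟨φ.hom, hφ, ?_⟩
    letI := φ.hom.toAlgebra
    haveI : Algebra.EssFiniteType k (X.residueField hZ.1.genericPoint) :=
      H27Weil.essFiniteType_residueField g _ φ hφ
    haveI := H1CAlg.finiteDimensional_algebraicClosure k (X.residueField hZ.1.genericPoint)
    show FiniteDimensional k (separableClosure k (X.residueField hZ.1.genericPoint))
    exact Module.Finite.of_injective (IntermediateField.inclusion (show separableClosure k (X.residueField hZ.1.genericPoint) ≤ algebraicClosure k (X.residueField hZ.1.genericPoint) from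
      fun x hx => mem_algebraicClosure_iff'.2 (mem_separableClosure_iff.1 hx).isIntegral)).toLinearMap (fun a b h => Subtype.ext (congrArg Subtype.val h :))
  exact ⟨L, inferInstance, inferInstance, hL, hsep,
    fun T hT => geometricallyIrreducible_of_preimage _ _ _ fun K _ _ => h K T hT⟩

end Groth.Agent.H7Lim.GeomComponents
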