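import Groth.Agent.H29Blow.Basic
import Groth.Agent.H06FlatSub.Basic
import Mathlib

/-!
# Global functions and a principal closed fibre
-/

set_option autoImplicit false
set_option linter.style.haveILetI false
set_option backward.isDefEq.respectTransparency false

universe u

open CategoryTheory Limits AlgebraicGeometry TopologicalSpace Opposite

namespace Groth.Agent.H7Lim.GlobalFibre

variable {X S : Scheme.{u}} (f : X ⟶ S) (π₀ : Γ(S, ⊤))

/-- The restriction of the pulled back element. -/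
noncomputable def elt (O : X.Opens) : Γ(X, O) := X.presheaf.map (homOfLE le_top).op (f.appTop π₀)

theorem res_elt {O O' : X.Opens} (h : O' ≤ O) :
    X.presheaf.map (homOfLE h).op (elt f π₀ O) = elt f π₀ O' := by
  rw [elt, elt, ← ConcreteCategory.comp_apply, ← X.presheaf.map_comp]
  rfl

variable [Flat f] [IsAffine S]

theorem eq_zero_of_elt_mul (hreg : IsSMulRegular Γ(S, ⊤) π₀) {O : X.Opens} (x : Γ(X, O))
    (h : elt f π₀ O * x = 0) : x = 0 := by
  refine X.IsSheaf.section_ext fun p hp => ?_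
  obtain ⟨_, ⟨V, hV, rfl⟩, hpV, hVO : V ≤ O⟩ :=
    X.isBasis_affineOpens.exists_subset_of_mem_open hp O.2
  refine ⟨V, hVO, hpV, ?_⟩
  have e : V ≤ f ⁻¹ᵁ ⊤ := fun _ _ => trivial
  have hfl : (f.appLE ⊤ V e).hom.Flat := f.flat_appLE (isAffineOpen_top S) hV e
  letI := (f.appLE ⊤ V e).hom.toAlgebra
  haveI : Module.Flat Γ(S, ⊤) Γ(X, V) := hfl
  have hr : IsSMulRegular Γ(X, V) (algebraMap Γ(S, ⊤) Γ(X, V) π₀) := hreg.of_flat
  rw [map_zero]
  refine hr ?_
  have : algebraMap Γ(S, ⊤) Γ(X, V) π₀ = elt f π₀ V := rfl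
  simp only [smul_eq_mul, mul_zero, this]
  rw [← res_elt f π₀ hVO, ← map_mul, h, map_zero]

/-- A global section divisible on every affine open by a regular element is divisible. -/
theorem exists_eq_mul (hreg : IsSMulRegular Γ(S, ⊤) π₀) (b : Γ(X, ⊤))
    (h : ∀ U : X.affineOpens, X.presheaf.map (homOfLE (le_top : U.1 ≤ ⊤)).op b ∈ Ideal.span {elt f π₀ U.1}) :
    ∃ c, b = f.appTop π₀ * c := by
  choose cU hcU using fun U => Ideal.mem_span_singleton'.1 (h U)
  have hcompat : TopCat.Presheaf.IsCompatible X.presheaf (fun U : X.affineOpens => U.1) cU := by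
    intro U V
    rw [← sub_eq_zero]
    refine eq_zero_of_elt_mul f π₀ hreg _ ?_
    have e1 : elt f π₀ (U.1 ⊓ V.1) * X.presheaf.map (Opens.infLELeft U.1 V.1).op (cU U) =
        X.presheaf.map (homOfLE (le_top : U.1 ⊓ V.1 ≤ ⊤)).op b := by
      rw [← res_elt f π₀ (inf_le_left : U.1 ⊓ V.1 ≤ U.1), mul_comm]
      erw [← map_mul, hcU U, ← ConcreteCategory.comp_apply, ← X.presheaf.map_comp]
      rfl
    have e2 : elt f π₀ (U.1 ⊓ V.1) * X.presheaf.map (Opens.infLERight U.1 V.1).op (cU V) =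
        X.presheaf.map (homOfLE (le_top : U.1 ⊓ V.1 ≤ ⊤)).op b := by
      rw [← res_elt f π₀ (inf_le_right : U.1 ⊓ V.1 ≤ V.1), mul_comm]
      erw [← map_mul, hcU V, ← ConcreteCategory.comp_apply, ← X.presheaf.map_comp]
      rfl
    rw [mul_sub]
    exact sub_eq_zero.2 (e1.trans e2.symm)
  obtain ⟨c, hc, -⟩ := X.sheaf.existsUnique_gluing' (fun U : X.affineOpens => U.1) ⊤
    (fun U => homOfLE le_top) (fun x _ => by
      obtain ⟨_, ⟨V, hV, rfl⟩, hpV, -⟩ :=
        X.isBasis_affineOpens.exists_subset_of_mem_open (Set.mem_univ x) isOpen_univ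
      exact Opens.mem_iSup.2 ⟨⟨V, hV⟩, hpV⟩) cU hcompat
  refine ⟨c, X.IsSheaf.section_ext fun p _ => ?_⟩
  obtain ⟨_, ⟨V, hV, rfl⟩, hpV, -⟩ :=
    X.isBasis_affineOpens.exists_subset_of_mem_open (Set.mem_univ p) isOpen_univ
  refine ⟨V, le_top, hpV, ?_⟩
  have hcV : X.presheaf.map (homOfLE (le_top : V ≤ ⊤)).op c = cU ⟨V, hV⟩ := hc ⟨V, hV⟩
  rw [map_mul, hcV]
  show _ = elt f π₀ V * _
  rw [mul_comm]
  exact (hcU ⟨V, hV⟩).symm

variable {κ Y : Scheme.{u}} [IsAffine κ] [IsAffine Y] [CompactSpace X]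

/-- Functions on a principal closed fibre inject from the global functions modulo the equation. -/
theorem ker_map_eq_bot (r : κ ⟶ S) [IsClosedImmersion r] (hreg : IsSMulRegular Γ(S, ⊤) π₀)
    (hker : r.ker.ideal ⟨⊤, isAffineOpen_top S⟩ = Ideal.span {π₀}) (g : Y ⟶ S) (c : X ⟶ Y)
    (hc : c ≫ g = f) (hbij : Function.Bijective c.appTop) :
    (pullback.map f r g r c (𝟙 _) (𝟙 _) ((Category.comp_id f).trans hc.symm)
      ((Category.comp_id _).trans (Category.id_comp _).symm)).ker = ⊥ := by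
  set m := pullback.map f r g r c (𝟙 _) (𝟙 _) ((Category.comp_id f).trans hc.symm)
    ((Category.comp_id _).trans (Category.id_comp _).symm) with hm
  let i₀ := pullback.fst g r
  let p := pullback.fst f r
  haveI : IsAffine (pullback g r) := isAffine_of_isAffineHom i₀
  haveI : CompactSpace ↥(pullback f r) := QuasiCompact.compactSpace_of_compactSpace p
  haveI : QuasiCompact m := quasiCompact_of_compactSpace _
  have hsurj : Function.Surjective i₀.appTop := i₀.app_surjective ⊤ (isAffineOpen_top Y)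
  have hmp : m ≫ i₀ = p ≫ c := pullback.lift_fst _ _ _
  have hπ : i₀.appTop (g.appTop π₀) = 0 := by
    have hz : r.appTop π₀ = 0 := by
      have h : π₀ ∈ r.ker.ideal ⟨⊤, isAffineOpen_top S⟩ := hker ▸ Ideal.mem_span_singleton_self π₀
      rw [Scheme.Hom.ker_apply] at h
      exact h
    rw [← ConcreteCategory.comp_apply, ← Scheme.Hom.comp_appTop, pullback.condition,
      Scheme.Hom.comp_appTop, ConcreteCategory.comp_apply, hz, map_zero]
  refine Scheme.IdealSheafData.ext_of_isAffine ?_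
  rw [Scheme.Hom.ker_apply, Scheme.IdealSheafData.ideal_bot, Pi.bot_apply, ← RingHom.injective_iff_ker_eq_bot,
    injective_iff_map_eq_zero]
  intro w hw
  obtain ⟨b₀, rfl⟩ := hsurj w
  have hpb : p.appTop (c.appTop b₀) = 0 := by
    have h : m.appTop (i₀.appTop b₀) = 0 := hw
    rw [← ConcreteCategory.comp_apply, ← Scheme.Hom.comp_appTop, hmp, Scheme.Hom.comp_appTop,
      ConcreteCategory.comp_apply] at h
    exact h
  obtain ⟨d, hd⟩ := exists_eq_mul f π₀ hreg (c.appTop b₀) (fun U => by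
    have hU : X.presheaf.map (homOfLE (le_top : U.1 ≤ ⊤)).op (c.appTop b₀) ∈ p.ker.ideal U := by
      rw [Scheme.Hom.ker_apply, RingHom.mem_ker]
      have hnat := congrArg (fun φ => φ.hom (c.appTop b₀))
        (p.naturality (homOfLE (le_top : U.1 ≤ ⊤)).op)
      refine hnat.trans ?_
      show (pullback f r).presheaf.map _ (p.appTop (c.appTop b₀)) = 0
      rw [hpb, map_zero]
    rw [Scheme.IdealSheafData.ker_fst_of_isClosedImmersion,
      H29Blow.ideal_comap r.ker f ⟨⊤, isAffineOpen_top S⟩ U (fun _ _ => trivial), hker,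
      Ideal.map_span, Set.image_singleton] at hU
    exact hU)
  obtain ⟨d₀, rfl⟩ := hbij.2 d
  have hb : b₀ = g.appTop π₀ * d₀ := by
    refine hbij.1 ?_
    rw [map_mul, hd, ← hc, Scheme.Hom.comp_appTop, ConcreteCategory.comp_apply]
  rw [hb, map_mul, hπ, zero_mul]

end Groth.Agent.H7Lim.GlobalFibre
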