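import Groth.Agent.H8Props.SpreadGeneric
import Mathlib.AlgebraicGeometry.AffineTransitionLimit
import Mathlib.AlgebraicGeometry.Stalk

/-!
# Morphisms glued from the complement of a closed point and its local scheme
-/

set_option autoImplicit false
set_option linter.style.haveILetI false
set_option backward.isDefEq.respectTransparency false
set_option backward.defeqAttrib.useBackward true
universe u

open CategoryTheory CategoryTheory.Limits AlgebraicGeometry TopologicalSpace Opposite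

namespace Groth.Agent.H7Lim.GlueClosedPoint

open H8Props.SpreadGeneric

variable {X Y S : Scheme.{u}} {x : X} {U : X.Opens}

/-- Morphisms agreeing on the complement of a point and on its local scheme are equal. -/
theorem hom_ext (hU : (U : Set X) = {x}ᶜ) {g₁ g₂ : X ⟶ Y} (h₁ : U.ι ≫ g₁ = U.ι ≫ g₂)
    (h₂ : X.fromSpecStalk x ≫ g₁ = X.fromSpecStalk x ≫ g₂) : g₁ = g₂ := by
  have hpt : ∀ y : X, g₁ y = g₂ y := fun y => by
    by_cases hy : y = x
    · subst hy
      have := congrArg (fun g : Spec (X.presheaf.stalk y) ⟶ Y => g (IsLocalRing.closedPoint _)) h₂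
      simpa [Scheme.fromSpecStalk_closedPoint] using this
    · have hyU : y ∈ U := by rw [← SetLike.mem_coe, hU]; exact hy
      have := congrArg (fun g : (U : Scheme.{u}) ⟶ Y => g ⟨y, hyU⟩) h₁
      simpa using this
  have haff : ∀ y : X, ∃ (W : Y.Opens) (V : X.Opens), IsAffineOpen W ∧ IsAffineOpen V ∧ y ∈ V ∧
      V ≤ g₁ ⁻¹ᵁ W ∧ V ≤ g₂ ⁻¹ᵁ W := fun y => by
    obtain ⟨W, hW, hyW, -⟩ := exists_isAffineOpen_mem_and_subset (X := Y) (x := g₁ y) (U := ⊤) trivial
    obtain ⟨V, hV, hyV, hVW⟩ := exists_isAffineOpen_mem_and_subset (X := X) (x := y)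
      (U := g₁ ⁻¹ᵁ W ⊓ g₂ ⁻¹ᵁ W) ⟨hyW, show g₂ y ∈ W from hpt y ▸ hyW⟩
    exact ⟨W, V, hW, hV, hyV, fun z hz => (hVW hz).1, fun z hz => (hVW hz).2⟩
  choose W V hW hV hyV hV₁ hV₂ using haff
  refine Scheme.Cover.hom_ext (X.openCoverOfIsOpenCover (fun y => V y)
    (TopologicalSpace.IsOpenCover.mk (eq_top_iff.mpr fun y _ => Opens.mem_iSup.mpr ⟨y, hyV y⟩))) _ _ fun y => ?_
  show (V y).ι ≫ g₁ = (V y).ι ≫ g₂
  suffices h : g₁.appLE (W y) (V y) (hV₁ y) = g₂.appLE (W y) (V y) (hV₂ y) by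
    have e : (hV y).fromSpec ≫ g₁ = (hV y).fromSpec ≫ g₂ := by
      rw [← IsAffineOpen.SpecMap_appLE_fromSpec g₁ (hW y) (hV y) (hV₁ y),
        ← IsAffineOpen.SpecMap_appLE_fromSpec g₂ (hW y) (hV y) (hV₂ y), h]
    rw [← IsAffineOpen.toSpecΓ_fromSpec (hV y), Category.assoc, Category.assoc, e]
  refine CommRingCat.hom_ext (RingHom.ext fun s => X.IsSheaf.section_ext fun z hz => ?_)
  by_cases hzx : z = x
  · subst hzx
    have key : g₁.appLE (W y) (V y) (hV₁ y) ≫ X.presheaf.germ (V y) z hz =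
        g₂.appLE (W y) (V y) (hV₂ y) ≫ X.presheaf.germ (V y) z hz := by
      apply Spec.map_injective
      rw [← cancel_mono (hW y).fromSpec, Spec.map_comp, Spec.map_comp, Category.assoc, Category.assoc,
        IsAffineOpen.SpecMap_appLE_fromSpec, IsAffineOpen.SpecMap_appLE_fromSpec]
      rw [← Category.assoc, ← Category.assoc]
      change (hV y).fromSpecStalk hz ≫ g₁ = (hV y).fromSpecStalk hz ≫ g₂
      rw [IsAffineOpen.fromSpecStalk_eq_fromSpecStalk]
      exact h₂
    obtain ⟨O, hzO, i₁, i₂, he⟩ := X.presheaf.germ_eq z hz hz _ _ (congrArg (fun φ => φ.hom s) key)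
    exact ⟨O, i₁.le, hzO, he⟩
  · have hzU : z ∈ U := by rw [← SetLike.mem_coe, hU]; exact hzx
    obtain ⟨O, hO, hzO, hOU⟩ := exists_isAffineOpen_mem_and_subset (X := X) (x := z) (U := U ⊓ V y) ⟨hzU, hz⟩
    have hOV : O ≤ V y := fun w hw => (hOU hw).2
    refine ⟨O, hOV, hzO, ?_⟩
    have key : g₁.appLE (W y) O (hOV.trans (hV₁ y)) = g₂.appLE (W y) O (hOV.trans (hV₂ y)) := by
      apply Spec.map_injective
      rw [← cancel_mono (hW y).fromSpec, IsAffineOpen.SpecMap_appLE_fromSpec g₁ (hW y) hO,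
        IsAffineOpen.SpecMap_appLE_fromSpec g₂ (hW y) hO]
      have e : hO.fromSpec = IsOpenImmersion.lift U.ι hO.fromSpec (by
          rw [hO.range_fromSpec, Scheme.Opens.range_ι]; exact fun w hw => (hOU hw).1) ≫ U.ι :=
        (IsOpenImmersion.lift_fac _ _ _).symm
      rw [e, Category.assoc, Category.assoc, h₁]
    have := congrArg (fun φ => φ.hom s) key
    rw [← Scheme.Hom.appLE_map g₁ (hV₁ y) (homOfLE hOV).op, ← Scheme.Hom.appLE_map g₂ (hV₂ y) (homOfLE hOV).op] at this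
    exact this

set_option maxHeartbeats 600000 in
/-- **Gluing near a closed point.** -/
theorem exists_glue (p : X ⟶ S) (q : Y ⟶ S) [LocallyOfFinitePresentation q]
    (hU : (U : Set X) = {x}ᶜ) [QuasiCompact U.ι] (a : (U : Scheme.{u}) ⟶ Y)
    (b : Spec (X.presheaf.stalk x) ⟶ Y) (ha : a ≫ q = U.ι ≫ p) (hb : b ≫ q = X.fromSpecStalk x ≫ p)
    (hab : ((X.fromSpecStalk x) ⁻¹ᵁ U).ι ≫ b = ((X.fromSpecStalk x) ∣_ U) ≫ a) :
    ∃ g : X ⟶ Y, g ≫ q = p ∧ U.ι ≫ g = a ∧ X.fromSpecStalk x ≫ g = b := by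
  classical
  let D := stageFun x
  let c := stageCone x
  have hc := isLimitStageCone x
  let t : D ⟶ (Functor.const (AffNhds x)).obj S :=
    { app := fun i => toBase i ≫ p
      naturality := fun i j φ => by
        show D.map φ ≫ toBase j ≫ p = (toBase i ≫ p) ≫ 𝟙 S
        rw [Category.comp_id, ← Category.assoc, map_toBase] }
  haveI : ∀ i, CompactSpace (D.obj i) := fun i => inferInstanceAs (CompactSpace (Spec _))
  haveI : ∀ i, QuasiSeparatedSpace (D.obj i) := fun i => inferInstanceAs (QuasiSeparatedSpace (Spec _))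
  obtain ⟨i, g₀, hg₀, hg₀q⟩ := Scheme.exists_π_app_comp_eq_of_locallyOfFinitePresentation D t q c hc b (by
    ext j
    show c.π.app j ≫ toBase j ≫ p = b ≫ q
    rw [← Category.assoc, cone_toBase, hb])
  let W : (D.obj i).Opens := toBase i ⁻¹ᵁ U
  let D' := opensDiagram D i W
  haveI : ∀ j, CompactSpace (D'.obj j) := fun j => by
    have h1 : IsCompact ((toBase j.left ⁻¹ᵁ U : (D.obj j.left).Opens) : Set (D.obj j.left)) := by
      haveI : CompactSpace ↥(pullback U.ι (toBase j.left)) :=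
        QuasiCompact.compactSpace_of_compactSpace (pullback.snd U.ι (toBase j.left))
      have h2 := isCompact_range (pullback.snd U.ι (toBase j.left)).continuous
      rwa [Scheme.Pullback.range_snd, Scheme.Opens.range_ι] at h2
    refine isCompact_iff_compactSpace.mp ?_
    show IsCompact ((D.map j.hom ⁻¹ᵁ W : (D.obj j.left).Opens) : Set (D.obj j.left))
    rwa [← Scheme.Hom.comp_preimage, map_toBase]
  haveI : ∀ {k l : Over i} (φ : k ⟶ l), IsAffineHom (D'.map φ) := fun {k l} φ => by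
    have hp : IsPullback (D'.map φ) ((opensDiagramι D i W).app k) ((opensDiagramι D i W).app l) (D.map φ.left) := by
      refine IsOpenImmersion.isPullback _ _ _ _ (by simp [D']) ?_
      simp only [opensDiagramι_app, Scheme.Opens.opensRange_ι]
      rw [← Scheme.Hom.comp_preimage, ← D.map_comp, Over.w φ]
    exact MorphismProperty.of_isPullback hp.flip inferInstance
  let t' : D' ⟶ (Functor.const (Over i)).obj S :=
    { app := fun k => (D.map k.hom ⁻¹ᵁ W).ι ≫ toBase k.left ≫ p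
      naturality := fun k l φ => by
        simp only [Functor.const_obj_obj, Functor.const_obj_map, Category.comp_id]
        rw [← reassoc_of% (show (D.map φ.left) ≫ toBase l.left = toBase k.left from map_toBase φ.left)]
        simp [D'] }
  let e₀ : D'.obj (Over.mk (𝟙 i)) ⟶ (U : Scheme.{u}) :=
    IsOpenImmersion.lift U.ι ((D.map (𝟙 i) ⁻¹ᵁ W).ι ≫ toBase i) (by
      rw [Scheme.Opens.range_ι]
      rintro _ ⟨⟨z, hz⟩, rfl⟩
      show z ∈ toBase i ⁻¹ᵁ U
      have h' : D.map (𝟙 i) z ∈ W := hz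
      rw [D.map_id] at h'
      exact h')
  have he₀ : e₀ ≫ U.ι = (D.map (𝟙 i) ⁻¹ᵁ W).ι ≫ toBase i := IsOpenImmersion.lift_fac _ _ _
  let a₀ : D'.obj (Over.mk (𝟙 i)) ⟶ Y := e₀ ≫ a
  let b₀ : D'.obj (Over.mk (𝟙 i)) ⟶ Y := (D.map (𝟙 i) ⁻¹ᵁ W).ι ≫ g₀
  obtain ⟨k, φ, hk⟩ := Scheme.exists_hom_comp_eq_comp_of_locallyOfFiniteType D' t' q (opensCone D c i W)
    (isLimitOpensCone D c hc i W) (i := Over.mk (𝟙 i)) a₀ b₀
    (by show _ = (e₀ ≫ a) ≫ q; rw [Category.assoc, ha, reassoc_of% he₀]; rfl)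
    (by show _ = (_ ≫ g₀) ≫ q; rw [Category.assoc, hg₀q]; rfl)
    (by
      have hle : c.π.app i ⁻¹ᵁ W = X.fromSpecStalk x ⁻¹ᵁ U := by
        rw [← Scheme.Hom.comp_preimage, cone_toBase]
      let ψ : ((c.π.app i ⁻¹ᵁ W : c.pt.Opens) : Scheme.{u}) ⟶
          ((X.fromSpecStalk x ⁻¹ᵁ U : (Spec (X.presheaf.stalk x)).Opens) : Scheme.{u}) :=
        c.pt.homOfLE hle.le
      have hψι : ψ ≫ (X.fromSpecStalk x ⁻¹ᵁ U).ι = (c.π.app i ⁻¹ᵁ W).ι := Scheme.homOfLE_ι _ _
      have hψ : ψ ≫ (X.fromSpecStalk x ∣_ U) = (opensCone D c i W).π.app (Over.mk (𝟙 i)) ≫ e₀ := by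
        rw [← cancel_mono U.ι, Category.assoc, morphismRestrict_ι, Category.assoc, he₀,
          reassoc_of% hψι, ← cone_toBase i]
        simp only [opensCone_π_app, Over.mk_left, Over.mk_hom]
        rw [← Category.assoc ((c.π.app i).resLE _ _ _), Scheme.Hom.resLE_comp_ι, Category.assoc]
      calc (opensCone D c i W).π.app (Over.mk (𝟙 i)) ≫ a₀
          = ψ ≫ (X.fromSpecStalk x ∣_ U) ≫ a := by rw [reassoc_of% hψ]
        _ = ψ ≫ (X.fromSpecStalk x ⁻¹ᵁ U).ι ≫ b := by rw [hab]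
        _ = (opensCone D c i W).π.app (Over.mk (𝟙 i)) ≫ b₀ := by
              rw [reassoc_of% hψι, ← hg₀]
              simp [b₀])
  let V : Fin 2 → Scheme.{u} := ![(U : Scheme.{u}), D.obj k.left]
  let 𝒰 : X.OpenCover :=
    { I₀ := ULift.{u} Bool
      X := fun e => if e.down then (U : Scheme.{u}) else D.obj k.left
      f := fun e => match e with
        | ⟨true⟩ => U.ι
        | ⟨false⟩ => toBase k.left
      mem₀ := by
        rw [Scheme.presieve₀_mem_precoverage_iff]
        refine ⟨fun z => ?_, fun e => ?_⟩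
        · by_cases hz : z = x
          · obtain ⟨w, hw⟩ : z ∈ Set.range (toBase k.left) := by
              rw [range_toBase, hz]; exact k.left.2
            exact ⟨⟨false⟩, w, hw⟩
          · exact ⟨⟨true⟩, ⟨z, by rw [← SetLike.mem_coe, hU]; exact hz⟩, rfl⟩
        · rcases e with ⟨_ | _⟩
          · exact inferInstanceAs (IsOpenImmersion k.left.1.2.fromSpec)
          · exact inferInstanceAs (IsOpenImmersion U.ι) }
  let gk : D.obj k.left ⟶ Y := D.map k.hom ≫ g₀
  have hcross : pullback.fst U.ι (toBase k.left) ≫ a = pullback.snd U.ι (toBase k.left) ≫ gk := by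
    let O := pullback U.ι (toBase k.left)
    let l : O ⟶ D'.obj k := IsOpenImmersion.lift ((D.map k.hom ⁻¹ᵁ W).ι) (pullback.snd _ _) (by
      rw [Scheme.Pullback.range_snd, Scheme.Opens.range_ι]
      erw [Scheme.Opens.range_ι]
      intro z hz
      show (D.map k.hom ≫ toBase i) z ∈ U
      rw [map_toBase]
      exact hz)
    have hl : l ≫ (D.map k.hom ⁻¹ᵁ W).ι = pullback.snd U.ι (toBase k.left) := IsOpenImmersion.lift_fac _ _ _
    have hι : D'.map φ ≫ (D.map (𝟙 i) ⁻¹ᵁ W).ι = (D.map k.hom ⁻¹ᵁ W).ι ≫ D.map k.hom := by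
      have := Over.w φ
      simp at this
      simp [D', this]
    have h1 : l ≫ D'.map φ ≫ e₀ = pullback.fst U.ι (toBase k.left) := by
      rw [← cancel_mono U.ι, Category.assoc, Category.assoc, he₀, reassoc_of% hι, map_toBase,
        reassoc_of% hl, pullback.condition]
    calc pullback.fst U.ι (toBase k.left) ≫ a = l ≫ D'.map φ ≫ a₀ := by
          rw [← h1, Category.assoc, Category.assoc]
      _ = l ≫ D'.map φ ≫ b₀ := by rw [hk]
      _ = pullback.snd U.ι (toBase k.left) ≫ gk := by rw [reassoc_of% hι, reassoc_of% hl]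
  let ge : ∀ e : 𝒰.I₀, 𝒰.X e ⟶ Y := fun e => match e with
    | ⟨true⟩ => a
    | ⟨false⟩ => gk
  let g := 𝒰.glueMorphisms ge (by
    rintro ⟨_ | _⟩ ⟨_ | _⟩
    · haveI : Mono (toBase k.left) := inferInstanceAs (Mono k.left.1.2.fromSpec)
      exact congrArg (· ≫ gk) ((cancel_mono (toBase k.left)).mp pullback.condition)
    · show pullback.fst (toBase k.left) U.ι ≫ gk = pullback.snd (toBase k.left) U.ι ≫ a
      rw [← pullbackSymmetry_hom_comp_snd, Category.assoc, ← hcross, ← Category.assoc,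
        pullbackSymmetry_hom_comp_fst]
    · exact hcross
    · exact congrArg (· ≫ a) ((cancel_mono U.ι).mp pullback.condition))
  have hga : U.ι ≫ g = a := Scheme.Cover.ι_glueMorphisms 𝒰 ge _ ⟨true⟩
  have hgk : toBase k.left ≫ g = gk := Scheme.Cover.ι_glueMorphisms 𝒰 ge _ ⟨false⟩
  have hgb : X.fromSpecStalk x ≫ g = b := by
    rw [← cone_toBase k.left, Category.assoc, hgk, ← Category.assoc, c.w, hg₀]
  exact ⟨g, hom_ext hU (by rw [← Category.assoc, hga, ha]) (by rw [← Category.assoc, hgb, hb]), hga, hgb⟩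

end Groth.Agent.H7Lim.GlueClosedPoint
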