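import Groth.Agent.H7Lim.OverStage

/-!
# Homomorphisms of group schemes in a cofiltered limit
-/

set_option autoImplicit false
set_option linter.style.haveILetI false
set_option backward.isDefEq.respectTransparency false
set_option backward.defeqAttrib.useBackward true

universe u

open CategoryTheory Limits AlgebraicGeometry MonoidalCategory CartesianMonoidalCategory MonObj

namespace Groth.Agent.H7Lim.OverStage

variable {I : Type u} [Category.{u} I] [IsCofiltered I] {D : I ⥤ Scheme.{u}} {c : Cone D}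
  [∀ (i i' : I) (f : i ⟶ i'), IsAffineHom (D.map f)]

theorem compactSpace_left {S : Scheme.{u}} [CompactSpace S] (X : Over S) [QuasiCompact X.hom] :
    CompactSpace X.left := QuasiCompact.compactSpace_of_compactSpace X.hom

theorem quasiSeparatedSpace_left {S : Scheme.{u}} [QuasiSeparatedSpace S] (X : Over S) [QuasiSeparated X.hom] :
    QuasiSeparatedSpace X.left := quasiSeparatedSpace_of_quasiSeparated X.hom

/-- Morphisms out of a product of base changes equal in the limit are equal at a stage. -/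
theorem exists_map_eq_tensor (hc : IsLimit c) {j : I} [CompactSpace (D.obj j)] [QuasiSeparatedSpace (D.obj j)]
    {A B Y : Over (D.obj j)} [QuasiCompact A.hom] [QuasiSeparated A.hom] [QuasiCompact B.hom]
    [QuasiSeparated B.hom] [LocallyOfFiniteType Y.hom] {i : I} {f : i ⟶ j}
    (u₁ u₂ : Red.bc (D.map f) A ⊗ Red.bc (D.map f) B ⟶ Red.bc (D.map f) Y)
    (h : (Over.pullback (c.π.app i)).map u₁ = (Over.pullback (c.π.app i)).map u₂) :
    ∃ (i' : I) (g : i' ⟶ i), (Over.pullback (D.map g)).map u₁ = (Over.pullback (D.map g)).map u₂ := by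
  haveI : QuasiCompact (A ⊗ B).hom := by
    show QuasiCompact (pullback.fst A.hom B.hom ≫ A.hom)
    infer_instance
  haveI : QuasiSeparated (A ⊗ B).hom := by
    show QuasiSeparated (pullback.fst A.hom B.hom ≫ A.hom)
    infer_instance
  haveI := compactSpace_left (A ⊗ B)
  haveI := quasiSeparatedSpace_left (A ⊗ B)
  let δ := Functor.OplaxMonoidal.δ (Over.pullback (D.map f)) A B
  obtain ⟨i', g, hg⟩ := exists_map_eq hc (δ ≫ u₁) (δ ≫ u₂) (by rw [Functor.map_comp, Functor.map_comp, h])
  refine ⟨i', g, ?_⟩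
  rw [Functor.map_comp, Functor.map_comp] at hg
  exact (cancel_epi _).1 hg

/-- Homomorphisms of base changes of finitely presented group schemes to the limit come from a stage. -/
theorem exists_monHom (hc : IsLimit c) {j : I} [CompactSpace (D.obj j)] [QuasiSeparatedSpace (D.obj j)]
    {G H : Over (D.obj j)} [GrpObj G] [GrpObj H] [QuasiCompact G.hom] [QuasiSeparated G.hom]
    [LocallyOfFinitePresentation H.hom] (u : Red.bc (c.π.app j) G ⟶ Red.bc (c.π.app j) H) [IsMonHom u] :
    ∃ (i : I) (f : i ⟶ j) (ui : Red.bc (D.map f) G ⟶ Red.bc (D.map f) H), IsMonHom ui ∧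
      (Over.pullback (c.π.app i)).map ui = (compIso (c.w f) G).hom ≫ u ≫ (compIso (c.w f) H).inv := by
  haveI := compactSpace_left G
  haveI := quasiSeparatedSpace_left G
  haveI : LocallyOfFiniteType H.hom := inferInstance
  obtain ⟨i, f, v, hv⟩ := exists_hom hc u
  haveI := isMonHom_compIso (c.w f) G
  haveI := isMonHom_compIso (c.w f) H
  haveI : IsMonHom ((Over.pullback (c.π.app i)).map v) := by rw [hv]; infer_instance
  obtain ⟨h1, h2⟩ := isMonHom_comp_iso (F := Over.pullback (c.π.app i)) v
  obtain ⟨i₁, g₁, e₁⟩ := exists_map_eq_tensor hc _ _ h2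
  haveI : QuasiCompact (𝟙_ (Over (D.obj j))).hom := inferInstanceAs (QuasiCompact (𝟙 _))
  haveI : QuasiSeparated (𝟙_ (Over (D.obj j))).hom := inferInstanceAs (QuasiSeparated (𝟙 _))
  haveI := compactSpace_left (𝟙_ (Over (D.obj j)))
  haveI := quasiSeparatedSpace_left (𝟙_ (Over (D.obj j)))
  let δ := Functor.OplaxMonoidal.η (Over.pullback (D.map f))
  obtain ⟨i₂, g₂, e₂⟩ := exists_map_eq hc (δ ≫ η[Red.bc (D.map f) G] ≫ v) (δ ≫ η[Red.bc (D.map f) H])
    (by rw [Functor.map_comp, h1, ← Functor.map_comp])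
  rw [Functor.map_comp _ δ, Functor.map_comp _ δ, cancel_epi] at e₂
  obtain ⟨i', a, b, hab⟩ : ∃ (i' : I) (a : i' ⟶ i₁) (b : i' ⟶ i₂), a ≫ g₁ = b ≫ g₂ := by
    obtain ⟨w, a, b, h⟩ := IsCofiltered.cospan g₁ g₂
    exact ⟨w, a, b, h⟩
  let g := a ≫ g₁
  have push : ∀ {X Y : Over (D.obj i)} {x y : X ⟶ Y} {k : I} (g₀ : k ⟶ i) (a₀ : i' ⟶ k), a₀ ≫ g₀ = g →
      (Over.pullback (D.map g₀)).map x = (Over.pullback (D.map g₀)).map y →
      (Over.pullback (D.map g)).map x = (Over.pullback (D.map g)).map y := by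
    intro X Y x y k g₀ a₀ ha e
    have w : D.map a₀ ≫ D.map g₀ = D.map g := by rw [← D.map_comp, ha]
    have n : ∀ z : X ⟶ Y, (Over.pullback (D.map a₀)).map ((Over.pullback (D.map g₀)).map z) ≫ (compIso w Y).hom =
        (compIso w X).hom ≫ (Over.pullback (D.map g)).map z := fun z => by
      apply bc_hom_ext
      rw [Over.comp_left, Over.comp_left, Category.assoc, Category.assoc, compIso_hom_left_fst, map_left_fst,
        ← Category.assoc, map_left_fst, Category.assoc, map_left_fst, ← Category.assoc, ← Category.assoc,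
        compIso_hom_left_fst]
    rw [← cancel_epi (compIso w X).hom, ← n, ← n, e]
  haveI := isMonHom_map (F := Over.pullback (D.map g)) v (push g₂ b hab.symm e₂) (push g₁ a rfl e₁)
  haveI := isMonHom_compIso (D.map_comp g f).symm G
  haveI := isMonHom_compIso (D.map_comp g f).symm H
  refine ⟨i', g ≫ f, _, ?_, compat_later f g u v hv⟩
  infer_instance

end Groth.Agent.H7Lim.OverStage
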