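import Groth.Agent.H7Lim.Basic
import Groth.Agent.H19Grp.Transporter
import Groth.Prelude.Def_Red

/-!
# Closed subgroup schemes at a finite stage of a limit
-/

set_option autoImplicit false
set_option backward.isDefEq.respectTransparency false
set_option backward.defeqAttrib.useBackward true

universe u

open CategoryTheory Limits AlgebraicGeometry MonoidalCategory CartesianMonoidalCategory
open scoped MonObj Obj

namespace Groth.Agent.H7Lim

/-- A factorization through a morphism locally of finite presentation in the limit exists at a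
stage. -/
theorem exists_factor_stage {I : Type u} [Category.{u} I] [IsCofiltered I] {D : I ⥤ Scheme.{u}}
    {c : Cone D} [∀ (i j : I) (f : i ⟶ j), IsAffineHom (D.map f)] (hc : IsLimit c) (i : I)
    {T X H : Scheme.{u}} (q : T ⟶ D.obj i) [CompactSpace T] [QuasiSeparatedSpace T] (φ : T ⟶ X)
    (inc : H ⟶ X) [LocallyOfFinitePresentation inc]
    (h : ∃ s, s ≫ inc = pullback.fst q (c.π.app i) ≫ φ) :
    ∃ (j : I) (a : j ⟶ i), ∀ {j' : I} (b : j' ⟶ j),
      ∃ s, s ≫ inc = pullback.fst q (D.map (b ≫ a)) ≫ φ := by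
  have (k : Over i) : CompactSpace ↥((pbDiagram D i q).obj k) :=
    QuasiCompact.compactSpace_of_compactSpace (pullback.fst q (D.map k.hom))
  have (k : Over i) : QuasiSeparatedSpace ↥((pbDiagram D i q).obj k) :=
    quasiSeparatedSpace_of_quasiSeparated (pullback.fst q (D.map k.hom))
  have : ∀ {k m : Over i} (f : k ⟶ m), IsAffineHom ((pbDiagram D i q).map f) :=
    fun f ↦ inferInstance
  obtain ⟨s, hs⟩ := h
  let t : pbDiagram D i q ⟶ (Functor.const (Over i)).obj X :=
    pbFst D i q ≫ (Functor.const (Over i)).map φ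
  obtain ⟨k, g, -, hg⟩ := Scheme.exists_π_app_comp_eq_of_locallyOfFinitePresentation
    (pbDiagram D i q) t inc (pbCone D c i q) (isLimitPbCone D i q hc) s (by
      ext m
      simp [t, hs])
  refine ⟨k.left, k.hom, fun {j'} b ↦ ⟨(pbDiagram D i q).map (Over.homMk b rfl :
    Over.mk (b ≫ k.hom) ⟶ k) ≫ g, ?_⟩⟩
  rw [Category.assoc, hg]
  simp [t]

/-- Factoring through a pulled back morphism is tested after projecting. -/
theorem exists_factor_bc_iff {S S' : Scheme.{u}} (f : S' ⟶ S) {Y : Over S'} {H G : Over S}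
    (inc : H ⟶ G) (ψ : Y ⟶ (Over.pullback f).obj G) :
    (∃ z, z ≫ (Over.pullback f).map inc = ψ) ↔
      ∃ s : Y.left ⟶ H.left, s ≫ inc.left = ψ.left ≫ pullback.fst G.hom f := by
  constructor
  · rintro ⟨z, rfl⟩
    exact ⟨z.left ≫ pullback.fst H.hom f, by simp⟩
  · rintro ⟨s, hs⟩
    have w : ψ.left ≫ pullback.snd G.hom f = Y.hom := Over.w ψ
    have w' : s ≫ H.hom = Y.hom ≫ f := by
      rw [← Over.w inc, reassoc_of% hs, pullback.condition, reassoc_of% w]
    refine ⟨Over.homMk (pullback.lift s Y.hom w') (by simp), ?_⟩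
    ext : 1
    refine pullback.hom_ext ?_ ?_
    · simp [hs]
    · simpa using w.symm

/-- Factoring a base changed morphism is tested on the first projection. -/
theorem exists_factor_map_iff {S S' : Scheme.{u}} (f : S' ⟶ S) {Y H G : Over S}
    (inc : H ⟶ G) (m : Y ⟶ G) :
    (∃ z, z ≫ (Over.pullback f).map inc = (Over.pullback f).map m) ↔
      ∃ s, s ≫ inc.left = pullback.fst Y.hom f ≫ m.left := by
  rw [exists_factor_bc_iff f inc]
  simp

section points

variable {C E : Type*} [Category* C] [Category* E] [CartesianMonoidalCategory C]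
  [CartesianMonoidalCategory E] (F : C ⥤ E) [F.Monoidal]

theorem exists_lift_prod {T : E} {A B : C} (a : T ⟶ F.obj A) (b : T ⟶ F.obj B) :
    ∃ l : T ⟶ F.obj (A ⊗ B), l ≫ F.map (fst A B) = a ∧ l ≫ F.map (snd A B) = b :=
  ⟨lift a b ≫ Functor.LaxMonoidal.μ F A B,
    by rw [Category.assoc, Functor.Monoidal.μ_fst, lift_fst],
    by rw [Category.assoc, Functor.Monoidal.μ_snd, lift_snd]⟩

variable {G H : C} [GrpObj G] (inc : H ⟶ G)

local instance : GrpObj (F.obj G) := Functor.grpObjObj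

theorem closed_mul (h : ∃ z, z ≫ F.map inc = F.map ((fst H H ≫ inc) * (snd H H ≫ inc)))
    (T : E) (a b : T ⟶ F.obj H) : ∃ z, z ≫ F.map inc = (a ≫ F.map inc) * (b ≫ F.map inc) := by
  obtain ⟨z, hz⟩ := h
  obtain ⟨l, h₁, h₂⟩ := exists_lift_prod F a b
  refine ⟨l ≫ z, ?_⟩
  rw [Category.assoc, hz, Functor.map_mul, MonObj.comp_mul, F.map_comp, F.map_comp,
    ← Category.assoc, ← Category.assoc, h₁, h₂]

theorem closed_inv (h : ∃ z, z ≫ F.map inc = F.map (inc⁻¹))
    (T : E) (a : T ⟶ F.obj H) : ∃ z, z ≫ F.map inc = (a ≫ F.map inc)⁻¹ := by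
  obtain ⟨z, hz⟩ := h
  exact ⟨a ≫ z, by rw [Category.assoc, hz, Functor.map_inv', GrpObj.comp_inv]⟩

theorem closed_one (h : ∃ z, z ≫ F.map inc = F.map (1 : 𝟙_ C ⟶ G)) :
    ∃ z : 𝟙_ E ⟶ F.obj H, z ≫ F.map inc = 1 := by
  obtain ⟨z, hz⟩ := h
  exact ⟨Functor.LaxMonoidal.ε F ≫ z,
    by rw [Category.assoc, hz, Functor.map_one, MonObj.comp_one]⟩

theorem closed_conj
    (h : ∃ z, z ≫ F.map inc = F.map (fst G H * (snd G H ≫ inc) * (fst G H)⁻¹))
    (T : E) (g : T ⟶ F.obj G) (a : T ⟶ F.obj H) :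
    ∃ z, g * (a ≫ F.map inc) * g⁻¹ = z ≫ F.map inc := by
  obtain ⟨z, hz⟩ := h
  obtain ⟨l, h₁, h₂⟩ := exists_lift_prod F g a
  refine ⟨l ≫ z, ?_⟩
  rw [Category.assoc, hz, Functor.map_mul, Functor.map_mul, Functor.map_inv', MonObj.comp_mul,
    MonObj.comp_mul, GrpObj.comp_inv, F.map_comp, ← Category.assoc, h₁, h₂]

end points

/-- The conditions for a subobject of a base change to be a subgroup, resp. normal subgroup. -/
theorem exists_grpObj_bc {S S' : Scheme.{u}} (f : S' ⟶ S) {G H : Over S} [GrpObj G] (inc : H ⟶ G)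
    [IsClosedImmersion inc.left]
    (h1 : ∃ s, s ≫ inc.left = pullback.fst (𝟙_ (Over S)).hom f ≫ (1 : 𝟙_ (Over S) ⟶ G).left)
    (hm : ∃ s, s ≫ inc.left = pullback.fst (H ⊗ H).hom f ≫ ((fst H H ≫ inc) * (snd H H ≫ inc)).left)
    (hi : ∃ s, s ≫ inc.left = pullback.fst H.hom f ≫ (inc⁻¹).left) :
    ∃ _ : GrpObj (Red.bc f H), IsMonHom ((Over.pullback f).map inc) := by
  have : Mono inc := Over.mono_of_mono_left inc
  have : Mono ((Over.pullback f).map inc) := inferInstance
  exact H19Grp.exists_grpObj_of_closed _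
    (closed_one _ inc ((exists_factor_map_iff f inc _).mpr h1))
    (closed_mul _ inc ((exists_factor_map_iff f inc _).mpr hm))
    (closed_inv _ inc ((exists_factor_map_iff f inc _).mpr hi))

/-- Normality of a base changed subgroup from the factorization of the conjugation. -/
theorem isNormalHom_bc {S S' : Scheme.{u}} (f : S' ⟶ S) {G H : Over S} [GrpObj G] (inc : H ⟶ G)
    [GrpObj (Red.bc f H)]
    (h : ∃ s, s ≫ inc.left = pullback.fst (G ⊗ H).hom f ≫
      (fst G H * (snd G H ≫ inc) * (fst G H)⁻¹).left) :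
    AlgGrp.IsNormalHom ((Over.pullback f).map inc) :=
  fun T g n ↦ closed_conj _ inc ((exists_factor_map_iff f inc _).mpr h) T g n

/-- Conversely, a subgroup after base change gives the factorizations. -/
theorem factor_of_grpObj_bc {S S' : Scheme.{u}} (f : S' ⟶ S) {G H : Over S} [GrpObj G] (inc : H ⟶ G)
    [GrpObj (Red.bc f H)] [IsMonHom ((Over.pullback f).map inc)] :
    (∃ s, s ≫ inc.left = pullback.fst (𝟙_ (Over S)).hom f ≫ (1 : 𝟙_ (Over S) ⟶ G).left) ∧
    (∃ s, s ≫ inc.left = pullback.fst (H ⊗ H).hom f ≫ ((fst H H ≫ inc) * (snd H H ≫ inc)).left) ∧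
    (∃ s, s ≫ inc.left = pullback.fst H.hom f ≫ (inc⁻¹).left) ∧
    (AlgGrp.IsNormalHom ((Over.pullback f).map inc) →
      ∃ s, s ≫ inc.left = pullback.fst (G ⊗ H).hom f ≫
        (fst G H * (snd G H ≫ inc) * (fst G H)⁻¹).left) := by
  set F := Over.pullback f
  refine ⟨(exists_factor_map_iff f inc _).mp ⟨1, ?_⟩,
    (exists_factor_map_iff f inc _).mp ⟨F.map (fst H H) * F.map (snd H H), ?_⟩,
    (exists_factor_map_iff f inc _).mp ⟨(𝟙 (F.obj H))⁻¹, ?_⟩, fun hn ↦ ?_⟩
  · rw [MonObj.one_comp, Functor.map_one]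
  · rw [MonObj.mul_comp, Functor.map_mul, F.map_comp, F.map_comp]
  · rw [GrpObj.inv_comp, Functor.map_inv', Category.id_comp]
  · obtain ⟨n', hn'⟩ := hn _ (F.map (fst G H)) (F.map (snd G H))
    refine (exists_factor_map_iff f inc _).mp ⟨n', ?_⟩
    rw [← hn', Functor.map_mul, Functor.map_mul, Functor.map_inv', F.map_comp]

end Groth.Agent.H7Lim
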