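import Groth.Agent.H7Lim.OverStage
import Groth.Agent.H7Lim.GrpHomStage
import Groth.Agent.H7Lim.SubgroupStage
import Groth.Agent.H7Lim.DescendUnramified

/-!
# Monomorphisms and normal or central homomorphisms of group schemes in a cofiltered limit
-/

set_option autoImplicit false
set_option linter.style.haveILetI false
set_option backward.isDefEq.respectTransparency false
set_option backward.defeqAttrib.useBackward true

universe u

open CategoryTheory Limits AlgebraicGeometry MonoidalCategory CartesianMonoidalCategory MonObj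

namespace Groth.Agent.H7Lim.OverStage

theorem map_eq_map_iff {S S' : Scheme.{u}} (f : S' ⟶ S) {X Y : Over S} (v₁ v₂ : X ⟶ Y) :
    (Over.pullback f).map v₁ = (Over.pullback f).map v₂ ↔
      pullback.fst X.hom f ≫ v₁.left = pullback.fst X.hom f ≫ v₂.left := by
  rw [← map_left_fst f v₁, ← map_left_fst f v₂]
  exact ⟨fun h => by rw [h], bc_hom_ext f⟩

/-- The transition map between base changes of a scheme. -/
noncomputable def trans {S S' S'' : Scheme.{u}} {g : S'' ⟶ S'} {f : S' ⟶ S} {h : S'' ⟶ S} (w : g ≫ f = h)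
    {T : Scheme.{u}} (q : T ⟶ S) : pullback q h ⟶ pullback q f :=
  pullback.map q h q f (𝟙 _) g (𝟙 _) (by simp) (by simp [w])

theorem trans_fst {S S' S'' : Scheme.{u}} {g : S'' ⟶ S'} {f : S' ⟶ S} {h : S'' ⟶ S} (w : g ≫ f = h)
    {T : Scheme.{u}} (q : T ⟶ S) : trans w q ≫ pullback.fst q f = pullback.fst q h := by
  simp [trans]

theorem map_eq_later {S S' S'' : Scheme.{u}} {g : S'' ⟶ S'} {f : S' ⟶ S} {h : S'' ⟶ S} (w : g ≫ f = h)
    {X Y : Over S} {v₁ v₂ : X ⟶ Y} (e : (Over.pullback f).map v₁ = (Over.pullback f).map v₂) :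
    (Over.pullback h).map v₁ = (Over.pullback h).map v₂ := by
  rw [map_eq_map_iff] at e ⊢
  rw [← trans_fst w X.hom, Category.assoc, Category.assoc, e]

theorem factor_later {S S' S'' : Scheme.{u}} {g : S'' ⟶ S'} {f : S' ⟶ S} {h : S'' ⟶ S} (w : g ≫ f = h)
    {T X Z : Scheme.{u}} {q : T ⟶ S} {φ : T ⟶ X} {inc : Z ⟶ X}
    (e : ∃ s, s ≫ inc = pullback.fst q f ≫ φ) : ∃ s, s ≫ inc = pullback.fst q h ≫ φ := by
  obtain ⟨s, hs⟩ := e
  exact ⟨trans w q ≫ s, by rw [Category.assoc, hs, ← Category.assoc, trans_fst]⟩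

/-- The two projections of the self-product of `H` over `G`. -/
noncomputable abbrev kp {S : Scheme.{u}} {H G : Over S} (v : H ⟶ G) : Over S :=
  Over.mk (pullback.fst v.left v.left ≫ H.hom)

noncomputable abbrev kp₁ {S : Scheme.{u}} {H G : Over S} (v : H ⟶ G) : kp v ⟶ H :=
  Over.homMk (pullback.fst v.left v.left)

noncomputable abbrev kp₂ {S : Scheme.{u}} {H G : Over S} (v : H ⟶ G) : kp v ⟶ H :=
  Over.homMk (pullback.snd v.left v.left) (by
    show pullback.snd v.left v.left ≫ H.hom = pullback.fst v.left v.left ≫ H.hom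
    rw [← Over.w v, ← Category.assoc, ← Category.assoc, pullback.condition])

theorem mono_map_iff {S S' : Scheme.{u}} (f : S' ⟶ S) {H G : Over S} (v : H ⟶ G) :
    Mono ((Over.pullback f).map v) ↔ (Over.pullback f).map (kp₁ v) = (Over.pullback f).map (kp₂ v) := by
  have hw : kp₁ v ≫ v = kp₂ v ≫ v := Over.OverMorphism.ext pullback.condition
  constructor
  · intro h
    rw [← cancel_mono ((Over.pullback f).map v), ← Functor.map_comp, ← Functor.map_comp, hw]
  · intro e
    refine ⟨fun {T} a b hab => bc_hom_ext f ?_⟩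
    rw [map_eq_map_iff] at e
    have h1 : (a.left ≫ pullback.fst H.hom f) ≫ v.left = (b.left ≫ pullback.fst H.hom f) ≫ v.left := by
      have := congrArg (fun m => Over.Hom.left m ≫ pullback.fst G.hom f) hab
      simp only [Over.comp_left, Category.assoc, map_left_fst] at this
      simpa only [Category.assoc] using this
    let p := pullback.lift _ _ h1
    let l : T.left ⟶ pullback (kp v).hom f := pullback.lift p T.hom (by
      show p ≫ pullback.fst v.left v.left ≫ H.hom = T.hom ≫ f
      rw [← Category.assoc, pullback.lift_fst, Category.assoc, pullback.condition, ← Category.assoc]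
      exact congrArg (· ≫ f) (Over.w a))
    have := congrArg (l ≫ ·) e
    simpa [l, p] using this

theorem central_map_iff {S S' : Scheme.{u}} (f : S' ⟶ S) {H G : Over S} [GrpObj G] (v : H ⟶ G) :
    (∀ (T : Over S') (g : T ⟶ Red.bc f G) (n : T ⟶ Red.bc f H),
        g * (n ≫ (Over.pullback f).map v) = (n ≫ (Over.pullback f).map v) * g) ↔
      (Over.pullback f).map (fst G H * (snd G H ≫ v)) = (Over.pullback f).map ((snd G H ≫ v) * fst G H) := by
  constructor
  · intro h
    have := h _ ((Over.pullback f).map (fst G H)) ((Over.pullback f).map (snd G H))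
    rw [Functor.map_mul, Functor.map_mul, Functor.map_comp]
    exact this
  · intro e T g n
    obtain ⟨l, h₁, h₂⟩ := exists_lift_prod (Over.pullback f) g n
    rw [Functor.map_mul, Functor.map_mul, Functor.map_comp] at e
    have := congrArg (l ≫ ·) e
    simpa only [MonObj.comp_mul, ← Category.assoc, h₁, h₂] using this

variable {I : Type u} [Category.{u} I] [IsCofiltered I] {D : I ⥤ Scheme.{u}} {c : Cone D}
  [∀ (i i' : I) (f : i ⟶ i'), IsAffineHom (D.map f)]

/-- Morphisms over a stage equal in the limit are equal at a later stage. -/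
theorem exists_map_eq₀ (hc : IsLimit c) {j : I} {X Y : Over (D.obj j)} [CompactSpace X.left]
    [QuasiSeparatedSpace X.left] [LocallyOfFiniteType Y.hom] (v₁ v₂ : X ⟶ Y)
    (h : (Over.pullback (c.π.app j)).map v₁ = (Over.pullback (c.π.app j)).map v₂) :
    ∃ (i : I) (f : i ⟶ j), (Over.pullback (D.map f)).map v₁ = (Over.pullback (D.map f)).map v₂ := by
  let k : Over j := Over.mk (𝟙 j)
  let t : pbDiagram D j X.hom ⟶ (Functor.const (Over j)).obj (D.obj j) :=
    pbFst D j X.hom ≫ (Functor.const (Over j)).map X.hom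
  rw [map_eq_map_iff] at h
  obtain ⟨m, hm, heq⟩ := Scheme.exists_hom_comp_eq_comp_of_locallyOfFiniteType
    (pbDiagram D j X.hom) t Y.hom (pbCone D c j X.hom) (isLimitPbCone D j X.hom hc) (i := k)
    (pullback.fst X.hom (D.map k.hom) ≫ v₁.left) (pullback.fst X.hom (D.map k.hom) ≫ v₂.left)
    (by simp [t, k]) (by simp [t, k]) (by simpa [k] using h)
  refine ⟨m.left, m.hom, ?_⟩
  rw [map_eq_map_iff]
  simpa using heq

theorem exists_mono_stage (hc : IsLimit c) {j : I} [CompactSpace (D.obj j)] [QuasiSeparatedSpace (D.obj j)]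
    {H G : Over (D.obj j)} (v : H ⟶ G) [QuasiCompact H.hom] [QuasiSeparated H.hom] [QuasiSeparated G.hom]
    [LocallyOfFiniteType H.hom] (h : Mono ((Over.pullback (c.π.app j)).map v)) :
    ∃ (i : I) (f : i ⟶ j), Mono ((Over.pullback (D.map f)).map v) := by
  haveI : QuasiCompact (v.left ≫ G.hom) := by rw [Over.w v]; infer_instance
  haveI : QuasiSeparated (v.left ≫ G.hom) := by rw [Over.w v]; infer_instance
  haveI : QuasiCompact v.left := QuasiCompact.of_comp v.left G.hom
  haveI : QuasiSeparated v.left := QuasiSeparated.of_comp v.left G.hom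
  haveI : QuasiCompact (kp v).hom := inferInstanceAs (QuasiCompact (pullback.fst v.left v.left ≫ H.hom))
  haveI : QuasiSeparated (kp v).hom := inferInstanceAs (QuasiSeparated (pullback.fst v.left v.left ≫ H.hom))
  haveI := compactSpace_left (kp v)
  haveI := quasiSeparatedSpace_left (kp v)
  obtain ⟨i, f, hf⟩ := exists_map_eq₀ hc _ _ ((mono_map_iff _ v).1 h)
  exact ⟨i, f, (mono_map_iff _ v).2 hf⟩

theorem compactSpace_tensor {S : Scheme.{u}} [CompactSpace S] (A B : Over S) [QuasiCompact A.hom]
    [QuasiCompact B.hom] : CompactSpace (A ⊗ B).left := by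
  haveI : QuasiCompact (A ⊗ B).hom := by
    show QuasiCompact (pullback.fst A.hom B.hom ≫ A.hom)
    infer_instance
  exact compactSpace_left (A ⊗ B)

theorem quasiSeparatedSpace_tensor {S : Scheme.{u}} [QuasiSeparatedSpace S] (A B : Over S) [QuasiSeparated A.hom]
    [QuasiSeparated B.hom] : QuasiSeparatedSpace (A ⊗ B).left := by
  haveI : QuasiSeparated (A ⊗ B).hom := by
    show QuasiSeparated (pullback.fst A.hom B.hom ≫ A.hom)
    infer_instance
  exact quasiSeparatedSpace_left (A ⊗ B)

theorem mono_normal_iff (hc : IsLimit c) {j : I} [CompactSpace (D.obj j)] [QuasiSeparatedSpace (D.obj j)]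
    {H G : Over (D.obj j)} [GrpObj H] [GrpObj G] (v : H ⟶ G) [IsMonHom v] [LocallyOfFinitePresentation G.hom]
    [QuasiCompact G.hom] [QuasiSeparated G.hom] [LocallyOfFinitePresentation H.hom] [QuasiCompact H.hom]
    [QuasiSeparated H.hom] :
    (Mono ((Over.pullback (c.π.app j)).map v) ∧ AlgGrp.IsNormalHom ((Over.pullback (c.π.app j)).map v)) ↔
      ∃ (i : I) (f : i ⟶ j), Mono ((Over.pullback (D.map f)).map v) ∧
        AlgGrp.IsNormalHom ((Over.pullback (D.map f)).map v) := by
  constructor
  · rintro ⟨h1, h2⟩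
    obtain ⟨i, f, hf⟩ := exists_mono_stage hc v h1
    haveI : LocallyOfFinitePresentation (v.left ≫ G.hom) := by rw [Over.w v]; infer_instance
    haveI : LocallyOfFiniteType G.hom := inferInstance
    haveI : LocallyOfFinitePresentation v.left := locallyOfFinitePresentation_of_comp v.left G.hom
    haveI := compactSpace_tensor G H
    haveI := quasiSeparatedSpace_tensor G H
    obtain ⟨k, a, ha⟩ := exists_factor_stage hc j (G ⊗ H).hom _ v.left
      ((factor_of_grpObj_bc (c.π.app j) v).2.2.2 h2)
    obtain ⟨i', α, β, hαβ⟩ := IsCofiltered.cospan f a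
    refine ⟨i', α ≫ f, ?_, ?_⟩
    · exact (mono_map_iff _ v).2 (map_eq_later (D.map_comp α f).symm ((mono_map_iff _ v).1 hf))
    · refine isNormalHom_bc _ v ?_
      have := ha β
      rwa [← hαβ] at this
  · rintro ⟨i, f, h1, h2⟩
    exact ⟨(mono_map_iff _ v).2 (map_eq_later (c.w f) ((mono_map_iff _ v).1 h1)),
      isNormalHom_bc _ v (factor_later (c.w f) ((factor_of_grpObj_bc (D.map f) v).2.2.2 h2))⟩

theorem mono_central_iff (hc : IsLimit c) {j : I} [CompactSpace (D.obj j)] [QuasiSeparatedSpace (D.obj j)]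
    {H G : Over (D.obj j)} [GrpObj H] [GrpObj G] (v : H ⟶ G) [LocallyOfFinitePresentation G.hom]
    [QuasiCompact G.hom] [QuasiSeparated G.hom] [LocallyOfFinitePresentation H.hom] [QuasiCompact H.hom]
    [QuasiSeparated H.hom] :
    (Mono ((Over.pullback (c.π.app j)).map v) ∧
      ∀ (T : Over c.pt) (g : T ⟶ Red.bc (c.π.app j) G) (n : T ⟶ Red.bc (c.π.app j) H),
        g * (n ≫ (Over.pullback (c.π.app j)).map v) = (n ≫ (Over.pullback (c.π.app j)).map v) * g) ↔
      ∃ (i : I) (f : i ⟶ j), Mono ((Over.pullback (D.map f)).map v) ∧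
        ∀ (T : Over (D.obj i)) (g : T ⟶ Red.bc (D.map f) G) (n : T ⟶ Red.bc (D.map f) H),
          g * (n ≫ (Over.pullback (D.map f)).map v) = (n ≫ (Over.pullback (D.map f)).map v) * g := by
  constructor
  · rintro ⟨h1, h2⟩
    obtain ⟨i, f, hf⟩ := exists_mono_stage hc v h1
    haveI : LocallyOfFiniteType G.hom := inferInstance
    haveI := compactSpace_tensor G H
    haveI := quasiSeparatedSpace_tensor G H
    obtain ⟨k, a, ha⟩ := exists_map_eq₀ hc _ _ ((central_map_iff _ v).1 h2)
    obtain ⟨i', α, β, hαβ⟩ := IsCofiltered.cospan f a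
    refine ⟨i', α ≫ f, ?_, ?_⟩
    · exact (mono_map_iff _ v).2 (map_eq_later (D.map_comp α f).symm ((mono_map_iff _ v).1 hf))
    · refine (central_map_iff _ v).2 (map_eq_later (show D.map β ≫ D.map a = _ by rw [← D.map_comp, hαβ]) ha)
  · rintro ⟨i, f, h1, h2⟩
    exact ⟨(mono_map_iff _ v).2 (map_eq_later (c.w f) ((mono_map_iff _ v).1 h1)),
      (central_map_iff _ v).2 (map_eq_later (c.w f) ((central_map_iff _ v).1 h2))⟩

end Groth.Agent.H7Lim.OverStage
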