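import Mathlib.Algebra.Category.ModuleCat.Colimits
import Mathlib.Algebra.Category.ModuleCat.FilteredColimits
import Mathlib.CategoryTheory.Limits.Types.Filtered
import Mathlib.CategoryTheory.Limits.Preserves.Filtered
import Mathlib.Algebra.Module.FinitePresentation
import Mathlib.CategoryTheory.Limits.ConcreteCategory.Basic
import Mathlib.CategoryTheory.Yoneda

/-!
# Homomorphisms out of finite modules into filtered colimits
-/

set_option autoImplicit false
set_option backward.isDefEq.respectTransparency false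

universe u

open CategoryTheory Limits Opposite

namespace Groth.Agent.H7Lim

variable {A : Type u} [CommRing A] {M : ModuleCat.{u} A} {J : Type u} [Preorder J] [IsDirected J (· ≤ ·)]
  [Nonempty J] (N : J ⥤ ModuleCat.{u} A)

omit [IsDirected J (· ≤ ·)] [Nonempty J] in
theorem post_ι (i : J) (f : M ⟶ N.obj i) :
    colimit.post N (coyoneda.obj (op M)) (colimit.ι (N ⋙ coyoneda.obj (op M)) i f) = f ≫ colimit.ι N i :=
  congr($(colimit.ι_post N (coyoneda.obj (op M)) i) f)

theorem exists_eq_later {i j : J} (x : N.obj i) (y : N.obj j) (h : colimit.ι N i x = colimit.ι N j y) :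
    ∃ (k : J) (a : i ≤ k) (b : j ≤ k), N.map (homOfLE a) x = N.map (homOfLE b) y := by
  obtain ⟨k, a, b, hk⟩ := (Concrete.colimit_rep_eq_iff_exists N x y).1 h
  exact ⟨k, a.le, b.le, hk⟩

theorem exists_eq_later_finset {i : J} {ι : Type*} (s : Finset ι) (x y : ι → N.obj i)
    (h : ∀ t ∈ s, colimit.ι N i (x t) = colimit.ι N i (y t)) :
    ∃ (k : J) (a : i ≤ k), ∀ t ∈ s, N.map (homOfLE a) (x t) = N.map (homOfLE a) (y t) := by
  classical
  induction s using Finset.induction_on with
  | empty => exact ⟨i, le_rfl, by simp⟩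
  | @insert t s _ ih =>
    obtain ⟨k, a, hk⟩ := ih fun t' ht' => h t' (Finset.mem_insert_of_mem ht')
    obtain ⟨l, b, b', hl⟩ := exists_eq_later N (N.map (homOfLE a) (x t)) (N.map (homOfLE a) (y t)) (by
      rw [← ConcreteCategory.comp_apply, ← ConcreteCategory.comp_apply, colimit.w]
      exact h t (Finset.mem_insert_self _ _))
    refine ⟨l, a.trans b, fun t' ht' => ?_⟩
    have e : homOfLE (a.trans b) = homOfLE a ≫ homOfLE b := rfl
    rw [e, N.map_comp, ConcreteCategory.comp_apply, ConcreteCategory.comp_apply]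
    rcases Finset.mem_insert.1 ht' with rfl | ht'
    · exact hl
    · rw [hk t' ht']

theorem post_injective [Module.Finite A M] : Function.Injective (colimit.post N (coyoneda.obj (op M))) := by
  intro x y hxy
  obtain ⟨i, f, rfl⟩ := Types.jointly_surjective' x
  obtain ⟨j, g, rfl⟩ := Types.jointly_surjective' y
  change M ⟶ N.obj i at f
  change M ⟶ N.obj j at g
  rw [post_ι, post_ι] at hxy
  obtain ⟨G, hG⟩ := Module.Finite.fg_top (R := A) (M := M)
  obtain ⟨m, him, hjm⟩ := exists_ge_ge i j
  obtain ⟨k, hmk, hk⟩ := exists_eq_later_finset N G (fun t => N.map (homOfLE him) (f t))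
    (fun t => N.map (homOfLE hjm) (g t)) fun t _ => by
      show (N.map (homOfLE him) ≫ colimit.ι N m) (f t) = (N.map (homOfLE hjm) ≫ colimit.ι N m) (g t)
      rw [colimit.w N (homOfLE him), colimit.w N (homOfLE hjm)]
      exact congr($hxy t)
  refine (Types.FilteredColimit.colimit_eq_iff (N ⋙ coyoneda.obj (op M))).2
    ⟨k, homOfLE (him.trans hmk), homOfLE (hjm.trans hmk), ?_⟩
  show f ≫ N.map (homOfLE (him.trans hmk)) = g ≫ N.map (homOfLE (hjm.trans hmk))
  apply ModuleCat.hom_ext
  refine LinearMap.ext_on hG fun t ht => ?_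
  have h := hk t ht
  show N.map (homOfLE (him.trans hmk)) (f t) = N.map (homOfLE (hjm.trans hmk)) (g t)
  rw [show homOfLE (him.trans hmk) = homOfLE him ≫ homOfLE hmk from rfl,
    show homOfLE (hjm.trans hmk) = homOfLE hjm ≫ homOfLE hmk from rfl, Functor.map_comp, Functor.map_comp]
  exact h

theorem exists_rep_finset {ι : Type*} [Finite ι] (z : ι → ToType (colimit N)) :
    ∃ (i : J) (x : ι → N.obj i), ∀ t, colimit.ι N i (x t) = z t := by
  classical
  cases nonempty_fintype ι
  choose j y hy using fun t => Concrete.colimit_exists_rep N (z t)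
  obtain ⟨i, hi⟩ := Finset.exists_le (Finset.univ.image j)
  refine ⟨i, fun t => N.map (homOfLE (hi _ (Finset.mem_image_of_mem j (Finset.mem_univ t)))) (y t), fun t => ?_⟩
  rw [← ConcreteCategory.comp_apply, colimit.w]
  exact hy t

theorem post_surjective [Module.FinitePresentation A M] :
    Function.Surjective (colimit.post N (coyoneda.obj (op M))) := by
  intro φ
  change M ⟶ colimit N at φ
  obtain ⟨n, m, p, q, hp, hpq⟩ := Module.FinitePresentation.exists_fin' A M
  obtain ⟨i, x, hx⟩ := exists_rep_finset N fun t : Fin n => φ (p (Pi.single t 1))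
  let f₀ : (Fin n → A) →ₗ[A] N.obj i := Fintype.linearCombination A x
  have hf₀ : ∀ v, colimit.ι N i (f₀ v) = φ (p v) := by
    have : (colimit.ι N i).hom.comp f₀ = φ.hom.comp p := LinearMap.pi_ext' fun t => LinearMap.ext_ring (by
      simp only [LinearMap.comp_apply, LinearMap.single_apply]
      rw [show f₀ (Pi.single t 1) = x t by simp [f₀, Fintype.linearCombination_apply_single]]
      exact hx t)
    exact fun v => LinearMap.congr_fun this v
  obtain ⟨k, hik, hk⟩ := exists_eq_later_finset N (Finset.univ : Finset (Fin m))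
    (fun t => f₀ (q (Pi.single t 1))) (fun _ => 0) fun t _ => by
      rw [hf₀, map_zero, hpq.apply_apply_eq_zero, map_zero]
  let f₁ : (Fin n → A) →ₗ[A] N.obj k := (N.map (homOfLE hik)).hom.comp f₀
  have hker : LinearMap.ker p ≤ LinearMap.ker f₁ := by
    intro v hv
    obtain ⟨w, rfl⟩ := (hpq v).1 hv
    have : f₁.comp q = 0 := LinearMap.pi_ext' fun t => LinearMap.ext_ring (by
      have h := hk t (Finset.mem_univ t)
      rw [map_zero] at h
      simpa [f₁] using h)
    exact LinearMap.congr_fun this w
  let g : M →ₗ[A] N.obj k := ((LinearMap.ker p).liftQ f₁ hker).comp (LinearMap.quotKerEquivOfSurjective p hp).symm.toLinearMap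
  refine ⟨colimit.ι (N ⋙ coyoneda.obj (op M)) k (ModuleCat.ofHom g), ?_⟩
  rw [post_ι]
  apply ModuleCat.hom_ext
  apply LinearMap.ext
  intro z
  obtain ⟨v, rfl⟩ := hp z
  have hg : g (p v) = f₁ v := by
    show (LinearMap.ker p).liftQ f₁ hker ((LinearMap.quotKerEquivOfSurjective p hp).symm (p v)) = f₁ v
    rw [show (LinearMap.quotKerEquivOfSurjective p hp).symm (p v) = Submodule.Quotient.mk v from
      (LinearMap.quotKerEquivOfSurjective p hp).injective (by rw [LinearEquiv.apply_symm_apply]; rfl)]
    rfl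
  show colimit.ι N k (g (p v)) = φ (p v)
  rw [hg, ← hf₀]
  show colimit.ι N k (N.map (homOfLE hik) (f₀ v)) = _
  rw [← ConcreteCategory.comp_apply, colimit.w]

end Groth.Agent.H7Lim
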