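import Groth.Agent.H11Aff.RelSpecUniv
import Groth.Agent.H7Lim.Approx.LimitExists
import Groth.Agent.S2151
import Mathlib.AlgebraicGeometry.AffineTransitionLimit
import Mathlib.CategoryTheory.Filtered.Basic
import Mathlib.AlgebraicGeometry.Morphisms.QuasiSeparated

/-!
# The relative spectrum turns filtered colimits of quasi-coherent algebras into limits of schemes
-/

set_option autoImplicit false
set_option linter.style.haveILetI false
set_option backward.isDefEq.respectTransparency false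
universe u

open CategoryTheory CategoryTheory.Limits AlgebraicGeometry TopologicalSpace Opposite

noncomputable section

namespace Groth.Agent.H7Lim.RelSpecLimit

open H11Aff.RelSpecUniv

variable {S : Scheme.{u}}

theorem algHom_id {X : Scheme.{u}} (f : X ⟶ S) :
    AffAlg.algHom f f (𝟙 X) (Category.id_comp f) = 𝟙 _ := by
  refine NatTrans.ext (funext fun U => ?_)
  rw [H11Aff.algHom_app_eq_appLE f f (𝟙 X) (Category.id_comp f) U.unop (by simp)]
  simp [Scheme.Hom.appLE]
  exact X.presheaf.map_id _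

theorem algHom_comp {X Y Z : Scheme.{u}} (f : X ⟶ S) (g : Y ⟶ S) (h : Z ⟶ S) (a : Y ⟶ X) (b : Z ⟶ Y)
    (wa : a ≫ f = g) (wb : b ≫ g = h) (w : (b ≫ a) ≫ f = h) :
    AffAlg.algHom f h (b ≫ a) w = AffAlg.algHom f g a wa ≫ AffAlg.algHom g h b wb := by
  refine NatTrans.ext (funext fun U => ?_)
  rw [NatTrans.comp_app, H11Aff.algHom_app_eq_appLE f h (b ≫ a) w U.unop (H11Aff.preimage_le f h _ w _),
    H11Aff.algHom_app_eq_appLE f g a wa U.unop (H11Aff.preimage_le f g a wa _),
    H11Aff.algHom_app_eq_appLE g h b wb U.unop (H11Aff.preimage_le g h b wb _)]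
  exact (Scheme.Hom.appLE_comp_appLE ..).symm

theorem algHom_congr {X Y : Scheme.{u}} (f : X ⟶ S) (g : Y ⟶ S) {a b : Y ⟶ X} (e : a = b)
    (wa : a ≫ f = g) (wb : b ≫ f = g) : AffAlg.algHom f g a wa = AffAlg.algHom f g b wb := by
  subst e; rfl

variable {A B : RelSpec.QCAlg S}

theorem π_c_comp (φ : A ⟶ B) : A.π.c ≫ (A.gammaMap ≫ φ.hom ≫ univMap B) = B.π.c := by
  rw [← Category.assoc, A.π_c_gammaMap, ← Category.assoc, φ.comm, str_univMap]

/-- The algebra map of `Spec φ` is `φ`. -/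
theorem algHom_specMap (φ : A ⟶ B) :
    AffAlg.algHom A.π B.π (RelSpec.QCAlg.specMap φ) (RelSpec.QCAlg.specMap_π φ) =
      A.gammaMap ≫ φ.hom ≫ univMap B := by
  obtain ⟨⟨v, w⟩, hv⟩ := H11Aff.algOf_surjective A.π B.π ⟨_, π_c_comp φ⟩
  have hv' : AffAlg.algHom A.π B.π v w = A.gammaMap ≫ φ.hom ≫ univMap B := congrArg Subtype.val hv
  have e : v = RelSpec.QCAlg.specMap φ := by
    refine hom_ext (fun _ => True) (fun x => ?_) fun U hU _ => ?_
    · obtain ⟨U, hU, hxU, -⟩ := exists_isAffineOpen_mem_and_subset (X := S) (x := x) (U := ⊤) trivial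
      exact ⟨U, hU, trivial, hxU⟩
    rw [RelSpec.QCAlg.ι_specMap U hU φ]
    refine ι_comp_eq v U hU U hU _ (H11Aff.preimage_le A.π B.π v w U) ?_
    rw [← H11Aff.algHom_app_eq_appLE A.π B.π v w U, hv', NatTrans.comp_app, NatTrans.comp_app,
      Category.assoc, Category.assoc, univMap_gammaAff, A.gammaMap_app U hU]
    exact congrArg _ (Category.comp_id _)
  rw [← hv']
  exact algHom_congr _ _ e.symm _ _

theorem univMap_algHom_specMap (φ : A ⟶ B) :
    univMap A ≫ AffAlg.algHom A.π B.π (RelSpec.QCAlg.specMap φ) (RelSpec.QCAlg.specMap_π φ) =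
      φ.hom ≫ univMap B := by
  rw [algHom_specMap, ← Category.assoc, univMap_gammaMap, Category.id_comp]

theorem specMap_id (A : RelSpec.QCAlg S) : RelSpec.QCAlg.specMap (𝟙 A) = 𝟙 A.spec := by
  refine hom_ext (fun _ => True) (fun x => ?_) fun U hU _ => ?_
  · obtain ⟨U, hU, hxU, -⟩ := exists_isAffineOpen_mem_and_subset (X := S) (x := x) (U := ⊤) trivial
    exact ⟨U, hU, trivial, hxU⟩
  rw [RelSpec.QCAlg.ι_specMap U hU, RelSpec.QCAlg.id_hom, NatTrans.id_app, Spec.map_id, Category.id_comp,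
    Category.comp_id]

theorem specMap_comp {C : RelSpec.QCAlg S} (φ : A ⟶ B) (ψ : B ⟶ C) :
    RelSpec.QCAlg.specMap (φ ≫ ψ) = RelSpec.QCAlg.specMap ψ ≫ RelSpec.QCAlg.specMap φ := by
  refine hom_ext (fun _ => True) (fun x => ?_) fun U hU _ => ?_
  · obtain ⟨U, hU, hxU, -⟩ := exists_isAffineOpen_mem_and_subset (X := S) (x := x) (U := ⊤) trivial
    exact ⟨U, hU, trivial, hxU⟩
  rw [RelSpec.QCAlg.ι_specMap U hU, reassoc_of% (RelSpec.QCAlg.ι_specMap U hU ψ),
    RelSpec.QCAlg.ι_specMap U hU, RelSpec.QCAlg.comp_hom, NatTrans.comp_app, Spec.map_comp, Category.assoc]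

theorem isAffineHom_specMap (φ : A ⟶ B) : IsAffineHom (RelSpec.QCAlg.specMap φ) := by
  haveI : IsAffineHom (RelSpec.QCAlg.specMap φ ≫ A.π) := by
    rw [RelSpec.QCAlg.specMap_π]; infer_instance
  exact MorphismProperty.of_postcomp (W := @IsAffineHom) (W' := @IsSeparated) _ A.π inferInstance inferInstance

variable {J : Type u} [SmallCategory J] [IsFiltered J] (F : J ⥤ RelSpec.QCAlg S)

/-- The inverse system of relative spectra. -/
def specDiagram : Jᵒᵖ ⥤ Scheme.{u} where
  obj j := (F.obj j.unop).spec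
  map a := RelSpec.QCAlg.specMap (F.map a.unop)
  map_id j := by rw [unop_id, F.map_id, specMap_id]
  map_comp a b := by rw [unop_comp, F.map_comp, specMap_comp]

/-- **Relative spectrum of a filtered colimit is the limit of the relative spectra.** -/
theorem existsUnique_lift (c : Cocone F) (hc : IsColimit c)
    (T : Scheme.{u}) (v : ∀ j : J, T ⟶ (F.obj j).spec)
    (hv : ∀ (j j' : J) (φ : j ⟶ j'), v j' ≫ RelSpec.QCAlg.specMap (F.map φ) = v j) :
    ∃! w : T ⟶ c.pt.spec, ∀ j : J, w ≫ RelSpec.QCAlg.specMap (c.ι.app j) = v j := by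
  haveI : ∀ (i j : Jᵒᵖ) (a : i ⟶ j), IsAffineHom ((specDiagram F).map a) := fun i j a =>
    isAffineHom_specMap _
  obtain ⟨L, hL, hLaff⟩ := S2151.result (specDiagram F)
  obtain ⟨j₀⟩ := IsFiltered.nonempty (C := J)
  let πL : L.pt ⟶ S := L.π.app (op j₀) ≫ (F.obj j₀).π
  haveI : IsAffineHom πL :=
    haveI := hLaff (op j₀)
    MorphismProperty.comp_mem @IsAffineHom _ _ (hLaff (op j₀)) (RelSpec.QCAlg.isAffineHom_π _)
  have hstep : ∀ {i j : J} (a : i ⟶ j), L.π.app (op j) ≫ RelSpec.QCAlg.specMap (F.map a) = L.π.app (op i) :=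
    fun a => L.w a.op
  have hπ : ∀ j : J, L.π.app (op j) ≫ (F.obj j).π = πL := fun j => by
    have h1 := hstep (IsFiltered.leftToMax j j₀)
    have h2 := hstep (IsFiltered.rightToMax j j₀)
    simp only [πL]
    rw [← h1, ← h2, Category.assoc, Category.assoc, RelSpec.QCAlg.specMap_π, RelSpec.QCAlg.specMap_π]
  let P := RelSpec.QCAlg.directImage πL
  let τ : ∀ j, F.obj j ⟶ P := fun j =>
    ⟨univMap (F.obj j) ≫ AffAlg.algHom (F.obj j).π πL (L.π.app (op j)) (hπ j), by
      rw [← Category.assoc, str_univMap]; exact AffAlg.algHom_comm _ _ _ _⟩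
  have hτ : ∀ {i j : J} (a : i ⟶ j), F.map a ≫ τ j = τ i := fun {i j} a => RelSpec.QCAlg.hom_ext (by
    simp only [τ, RelSpec.QCAlg.comp_hom]
    rw [← Category.assoc, ← univMap_algHom_specMap, Category.assoc, ← algHom_comp _ _ _ _ _ _ _
      (by rw [hstep a, hπ]), algHom_congr _ _ (hstep a) _ (hπ i)])
  let cτ : Cocone F :=
    { pt := P, ι := { app := τ, naturality := fun i j a => (hτ a).trans (Category.comp_id _).symm } }
  let ψ := hc.desc cτ
  have hψ : ∀ j, c.ι.app j ≫ ψ = τ j := fun j => hc.fac cτ j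
  obtain ⟨⟨e, he⟩, hω⟩ := H11Aff.algOf_surjective c.pt.π πL ⟨c.pt.gammaMap ≫ ψ.hom, by
    rw [← Category.assoc, c.pt.π_c_gammaMap]; exact ψ.comm⟩
  have hω' : AffAlg.algHom c.pt.π πL e he = c.pt.gammaMap ≫ ψ.hom := congrArg Subtype.val hω
  have hcomp : ∀ j, (e ≫ RelSpec.QCAlg.specMap (c.ι.app j)) ≫ (F.obj j).π = πL := fun j => by
    rw [Category.assoc, RelSpec.QCAlg.specMap_π, he]
  have heu : ∀ j, e ≫ RelSpec.QCAlg.specMap (c.ι.app j) = L.π.app (op j) := fun j => by
    refine congrArg Subtype.val (H11Aff.algOf_injective (F.obj j).π πL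
      (a₁ := ⟨_, hcomp j⟩) (a₂ := ⟨_, hπ j⟩) (Subtype.ext ?_))
    show AffAlg.algHom _ _ _ (hcomp j) = AffAlg.algHom _ _ _ (hπ j)
    rw [algHom_comp _ c.pt.π _ _ _ (RelSpec.QCAlg.specMap_π _) he, algHom_specMap, hω', Category.assoc,
      Category.assoc, ← Category.assoc (univMap c.pt), univMap_gammaMap, Category.id_comp,
      show (c.ι.app j).hom ≫ ψ.hom = (τ j).hom from congrArg RelSpec.QCAlg.Hom.hom (hψ j)]
    simp only [τ]
    rw [← Category.assoc, gammaMap_univMap, Category.id_comp]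
  -- the limit maps back
  let cu : Cone (specDiagram F) :=
    { pt := c.pt.spec
      π := { app := fun j => RelSpec.QCAlg.specMap (c.ι.app j.unop)
             naturality := fun i j a => by
               dsimp
               rw [Category.id_comp]
               exact ((congrArg RelSpec.QCAlg.specMap (c.w a.unop)).symm.trans (specMap_comp _ _)) } }
  let r : c.pt.spec ⟶ L.pt := hL.lift cu
  have hr : ∀ j, r ≫ L.π.app (op j) = RelSpec.QCAlg.specMap (c.ι.app j) := fun j => hL.fac cu (op j)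
  have hre : (r ≫ e) ≫ c.pt.π = c.pt.π := by
    rw [Category.assoc, he]
    simp only [πL]
    rw [← Category.assoc, hr, RelSpec.QCAlg.specMap_π]
    rfl
  let η : c.pt ⟶ c.pt := ⟨univMap c.pt ≫ AffAlg.algHom c.pt.π c.pt.π (r ≫ e) hre ≫ c.pt.gammaMap, by
    rw [← Category.assoc, str_univMap, ← Category.assoc, AffAlg.algHom_comm, c.pt.π_c_gammaMap]⟩
  have hη : η = 𝟙 _ := hc.hom_ext fun j => RelSpec.QCAlg.hom_ext (by
    simp only [η, RelSpec.QCAlg.comp_hom, Category.comp_id]
    have h1 : RelSpec.QCAlg.specMap (c.ι.app j) ≫ (F.obj j).π = c.pt.π := RelSpec.QCAlg.specMap_π _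
    have h2 : ((r ≫ e) ≫ RelSpec.QCAlg.specMap (c.ι.app j)) ≫ (F.obj j).π = c.pt.π := by
      rw [Category.assoc, h1, hre]
    have h3 : (r ≫ e) ≫ RelSpec.QCAlg.specMap (c.ι.app j) = RelSpec.QCAlg.specMap (c.ι.app j) := by
      rw [Category.assoc, heu, hr]
    rw [← Category.assoc, ← univMap_algHom_specMap, Category.assoc,
      ← Category.assoc (AffAlg.algHom _ _ (RelSpec.QCAlg.specMap _) _),
      ← algHom_comp _ _ _ _ _ _ hre h2, algHom_congr _ _ h3 h2 h1,
      ← Category.assoc (univMap _), univMap_algHom_specMap, Category.assoc, univMap_gammaMap,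
      Category.comp_id])
  have hid : r ≫ e = 𝟙 _ := by
    refine congrArg Subtype.val (H11Aff.algOf_injective c.pt.π c.pt.π
      (a₁ := ⟨_, hre⟩) (a₂ := ⟨_, Category.id_comp _⟩) (Subtype.ext ?_))
    show AffAlg.algHom _ _ _ hre = AffAlg.algHom _ _ _ (Category.id_comp _)
    rw [algHom_id]
    have h1 := congrArg (fun m : c.pt ⟶ c.pt => c.pt.gammaMap ≫ m.hom ≫ univMap c.pt) hη
    simp only [η, RelSpec.QCAlg.id_hom, Category.id_comp, gammaMap_univMap, Category.assoc,
      Category.comp_id] at h1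
    rwa [← Category.assoc, gammaMap_univMap, Category.id_comp] at h1
  -- conclusion
  let cv : Cone (specDiagram F) :=
    { pt := T
      π := { app := fun j => v j.unop
             naturality := fun i j a => (Category.id_comp _).trans (hv _ _ a.unop).symm } }
  refine ⟨hL.lift cv ≫ e, fun j => ?_, fun w' hw' => ?_⟩
  · rw [Category.assoc, heu]
    exact hL.fac cv (op j)
  · have : w' ≫ r = hL.lift cv := hL.uniq cv _ fun j => by
      rw [Category.assoc, show r ≫ L.π.app j = _ from hL.fac cu j]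
      exact hw' j.unop
    rw [← this, Category.assoc, hid, Category.comp_id]

end Groth.Agent.H7Lim.RelSpecLimit
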