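import Groth.Agent.H7Lim.ImmersionStage
import Groth.Agent.H7Lim.RelSpecLimit
import Groth.Agent.H17.QCAlgGen

/-!
An immersion into a relative spectrum is already one at a finite type stage.
-/

set_option autoImplicit false
set_option linter.style.haveILetI false
set_option backward.isDefEq.respectTransparency false
universe u

open CategoryTheory AlgebraicGeometry TopologicalSpace Opposite

namespace Groth.Agent.H7Lim.ImmersionRelSpec

open H17.FPExt H17.QCAlgSub

variable {Y : Scheme.{u}} [CompactSpace Y] [QuasiSeparatedSpace Y]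

/-- Finitely many sections lie in one finite type subalgebra. -/
theorem exists_finiteType_subAlg_list (B : RelSpec.QCAlg Y)
    (t : List (Σ U : Y.affineOpens, B.presheaf.obj (op U.1))) :
    ∃ (B' : RelSpec.QCAlg Y) (φ : B' ⟶ B),
      (∀ V : Y.Opens, Function.Injective (φ.hom.app (op V))) ∧
      (∀ V : Y.affineOpens, (B'.str.app (op (V : Y.Opens))).hom.FiniteType) ∧
      ∀ e ∈ t, e.2 ∈ Set.range (φ.hom.app (op e.1.1)) := by
  haveI : B.toModule.IsQuasicoherent := isQCoh_toModule B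
  choose g ψ hψ using fun e : Σ U : Y.affineOpens, B.presheaf.obj (op U.1) =>
    exists_fpGen B.toModule inferInstance e.1 (show Γ(B.toModule, e.1.1) from e.2)
  let L : List (Σ g : GI Y, fpGen g ⟶ B.toModule) := t.map fun e => ⟨g e, ψ e⟩
  obtain ⟨q, hq⟩ := exists_lsum_hom B.toModule L
  have hfp : CohB1.IsFP (lsum (L.map Sigma.fst)) := isFP_lsum _
  have hqc := H29Fitt.isQCoh_of_isFP _ hfp
  refine ⟨subAlg B q hqc, subAlgHom B q hqc, subAlgHom_injective B q hqc,
    fun V => finiteType_subAlg B q hqc (H29Fitt.isFT_of_isFP _ hfp) V.2, fun e he => ?_⟩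
  obtain ⟨r, hr⟩ := hψ e
  obtain ⟨z, hz⟩ := hq ⟨g e, ψ e⟩ (List.mem_map.2 ⟨e, he, rfl⟩) e.1.1 r
  have h := japp_mem B q e.1.1 z
  have : japp B q e.1.1 z = e.2 := hz.trans hr
  rw [this] at h
  exact mem_range_subAlgHom B q hqc e.1.2 h

theorem exists_finiteType_stage_isImmersion {X : Scheme.{u}} (C : RelSpec.QCAlg Y) (g : X ⟶ C.spec)
    [IsImmersion g] [CompactSpace X] [LocallyOfFiniteType (g ≫ C.π)] :
    ∃ (C' : RelSpec.QCAlg Y) (φ : C' ⟶ C),
      (∀ V : Y.Opens, Function.Injective (φ.hom.app (op V))) ∧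
      (∀ V : Y.affineOpens, (C'.str.app (op (V : Y.Opens))).hom.FiniteType) ∧
      IsImmersion (g ≫ RelSpec.QCAlg.specMap φ) := by
  obtain ⟨t, ht⟩ := ImmersionStage.exists_sections_isImmersion C.π g
  let t' : List (Σ U : Y.affineOpens, C.presheaf.obj (op U.1)) :=
    t.map (fun e : Σ U : Y.affineOpens, Γ(C.spec, C.π ⁻¹ᵁ U.1) =>
      (⟨e.1, C.gammaMap.app (op e.1.1) e.2⟩ : Σ U : Y.affineOpens, C.presheaf.obj (op U.1)))
  obtain ⟨C', φ, hinj, hft, hmem⟩ := exists_finiteType_subAlg_list C t'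
  refine ⟨C', φ, hinj, hft, ht C'.π (RelSpec.QCAlg.specMap φ) (RelSpec.QCAlg.specMap_π φ) fun e he => ?_⟩
  obtain ⟨s, hs⟩ := hmem _ (List.mem_map.2 ⟨e, he, rfl⟩)
  have hle := H11Aff.preimage_le C'.π C.π (RelSpec.QCAlg.specMap φ) (RelSpec.QCAlg.specMap_π φ) e.1.1
  refine ⟨hle, (H11Aff.RelSpecUniv.univMap C').app (op e.1.1) s, ?_⟩
  rw [← H11Aff.algHom_app_eq_appLE C'.π C.π _ (RelSpec.QCAlg.specMap_π φ) e.1.1 hle,
    RelSpecLimit.algHom_specMap, NatTrans.comp_app, NatTrans.comp_app, CommRingCat.comp_apply,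
    CommRingCat.comp_apply]
  have h1 := congrArg (fun η => η.app (op e.1.1) s) (H11Aff.RelSpecUniv.univMap_gammaMap C')
  have h2 := congrArg (fun η => η.app (op e.1.1) e.2) (H11Aff.RelSpecUniv.gammaMap_univMap C)
  exact (congrArg (fun z => (H11Aff.RelSpecUniv.univMap C).app (op e.1.1) (φ.hom.app (op e.1.1) z)) h1).trans
    ((congrArg (fun z => (H11Aff.RelSpecUniv.univMap C).app (op e.1.1) z) hs).trans h2)

end Groth.Agent.H7Lim.ImmersionRelSpec
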