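import Mathlib.AlgebraicGeometry.Morphisms.Immersion
import Mathlib.AlgebraicGeometry.Morphisms.FiniteType
import Mathlib.AlgebraicGeometry.Morphisms.Affine

/-!
An immersion into a scheme affine over the base stays an immersion after composing with a map
whose sections contain suitable finitely many sections.
-/

set_option autoImplicit false
set_option linter.style.haveILetI false
universe u

open CategoryTheory AlgebraicGeometry TopologicalSpace

namespace Groth.Agent.H7Lim.ImmersionStage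

variable {X N P S : Scheme.{u}}

theorem isClosedImmersion_morphismRestrict (g : X ⟶ N) [IsImmersion g] (W : N.Opens)
    (hW : W ≤ g.coborderRange) : IsClosedImmersion (g ∣_ W) := by
  haveI : IsPreimmersion (g ∣_ W) :=
    MorphismProperty.of_isPullback (isPullback_morphismRestrict g W).flip inferInstance
  refine IsClosedImmersion.of_isPreimmersion _ ?_
  have h : Set.range (g ∣_ W) = W.ι ⁻¹' closure (Set.range g) := by
    ext w
    constructor
    · rintro ⟨z, rfl⟩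
      refine subset_closure ?_
      exact ⟨(g ⁻¹ᵁ W).ι z, by rw [← Scheme.Hom.comp_apply, ← Scheme.Hom.comp_apply, morphismRestrict_ι]⟩
    · intro hw
      have hco : W.ι w ∈ coborder (Set.range g) := hW w.2
      obtain ⟨x, hx⟩ : W.ι w ∈ Set.range g := by
        by_contra hne
        exact hco ⟨hw, hne⟩
      refine ⟨⟨x, show g x ∈ W by rw [hx]; exact w.2⟩, W.ι.isEmbedding.injective ?_⟩
      rw [← Scheme.Hom.comp_apply, morphismRestrict_ι, Scheme.Hom.comp_apply]
      exact hx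
  rw [h]
  exact isClosed_closure.preimage W.ι.continuous

theorem app_surjective_of_le (g : X ⟶ N) [IsImmersion g] {W : N.Opens} (hW : IsAffineOpen W)
    (hle : W ≤ g.coborderRange) :
    IsAffineOpen (g ⁻¹ᵁ W) ∧ Function.Surjective (g.app W) := by
  haveI := isClosedImmersion_morphismRestrict g W hle
  haveI : IsAffine W.toScheme := hW
  have hA : IsAffineOpen (g ⁻¹ᵁ W) := isAffine_of_isAffineHom (g ∣_ W)
  refine ⟨hA, ?_⟩
  have h := (g ∣_ W).app_surjective ⊤ (isAffineOpen_top _)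
  have e : W.ι ''ᵁ ⊤ = W := by rw [Scheme.Hom.image_top_eq_opensRange, Scheme.Opens.opensRange_ι]
  have key : ∀ F : N.Opens, W.ι ''ᵁ ⊤ = F → Function.Surjective (g.app F) := by
    rintro F rfl
    intro y
    obtain ⟨z, hz⟩ := h ((X.presheaf.map (eqToHom (image_morphismRestrict_preimage g W ⊤)).op) y)
    rw [morphismRestrict_app] at hz
    refine ⟨z, ?_⟩
    exact (ConcreteCategory.bijective_of_isIso
      (X.presheaf.map (eqToHom (image_morphismRestrict_preimage g W ⊤)).op)).1 hz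
  exact key W e

/-- The sections needed over one piece. -/
theorem exists_piece (ν : N ⟶ S) [IsAffineHom ν] (g : X ⟶ N) [IsImmersion g]
    [LocallyOfFiniteType (g ≫ ν)] (x : X) :
    ∃ (U : S.affineOpens) (a : Γ(N, ν ⁻¹ᵁ U.1)) (c : Finset Γ(N, ν ⁻¹ᵁ U.1)),
      g x ∈ N.basicOpen a ∧ N.basicOpen a ≤ g.coborderRange ∧
      ∀ (Q : Subring Γ(X, g ⁻¹ᵁ N.basicOpen a)),
        (∀ r : Γ(S, U.1), g.app (N.basicOpen a)
          (N.presheaf.map (homOfLE (N.basicOpen_le a)).op (ν.app U.1 r)) ∈ Q) →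
        (∀ b ∈ c, g.app (N.basicOpen a) (N.presheaf.map (homOfLE (N.basicOpen_le a)).op b) ∈ Q) →
        (∀ y, g.app (N.basicOpen a) (N.presheaf.map (homOfLE (N.basicOpen_le a)).op a) * y = 1 →
          y ∈ Q) → Q = ⊤ := by
  classical
  obtain ⟨U, hU, hxU, -⟩ := exists_isAffineOpen_mem_and_subset (x := ν (g x)) (U := (⊤ : S.Opens)) trivial
  have hA : IsAffineOpen (ν ⁻¹ᵁ U) := hU.preimage ν
  obtain ⟨a, ha, hxa⟩ := hA.exists_basicOpen_le (V := g.coborderRange)
    ⟨g x, subset_coborder ⟨x, rfl⟩⟩ hxU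
  obtain ⟨hAx, hsurj⟩ := app_surjective_of_le g (hA.basicOpen a) ha
  have hle : g ⁻¹ᵁ N.basicOpen a ≤ (g ≫ ν) ⁻¹ᵁ U := fun z hz => N.basicOpen_le a hz
  have hft : ((g ≫ ν).appLE U (g ⁻¹ᵁ N.basicOpen a) hle).hom.FiniteType :=
    (g ≫ ν).finiteType_appLE hU hAx hle
  letI := ((g ≫ ν).appLE U (g ⁻¹ᵁ N.basicOpen a) hle).hom.toAlgebra
  obtain ⟨G, hG⟩ := (hft : Algebra.FiniteType Γ(S, U) Γ(X, g ⁻¹ᵁ N.basicOpen a)).out
  haveI := hA.isLocalization_basicOpen a
  choose t ht using hsurj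
  choose n c hc using fun b : Γ(N, N.basicOpen a) => IsLocalization.Away.surj a b
  refine ⟨⟨U, hU⟩, a, G.image (fun b => c (t b)), hxa, ha, fun Q hR hC hinv => ?_⟩
  rw [eq_top_iff]
  intro y hy'
  clear hy'
  have hy : y ∈ Algebra.adjoin Γ(S, U) (G : Set Γ(X, g ⁻¹ᵁ N.basicOpen a)) := hG ▸ Algebra.mem_top
  induction hy using Algebra.adjoin_induction with
  | mem b hb =>
    have hu := IsLocalization.Away.algebraMap_isUnit (S := Γ(N, N.basicOpen a)) a
    obtain ⟨w, hw⟩ := hu.exists_right_inv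
    have h1 : g.app (N.basicOpen a) w ∈ Q := hinv _ (by rw [← map_mul]; exact (congrArg _ hw).trans (map_one _))
    have h2 : g.app (N.basicOpen a) (algebraMap Γ(N, ν ⁻¹ᵁ U) Γ(N, N.basicOpen a) (c (t b))) ∈ Q :=
      hC _ (Finset.mem_image_of_mem _ hb)
    have h3 : t b = algebraMap Γ(N, ν ⁻¹ᵁ U) Γ(N, N.basicOpen a) (c (t b)) * w ^ n (t b) := by
      rw [← hc (t b), mul_assoc, ← mul_pow, hw, one_pow, mul_one]
    rw [← ht b, h3, map_mul, map_pow]
    exact mul_mem h2 (pow_mem h1 _)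
  | algebraMap r =>
    have h := hR r
    have e : g.app (N.basicOpen a) (N.presheaf.map (homOfLE (N.basicOpen_le a)).op (ν.app U r)) =
        (g ≫ ν).appLE U (g ⁻¹ᵁ N.basicOpen a) hle r := by
      rw [Scheme.Hom.app_eq_appLE, ← CommRingCat.comp_apply, ← CommRingCat.comp_apply,
        Scheme.Hom.app_eq_appLE, Scheme.Hom.map_appLE,
        Scheme.Hom.appLE_comp_appLE]
    rwa [e] at h
  | add _ _ _ _ hx hy => exact add_mem hx hy
  | mul _ _ _ _ hx hy => exact mul_mem hx hy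

theorem exists_sections_isImmersion (ν : N ⟶ S) [IsAffineHom ν] (g : X ⟶ N) [IsImmersion g]
    [CompactSpace X] [LocallyOfFiniteType (g ≫ ν)] :
    ∃ t : List (Σ U : S.affineOpens, Γ(N, ν ⁻¹ᵁ U.1)),
      ∀ {P : Scheme.{u}} (p : P ⟶ S) [IsAffineHom p] (b : N ⟶ P), b ≫ p = ν →
        (∀ e ∈ t, ∃ h c, b.appLE (p ⁻¹ᵁ e.1.1) (ν ⁻¹ᵁ e.1.1) h c = e.2) → IsImmersion (g ≫ b) := by
  classical
  choose U a c hxa hle hgen using exists_piece ν g
  obtain ⟨s, hs⟩ := isCompact_univ.elim_finite_subcover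
    (fun x : X => ((g ⁻¹ᵁ N.basicOpen (a x) : X.Opens) : Set X)) (fun x => (g ⁻¹ᵁ _).2)
    (fun x _ => Set.mem_iUnion.2 ⟨x, hxa x⟩)
  refine ⟨s.toList.flatMap fun x =>
    (⟨U x, a x⟩ : Σ U : S.affineOpens, Γ(N, ν ⁻¹ᵁ U.1)) :: ((c x).toList.map fun y => ⟨U x, y⟩),
    fun {P} p _ b hbp hsec => ?_⟩
  have hseca : ∀ x : s, ∃ a' h, b.appLE (p ⁻¹ᵁ (U x.1).1) (ν ⁻¹ᵁ (U x.1).1) h a' = a x.1 := fun x => by
    obtain ⟨h, c, hc⟩ := hsec ⟨U x.1, a x.1⟩
      (List.mem_flatMap.2 ⟨x.1, Finset.mem_toList.2 x.2, List.mem_cons_self ..⟩)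
    exact ⟨c, h, hc⟩
  choose a' hle' ha' using hseca
  let E : s → P.Opens := fun x => P.basicOpen (a' x)
  let V : P.Opens := ⨆ x, E x
  have hpre : ∀ x : s, b ⁻¹ᵁ E x = N.basicOpen (a x.1) := fun x => by
    rw [← ha' x, Scheme.basicOpen_appLE]
    refine (inf_eq_right.2 ?_).symm
    intro z hz
    have h1 : b z ∈ p ⁻¹ᵁ (U x.1).1 := P.basicOpen_le _ hz
    have h2 : (b ≫ p) z ∈ (U x.1).1 := h1
    rw [hbp] at h2
    exact h2
  have hV : (g ≫ b) ⁻¹ᵁ V = ⊤ := by
    refine top_le_iff.1 fun z _ => ?_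
    obtain ⟨x, hx, hzx⟩ := Set.mem_iUnion₂.1 (hs (Set.mem_univ z))
    exact Opens.mem_iSup.2 ⟨⟨x, hx⟩, (hpre ⟨x, hx⟩).ge hzx⟩
  have hpiece : ∀ x : s, IsClosedImmersion ((g ≫ b) ∣_ E x) := fun x => by
    have hE : IsAffineOpen (E x) := ((U x.1).2.preimage p).basicOpen (a' x)
    have hpreX : (g ≫ b) ⁻¹ᵁ E x = g ⁻¹ᵁ N.basicOpen (a x.1) := by
      rw [Scheme.Hom.comp_preimage, hpre x]
    haveI : IsAffine (E x).toScheme := hE
    haveI : IsAffine ((g ≫ b) ⁻¹ᵁ E x).toScheme := by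
      rw [hpreX]
      exact (app_surjective_of_le g (((U x.1).2.preimage ν).basicOpen _) (hle x.1)).1
    refine (HasAffineProperty.iff_of_isAffine (P := @IsClosedImmersion)).2 ⟨inferInstance, ?_⟩
    rw [morphismRestrict_appTop]
    have main : ∀ (D : X.Opens) (hD : D = g ⁻¹ᵁ N.basicOpen (a x.1)) (e : D ≤ (g ≫ b) ⁻¹ᵁ E x),
        Function.Surjective ((g ≫ b).appLE (E x) D e) := by
      rintro D rfl e
      have he : N.basicOpen (a x.1) ≤ b ⁻¹ᵁ E x := (hpre x).ge
      have key : ∀ z, (g ≫ b).appLE (E x) _ e z =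
          g.app (N.basicOpen (a x.1)) (b.appLE (E x) (N.basicOpen (a x.1)) he z) := fun z => by
        rw [← CommRingCat.comp_apply, Scheme.Hom.app_eq_appLE, Scheme.Hom.appLE_comp_appLE]
      have hres : ∀ (h : ν ⁻¹ᵁ (U x.1).1 ≤ b ⁻¹ᵁ (p ⁻¹ᵁ (U x.1).1)) (d : Γ(P, p ⁻¹ᵁ (U x.1).1)),
          b.appLE (E x) (N.basicOpen (a x.1)) he (P.presheaf.map (homOfLE (P.basicOpen_le (a' x))).op d) =
            N.presheaf.map (homOfLE (N.basicOpen_le (a x.1))).op (b.appLE _ _ h d) := fun h d => by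
        rw [← CommRingCat.comp_apply, ← CommRingCat.comp_apply, Scheme.Hom.map_appLE,
          Scheme.Hom.appLE_map]
      have htop := hgen x.1 ((g ≫ b).appLE (E x) _ e).hom.range ?_ ?_ ?_
      · exact fun y => (htop.ge (show y ∈ (⊤ : Subring _) from trivial) : y ∈ ((g ≫ b).appLE (E x) _ e).hom.range)
      · intro r
        refine ⟨P.presheaf.map (homOfLE (P.basicOpen_le (a' x))).op (p.app (U x.1).1 r), ?_⟩
        refine (key _).trans (congrArg (fun z => g.app (N.basicOpen (a x.1)) z) ?_)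
        rw [hres (fun z hz => by show (b ≫ p) z ∈ (U x.1).1; rw [hbp]; exact hz)]
        congr 1
        rw [← CommRingCat.comp_apply, Scheme.Hom.app_eq_appLE, Scheme.Hom.appLE_comp_appLE,
          Scheme.Hom.app_eq_appLE]
        subst hbp
        rfl
      · intro y hy
        obtain ⟨h, d, hd⟩ := hsec ⟨U x.1, y⟩ (List.mem_flatMap.2 ⟨x.1, Finset.mem_toList.2 x.2,
          List.mem_cons_of_mem _ (List.mem_map.2 ⟨y, Finset.mem_toList.2 hy, rfl⟩)⟩)
        refine ⟨P.presheaf.map (homOfLE (P.basicOpen_le (a' x))).op d, ?_⟩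
        refine (key _).trans (congrArg (fun z => g.app (N.basicOpen (a x.1)) z) ?_)
        rw [hres h d]
        exact congrArg _ hd
      · intro y hy
        haveI := ((U x.1).2.preimage p).isLocalization_basicOpen (a' x)
        have hu := IsLocalization.Away.algebraMap_isUnit (S := Γ(P, P.basicOpen (a' x))) (a' x)
        obtain ⟨w, hw⟩ := hu.exists_right_inv
        refine ⟨w, ?_⟩
        refine left_inv_eq_right_inv ?_ hy
        have h1 : (g ≫ b).appLE (E x) _ e (P.presheaf.map (homOfLE (P.basicOpen_le (a' x))).op (a' x)) =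
            g.app (N.basicOpen (a x.1)) (N.presheaf.map (homOfLE (N.basicOpen_le (a x.1))).op (a x.1)) := by
          rw [key, hres (hle' x) (a' x), ha' x]
        rw [← h1, ← map_mul, mul_comm]
        exact (congrArg _ hw).trans (map_one _)
    intro y
    obtain ⟨z, hz⟩ := ((ConcreteCategory.isIso_iff_bijective
      (X.presheaf.map (eqToHom (image_morphismRestrict_preimage (g ≫ b) (E x) ⊤)).op)).1 inferInstance).2 y
    have hsur : ∀ F, F = E x → Function.Surjective ((g ≫ b).app F) := by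
      rintro F rfl
      rw [Scheme.Hom.app_eq_appLE]
      exact main _ hpreX le_rfl
    obtain ⟨w, hw⟩ := hsur _ (by rw [Scheme.Hom.image_top_eq_opensRange, Scheme.Opens.opensRange_ι]) z
    refine ⟨w, ?_⟩
    rw [← hz, ← hw]
    rfl
  haveI : IsClosedImmersion ((g ≫ b) ∣_ V) := by
    refine IsZariskiLocalAtTarget.of_iSup_eq_top (fun x => V.ι ⁻¹ᵁ E x) (top_le_iff.1 fun z _ => ?_) fun x => ?_
    · obtain ⟨x, hx⟩ := Opens.mem_iSup.1 (show z.1 ∈ ⨆ x, E x from z.2)
      exact Opens.mem_iSup.2 ⟨x, hx⟩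
    rw [MorphismProperty.arrow_mk_iso_iff (P := @IsClosedImmersion) (morphismRestrictRestrict (g ≫ b) V _)]
    have : V.ι ''ᵁ (V.ι ⁻¹ᵁ E x) = E x := by
      simp only [Scheme.Hom.image_preimage_eq_opensRange_inf, Scheme.Opens.opensRange_ι]
      exact inf_eq_right.mpr (le_iSup E x)
    rw [MorphismProperty.arrow_mk_iso_iff (P := @IsClosedImmersion) (morphismRestrictEq (g ≫ b) this)]
    exact hpiece x
  have heq : g ≫ b = (X.topIso.inv ≫ (X.isoOfEq hV.symm).hom) ≫ ((g ≫ b) ∣_ V) ≫ V.ι := by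
    rw [morphismRestrict_ι, Category.assoc, Scheme.isoOfEq_hom_ι_assoc, ← Scheme.topIso_hom,
      Iso.inv_hom_id_assoc]
  rw [heq]
  infer_instance

end Groth.Agent.H7Lim.ImmersionStage
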