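import Groth.Agent.H7Lim.ExtendOpen
import Mathlib.RingTheory.AdjoinRoot
import Mathlib.AlgebraicGeometry.Morphisms.ClosedImmersion

/-!
# Integral morphisms and finite finitely presented morphisms
-/

set_option autoImplicit false
set_option backward.isDefEq.respectTransparency false
set_option linter.style.haveILetI false

universe u

open CategoryTheory AlgebraicGeometry TopologicalSpace Limits

namespace Groth.Agent.H7Lim

variable {X S : Scheme.{u}} (f : X ⟶ S)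

/-- `b` comes from sections of `P` over the preimage of `U`. -/
def HasSec {P : Scheme.{u}} (p : P ⟶ S) (a : X ⟶ P) (U : S.Opens) (b : Γ(X, f ⁻¹ᵁ U)) : Prop :=
  ∃ (h : f ⁻¹ᵁ U ≤ a ⁻¹ᵁ (p ⁻¹ᵁ U)) (c : Γ(P, p ⁻¹ᵁ U)), a.appLE _ _ h c = b

theorem HasSec.of_hom {P Q : Scheme.{u}} {p : P ⟶ S} {a : X ⟶ P} {q : Q ⟶ S} {b' : X ⟶ Q}
    (π : Q ⟶ P) (hπ : π ≫ p = q) (hb : b' ≫ π = a) {U : S.Opens} {b : Γ(X, f ⁻¹ᵁ U)}
    (hs : HasSec f p a U b) : HasSec f q b' U b := by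
  subst hπ hb
  obtain ⟨h, c, hc⟩ := hs
  refine ⟨h, π.app (p ⁻¹ᵁ U) c, ?_⟩
  rw [← hc]
  simp only [Scheme.Hom.comp_appLE]
  rfl

theorem specMap_isoSpec_inv_appTop {T : Scheme.{u}} [IsAffine T] {C : CommRingCat.{u}} (φ : Γ(T, ⊤) ⟶ C) :
    (Spec.map φ ≫ T.isoSpec.inv).appTop ≫ (Scheme.ΓSpecIso C).hom = φ := by
  simp [Scheme.isoSpec]

variable {f} [IsIntegralHom f] [CompactSpace S] [QuasiSeparatedSpace S]

theorem exists_factor_section {U : S.Opens} (hU : IsAffineOpen U) (b : Γ(X, f ⁻¹ᵁ U)) :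
    ∃ (P : Scheme.{u}) (p : P ⟶ S) (a : X ⟶ P), finFp p ∧ a ≫ p = f ∧ HasSec f p a U b := by
  haveI : IsAffine U.toScheme := hU
  let XU := (f ⁻¹ᵁ U).toScheme
  haveI : IsAffine XU := isAffine_of_isAffineHom (f ∣_ U)
  letI : Algebra Γ(U.toScheme, ⊤) Γ(XU, ⊤) := (f ∣_ U).appTop.hom.toAlgebra
  let b' : Γ(XU, ⊤) := (f ⁻¹ᵁ U).ι.appLE (f ⁻¹ᵁ U) ⊤ (by
    intro x _; exact x.2) b
  obtain ⟨Q, hQ, hQb⟩ : IsIntegral Γ(U.toScheme, ⊤) b' :=
    IsIntegralHom.isIntegral_app (f ∣_ U) ⊤ (isAffineOpen_top _) b'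
  let C := AdjoinRoot Q
  let ψ : C →ₐ[Γ(U.toScheme, ⊤)] Γ(XU, ⊤) :=
    AdjoinRoot.liftAlgHom Q (Algebra.ofId _ _) b' hQb
  let γ : Γ(Spec (.of C), ⊤) ⟶ .of C := (Scheme.ΓSpecIso (.of C)).hom
  let g : Spec (.of C) ⟶ U.toScheme :=
    Spec.map (CommRingCat.ofHom (algebraMap Γ(U.toScheme, ⊤) C)) ≫ U.toScheme.isoSpec.inv
  have hg : finFp g := by
    refine (MorphismProperty.cancel_right_of_respectsIso finFp _ _).2 ⟨?_, ?_⟩
    · exact (IsFinite.SpecMap_iff _).2 (RingHom.finite_algebraMap.2 hQ.finite_adjoinRoot)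
    · exact (HasRingHomProperty.Spec_iff (P := @LocallyOfFinitePresentation)).2
        (RingHom.finitePresentation_algebraMap.2 inferInstance)
  let a₀ : XU ⟶ Spec (.of C) := XU.toSpecΓ ≫ Spec.map (CommRingCat.ofHom ψ.toRingHom)
  have ha₀ : a₀.appTop = γ ≫ CommRingCat.ofHom ψ.toRingHom := by
    simp [a₀, γ, Scheme.toSpecΓ_appTop]
  have hg_top : g.appTop ≫ γ = CommRingCat.ofHom (algebraMap Γ(U.toScheme, ⊤) C) :=
    specMap_isoSpec_inv_appTop _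
  have hag : a₀ ≫ g = f ∣_ U := by
    refine ext_of_isAffine ?_
    rw [Scheme.Hom.comp_appTop a₀ g, ha₀, reassoc_of% hg_top]
    ext r; exact ψ.commutes r
  let E : FactorOver f U :=
    { P := Spec (.of C)
      p := g ≫ U.ι
      fp := (finFpOver_iff_of_comp_ι g).2 hg
      preimage_eq := top_le_iff.1 fun x _ => Subtype.mem _
      a := a₀
      fac := by rw [reassoc_of% hag, morphismRestrict_ι] }
  obtain ⟨P, p, a, i, hp, hap, hi, hr, hip, hia⟩ := exists_extends_top hU.isCompact E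
  let y : Γ(Spec (.of C), ⊤) := (Scheme.ΓSpecIso (.of C)).inv (AdjoinRoot.root Q)
  have hy : a₀.appTop y = b' := by
    rw [ha₀]
    show ψ ((Scheme.ΓSpecIso (.of C)).hom ((Scheme.ΓSpecIso (.of C)).inv (AdjoinRoot.root Q))) = b'
    rw [← CommRingCat.comp_apply, Iso.inv_hom_id]
    exact AdjoinRoot.liftAlgHom_root ..
  have hiU : i.opensRange = p ⁻¹ᵁ U := Opens.ext hr
  have hle : f ⁻¹ᵁ U ≤ a ⁻¹ᵁ (p ⁻¹ᵁ U) := by
    rw [← Scheme.Hom.comp_preimage, hap]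
  refine ⟨P, p, a, hp, hap, hle,
    P.presheaf.map (homOfLE (show p ⁻¹ᵁ U ≤ i ''ᵁ ⊤ by rw [Scheme.Hom.image_top_eq_opensRange, hiU])).op
      ((i.appIso ⊤).inv y), ?_⟩
  have hinj : Function.Injective ((f ⁻¹ᵁ U).ι.appLE (f ⁻¹ᵁ U) ⊤ (fun x _ => x.2)) := by
    refine ((ConcreteCategory.isIso_iff_bijective _).1 ?_).1
    simp only [Scheme.Hom.appLE, Scheme.Opens.ι_app, Scheme.Opens.toScheme_presheaf_map, ← Functor.map_comp]
    have e : (f ⁻¹ᵁ U).ι ''ᵁ ⊤ = f ⁻¹ᵁ U := by simp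
    exact (X.presheaf.mapIso (eqToIso e).op).isIso_hom
  refine hinj ?_
  show _ = b'
  rw [← hy, ← CommRingCat.comp_apply, Scheme.Hom.appLE_comp_appLE]
  have key : ∀ h : (⊤ : XU.Opens) ≤ ((f ⁻¹ᵁ U).ι ≫ a) ⁻¹ᵁ (p ⁻¹ᵁ U),
      ((f ⁻¹ᵁ U).ι ≫ a).appLE (p ⁻¹ᵁ U) ⊤ h
        (P.presheaf.map (homOfLE (show p ⁻¹ᵁ U ≤ i ''ᵁ ⊤ by rw [Scheme.Hom.image_top_eq_opensRange, hiU])).op
          ((i.appIso ⊤).inv y)) = a₀.appTop y := by
    rw [hia]
    intro h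
    have hle2 : (⊤ : (Spec (.of C)).Opens) ≤ i ⁻¹ᵁ (p ⁻¹ᵁ U) := fun z _ => hr.le ⟨z, rfl⟩
    rw [← Scheme.Hom.appLE_comp_appLE a₀ i (p ⁻¹ᵁ U) ⊤ ⊤ hle2 le_rfl]
    show (a₀.appLE ⊤ ⊤ _) (i.appLE (p ⁻¹ᵁ U) ⊤ hle2 _) = _
    have h1 : i.appLE (p ⁻¹ᵁ U) ⊤ hle2
        (P.presheaf.map (homOfLE (show p ⁻¹ᵁ U ≤ i ''ᵁ ⊤ by rw [Scheme.Hom.image_top_eq_opensRange, hiU])).op
          ((i.appIso ⊤).inv y)) = y := by
      rw [← CommRingCat.comp_apply, ← CommRingCat.comp_apply, Scheme.Hom.map_appLE,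
        Scheme.Hom.appIso_inv_appLE]
      simp
    rw [h1]
    show _ = (a₀.app ⊤) y
    rw [Scheme.Hom.app_eq_appLE]
    rfl
  exact key _

/-- Finitely many sections come from one finite finitely presented factorisation. -/
theorem exists_factor_sections (t : List (Σ U : S.affineOpens, Γ(X, f ⁻¹ᵁ U.1))) :
    ∃ (P : Scheme.{u}) (p : P ⟶ S) (a : X ⟶ P), finFp p ∧ a ≫ p = f ∧
      ∀ x ∈ t, HasSec f p a x.1.1 x.2 := by
  induction t with
  | nil => exact ⟨S, 𝟙 S, f, ⟨inferInstance, inferInstance⟩, Category.comp_id f, by simp⟩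
  | cons x t ih =>
    obtain ⟨P, p, a, hp, hap, ht⟩ := ih
    obtain ⟨Q, q, b, hq, hbq, hx⟩ := exists_factor_section x.1.2 x.2
    haveI := hp.1; haveI := hp.2; haveI := hq.1; haveI := hq.2
    refine ⟨pullback p q, pullback.fst p q ≫ p, pullback.lift a b (hap.trans hbq.symm),
      ⟨inferInstance, inferInstance⟩, by rw [pullback.lift_fst_assoc, hap], fun y hy => ?_⟩
    rcases List.mem_cons.1 hy with rfl | hy
    · exact hx.of_hom f (pullback.snd p q) pullback.condition.symm (pullback.lift_snd _ _ _)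
    · exact (ht y hy).of_hom f (pullback.fst p q) rfl (pullback.lift_fst _ _ _)

omit [CompactSpace S] [QuasiSeparatedSpace S] in
/-- A factorisation catching generators is a closed immersion. -/
theorem isClosedImmersion_of_hasSec {P : Scheme.{u}} (p : P ⟶ S) (a : X ⟶ P) [IsAffineHom p]
    (hap : a ≫ p = f) {ι : Type*} (U : ι → S.Opens) (hU : ∀ i, IsAffineOpen (U i)) (htop : iSup U = ⊤)
    (hsec : ∀ i b, HasSec f p a (U i) b) : IsClosedImmersion a := by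
  subst hap
  refine IsZariskiLocalAtTarget.of_iSup_eq_top (fun i => p ⁻¹ᵁ U i) (top_le_iff.1 fun x _ => ?_) fun i => ?_
  · obtain ⟨i, hi⟩ := Opens.mem_iSup.1 (htop.ge (Set.mem_univ (p x)) : p x ∈ iSup U)
    exact Opens.mem_iSup.2 ⟨i, hi⟩
  haveI : IsAffine (p ⁻¹ᵁ U i).toScheme := (hU i).preimage p
  haveI : IsAffine (a ⁻¹ᵁ p ⁻¹ᵁ U i).toScheme := (hU i).preimage (a ≫ p)
  refine (HasAffineProperty.iff_of_isAffine (P := @IsClosedImmersion)).2 ⟨inferInstance, ?_⟩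
  rw [morphismRestrict_appTop]
  have key : ∀ E, E = p ⁻¹ᵁ U i → Function.Surjective (a.app E) := by
    rintro E rfl y
    obtain ⟨h, c, hc⟩ := hsec i y
    refine ⟨c, ?_⟩
    rw [← hc, Scheme.Hom.app_eq_appLE]
    rfl
  intro y
  obtain ⟨z, hz⟩ := ((ConcreteCategory.isIso_iff_bijective
    (X.presheaf.map (eqToHom (image_morphismRestrict_preimage a (p ⁻¹ᵁ U i) ⊤)).op)).1 inferInstance).2 y
  obtain ⟨w, hw⟩ := key _ (by rw [Scheme.Hom.image_top_eq_opensRange, Scheme.Opens.opensRange_ι]) z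
  refine ⟨w, ?_⟩
  rw [← hz, ← hw]
  rfl

/-- A finite morphism is a closed immersion into a finite finitely presented one. -/
theorem exists_isClosedImmersion_finFp [IsFinite f] :
    ∃ (P : Scheme.{u}) (p : P ⟶ S) (a : X ⟶ P), finFp p ∧ IsClosedImmersion a ∧ a ≫ p = f := by
  classical
  obtain ⟨s, hs⟩ := isCompact_univ.elim_finite_subcover (fun U : S.affineOpens => ((U : S.Opens) : Set S))
    (fun U => U.1.2) (fun x _ => by
      obtain ⟨U, hU, hx, -⟩ := exists_isAffineOpen_mem_and_subset (Set.mem_univ x) (U := (⊤ : S.Opens))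
      exact Set.mem_iUnion.2 ⟨⟨U, hU⟩, hx⟩)
  have hgen : ∀ U : S.affineOpens, ∃ G : Finset Γ(X, f ⁻¹ᵁ U.1), ∀ y, y ∈
      Subring.closure (Set.range (f.app U.1) ∪ ↑G) := by
    intro U
    have h := IsFinite.finite_app (f := f) U.1 U.2
    letI := (f.app U.1).hom.toAlgebra
    haveI : Module.Finite Γ(S, U.1) Γ(X, f ⁻¹ᵁ U.1) := h
    obtain ⟨G, hG⟩ := Module.finite_def.1 h
    refine ⟨G, fun y => ?_⟩
    have : y ∈ Submodule.span Γ(S, U.1) (G : Set Γ(X, f ⁻¹ᵁ U.1)) := hG ▸ Submodule.mem_top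
    induction this using Submodule.span_induction with
    | mem x hx => exact Subring.subset_closure (Or.inr hx)
    | zero => exact zero_mem _
    | add x y _ _ hx hy => exact add_mem hx hy
    | smul r x _ hx =>
      rw [Algebra.smul_def]
      exact mul_mem (Subring.subset_closure (Or.inl ⟨r, rfl⟩)) hx
  choose G hG using hgen
  obtain ⟨P, p, a, hp, hap, hsec⟩ := exists_factor_sections (f := f)
    ((s.sigma G).toList)
  haveI := hp.1
  refine ⟨P, p, a, hp, isClosedImmersion_of_hasSec p a hap (fun U : s => U.1.1) (fun U => U.1.2) ?_ ?_, hap⟩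
  · refine top_le_iff.1 fun x _ => ?_
    obtain ⟨U, hU, hx⟩ := Set.mem_iUnion₂.1 (hs (Set.mem_univ x))
    exact Opens.mem_iSup.2 ⟨⟨U, hU⟩, hx⟩
  intro U b
  have hle : f ⁻¹ᵁ U.1.1 ≤ a ⁻¹ᵁ (p ⁻¹ᵁ U.1.1) := by rw [← Scheme.Hom.comp_preimage, hap]
  refine ⟨hle, ?_⟩
  have hrange : ∀ y ∈ Set.range (f.app U.1.1) ∪ ↑(G U.1), y ∈ (a.appLE _ _ hle).hom.range := by
    rintro y (⟨r, rfl⟩ | hy)
    · refine ⟨p.app _ r, ?_⟩
      subst hap
      rw [← CommRingCat.comp_apply, ← Scheme.Hom.comp_appLE, Scheme.Hom.app_eq_appLE]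
    · obtain ⟨_, c, hc⟩ := hsec ⟨U.1, y⟩ (Finset.mem_toList.2 (Finset.mem_sigma.2 ⟨U.2, hy⟩))
      exact ⟨c, hc⟩
  exact Subring.closure_le.2 hrange (hG U.1 b)

end Groth.Agent.H7Lim
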