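import Groth.Agent.H7Lim.PresSystem
import Mathlib.RingTheory.Ideal.Quotient.Operations
import Mathlib.RingTheory.Noetherian.Nilpotent
import Mathlib.RingTheory.IntegralClosure.IsIntegral.Basic

/-!
# Pairs of integral algebras as colimits of pairs of finite and finitely presented ones
-/

set_option autoImplicit false
universe u

open CategoryTheory MvPolynomial

namespace Groth.Agent.H7Lim.Pres

open Groth.Agent.H17 Groth.Agent.H17.FPUH

variable {A B C : Type u} [CommRing A] [CommRing B] [Algebra A B] [CommRing C] [Algebra A C]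

theorem surjective_trans {i i' : Idx₀ A B} (h : i ≤ i') (he : i'.1.1 ⊆ i.1.1) :
    Function.Surjective (FPUH.trans h) := by
  intro x
  obtain ⟨x, rfl⟩ := Ideal.Quotient.mk_surjective x
  refine ⟨Ideal.Quotient.mk (rel i) (rename (fun b : Gen i' ↦ (⟨b.1, he b.2⟩ : Gen i)) x), ?_⟩
  rw [trans_mk, rename_rename]
  exact congrArg _ (rename_id_apply x)

/-- `Le` from a hom sending variables to variables. -/
theorem Le.of_algHom {g : B →ₐ[A] C} {i : Idx₀ A B} {j : Idx₀ A C} (mem : ∀ b : Gen i, g b.1 ∈ j.1.1)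
    (φ : Stage i →ₐ[A] Stage j)
    (hφ : ∀ b : Gen i, φ (Ideal.Quotient.mk (rel i) (X b)) =
      Ideal.Quotient.mk (rel j) (X ⟨g b.1, mem b⟩)) : Le g i j := by
  refine ⟨mem, fun x hx ↦ ?_⟩
  have e : φ.comp (Ideal.Quotient.mkₐ A (rel i)) = (Ideal.Quotient.mkₐ A (rel j)).comp
      (rename fun b : Gen i ↦ (⟨g b.1, mem b⟩ : Gen j)) :=
    MvPolynomial.algHom_ext fun b ↦ by
      simp only [AlgHom.comp_apply, Ideal.Quotient.mkₐ_eq_mk, rename_X, hφ]
  rw [RingHom.mem_ker, ← e, AlgHom.comp_apply, Ideal.Quotient.mkₐ_eq_mk,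
    Ideal.Quotient.eq_zero_iff_mem.mpr hx, map_zero]

theorem module_finite_stage (i : Idx₀ A B)
    (h : ∀ b : Gen i, IsIntegral A (Ideal.Quotient.mk (rel i) (X b) : Stage i)) :
    Module.Finite A (Stage i) := by
  have := finitePresentation i
  have : Algebra.IsIntegral A (Stage i) := by
    refine ⟨fun x ↦ ?_⟩
    obtain ⟨x, rfl⟩ := Ideal.Quotient.mk_surjective x
    induction x using MvPolynomial.induction_on with
    | C a => exact isIntegral_algebraMap (R := A) (A := Stage i) (x := a)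
    | add x y hx hy => rw [map_add]; exact hx.add hy
    | mul_X x e hx => rw [map_mul]; exact hx.mul (h e)
  exact Algebra.IsIntegral.finite

/-- Integrality, and surjectivity from the base, of a stage after killing relations. -/
theorem exists_integral [Algebra.IsIntegral A B] (i : Idx₀ A B) :
    ∃ (i' : Idx₀ A B) (h : i ≤ i'), i'.1.1 = i.1.1 ∧
      (∀ b : Gen i', IsIntegral A (Ideal.Quotient.mk (rel i') (X b) : Stage i')) ∧
      (Function.Surjective (algebraMap A B) →
        ∀ b : Gen i', ∃ a, algebraMap A (Stage i') a = Ideal.Quotient.mk (rel i') (X b)) := by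
  classical
  choose P hP hP0 using fun b : Gen i ↦ Algebra.IsIntegral.isIntegral (R := A) (b.1 : B)
  let K₀ : Finset (Stage i) :=
    Finset.univ.image fun b ↦ Polynomial.aeval (Ideal.Quotient.mk (rel i) (X b) : Stage i) (P b)
  obtain ⟨K, hK0, hK1, hK⟩ : ∃ K : Finset (Stage i), (∀ x ∈ K, toB i x = 0) ∧ K₀ ⊆ K ∧
      (Function.Surjective (algebraMap A B) → ∀ b : Gen i, ∃ a,
        (Ideal.Quotient.mk (rel i) (X b) : Stage i) - algebraMap A _ a ∈ K) := by
    have h0 : ∀ x ∈ K₀, toB i x = 0 := by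
      intro x hx
      obtain ⟨b, -, rfl⟩ := Finset.mem_image.mp hx
      rw [← Polynomial.aeval_algHom_apply, toB_X]
      exact hP0 b
    by_cases hs : Function.Surjective (algebraMap A B)
    · choose a ha using fun b : Gen i ↦ hs b.1
      refine ⟨K₀ ∪ Finset.univ.image fun b ↦
        (Ideal.Quotient.mk (rel i) (X b) : Stage i) - algebraMap A _ (a b), fun x hx ↦ ?_,
        Finset.subset_union_left, fun _ b ↦ ⟨a b, Finset.mem_union_right _ (by simp)⟩⟩
      rcases Finset.mem_union.mp hx with hx | hx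
      · exact h0 x hx
      · obtain ⟨b, -, rfl⟩ := Finset.mem_image.mp hx
        rw [map_sub, toB_X, AlgHom.commutes, ha, sub_self]
    · exact ⟨K₀, h0, subset_rfl, fun h ↦ absurd h hs⟩
  obtain ⟨i', hi, he, hkill, -⟩ := exists_trans_eq_zero i K hK0
  refine ⟨i', hi, he, fun b ↦ ?_, fun hs b ↦ ?_⟩
  · refine ⟨P ⟨b.1, he.subset b.2⟩, hP _, ?_⟩
    have := hkill _ (hK1 (Finset.mem_image_of_mem _ (Finset.mem_univ (⟨b.1, he.subset b.2⟩ : Gen i))))
    rw [← Polynomial.aeval_algHom_apply, trans_X] at this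
    exact this
  · obtain ⟨a, ha⟩ := hK hs ⟨b.1, he.subset b.2⟩
    have := hkill _ ha
    rw [map_sub, sub_eq_zero, trans_X, AlgHom.commutes] at this
    exact ⟨a, this.symm⟩

variable (g : B →ₐ[A] C)

/-- The conditions on a pair of stages. -/
structure Good (i : Idx₀ A B) (j : Idx₀ A C) : Prop where
  le : Le g i j
  finB : Module.Finite A (Stage i)
  finC : Module.Finite A (Stage j)
  surjB : Function.Surjective (algebraMap A B) → Function.Surjective (algebraMap A (Stage i))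
  surjC : Function.Surjective (algebraMap A C) → Function.Surjective (algebraMap A (Stage j))
  surj : Function.Surjective g → Function.Surjective (hom le)
  nil : Function.Surjective g → IsNilpotent (RingHom.ker g.toRingHom) →
    IsNilpotent (RingHom.ker (hom le).toRingHom)

variable {g}

/-- Every pair of stages is below a good one. -/
theorem exists_good [Algebra.IsIntegral A B] [Algebra.IsIntegral A C] (i : Idx₀ A B)
    (j : Idx₀ A C) : ∃ i' j', i ≤ i' ∧ j ≤ j' ∧ Good g i' j' := by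
  classical
  obtain ⟨i₁, hi₁, hpre⟩ : ∃ i₁, i ≤ i₁ ∧
      (Function.Surjective g → ∀ c : Gen j, ∃ b : Gen i₁, g b.1 = c.1) := by
    by_cases hs : Function.Surjective g
    · choose b hb using fun c : Gen j ↦ hs c.1
      obtain ⟨i₁, hi, he, -⟩ := exists_ge i (Finset.univ.image b) ∅ (fun r h ↦ absurd h (Finset.notMem_empty r))
      exact ⟨i₁, hi, fun _ c ↦ ⟨⟨b c, he.symm.subset (Finset.mem_union_right _ (by simp))⟩, hb c⟩⟩
    · exact ⟨i, le_rfl, fun h ↦ absurd h hs⟩
  obtain ⟨i₂, hi₂, he₂, hint₂, hconst₂⟩ := exists_integral i₁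
  obtain ⟨j₂, hj₂, hle₂, hgen₂⟩ := exists_le g i₂ j
  obtain ⟨j₃, hj₃, he₃, hint₃, hconst₃⟩ := exists_integral j₂
  have hle₃ := hle₂.mono hj₃
  have hsurj : Function.Surjective g → ∀ c : Gen j₃, ∃ b : Gen i₂, g b.1 = c.1 := by
    intro hs c
    rcases hgen₂ ⟨c.1, he₃.subset c.2⟩ with h | h
    · obtain ⟨b, hb⟩ := hpre hs ⟨c.1, h⟩
      exact ⟨⟨b.1, hi₂.1 b.2⟩, hb⟩
    · exact h
  have hfinC : Module.Finite A (Stage j₃) := module_finite_stage j₃ hint₃
  have hfinB : Module.Finite A (Stage i₂) := module_finite_stage i₂ hint₂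
  by_cases hn : Function.Surjective g ∧ IsNilpotent (RingHom.ker g.toRingHom)
  swap
  · exact ⟨i₂, j₃, hi₁.trans hi₂, hj₂.trans hj₃, hle₃, hfinB, hfinC,
      fun h ↦ surjective_algebraMap_stage _ (hconst₂ h),
      fun h ↦ surjective_algebraMap_stage _ (hconst₃ h),
      fun h ↦ surjective_hom hle₃ (hsurj h), fun h h' ↦ absurd ⟨h, h'⟩ hn⟩
  obtain ⟨hs, hnil⟩ := hn
  have := finitePresentation i₂
  have := finitePresentation j₃
  obtain ⟨S, hS⟩ := Algebra.FinitePresentation.ker_fG_of_surjective (hom hle₃)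
    (surjective_hom hle₃ (hsurj hs))
  obtain ⟨N, hN⟩ := hnil
  have hSker : ∀ x ∈ S, hom hle₃ x = 0 := fun x hx ↦ by
    have : x ∈ RingHom.ker (hom hle₃).toRingHom := hS ▸ Submodule.subset_span hx
    exact this
  obtain ⟨i₃, hi₃, he₃', hkill, hlift⟩ := exists_trans_eq_zero i₂ (S.image fun x ↦ x ^ (N + 1)) (by
    intro y hy
    obtain ⟨x, hx, rfl⟩ := Finset.mem_image.mp hy
    rw [map_pow]
    have h1 : toB i₂ x ∈ RingHom.ker g.toRingHom := by
      show g (toB i₂ x) = 0
      rw [← toB_hom hle₃, hSker x hx, map_zero]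
    have h2 := Ideal.pow_mem_pow h1 N
    rw [hN, Submodule.zero_eq_bot, Submodule.mem_bot] at h2
    rw [pow_succ, h2, zero_mul])
  obtain ⟨φ, hφ⟩ := hlift (Stage j₃) (hom hle₃) (by
    intro y hy
    obtain ⟨x, hx, rfl⟩ := Finset.mem_image.mp hy
    rw [map_pow, hSker x hx, zero_pow (Nat.succ_ne_zero N)])
  have hmem : ∀ b : Gen i₃, g b.1 ∈ j₃.1.1 := fun b ↦ hle₃.mem ⟨b.1, he₃'.subset b.2⟩
  have hle₄ : Le g i₃ j₃ := Le.of_algHom hmem φ fun b ↦ by
    have h2 : φ (FPUH.trans hi₃ (Ideal.Quotient.mk (rel i₂) (X ⟨b.1, he₃'.subset b.2⟩))) =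
        hom hle₃ (Ideal.Quotient.mk (rel i₂) (X ⟨b.1, he₃'.subset b.2⟩)) := congr($hφ _)
    rw [trans_X, hom_X] at h2
    exact h2
  have hts := surjective_trans hi₃ he₃'.subset
  refine ⟨i₃, j₃, hi₁.trans (hi₂.trans hi₃), hj₂.trans hj₃, hle₄, ?_, hfinC, fun h ↦ ?_,
    fun h ↦ surjective_algebraMap_stage _ (hconst₃ h), fun h ↦ ?_, fun _ _ ↦ ?_⟩
  · exact Module.Finite.of_surjective (FPUH.trans hi₃).toLinearMap hts
  · intro x
    obtain ⟨y, rfl⟩ := hts x
    obtain ⟨a, rfl⟩ := surjective_algebraMap_stage _ (hconst₂ h) y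
    exact ⟨a, ((FPUH.trans hi₃).commutes a).symm⟩
  · refine surjective_hom hle₄ fun c ↦ ?_
    obtain ⟨b, hb⟩ := hsurj h c
    exact ⟨⟨b.1, hi₃.1 b.2⟩, hb⟩
  · have hker : RingHom.ker (hom hle₄).toRingHom ≤
        Ideal.map (FPUH.trans hi₃).toRingHom (Ideal.span (S : Set (Stage i₂))) := by
      intro y hy
      obtain ⟨x, rfl⟩ := hts y
      refine Ideal.mem_map_of_mem _ ?_
      show x ∈ Ideal.span (S : Set (Stage i₂))
      rw [hS]
      show hom hle₃ x = 0
      have h2 : hom hle₄ (FPUH.trans hi₃ x) = 0 := hy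
      rwa [hom_trans hi₃ le_rfl hle₃ hle₄, trans_refl] at h2
    have hnil' : IsNilpotent (Ideal.map (FPUH.trans hi₃).toRingHom (Ideal.span (S : Set (Stage i₂)))) := by
      have hfg : (Ideal.map (FPUH.trans hi₃).toRingHom (Ideal.span (S : Set (Stage i₂)))).FG :=
        Ideal.FG.map ⟨S, rfl⟩ _
      rw [Ideal.FG.isNilpotent_iff_le_nilradical hfg, Ideal.map_span, Ideal.span_le]
      rintro _ ⟨x, hx, rfl⟩
      refine ⟨N + 1, ?_⟩
      show (FPUH.trans hi₃ x) ^ (N + 1) = 0
      rw [← map_pow]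
      exact hkill _ (Finset.mem_image_of_mem _ hx)
    obtain ⟨M, hM⟩ := hnil'
    exact ⟨M, le_antisymm ((Ideal.pow_right_mono hker M).trans hM.le) bot_le⟩

end Groth.Agent.H7Lim.Pres
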