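import Groth.Agent.H19Grp.RepresentsOpen
import Groth.Agent.H19Grp.NeutralOpen
import Groth.Agent.H7Lim.Basic
import Groth.Agent.H7Lim.Topology

/-!
# Representability of the neutral component in a cofiltered limit

The neutral component is representable iff the neutral set is open, and openness of the neutral set
descends to a stage of a cofiltered limit.
-/

set_option autoImplicit false
set_option linter.style.haveILetI false
set_option backward.isDefEq.respectTransparency false
set_option backward.defeqAttrib.useBackward true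

universe u

open CategoryTheory Limits AlgebraicGeometry MonoidalCategory CartesianMonoidalCategory MonObj GrpObj
open Topology

namespace Groth.Agent.H7Lim.NeutralStage

open Groth.Agent.H19Grp

/-- A representing monomorphism exists iff the neutral set is open. -/
theorem rep_iff_isOpen {S : Scheme.{u}} (G : Over S) [GrpObj G] [LocallyOfFinitePresentation G.hom] :
    (∃ (G0 : Over S) (i0 : G0 ⟶ G), Mono i0 ∧
      ∀ (T : Over S) (g : T ⟶ G), (∃ z : T ⟶ G0, z ≫ i0 = g) ↔
        Set.range g.left.base ⊆ SGA3x.neutralSet G) ↔ IsOpen (SGA3x.neutralSet G) := by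
  constructor
  · rintro ⟨G0, i, hi, hrep⟩
    haveI := hi
    haveI : Mono i.left := inferInstance
    have hR : RepresentsMapsInto i.left (SGA3x.neutralSet G) := by
      intro T g
      have h1 := hrep (Over.mk (g ≫ G.hom)) (Over.homMk g rfl)
      constructor
      · rintro ⟨z, hz⟩
        exact h1.1 ⟨Over.homMk z (by
          rw [← Over.w i, reassoc_of% hz]; rfl), Over.OverMorphism.ext hz⟩
      · intro hg
        obtain ⟨z, hz⟩ := h1.2 hg
        exact ⟨z.left, congrArg (·.left) hz⟩
    haveI := hR.isOpenImmersion (chartInd_neutralSet G)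
    rw [← hR.range_eq]
    exact i.left.isOpenEmbedding.isOpen_range
  · intro hN
    refine ⟨neutralOpen G hN, neutralOpenι G hN, inferInstance, fun T g => ⟨?_, fun h => ?_⟩⟩
    · rintro ⟨z, rfl⟩
      rintro _ ⟨x, rfl⟩
      exact (range_neutralOpenι G hN).le ⟨z.left x, rfl⟩
    · exact neutralOpen_lift G hN g h

variable {I : Type u} [SmallCategory I] [IsCofiltered I] {D : I ⥤ Scheme.{u}} {c : Cone D}
  (hc : IsLimit c) [∀ (i i' : I) (f : i ⟶ i'), IsAffineHom (D.map f)]
  [∀ i, CompactSpace (D.obj i)] [∀ i, QuasiSeparatedSpace (D.obj i)] {j : I}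

include hc in
/-- Openness of the neutral set at the limit is openness at some stage. -/
theorem isOpen_iff_stage (G : Over (D.obj j)) [GrpObj G] [LocallyOfFinitePresentation G.hom]
    [QuasiCompact G.hom] [QuasiSeparated G.hom] :
    IsOpen (SGA3x.neutralSet (Red.bc (c.π.app j) G)) ↔
      ∃ (i : I) (f : i ⟶ j), IsOpen (SGA3x.neutralSet (Red.bc (D.map f) G)) := by
  haveI : CompactSpace G.left := QuasiCompact.compactSpace_of_compactSpace G.hom
  haveI : QuasiSeparatedSpace G.left := quasiSeparatedSpace_of_quasiSeparated G.hom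
  let P := pbDiagram D j G.hom
  let pc := pbCone D c j G.hom
  have hpc : IsLimit pc := isLimitPbCone D j G.hom hc
  let E := SGA3x.neutralSet G
  have hlim : SGA3x.neutralSet (Red.bc (c.π.app j) G) = pullback.fst G.hom (c.π.app j) ⁻¹' E :=
    neutralSet_baseChange G (c.π.app j)
  have hst : ∀ k : Over j, SGA3x.neutralSet (Red.bc (D.map k.hom) G) =
      pullback.fst G.hom (D.map k.hom) ⁻¹' E := fun k => neutralSet_baseChange G (D.map k.hom)
  have hπ : ∀ k : Over j, pc.π.app k ≫ pullback.fst G.hom (D.map k.hom) =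
      pullback.fst G.hom (c.π.app j) := fun k => (pullback.lift_fst _ _ _).trans (Category.comp_id _)
  have hE : IsConstructible E := isConstructible_neutralSet G
  constructor
  · intro ho
    rw [hlim] at ho
    haveI : CompactSpace pc.pt := compactSpace_pt_of_isAffineHom hpc (Over.mk (𝟙 j))
    haveI : QuasiSeparatedSpace pc.pt := quasiSeparatedSpace_pt hpc (Over.mk (𝟙 j))
    have hcE : IsCompact (pullback.fst G.hom (c.π.app j) ⁻¹' E) :=
      (H28Top.isRetrocompact_of_isConstructible (X := pc.pt)
        (Scheme.Hom.isConstructible_preimage (pullback.fst G.hom (c.π.app j)) hE)).isCompact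
    obtain ⟨k, -, V, hVo, hVc, hV⟩ :=
      exists_isCompact_isOpen_preimage_eq hpc (Over.mk (𝟙 j)) ho hcE
    let Ek : Set (P.obj k) := pullback.fst G.hom (D.map k.hom) ⁻¹' E
    have hEk : IsConstructible Ek := Scheme.Hom.isConstructible_preimage _ hE
    have hVk : IsConstructible V := hVc.isConstructible hVo
    let F : Set (P.obj k) := (Ek ∩ V) ∪ (Ek ∪ V)ᶜ
    have hF : IsConstructible F := (hEk.inter hVk).union (hEk.union hVk).compl
    have huniv : pc.π.app k ⁻¹' F = Set.univ := by
      refine Set.eq_univ_of_forall fun x => ?_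
      have h1 : pc.π.app k x ∈ Ek ↔ pc.π.app k x ∈ V := by
        rw [← Set.mem_preimage (f := pc.π.app k) (s := V), hV]
        exact Eq.to_iff (congrArg (fun m : pc.pt ⟶ G.left => m x ∈ E) (hπ k))
      show pc.π.app k x ∈ F
      by_cases hx : pc.π.app k x ∈ V
      · exact Or.inl ⟨h1.2 hx, hx⟩
      · exact Or.inr fun h => h.elim (fun h' => hx (h1.1 h')) hx
    obtain ⟨l, φ, hφ⟩ := H17.IndCons.exists_stage_eq_univ hpc k
      (H17.IndCons.ChartCons.chartInd fun R a _ => Scheme.Hom.isConstructible_preimage a hF) huniv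
    refine ⟨l.left, l.hom, ?_⟩
    rw [hst l]
    have heq : pullback.fst G.hom (D.map l.hom) ⁻¹' E = P.map φ ⁻¹' V := by
      ext x
      have hx : P.map φ x ∈ F := hφ.ge (Set.mem_univ x)
      have hm : P.map φ ≫ pullback.fst G.hom (D.map k.hom) = pullback.fst G.hom (D.map l.hom) :=
        (pullback.lift_fst _ _ _).trans (Category.comp_id _)
      show pullback.fst G.hom (D.map l.hom) x ∈ E ↔ P.map φ x ∈ V
      rw [← hm, Scheme.Hom.comp_apply]
      rcases hx with ⟨h1, h2⟩ | h
      · exact ⟨fun _ => h2, fun _ => h1⟩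
      · exact ⟨fun h' => absurd (Or.inl h') h, fun h' => absurd (Or.inr h') h⟩
    rw [heq]
    exact hVo.preimage (P.map φ).continuous
  · rintro ⟨i, f, ho⟩
    have h2 : SGA3x.neutralSet (Red.bc (D.map f) G) = pullback.fst G.hom (D.map f) ⁻¹' E :=
      hst (Over.mk f)
    rw [h2] at ho
    rw [hlim, show pullback.fst G.hom (c.π.app j) =
        pc.π.app (Over.mk f) ≫ pullback.fst G.hom (D.map f) from (hπ (Over.mk f)).symm,
      Scheme.Hom.comp_base, TopCat.coe_comp, Set.preimage_comp]
    exact ho.preimage (pc.π.app (Over.mk f)).continuous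

end Groth.Agent.H7Lim.NeutralStage
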