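import Groth.Agent.H7Lim.IntegralPairs
import Mathlib.RingTheory.Polynomial.Basic
import Mathlib.Algebra.Category.Ring.Constructions

/-!
# Systems of finitely presented algebras for a nilpotent thickening and a map
-/

set_option autoImplicit false
universe u

open CategoryTheory MvPolynomial

namespace Groth.Agent.H7Lim.Pres

open Groth.Agent.H17 Groth.Agent.H17.FPUH

variable {A B C : Type u} [CommRing A] [CommRing B] [Algebra A B] [CommRing C] [Algebra A C]

/-- Make the kernel of a surjective hom of stages consist of nilpotents. -/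
theorem exists_kill_ker (g : B →ₐ[A] C) (hg : ∀ x, g x = 0 → IsNilpotent x) {i : Idx₀ A B}
    {j : Idx₀ A C} (h : Le g i j) (hs : Function.Surjective (hom h)) :
    ∃ (i' : Idx₀ A B) (hi : i ≤ i') (h' : Le g i' j), i'.1.1 = i.1.1 ∧
      (∀ x, hom h' (FPUH.trans hi x) = hom h x) ∧
      Function.Surjective (hom h') ∧ ∀ x, hom h' x = 0 → IsNilpotent x := by
  classical
  have := finitePresentation i
  have := finitePresentation j
  obtain ⟨S, hS⟩ := Algebra.FinitePresentation.ker_fG_of_surjective (hom h) hs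
  have hSker : ∀ x ∈ S, hom h x = 0 := fun x hx ↦ by
    have : x ∈ RingHom.ker (hom h).toRingHom := hS ▸ Submodule.subset_span hx
    exact this
  choose N hN using fun x : S ↦ hg (toB i x.1) (by rw [← toB_hom h, hSker _ x.2, map_zero])
  obtain ⟨i', hi, he, hkill, hlift⟩ := exists_trans_eq_zero i
    (S.attach.image fun x ↦ x.1 ^ (N x + 1)) (by
      intro y hy
      obtain ⟨x, -, rfl⟩ := Finset.mem_image.mp hy
      rw [map_pow, pow_succ, hN x, zero_mul])
  obtain ⟨φ, hφ⟩ := hlift (Stage j) (hom h) (by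
    intro y hy
    obtain ⟨x, -, rfl⟩ := Finset.mem_image.mp hy
    rw [map_pow, hSker _ x.2, zero_pow (Nat.succ_ne_zero _)])
  have hmem : ∀ b : Gen i', g b.1 ∈ j.1.1 := fun b ↦ h.mem ⟨b.1, he.subset b.2⟩
  have h' : Le g i' j := Le.of_algHom hmem φ fun b ↦ by
    have h2 : φ (FPUH.trans hi (Ideal.Quotient.mk (rel i) (X ⟨b.1, he.subset b.2⟩))) =
        hom h (Ideal.Quotient.mk (rel i) (X ⟨b.1, he.subset b.2⟩)) := congr($hφ _)
    rw [trans_X, hom_X] at h2
    exact h2
  have hcomm : ∀ x, hom h' (FPUH.trans hi x) = hom h x := fun x ↦ by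
    rw [hom_trans hi le_rfl h h', trans_refl]
  refine ⟨i', hi, h', he, hcomm, fun y ↦ ?_, fun y hy ↦ ?_⟩
  · obtain ⟨x, rfl⟩ := hs y
    exact ⟨FPUH.trans hi x, hcomm x⟩
  · obtain ⟨x, rfl⟩ := surjective_trans hi he.subset y
    rw [hcomm] at hy
    have hx : x ∈ Ideal.span (S : Set (Stage i)) := by
      rw [hS]; exact hy
    have hle : Ideal.map (FPUH.trans hi).toRingHom (Ideal.span (S : Set (Stage i))) ≤ nilradical _ := by
      rw [Ideal.map_span, Ideal.span_le]
      rintro _ ⟨z, hz, rfl⟩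
      refine ⟨N ⟨z, hz⟩ + 1, ?_⟩
      show (FPUH.trans hi z) ^ _ = 0
      rw [← map_pow]
      exact hkill _ (Finset.mem_image_of_mem (fun x : S ↦ x.1 ^ (N x + 1)) (Finset.mem_attach S ⟨z, hz⟩))
    exact hle (Ideal.mem_map_of_mem _ hx)

/-- A hom of stages is integral if the variables of the target are. -/
theorem isIntegral_hom {g : B →ₐ[A] C} {i : Idx₀ A B} {j : Idx₀ A C} (h : Le g i j)
    (hc : ∀ c : Gen j, (hom h).toRingHom.IsIntegralElem (Ideal.Quotient.mk (rel j) (X c))) :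
    (hom h).toRingHom.IsIntegral := by
  intro x
  letI := (hom h).toRingHom.toAlgebra
  obtain ⟨x, rfl⟩ := Ideal.Quotient.mk_surjective x
  induction x using MvPolynomial.induction_on with
  | C a =>
    have e : Ideal.Quotient.mk (rel j) (MvPolynomial.C a) = hom h (algebraMap A _ a) :=
      ((hom h).commutes a).symm
    rw [e]
    exact RingHom.isIntegralElem_map (hom h).toRingHom
  | add x y hx hy =>
    rw [map_add]
    exact RingHom.IsIntegralElem.add _ hx hy
  | mul_X x e hx =>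
    rw [map_mul]
    exact RingHom.IsIntegralElem.mul _ hx (hc e)

variable {D : Type u} [CommRing D] [Algebra A D]

/-- The conditions on a triple of stages. -/
structure NilGood (f : B →ₐ[A] D) (g : C →ₐ[A] D) (a : Idx₀ A B) (d : Idx₀ A D) (c : Idx₀ A C) :
    Prop where
  lef : Le f a d
  leg : Le g c d
  surjg : Function.Surjective (hom leg)
  nilg : ∀ x, hom leg x = 0 → IsNilpotent x
  surjf : Function.Surjective f → Function.Surjective (hom lef)
  nilf : Function.Surjective f → (∀ x, f x = 0 → IsNilpotent x) →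
    ∀ x, hom lef x = 0 → IsNilpotent x
  intf : f.toRingHom.IsIntegral → (hom lef).toRingHom.IsIntegral

/-- Every triple of stages is below a good one. -/
theorem exists_nilGood (f : B →ₐ[A] D) (g : C →ₐ[A] D) (hg : Function.Surjective g)
    (hnil : ∀ x, g x = 0 → IsNilpotent x) (a : Idx₀ A B) (d : Idx₀ A D) (c : Idx₀ A C) :
    ∃ a' d' c', a ≤ a' ∧ d ≤ d' ∧ c ≤ c' ∧ NilGood f g a' d' c' := by
  classical
  let F₀ : Finset D := d.1.1 ∪ c.1.1.image g
  obtain ⟨E₁, hE₁, hE₁'⟩ : ∃ E : Finset B,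
      (Function.Surjective f → ∀ x ∈ F₀, ∃ b ∈ E, f b = x) ∧
      (f.toRingHom.IsIntegral → ∀ x ∈ F₀, ∃ P : Polynomial B, P.Monic ∧
        P.eval₂ f.toRingHom x = 0 ∧ ∀ k, P.coeff k ≠ 0 → P.coeff k ∈ E) := by
    obtain ⟨E, hE⟩ : ∃ E : Finset B, Function.Surjective f → ∀ x ∈ F₀, ∃ b ∈ E, f b = x := by
      by_cases hs : Function.Surjective f
      · choose b hb using hs
        exact ⟨F₀.image b, fun _ x hx ↦ ⟨b x, Finset.mem_image_of_mem _ hx, hb x⟩⟩
      · exact ⟨∅, fun h ↦ absurd h hs⟩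
    by_cases hint : f.toRingHom.IsIntegral
    · choose P hP hP0 using hint
      refine ⟨E ∪ F₀.biUnion fun x ↦ (P x).support.image (P x).coeff,
        fun hs x hx ↦ ?_, fun _ x hx ↦ ⟨P x, hP x, hP0 x, fun k hk ↦ ?_⟩⟩
      · obtain ⟨b, hb, e⟩ := hE hs x hx
        exact ⟨b, Finset.mem_union_left _ hb, e⟩
      · exact Finset.mem_union_right _ (Finset.mem_biUnion.mpr
          ⟨x, hx, Finset.mem_image_of_mem _ (Polynomial.mem_support_iff.mpr hk)⟩)
    · exact ⟨E, hE, fun h ↦ absurd h hint⟩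
  obtain ⟨a₁, ha₁, hea, -⟩ := exists_ge a E₁ ∅ (fun r h ↦ absurd h (Finset.notMem_empty r))
  obtain ⟨d₁, hd₁, hle₁, hgen₁⟩ := exists_le f a₁ d
  choose pre hpre using hg
  obtain ⟨c₁, hc₁, hec, -⟩ := exists_ge c (d₁.1.1.image pre) ∅
    (fun r h ↦ absurd h (Finset.notMem_empty r))
  obtain ⟨d₂, hd₂, hleg₂, hgen₂⟩ := exists_le g c₁ d₁
  have hlef₂ := hle₁.mono hd₂
  have hcases : ∀ x : Gen d₂, x.1 ∈ F₀ ∨ ∃ b : Gen a₁, f b.1 = x.1 := by
    intro x
    have h1 : ∀ y : Gen d₁, y.1 ∈ F₀ ∨ ∃ b : Gen a₁, f b.1 = y.1 := fun y ↦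
      (hgen₁ y).imp_left fun h ↦ Finset.mem_union_left _ h
    rcases hgen₂ x with h | ⟨b, hb⟩
    · exact h1 ⟨x.1, h⟩
    · rcases Finset.mem_union.mp (hec.subset b.2) with h | h
      · exact Or.inl (Finset.mem_union_right _ (Finset.mem_image.mpr ⟨b.1, h, hb⟩))
      · obtain ⟨y, hy, e⟩ := Finset.mem_image.mp h
        have : y = x.1 := by rw [← hb, ← e, hpre]
        exact h1 ⟨x.1, this ▸ hy⟩
  have hgsurj : ∀ x : Gen d₂, ∃ b : Gen c₁, g b.1 = x.1 := by
    intro x
    rcases hgen₂ x with h | h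
    · exact ⟨⟨pre x.1, hec.symm.subset (Finset.mem_union_right _ (Finset.mem_image_of_mem _ h))⟩,
        hpre x.1⟩
    · exact h
  -- integrality relations
  obtain ⟨K, hK0, hK⟩ : ∃ K : Finset (Stage d₂), (∀ z ∈ K, toB d₂ z = 0) ∧
      (f.toRingHom.IsIntegral → ∀ x : Gen d₂, ∃ q : Polynomial (Stage a₁), q.Monic ∧
        q.eval₂ (hom hlef₂).toRingHom (Ideal.Quotient.mk (rel d₂) (X x)) ∈ K) := by
    by_cases hint : f.toRingHom.IsIntegral
    · have hex : ∀ x : Gen d₂, ∃ q : Polynomial (Stage a₁), q.Monic ∧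
          toB d₂ (q.eval₂ (hom hlef₂).toRingHom (Ideal.Quotient.mk (rel d₂) (X x))) = 0 := by
        intro x
        have hev : ∀ q : Polynomial (Stage a₁),
            toB d₂ (q.eval₂ (hom hlef₂).toRingHom (Ideal.Quotient.mk (rel d₂) (X x))) =
              (q.map (toB a₁).toRingHom).eval₂ f.toRingHom x.1 := by
          intro q
          rw [Polynomial.eval₂_map]
          refine (Polynomial.hom_eval₂ q _ (toB d₂).toRingHom _).trans ?_
          congr 1
          · exact RingHom.ext fun y ↦ toB_hom hlef₂ y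
          · exact toB_X d₂ x
        rcases hcases x with h | ⟨b, hb⟩
        · obtain ⟨P, hP, hP0, hPE⟩ := hE₁' hint x.1 h
          have hl : P ∈ Polynomial.lifts (toB a₁).toRingHom := by
            rw [Polynomial.lifts_iff_coeff_lifts]
            intro k
            by_cases hk : P.coeff k = 0
            · exact ⟨0, by rw [hk, map_zero]⟩
            · exact ⟨Ideal.Quotient.mk (rel a₁) (X ⟨P.coeff k,
                hea.symm.subset (Finset.mem_union_right _ (hPE k hk))⟩), toB_X a₁ _⟩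
          rcases subsingleton_or_nontrivial B with hB | hB
          · refine ⟨1, Polynomial.monic_one, ?_⟩
            rw [Polynomial.eval₂_one, map_one, ← map_one f, Subsingleton.elim (1 : B) 0, map_zero]
          obtain ⟨q, hq, -, hqm⟩ := Polynomial.lifts_and_degree_eq_and_monic hl hP
          exact ⟨q, hqm, by rw [hev, hq, hP0]⟩
        · refine ⟨Polynomial.X - Polynomial.C (Ideal.Quotient.mk (rel a₁) (X b)),
            Polynomial.monic_X_sub_C _, ?_⟩
          rw [hev, Polynomial.map_sub, Polynomial.map_X, Polynomial.map_C, Polynomial.eval₂_sub,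
            Polynomial.eval₂_X, Polynomial.eval₂_C, sub_eq_zero]
          exact hb.symm.trans (congrArg f (toB_X a₁ b).symm)
      choose q hq hq0 using hex
      exact ⟨Finset.univ.image fun x ↦ (q x).eval₂ (hom hlef₂).toRingHom
          (Ideal.Quotient.mk (rel d₂) (X x)), fun z hz ↦ by
          obtain ⟨x, -, rfl⟩ := Finset.mem_image.mp hz
          exact hq0 x, fun _ x ↦ ⟨q x, hq x, Finset.mem_image_of_mem (fun x ↦ (q x).eval₂
            (hom hlef₂).toRingHom (Ideal.Quotient.mk (rel d₂) (X x))) (Finset.mem_univ x)⟩⟩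
    · exact ⟨∅, fun z h ↦ absurd h (Finset.notMem_empty z), fun h ↦ absurd h hint⟩
  obtain ⟨d₃, hd₃, hed, hkill, -⟩ := exists_trans_eq_zero d₂ K hK0
  have hlef₃ := hlef₂.mono hd₃
  have hleg₃ := hleg₂.mono hd₃
  have hgs₃ : Function.Surjective (hom hleg₃) :=
    surjective_hom hleg₃ fun x ↦ hgsurj ⟨x.1, hed.subset x.2⟩
  have hfs₃ : Function.Surjective f → Function.Surjective (hom hlef₃) := by
    intro hs
    refine surjective_hom hlef₃ fun x ↦ ?_
    rcases hcases ⟨x.1, hed.subset x.2⟩ with h | h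
    · obtain ⟨b, hb, e⟩ := hE₁ hs x.1 h
      exact ⟨⟨b, hea.symm.subset (Finset.mem_union_right _ hb)⟩, e⟩
    · exact h
  have hint₃ : f.toRingHom.IsIntegral → (hom hlef₃).toRingHom.IsIntegral := by
    intro hint
    refine isIntegral_hom hlef₃ fun x ↦ ?_
    obtain ⟨q, hq, hqK⟩ := hK hint ⟨x.1, hed.subset x.2⟩
    refine ⟨q, hq, ?_⟩
    have h0 := hkill _ hqK
    rw [show FPUH.trans hd₃ (q.eval₂ (hom hlef₂).toRingHom _) = (FPUH.trans hd₃).toRingHom
        (q.eval₂ (hom hlef₂).toRingHom _) from rfl, Polynomial.hom_eval₂] at h0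
    rw [← h0]
    congr 1
    · refine RingHom.ext fun y ↦ ?_
      show hom hlef₃ y = FPUH.trans hd₃ (hom hlef₂ y)
      rw [← hom_trans le_rfl hd₃ hlef₂ hlef₃, trans_refl]
    · exact (trans_X hd₃ ⟨x.1, hed.subset x.2⟩).symm
  obtain ⟨c₄, hc₄, hleg₄, -, -, hgs₄, hgn₄⟩ := exists_kill_ker g hnil hleg₃ hgs₃
  by_cases hfn : Function.Surjective f ∧ ∀ x, f x = 0 → IsNilpotent x
  swap
  · exact ⟨a₁, d₃, c₄, ha₁, hd₁.trans (hd₂.trans hd₃), hc₁.trans hc₄, hlef₃, hleg₄, hgs₄, hgn₄,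
      hfs₃, fun h h' ↦ absurd ⟨h, h'⟩ hfn, hint₃⟩
  obtain ⟨a₄, ha₄, hlef₄, -, hcomm, hfs₄, hfn₄⟩ := exists_kill_ker f hfn.2 hlef₃ (hfs₃ hfn.1)
  refine ⟨a₄, d₃, c₄, ha₁.trans ha₄, hd₁.trans (hd₂.trans hd₃), hc₁.trans hc₄, hlef₄, hleg₄,
    hgs₄, hgn₄, fun _ ↦ hfs₄, fun _ _ ↦ hfn₄, fun _ ↦ ?_⟩
  exact RingHom.isIntegral_of_surjective _ hfs₄

end Groth.Agent.H7Lim.Pres
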