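import Groth.Agent.H7Lim.NilPairs

/-!
# Fibre products of systems of presentations
-/

set_option autoImplicit false
universe u

open CategoryTheory CategoryTheory.Limits MvPolynomial

namespace Groth.Agent.H7Lim.Pres

open Groth.Agent.H17 Groth.Agent.H17.FPUH

variable {A B C D : Type u} [CommRing A] [CommRing B] [Algebra A B] [CommRing C] [Algebra A C]
  [CommRing D] [Algebra A D] {ι : Type u} [Preorder ι]
  (p : ι → Idx₀ A B) (hp : Monotone p) (q : ι → Idx₀ A C) (hq : Monotone q)
  (r : ι → Idx₀ A D) (hr : Monotone r) (f : B →ₐ[A] D) (g : C →ₐ[A] D)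
  (hf : ∀ i, Le f (p i) (r i)) (hg : ∀ i, Le g (q i) (r i))

/-- The fibre product of stages. -/
noncomputable def fib (i : ι) : Subalgebra A (Stage (p i) × Stage (q i)) :=
  AlgHom.equalizer ((hom (hf i)).comp (AlgHom.fst A _ _)) ((hom (hg i)).comp (AlgHom.snd A _ _))

include hr in
theorem fib_map_mem {i j : ι} (h : i ≤ j) (x : fib p q r f g hf hg i) :
    (FPUH.trans (hp h) x.1.1, FPUH.trans (hq h) x.1.2) ∈ fib p q r f g hf hg j := by
  show hom (hf j) (FPUH.trans (hp h) x.1.1) = hom (hg j) (FPUH.trans (hq h) x.1.2)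
  rw [hom_trans (hp h) (hr h) (hf i) (hf j), hom_trans (hq h) (hr h) (hg i) (hg j)]
  exact congrArg _ x.2

/-- The transition maps of fibre products. -/
noncomputable def fibTrans {i j : ι} (h : i ≤ j) :
    fib p q r f g hf hg i →ₐ[A] fib p q r f g hf hg j :=
  (((FPUH.trans (hp h)).comp ((AlgHom.fst A _ _).comp (fib p q r f g hf hg i).val)).prod
    ((FPUH.trans (hq h)).comp ((AlgHom.snd A _ _).comp (fib p q r f g hf hg i).val))).codRestrict _
      fun x ↦ fib_map_mem p hp q hq r hr f g hf hg h x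

/-- A fibre product of stages as an algebra. -/
noncomputable abbrev fibObj (i : ι) : Under (CommRingCat.of A) :=
  Under.mk (CommRingCat.ofHom (S := ↥(fib p q r f g hf hg i)) (algebraMap A _))

/-- A transition map of fibre products as a map of algebras. -/
noncomputable def fibMap {i j : ι} (h : i ≤ j) :
    fibObj p q r f g hf hg i ⟶ fibObj p q r f g hf hg j :=
  Under.homMk (CommRingCat.ofHom (R := ↥(fib p q r f g hf hg i))
    (S := ↥(fib p q r f g hf hg j)) (fibTrans p hp q hq r hr f g hf hg h).toRingHom)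
    (CommRingCat.hom_ext (RingHom.ext fun a ↦ (fibTrans p hp q hq r hr f g hf hg h).commutes a))

/-- The system of fibre products. -/
noncomputable def fibSystem : ι ⥤ Under (CommRingCat.of A) where
  obj i := fibObj p q r f g hf hg i
  map {i j} h := fibMap p hp q hq r hr f g hf hg h.le
  map_id i := by
    apply Under.UnderMorphism.ext
    refine CommRingCat.hom_ext (RingHom.ext fun (x : ↥(fib p q r f g hf hg i)) ↦ ?_)
    exact Subtype.ext (Prod.ext (trans_refl _ x.1.1) (trans_refl _ x.1.2))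
  map_comp {i j k} h h' := by
    apply Under.UnderMorphism.ext
    refine CommRingCat.hom_ext (RingHom.ext fun (x : ↥(fib p q r f g hf hg i)) ↦ ?_)
    exact Subtype.ext (Prod.ext (trans_trans (hp h.le) (hp h'.le) x.1.1).symm
      (trans_trans (hq h.le) (hq h'.le) x.1.2).symm)

/-- The first projection. -/
noncomputable def fibFst : fibSystem p hp q hq r hr f g hf hg ⟶ system p hp where
  app i := Under.homMk (CommRingCat.ofHom
    ((AlgHom.fst A _ _).comp (fib p q r f g hf hg i).val).toRingHom) (by ext a; rfl)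
  naturality i j h := by ext x; rfl

/-- The second projection. -/
noncomputable def fibSnd : fibSystem p hp q hq r hr f g hf hg ⟶ system q hq where
  app i := Under.homMk (CommRingCat.ofHom
    ((AlgHom.snd A _ _).comp (fib p q r f g hf hg i).val).toRingHom) (by ext a; rfl)
  naturality i j h := by ext x; rfl

theorem isPullback_fib (i : ι) :
    IsPullback ((fibFst p hp q hq r hr f g hf hg).app i).right
      ((fibSnd p hp q hq r hr f g hf hg).app i).right
      ((natHom p hp r hr f hf).app i).right ((natHom q hq r hr g hg).app i).right :=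
  IsPullback.of_isLimit
    (CommRingCat.pullbackConeIsLimit (CommRingCat.ofHom (hom (hf i)).toRingHom)
      (CommRingCat.ofHom (hom (hg i)).toRingHom))

variable {P : Type u} [CommRing P] [Algebra A P] (q₁ : P →ₐ[A] B) (q₂ : P →ₐ[A] C)
  (hP : IsPullback (CommRingCat.ofHom q₁.toRingHom) (CommRingCat.ofHom q₂.toRingHom)
    (CommRingCat.ofHom f.toRingHom) (CommRingCat.ofHom g.toRingHom))

include hP in
theorem exists_pullback_elem (b : B) (c : C) (h : f b = g c) : ∃ z : P, q₁ z = b ∧ q₂ z = c := by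
  let cone := CommRingCat.pullbackCone (CommRingCat.ofHom f.toRingHom) (CommRingCat.ofHom g.toRingHom)
  let l : cone.pt ⟶ CommRingCat.of P := hP.lift cone.fst cone.snd cone.condition
  let x : (cone.pt : Type u) := ⟨(b, c), h⟩
  exact ⟨l x, congr($(hP.lift_fst cone.fst cone.snd cone.condition) x),
    congr($(hP.lift_snd cone.fst cone.snd cone.condition) x)⟩

include hP in
theorem pullback_ext (z z' : P) (h₁ : q₁ z = q₁ z') (h₂ : q₂ z = q₂ z') : z = z' := by
  let cone := CommRingCat.pullbackCone (CommRingCat.ofHom f.toRingHom) (CommRingCat.ofHom g.toRingHom)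
  let l : cone.pt ⟶ CommRingCat.of P := hP.lift cone.fst cone.snd cone.condition
  let hlim := CommRingCat.pullbackConeIsLimit (CommRingCat.ofHom f.toRingHom)
    (CommRingCat.ofHom g.toRingHom)
  let m : CommRingCat.of P ⟶ cone.pt := PullbackCone.IsLimit.lift hlim _ _ hP.w
  have hm₁ : m ≫ cone.fst = CommRingCat.ofHom q₁.toRingHom := PullbackCone.IsLimit.lift_fst _ _ _ _
  have hm₂ : m ≫ cone.snd = CommRingCat.ofHom q₂.toRingHom := PullbackCone.IsLimit.lift_snd _ _ _ _
  have hml : m ≫ l = 𝟙 _ := hP.hom_ext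
    (by rw [Category.assoc, hP.lift_fst, hm₁, Category.id_comp])
    (by rw [Category.assoc, hP.lift_snd, hm₂, Category.id_comp])
  have e : m z = m z' := Subtype.ext (Prod.ext
    (by
      show cone.fst (m z) = cone.fst (m z')
      rw [← CategoryTheory.comp_apply, ← CategoryTheory.comp_apply, hm₁]; exact h₁)
    (by
      show cone.snd (m z) = cone.snd (m z')
      rw [← CategoryTheory.comp_apply, ← CategoryTheory.comp_apply, hm₂]; exact h₂))
  calc z = (m ≫ l) z := by rw [hml]; rfl
    _ = l (m z) := rfl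
    _ = l (m z') := by rw [e]
    _ = (m ≫ l) z' := rfl
    _ = z' := by rw [hml]; rfl

/-- The map to the fibre product of the limits. -/
noncomputable def fibToP (i : ι) : fib p q r f g hf hg i →ₐ[A] P :=
  AlgHom.ofLinearMap
    { toFun := fun x ↦ (exists_pullback_elem f g q₁ q₂ hP (toB (p i) x.1.1) (toB (q i) x.1.2)
        (by rw [← toB_hom (hf i), ← toB_hom (hg i)]; exact congrArg _ x.2)).choose
      map_add' := fun x y ↦ by
        refine pullback_ext f g q₁ q₂ hP _ _ ?_ ?_ <;> rw [map_add]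
        · rw [(Exists.choose_spec (_ : ∃ z : P, q₁ z = _ ∧ q₂ z = _)).1,
            (Exists.choose_spec (_ : ∃ z : P, q₁ z = _ ∧ q₂ z = _)).1,
            (Exists.choose_spec (_ : ∃ z : P, q₁ z = _ ∧ q₂ z = _)).1]
          exact map_add _ _ _
        · rw [(Exists.choose_spec (_ : ∃ z : P, q₁ z = _ ∧ q₂ z = _)).2,
            (Exists.choose_spec (_ : ∃ z : P, q₁ z = _ ∧ q₂ z = _)).2,
            (Exists.choose_spec (_ : ∃ z : P, q₁ z = _ ∧ q₂ z = _)).2]
          exact map_add _ _ _
      map_smul' := fun a x ↦ by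
        refine pullback_ext f g q₁ q₂ hP _ _ ?_ ?_ <;> rw [RingHom.id_apply, map_smul]
        · rw [(Exists.choose_spec (_ : ∃ z : P, q₁ z = _ ∧ q₂ z = _)).1,
            (Exists.choose_spec (_ : ∃ z : P, q₁ z = _ ∧ q₂ z = _)).1]
          exact map_smul _ _ _
        · rw [(Exists.choose_spec (_ : ∃ z : P, q₁ z = _ ∧ q₂ z = _)).2,
            (Exists.choose_spec (_ : ∃ z : P, q₁ z = _ ∧ q₂ z = _)).2]
          exact map_smul _ _ _ }
    (by
      refine pullback_ext f g q₁ q₂ hP _ _ ?_ ?_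
      · show q₁ (Exists.choose _) = q₁ 1
        rw [(Exists.choose_spec (_ : ∃ z : P, q₁ z = _ ∧ q₂ z = _)).1, map_one]
        exact map_one _
      · show q₂ (Exists.choose _) = q₂ 1
        rw [(Exists.choose_spec (_ : ∃ z : P, q₁ z = _ ∧ q₂ z = _)).2, map_one]
        exact map_one _)
    (fun x y ↦ by
      refine pullback_ext f g q₁ q₂ hP _ _ ?_ ?_
      · show q₁ (Exists.choose _) = q₁ (Exists.choose _ * Exists.choose _)
        rw [map_mul, (Exists.choose_spec (_ : ∃ z : P, q₁ z = _ ∧ q₂ z = _)).1,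
          (Exists.choose_spec (_ : ∃ z : P, q₁ z = _ ∧ q₂ z = _)).1,
          (Exists.choose_spec (_ : ∃ z : P, q₁ z = _ ∧ q₂ z = _)).1]
        exact map_mul _ _ _
      · show q₂ (Exists.choose _) = q₂ (Exists.choose _ * Exists.choose _)
        rw [map_mul, (Exists.choose_spec (_ : ∃ z : P, q₁ z = _ ∧ q₂ z = _)).2,
          (Exists.choose_spec (_ : ∃ z : P, q₁ z = _ ∧ q₂ z = _)).2,
          (Exists.choose_spec (_ : ∃ z : P, q₁ z = _ ∧ q₂ z = _)).2]
        exact map_mul _ _ _)

theorem fibToP_fst (i : ι) (x : fib p q r f g hf hg i) :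
    q₁ (fibToP p q r f g hf hg q₁ q₂ hP i x) = toB (p i) x.1.1 :=
  (Exists.choose_spec (_ : ∃ z : P, q₁ z = _ ∧ q₂ z = _)).1

theorem fibToP_snd (i : ι) (x : fib p q r f g hf hg i) :
    q₂ (fibToP p q r f g hf hg q₁ q₂ hP i x) = toB (q i) x.1.2 :=
  (Exists.choose_spec (_ : ∃ z : P, q₁ z = _ ∧ q₂ z = _)).2

/-- The cocone to the fibre product. -/
noncomputable def fibCocone : fibSystem p hp q hq r hr f g hf hg ⟶
    (Functor.const ι).obj (Under.mk (CommRingCat.ofHom (algebraMap A P))) where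
  app i := Under.homMk (CommRingCat.ofHom (fibToP p q r f g hf hg q₁ q₂ hP i).toRingHom)
    (by ext a; exact (fibToP p q r f g hf hg q₁ q₂ hP i).commutes a)
  naturality i j h := by
    ext x
    refine pullback_ext f g q₁ q₂ hP _ _ ?_ ?_
    · exact (fibToP_fst p q r f g hf hg q₁ q₂ hP j _).trans
        ((toB_trans (hp h.le) _).trans (fibToP_fst p q r f g hf hg q₁ q₂ hP i x).symm)
    · exact (fibToP_snd p q r f g hf hg q₁ q₂ hP j _).trans
        ((toB_trans (hq h.le) _).trans (fibToP_snd p q r f g hf hg q₁ q₂ hP i x).symm)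

/-- The fibre products have the fibre product as colimit. -/
theorem isColimit_fib [IsDirectedOrder ι] [Nonempty ι]
    (hcof : ∀ a d c, ∃ k, a ≤ p k ∧ d ≤ r k ∧ c ≤ q k) :
    Nonempty (IsColimit (Cocone.mk _ (fibCocone p hp q hq r hr f g hf hg q₁ q₂ hP))) := by
  classical
  have hf' : IsFiltered ι := inferInstance
  have : IsConnected ι := IsFiltered.isConnected _
  have : ReflectsColimitsOfShape ι (forget CommRingCat.{u}) :=
    reflectsColimitsOfShape_of_reflectsIsomorphisms
  refine ⟨isColimitOfReflects (Under.forget _) (isColimitOfReflects (forget CommRingCat) ?_)⟩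
  refine Types.FilteredColimit.isColimitOf' _ _ ?_ ?_
  · intro (z : P)
    obtain ⟨k, ha, hd, hc⟩ := hcof ⟨({q₁ z}, ∅), fun x h ↦ absurd h (Finset.notMem_empty x)⟩
      ⟨(∅, ∅), fun x h ↦ absurd h (Finset.notMem_empty x)⟩
      ⟨({q₂ z}, ∅), fun x h ↦ absurd h (Finset.notMem_empty x)⟩
    let x : Stage (p k) := Ideal.Quotient.mk _ (X ⟨q₁ z, ha.1 (Finset.mem_singleton_self _)⟩)
    let y : Stage (q k) := Ideal.Quotient.mk _ (X ⟨q₂ z, hc.1 (Finset.mem_singleton_self _)⟩)
    have hxy : toB (r k) (hom (hf k) x - hom (hg k) y) = 0 := by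
      rw [map_sub, toB_hom, toB_hom, toB_X, toB_X, sub_eq_zero]
      exact congr($(hP.w) z)
    obtain ⟨d', hd', -, h0, -⟩ := exists_trans_eq_zero (r k) {hom (hf k) x - hom (hg k) y}
      (by simpa using hxy)
    obtain ⟨k', -, hk', -⟩ := hcof (p k) d' (q k)
    obtain ⟨l, hkl, hk'l⟩ := exists_ge_ge k k'
    have hmem : (FPUH.trans (hp hkl) x, FPUH.trans (hq hkl) y) ∈ fib p q r f g hf hg l := by
      show hom (hf l) (FPUH.trans (hp hkl) x) = hom (hg l) (FPUH.trans (hq hkl) y)
      rw [hom_trans (hp hkl) (hr hkl) (hf k) (hf l), hom_trans (hq hkl) (hr hkl) (hg k) (hg l),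
        ← sub_eq_zero, ← map_sub, ← trans_trans hd' (hk'.trans (hr hk'l)),
        h0 _ (Finset.mem_singleton_self _), map_zero]
    refine ⟨l, (⟨_, hmem⟩ : fib p q r f g hf hg l), ?_⟩
    refine pullback_ext f g q₁ q₂ hP _ _ ?_ ?_
    · exact ((toB_trans (hp hkl) x).trans (toB_X (p k) ⟨q₁ z, _⟩)).symm.trans
        (fibToP_fst p q r f g hf hg q₁ q₂ hP l ⟨_, hmem⟩).symm
    · exact ((toB_trans (hq hkl) y).trans (toB_X (q k) ⟨q₂ z, _⟩)).symm.trans
        (fibToP_snd p q r f g hf hg q₁ q₂ hP l ⟨_, hmem⟩).symm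
  · intro i (x : fib p q r f g hf hg i) (y : fib p q r f g hf hg i)
      (hxy : fibToP p q r f g hf hg q₁ q₂ hP i x = fibToP p q r f g hf hg q₁ q₂ hP i y)
    have h₁ : toB (p i) (x.1.1 - y.1.1) = 0 := by
      rw [map_sub, ← fibToP_fst p q r f g hf hg q₁ q₂ hP i x,
        ← fibToP_fst p q r f g hf hg q₁ q₂ hP i y, hxy, sub_self]
    have h₂ : toB (q i) (x.1.2 - y.1.2) = 0 := by
      rw [map_sub, ← fibToP_snd p q r f g hf hg q₁ q₂ hP i x,
        ← fibToP_snd p q r f g hf hg q₁ q₂ hP i y, hxy, sub_self]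
    obtain ⟨a', ha', -, h1, -⟩ := exists_trans_eq_zero (p i) {x.1.1 - y.1.1} (by simpa using h₁)
    obtain ⟨c', hc', -, h2, -⟩ := exists_trans_eq_zero (q i) {x.1.2 - y.1.2} (by simpa using h₂)
    obtain ⟨k, hak, -, hck⟩ := hcof a' (r i) c'
    obtain ⟨l, hil, hkl⟩ := exists_ge_ge i k
    refine ⟨l, homOfLE hil, ?_⟩
    refine Subtype.ext (Prod.ext ?_ ?_)
    · show FPUH.trans (hp hil) x.1.1 = FPUH.trans (hp hil) y.1.1
      rw [← sub_eq_zero, ← map_sub, ← trans_trans ha' (hak.trans (hp hkl)),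
        h1 _ (Finset.mem_singleton_self _), map_zero]
    · show FPUH.trans (hq hil) x.1.2 = FPUH.trans (hq hil) y.1.2
      rw [← sub_eq_zero, ← map_sub, ← trans_trans hc' (hck.trans (hq hkl)),
        h2 _ (Finset.mem_singleton_self _), map_zero]

end Groth.Agent.H7Lim.Pres
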