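import Groth.Agent.H7Lim.Sections
import Mathlib.AlgebraicGeometry.Properties

/-!
# Reducedness and cofiltered limits
-/

set_option autoImplicit false
set_option backward.isDefEq.respectTransparency false

universe u

open CategoryTheory Limits AlgebraicGeometry TopologicalSpace

namespace Groth.Agent.H7Lim

variable {I : Type u} [Category.{u} I] [IsCofiltered I] {D : I ⥤ Scheme.{u}} {c : Cone D}
  [∀ (i j : I) (f : i ⟶ j), IsAffineHom (D.map f)] (hc : IsLimit c)

lemma isReduced_of_flat_surjective {X Y : Scheme.{u}} (f : X ⟶ Y) [Flat f] [Surjective f]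
    [IsReduced X] : IsReduced Y := by
  have (y : Y) : _root_.IsReduced (Y.presheaf.stalk y) := by
    obtain ⟨x, rfl⟩ := f.surjective y
    algebraize [(f.stalkMap x).hom]
    have : Module.FaithfullyFlat (Y.presheaf.stalk (f x)) (X.presheaf.stalk x) :=
      @Module.FaithfullyFlat.of_flat_of_isLocalHom _ _ _ _ _ _ _
        (Flat.stalkMap f x) (f.toLRSHom.prop x)
    exact isReduced_of_injective (f.stalkMap x).hom (FaithfulSMul.algebraMap_injective _ _)
  exact isReduced_of_isReduced_stalk Y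

include hc in
lemma exists_not_isReduced_of_not_isReduced (i : I) (h : ¬ IsReduced c.pt) :
    ∃ (j : I) (_ : j ⟶ i), ∀ (k : I) (_ : k ⟶ j), ¬ IsReduced (D.obj k) := by
  have := isAffineHom_π_app D c hc i
  obtain ⟨U, hU, hne⟩ : ∃ (U : (D.obj i).Opens), IsAffineOpen U ∧
      ¬ _root_.IsReduced Γ(c.pt, c.π.app i ⁻¹ᵁ U) := by
    contrapose! h
    let 𝒰 := c.pt.openCoverOfIsOpenCover (fun U : (D.obj i).affineOpens ↦ c.π.app i ⁻¹ᵁ U.1)
      (by rw [IsOpenCover, ← Scheme.Hom.preimage_iSup, iSup_affineOpens_eq_top]; rfl)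
    have (U : (D.obj i).affineOpens) : IsReduced (𝒰.X U) := by
      have : IsAffine (c.π.app i ⁻¹ᵁ U.1 : Scheme) := U.2.preimage _
      have : _root_.IsReduced Γ(c.π.app i ⁻¹ᵁ U.1, ⊤) :=
        @isReduced_of_injective _ _ _ _ _ _ _ (c.π.app i ⁻¹ᵁ U.1).topIso.hom.hom
          (c.π.app i ⁻¹ᵁ U.1).topIso.commRingCatIsoToRingEquiv.injective (h U.1 U.2)
      exact isReduced_of_isAffine_isReduced (c.π.app i ⁻¹ᵁ U.1 : Scheme)
    exact IsReduced.of_openCover (X := c.pt) 𝒰
  rw [isReduced_iff_pow_one_lt 2 one_lt_two] at hne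
  push Not at hne
  obtain ⟨s, hs, hs0⟩ := hne
  obtain ⟨j, φ, t, rfl⟩ := exists_secπ_eq hc hU s
  obtain ⟨k, ψ, hk⟩ := exists_secMap_eq hc φ hU.isCompact (t ^ 2) 0 (by simpa using hs)
  refine ⟨k, ψ ≫ φ, fun l χ hl ↦ hs0 ?_⟩
  have h2 : secMap (ψ ≫ φ) χ U (secMap φ ψ U t) = 0 :=
    IsReduced.eq_zero _ ⟨2, by rw [← map_pow, ← map_pow, hk, map_zero, map_zero]⟩
  rw [← secπ_secMap_apply φ ψ, ← secπ_secMap_apply (ψ ≫ φ) χ, h2, map_zero]

include hc in
lemma isReduced_pt_of_forall (i : I) (h : ∀ (j : I) (_ : j ⟶ i), IsReduced (D.obj j)) :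
    IsReduced c.pt := by
  by_contra hn
  obtain ⟨j, φ, hj⟩ := exists_not_isReduced_of_not_isReduced hc i hn
  exact hj j (𝟙 j) (h j φ)

include hc in
lemma surjective_π_app (i : I) (h : ∀ (j : I) (φ : j ⟶ i), Surjective (D.map φ)) :
    Surjective (c.π.app i) := by
  rw [surjective_iff, ← Set.range_eq_univ, range_π_eq_iInter hc]
  simp [(h _ _).surj.range_eq]

end Groth.Agent.H7Lim
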