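import Groth.Agent.H7Lim.Stalks
import Groth.Agent.H7Lim.Reduced
import Groth.Agent.H7Lim.Components
import Mathlib.AlgebraicGeometry.Noetherian

/-!
# Cofiltered limits with open immersions as transition maps
-/

set_option autoImplicit false
set_option backward.isDefEq.respectTransparency false

universe u

open CategoryTheory Limits AlgebraicGeometry TopologicalSpace Topology

namespace Groth.Agent.H7Lim

lemma isReduced_of_isIso_stalkMap {X Y : Scheme.{u}} (f : X ⟶ Y) [IsReduced Y]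
    (h : ∀ x, IsIso (f.stalkMap x)) : IsReduced X := by
  have (x : X) : _root_.IsReduced (X.presheaf.stalk x) := by
    have := h x
    exact isReduced_of_injective (inv (f.stalkMap x)).hom
      (asIso (f.stalkMap x)).symm.commRingCatIsoToRingEquiv.injective
  exact isReduced_of_isReduced_stalk X

lemma isReduced_localization_of_nilradical_le_ker {A : Type*} [CommRing A] (M : Submonoid A)
    (L : Type*) [CommRing L] [Algebra A L] [IsLocalization M L]
    (h : nilradical A ≤ RingHom.ker (algebraMap A L)) : _root_.IsReduced L := by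
  constructor
  rintro x ⟨n, hn⟩
  obtain ⟨⟨a, m⟩, rfl⟩ := IsLocalization.mk'_surjective M x
  rw [← IsLocalization.mk'_pow, IsLocalization.mk'_eq_zero_iff] at hn
  obtain ⟨m', hm'⟩ := hn
  have : (m' : A) * a ∈ nilradical A := mem_nilradical.mpr ⟨n + 1, by
    rw [mul_pow, pow_succ' a n, show (m' : A) ^ (n + 1) * (a * a ^ n) =
      (m' : A) ^ n * a * ((m' : A) * a ^ n) by ring, hm', mul_zero]⟩
  have h' : algebraMap A L ((m' : A) * a) = 0 := h this
  rw [map_mul, (IsLocalization.map_units L m').mul_right_eq_zero] at h'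
  exact (IsLocalization.mk'_eq_zero_iff a m).mpr
    ((IsLocalization.map_eq_zero_iff M L a).mp h')

variable {I : Type u} [Category.{u} I] [IsCofiltered I] {D : I ⥤ Scheme.{u}} {c : Cone D}
  [∀ (i j : I) (f : i ⟶ j), IsAffineHom (D.map f)] (hc : IsLimit c)

include hc in
lemma exists_isReduced_of_isReduced_pt (i₀ : I) [CompactSpace (D.obj i₀)]
    (hoi : ∀ (i j : I) (φ : i ⟶ j), IsOpenImmersion (D.map φ))
    (hN : ∀ U : (D.obj i₀).affineOpens, (nilradical Γ(D.obj i₀, U)).FG) [IsReduced c.pt] :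
    ∃ (i : I) (_ : i ⟶ i₀), ∀ (j : I) (_ : j ⟶ i), IsReduced (D.obj j) := by
  classical
  obtain ⟨s, hs, e⟩ := (isCompact_and_isOpen_iff_finite_and_eq_biUnion_affineOpens
    (X := D.obj i₀) (U := Set.univ)).mp ⟨isCompact_univ, isOpen_univ⟩
  have : Finite s := hs
  choose g hg using fun U : s ↦ hN U.1
  let κ := Σ U : s, (g U : Finset _)
  obtain ⟨i, φ, hi⟩ := exists_forall_stage i₀
    (fun (p : κ) (j : I) (φ : j ⟶ i₀) ↦ (D.map φ).app p.1.1.1 p.2.1 = 0)
    (fun p ↦ by
      have hnil : IsNilpotent (p.2.1) := by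
        have hmem : p.2.1 ∈ Ideal.span (g p.1 : Set Γ(D.obj i₀, p.1.1.1)) :=
          Ideal.subset_span p.2.2
        rw [show Ideal.span (g p.1 : Set Γ(D.obj i₀, p.1.1.1)) = _ from hg p.1] at hmem
        exact hmem
      obtain ⟨j, φ, hj⟩ := exists_app_map_eq_zero_of_isLimit D c hc (U := p.1.1.1)
        p.1.1.2.isCompact p.2.1
          (@IsNilpotent.eq_zero Γ(c.pt, c.π.app i₀ ⁻¹ᵁ p.1.1.1) _ _ _
            (IsReduced.component_reduced (X := c.pt) _)
            (hnil.map ((c.π.app i₀).app p.1.1.1).hom))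
      exact ⟨j, φ, hj⟩)
    (fun p j j' φ ψ h ↦ by
      rw [D.map_comp, Scheme.Hom.comp_app, CommRingCat.comp_apply, h, map_zero])
  refine ⟨i, φ, fun j ψ ↦ ?_⟩
  have := hoi j i₀ (ψ ≫ φ)
  have (y : D.obj j) : _root_.IsReduced ((D.obj j).presheaf.stalk y) := by
    obtain ⟨U, hU, hyU⟩ := Set.mem_iUnion₂.mp (e.le (Set.mem_univ (D.map (ψ ≫ φ) y)))
    let x : U.1 := ⟨D.map (ψ ≫ φ) y, hyU⟩
    have hloc := U.2.isLocalization_stalk x
    let _ : Algebra Γ(D.obj i₀, U) ((D.obj i₀).presheaf.stalk (x : D.obj i₀)) :=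
      ((D.obj i₀).presheaf.germ U x.1 x.2).hom.toAlgebra
    have key : _root_.IsReduced ((D.obj i₀).presheaf.stalk (x : D.obj i₀)) := by
      refine @isReduced_localization_of_nilradical_le_ker _ _
        (U.2.primeIdealOf x).asIdeal.primeCompl _ _ _ hloc ?_
      rw [← hg ⟨U, hU⟩, Ideal.span_le]
      intro a ha
      have h0 : (D.map (ψ ≫ φ)).app U.1 a = 0 := by
        rw [D.map_comp, Scheme.Hom.comp_app, CommRingCat.comp_apply, hi ⟨⟨U, hU⟩, a, ha⟩,
          map_zero]
      show (D.obj i₀).presheaf.germ U x.1 x.2 a = 0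
      apply ((ConcreteCategory.isIso_iff_bijective ((D.map (ψ ≫ φ)).stalkMap y)).mp
        inferInstance).injective
      rw [Scheme.Hom.germ_stalkMap_apply, h0, map_zero, map_zero]
    exact @isReduced_of_injective _ _ _ _ _ _ _ (inv ((D.map (ψ ≫ φ)).stalkMap y)).hom
      (asIso ((D.map (ψ ≫ φ)).stalkMap y)).symm.commRingCatIsoToRingEquiv.injective key
  exact isReduced_of_isReduced_stalk (D.obj j)

include hc in
lemma isReduced_pt_of_isOpenImmersion (i : I) [IsReduced (D.obj i)]
    (hoi : ∀ (i j : I) (φ : i ⟶ j), IsOpenImmersion (D.map φ)) : IsReduced c.pt :=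
  isReduced_of_isIso_stalkMap (c.π.app i) (isIso_stalkMap_π_app hc hoi i)

include hc in
lemma irreducibleSpace_pt_of_isOpenImmersion (i : I) [CompactSpace (D.obj i)]
    (hoi : ∀ (i j : I) (φ : i ⟶ j), IsOpenImmersion (D.map φ))
    (h : ∀ (j : I) (_ : j ⟶ i), IrreducibleSpace (D.obj j)) : IrreducibleSpace c.pt := by
  have hne := nonempty_pt hc i fun j φ ↦ (h j φ).toNonempty
  have := h i (𝟙 i)
  have hη : genericPoint (D.obj i) ∈ Set.range (c.π.app i) := by
    rw [range_π_eq_iInter hc]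
    refine Set.mem_iInter₂.mpr fun j φ ↦ ?_
    have := hoi j i φ
    have := (h j φ).toNonempty
    exact ((genericPoint_spec (D.obj i)).mem_open_set_iff
      (D.map φ).isOpenEmbedding.isOpen_range).mpr (by simpa using Set.range_nonempty (D.map φ))
  obtain ⟨x, hx⟩ := hη
  have hind := (isEmbedding_π_app hc hoi i).isInducing
  refine @IrreducibleSpace.mk _ _ ⟨?_⟩ hne
  intro U V hU hV hU' hV'
  obtain ⟨a, -, ha⟩ := hU'
  obtain ⟨b, -, hb⟩ := hV'
  obtain ⟨O, hO, rfl⟩ := hind.isOpen_iff.mp hU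
  obtain ⟨P, hP, rfl⟩ := hind.isOpen_iff.mp hV
  refine ⟨x, trivial, ?_, ?_⟩ <;> simp only [Set.mem_preimage, hx]
  · exact (genericPoint_specializes (c.π.app i a)).mem_open hO ha
  · exact (genericPoint_specializes (c.π.app i b)).mem_open hP hb

end Groth.Agent.H7Lim
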