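import Groth.Agent.H7Lim.OpenMapLimit
import Groth.Agent.H7Lim.FinitelyPresentable
import Mathlib.AlgebraicGeometry.AffineSpace

/-!
# Universal openness is detected by affine spaces
-/

set_option autoImplicit false
set_option backward.isDefEq.respectTransparency false
set_option backward.defeqAttrib.useBackward true

universe u

open CategoryTheory Limits AlgebraicGeometry Opposite

namespace Groth.Agent.H7Lim

variable {Y : Scheme.{u}} {A : CommRingCat.{u}} (j : Spec A ⟶ Y) [IsOpenImmersion j]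

/-- An affine scheme of finite type over an affine open sits in an affine space over the scheme. -/
theorem exists_immersion_affineSpace (B : Type u) [CommRing B] [Algebra A B] (s : Finset B) :
    ∃ (n : ℕ) (_ : 0 < n) (q : Spec (CommRingCat.of ↥(Algebra.adjoin (A : Type u) (s : Set B))) ⟶
      AffineSpace (ULift.{u} (Fin n)) Y), IsPreimmersion q ∧
      q ≫ AffineSpace (ULift.{u} (Fin n)) Y ↘ Y =
        Spec.map (CommRingCat.ofHom (algebraMap A ↥(Algebra.adjoin (A : Type u) (s : Set B)))) ≫ j := by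
  classical
  let B₀ := ↥(Algebra.adjoin (A : Type u) (s : Set B))
  let R := CommRingCat.of B₀
  let t : Spec R ⟶ Spec A := Spec.map (CommRingCat.ofHom (algebraMap A B₀))
  let gen : Fin s.card → B₀ := fun k ↦
    ⟨(s.equivFin.symm k : s).1, Algebra.subset_adjoin (s.equivFin.symm k).2⟩
  let v : ULift.{u} (Fin (s.card + 1)) → Γ(Spec R, ⊤) := fun k ↦
    (Scheme.ΓSpecIso R).inv (Fin.cases 0 gen k.down)
  let q₁ := AffineSpace.homOfVector (t ≫ j) v
  have hq₁ : q₁ ≫ AffineSpace (ULift.{u} (Fin (s.card + 1))) Y ↘ Y = t ≫ j :=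
    AffineSpace.homOfVector_over _ _
  let P := pullback (AffineSpace (ULift.{u} (Fin (s.card + 1))) Y ↘ Y) j
  have : IsAffine P := isAffine_of_isAffineHom (pullback.snd _ j)
  let q' : Spec R ⟶ P := pullback.lift q₁ t hq₁
  have hgen : ∀ x : B₀, ∃ p, q'.appTop p = (Scheme.ΓSpecIso R).inv x := by
    intro x
    have htop : Algebra.adjoin (A : Type u) (Set.range gen) = ⊤ := by
      apply Subalgebra.map_injective (f := (Algebra.adjoin (A : Type u) (s : Set B)).val)
        Subtype.val_injective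
      rw [AlgHom.map_adjoin, Algebra.map_top, Subalgebra.range_val, ← Set.range_comp]
      congr 1
      ext y
      exact ⟨by rintro ⟨k, rfl⟩; exact (s.equivFin.symm k).2,
        fun hy ↦ ⟨s.equivFin ⟨y, hy⟩, by simp [gen]⟩⟩
    have hx : x ∈ Algebra.adjoin (A : Type u) (Set.range gen) := htop ▸ trivial
    induction hx using Algebra.adjoin_induction with
    | mem x hx =>
      obtain ⟨k, rfl⟩ := hx
      refine ⟨(pullback.fst _ j).appTop (AffineSpace.coord Y ⟨k.succ⟩), ?_⟩
      rw [← CommRingCat.comp_apply, ← Scheme.Hom.comp_appTop, pullback.lift_fst,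
        AffineSpace.homOfVector_appTop_coord]
      simp [v]
    | algebraMap a =>
      refine ⟨(pullback.snd _ j).appTop ((Scheme.ΓSpecIso A).inv a), ?_⟩
      rw [← CommRingCat.comp_apply, ← CommRingCat.comp_apply, ← Scheme.Hom.comp_appTop,
        pullback.lift_snd, ← Scheme.ΓSpecIso_inv_naturality]
      rfl
    | add x y _ _ hx hy =>
      obtain ⟨p, hp⟩ := hx; obtain ⟨r, hr⟩ := hy
      exact ⟨p + r, by rw [map_add, map_add, hp, hr]⟩
    | mul x y _ _ hx hy =>
      obtain ⟨p, hp⟩ := hx; obtain ⟨r, hr⟩ := hy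
      exact ⟨p * r, by rw [map_mul, map_mul, hp, hr]⟩
  have : IsClosedImmersion q' := IsClosedImmersion.of_surjective_of_isAffine _ fun z ↦ by
    obtain ⟨p, hp⟩ := hgen ((Scheme.ΓSpecIso R).hom z)
    exact ⟨p, hp.trans (Iso.hom_inv_id_apply _ _)⟩
  refine ⟨s.card + 1, Nat.succ_pos _, q₁, ?_, hq₁⟩
  rw [← pullback.lift_fst q₁ t hq₁]
  infer_instance

variable {X : Scheme.{u}} (f : X ⟶ Y)
  (h : ∀ n : ℕ, 0 < n → IsOpenMap (pullback.snd f (AffineSpace (ULift.{u} (Fin n)) Y ↘ Y)))

omit [IsOpenImmersion j] in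
lemma isOpenMap_snd_of_comp {Z W : Scheme.{u}} (g : Z ⟶ Y) (q : W ⟶ Z) [IsPreimmersion q]
    (hg : IsOpenMap (pullback.snd f g)) : IsOpenMap (pullback.snd f (q ≫ g)) :=
  isOpenMap_of_isPullback_isEmbedding
    (g' := pullback.lift (pullback.fst f (q ≫ g)) (pullback.snd f (q ≫ g) ≫ q)
      (by rw [Category.assoc]; exact pullback.condition))
    (IsPullback.of_right (by rw [pullback.lift_fst]; exact IsPullback.of_hasPullback f (q ≫ g))
      (pullback.lift_snd _ _ _) (IsPullback.of_hasPullback f g)) hg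

include h in
/-- Base change to an affine scheme over an affine open is open. -/
theorem isOpenMap_snd_spec {B : CommRingCat.{u}} (φ : A ⟶ B) :
    IsOpenMap (pullback.snd f (Spec.map φ ≫ j)) := by
  classical
  algebraize [φ.hom]
  let F : Finset B ⥤ CommRingCat.{u} := adjoinFunctor A B ⋙ Under.forget _
  let cc : Cocone F := (Under.forget _).mapCocone (adjoinCocone A B)
  let hcc : IsColimit cc := isColimitOfPreserves (Under.forget _) (adjoinIsColimit A B)
  let D := F.op ⋙ Scheme.Spec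
  let c : Cone D := Scheme.Spec.mapCone cc.op
  have hc : IsLimit c := isLimitOfPreserves Scheme.Spec hcc.op
  have : ∀ (k l : (Finset B)ᵒᵖ) (a : k ⟶ l), IsAffineHom (D.map a) := fun k l a ↦
    inferInstanceAs (IsAffineHom (Spec.map _))
  have : Nonempty (Finset B) := ⟨∅⟩
  let t (k : (Finset B)ᵒᵖ) : D.obj k ⟶ Y :=
    Spec.map (CommRingCat.ofHom (algebraMap A ↥(Algebra.adjoin (A : Type u) ((unop k : Finset B) : Set B)))) ≫ j
  let i : (Finset B)ᵒᵖ := op ∅
  have ht (k : (Finset B)ᵒᵖ) (ψ : k ⟶ i) : D.map ψ ≫ t i = t k := by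
    show Spec.map _ ≫ Spec.map _ ≫ j = Spec.map _ ≫ j
    rw [← Category.assoc, ← Spec.map_comp]
    rfl
  have htc : c.π.app i ≫ t i = Spec.map φ ≫ j := by
    show Spec.map _ ≫ Spec.map _ ≫ j = _
    rw [← Category.assoc, ← Spec.map_comp]
    rfl
  have key : IsOpenMap (pullback.snd (pullback.snd f (t i)) (c.π.app i)) := by
    refine isOpenMap_snd_of_stages hc i _ fun k ψ ↦ ?_
    obtain ⟨n, hn, q, hq, hq'⟩ := exists_immersion_affineSpace j B (unop k)
    have h' := isOpenMap_snd_of_comp f _ q (h n hn)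
    rw [hq', show Spec.map _ ≫ j = t k from rfl, ← ht k ψ] at h'
    exact isOpenMap_congr (Arrow.isoMk (((IsPullback.of_hasPullback (pullback.snd f (t i))
      (D.map ψ)).paste_horiz (IsPullback.of_hasPullback f (t i))).isoPullback).symm (Iso.refl _)
      (by simp)) h'
  rw [← htc]
  exact isOpenMap_congr (Arrow.isoMk (((IsPullback.of_hasPullback (pullback.snd f (t i))
    (c.π.app i)).paste_horiz (IsPullback.of_hasPullback f (t i))).isoPullback) (Iso.refl _)
    (by simp)) key

include h in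
omit [IsOpenImmersion j] in
theorem universallyOpen_of_affineSpace : UniversallyOpen f := by
  refine ⟨MorphismProperty.universally_mk' _ _ fun {Y'} g _ ↦ ?_⟩
  show IsOpenMap (pullback.fst g f)
  suffices IsOpenMap (pullback.snd f g) from
    isOpenMap_congr (Arrow.isoMk (pullbackSymmetry f g) (Iso.refl _) (by simp)) this
  let ι := {W : Y'.affineOpens // ∃ U : Y.affineOpens, (W : Y'.Opens) ≤ g ⁻¹ᵁ (U : Y.Opens)}
  have hcov : ⨆ W : ι, (W.1 : Y'.Opens) = ⊤ := top_le_iff.mp fun y _ ↦ by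
    obtain ⟨U, hU, hyU, -⟩ := exists_isAffineOpen_mem_and_subset (Set.mem_univ (g y))
      (U := (⊤ : Y.Opens))
    obtain ⟨W, hW, hyW, hWU⟩ := exists_isAffineOpen_mem_and_subset (x := y) (U := g ⁻¹ᵁ U) hyU
    exact TopologicalSpace.Opens.mem_iSup.mpr ⟨⟨⟨W, hW⟩, ⟨U, hU⟩, hWU⟩, hyW⟩
  refine IsZariskiLocalAtTarget.of_iSup_eq_top (P := topologically IsOpenMap)
    (fun W : ι ↦ (W.1 : Y'.Opens)) hcov fun W ↦ ?_
  obtain ⟨U, hWU⟩ := W.2
  have hW : IsOpenMap (pullback.snd f ((W.1 : Y'.Opens).ι ≫ g)) := by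
    have h1 : IsOpenMap (pullback.snd f (W.1.2.fromSpec ≫ g)) := by
      obtain ⟨e, he⟩ : ∃ e : Spec Γ(Y', W.1) ⟶ Spec Γ(Y, U), e ≫ U.2.fromSpec = W.1.2.fromSpec ≫ g :=
        ⟨IsOpenImmersion.lift U.2.fromSpec _ (by
          rw [U.2.range_fromSpec, Scheme.Hom.comp_base, TopCat.coe_comp, Set.range_comp,
            W.1.2.range_fromSpec]
          exact Set.image_subset_iff.mpr hWU), IsOpenImmersion.lift_fac _ _ _⟩
      obtain ⟨φ, rfl⟩ := Spec.map_surjective e
      rw [← he]
      exact isOpenMap_snd_spec U.2.fromSpec f h φ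
    have := isOpenMap_snd_of_comp f _ W.1.2.isoSpec.hom h1
    rwa [← Category.assoc, IsAffineOpen.isoSpec_hom_fromSpec] at this
  exact isOpenMap_congr (Arrow.isoMk
    ((isPullback_morphismRestrict _ _).flip.paste_horiz (IsPullback.of_hasPullback f g)).isoPullback.symm
    (Iso.refl _) (by simp)) hW

end Groth.Agent.H7Lim
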