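import Groth.Agent.H7Lim.Basic
import Groth.Agent.H7Lim.Descend

/-!
# Open maps pass to cofiltered limits with affine transition maps
-/

set_option autoImplicit false
set_option backward.isDefEq.respectTransparency false
set_option backward.defeqAttrib.useBackward true

universe u

open CategoryTheory Limits AlgebraicGeometry TopologicalSpace

namespace Groth.Agent.H7Lim

/-- Openness is inherited along embeddings of the base. -/
theorem isOpenMap_of_isPullback_isEmbedding {X' X Y' Y : Scheme.{u}} {g' : X' ⟶ X} {f' : X' ⟶ Y'}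
    {f : X ⟶ Y} {g : Y' ⟶ Y} (h : IsPullback g' f' f g) [IsPreimmersion g] (hf : IsOpenMap f) :
    IsOpenMap f' := by
  have : IsPreimmersion g' := MorphismProperty.of_isPullback (P := @IsPreimmersion) h.flip ‹_›
  intro U hU
  obtain ⟨V, hV, rfl⟩ := g'.isEmbedding.isInducing.isOpen_iff.mp hU
  rw [Scheme.image_preimage_eq_of_isPullback h V]
  exact (hf V hV).preimage g.continuous

theorem isOpen_image_preimage {X' X Y' Y : Scheme.{u}} {g' : X' ⟶ X} {f' : X' ⟶ Y'}
    {f : X ⟶ Y} {g : Y' ⟶ Y} (h : IsPullback g' f' f g) (hf : IsOpenMap f) (V : X.Opens) :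
    IsOpen (f' '' (g' ⁻¹ᵁ V : X'.Opens)) := by
  rw [Scheme.Hom.coe_preimage, Scheme.image_preimage_eq_of_isPullback h (V : Set X)]
  exact (hf V V.2).preimage g.continuous

variable {I : Type u} [Category.{u} I] [IsCofiltered I] {D : I ⥤ Scheme.{u}} {c : Cone D}
  [∀ (i j : I) (f : i ⟶ j), IsAffineHom (D.map f)]

/-- A base change to the limit is open if those to all stages are. -/
theorem isOpenMap_snd_of_stages (hc : IsLimit c) (i : I) {T : Scheme.{u}} (a : T ⟶ D.obj i)
    (h : ∀ (j : I) (φ : j ⟶ i), IsOpenMap (pullback.snd a (D.map φ))) :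
    IsOpenMap (pullback.snd a (c.π.app i)) := by
  intro U hU
  let B : Set (pbCone D c i a).pt.Opens :=
    { (pbCone D c i a).π.app j ⁻¹ᵁ V | (j : Over i) (V : ((pbDiagram D i a).obj j).Opens)
      (_ : IsAffineOpen V) }
  have hB : Opens.IsBasis B := isBasis_preimage_isAffineOpen _ _ (isLimitPbCone D i a hc)
  obtain ⟨s, hs, hUs⟩ := Opens.isBasis_iff_cover.mp hB ⟨U, hU⟩
  rw [show U = ((⟨U, hU⟩ : Opens _) : Set _) from rfl, hUs, Opens.coe_sSup, Set.image_iUnion₂]
  refine isOpen_biUnion fun W hW ↦ ?_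
  obtain ⟨j, V, -, rfl⟩ := hs hW
  have hsq : IsPullback ((pbCone D c i a).π.app j) (pullback.snd a (c.π.app i))
      (pullback.snd a (D.map j.hom)) (c.π.app j.left) :=
    IsPullback.of_right (h₁₂ := pullback.fst a (D.map j.hom))
      (h₂₂ := D.map j.hom) (v₁₃ := a)
      (by simpa using IsPullback.of_hasPullback a (c.π.app i)) (by simp)
      (IsPullback.of_hasPullback a (D.map j.hom))
  exact isOpen_image_preimage hsq (h j.left j.hom) V

omit [IsCofiltered I] [∀ (i j : I) (f : i ⟶ j), IsAffineHom (D.map f)] in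
lemma isOpenMap_congr {X Y X' Y' : Scheme.{u}} {f : X ⟶ Y} {f' : X' ⟶ Y'}
    (e : Arrow.mk f ≅ Arrow.mk f') (h : IsOpenMap f) : IsOpenMap f' :=
  (MorphismProperty.arrow_mk_iso_iff (topologically IsOpenMap) e).mp h

/-- Openness of a morphism over a stage passes to the limit. -/
theorem isOpenMap_of_stages (hc : IsLimit c) {i₀ i : I} (φ : i ⟶ i₀) {X₀ Y₀ : Scheme.{u}}
    (f₀ : X₀ ⟶ Y₀) (g₀ : Y₀ ⟶ D.obj i₀) {X Y : Scheme.{u}} (f : X ⟶ Y) (g : Y ⟶ c.pt)
    (qY : Y ⟶ Y₀) (qX : X ⟶ X₀) (hY : IsPullback qY g g₀ (c.π.app i₀))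
    (hX : IsPullback qX f f₀ qY)
    (h : ∀ (j : I) (ψ : j ⟶ i),
      IsOpenMap (pullback.snd f₀ (pullback.fst g₀ (D.map (ψ ≫ φ))))) :
    IsOpenMap f := by
  let e : Over i₀ := Over.mk φ
  let a : pullback f₀ (pullback.fst g₀ (D.map φ)) ⟶ (pbDiagram D i₀ g₀).obj e := pullback.snd _ _
  have key := isOpenMap_snd_of_stages (isLimitPbCone D i₀ g₀ hc) e a fun j ψ ↦ by
    have hj : ψ.left ≫ φ = j.hom := Over.w ψ
    have h' := h j.left ψ.left
    rw [hj] at h'
    have sq : IsPullback (pullback.fst a ((pbDiagram D i₀ g₀).map ψ) ≫ pullback.fst _ _)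
        (pullback.snd a ((pbDiagram D i₀ g₀).map ψ)) f₀ (pullback.fst g₀ (D.map j.hom)) := by
      have := (IsPullback.of_hasPullback a ((pbDiagram D i₀ g₀).map ψ)).paste_horiz
        (IsPullback.of_hasPullback f₀ (pullback.fst g₀ (D.map φ)))
      have h2 : (pbDiagram D i₀ g₀).map ψ ≫ pullback.fst g₀ (D.map φ) =
          pullback.fst g₀ (D.map j.hom) := (pullback.lift_fst _ _ _).trans (Category.comp_id _)
      rwa [h2] at this
    exact isOpenMap_congr (Arrow.isoMk sq.isoPullback.symm (Iso.refl _) (by simp)) h'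
  have sq : IsPullback (pullback.fst a ((pbCone D c i₀ g₀).π.app e) ≫ pullback.fst _ _)
      (pullback.snd a ((pbCone D c i₀ g₀).π.app e)) f₀ (pullback.fst g₀ (c.π.app i₀)) := by
    have := (IsPullback.of_hasPullback a ((pbCone D c i₀ g₀).π.app e)).paste_horiz
      (IsPullback.of_hasPullback f₀ (pullback.fst g₀ (D.map φ)))
    have h2 : (pbCone D c i₀ g₀).π.app e ≫ pullback.fst g₀ (D.map φ) =
        pullback.fst g₀ (c.π.app i₀) := (pullback.lift_fst _ _ _).trans (Category.comp_id _)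
    rwa [h2] at this
  have hX' : IsPullback qX (f ≫ hY.isoPullback.hom) f₀ (pullback.fst g₀ (c.π.app i₀)) :=
    hX.of_iso (Iso.refl _) (Iso.refl _) hY.isoPullback (Iso.refl _) (by simp) (by simp) (by simp)
      (by simp)
  refine isOpenMap_congr (Arrow.isoMk (sq.isoIsPullback _ _ hX') hY.isoPullback.symm ?_) key
  show (sq.isoIsPullback _ _ hX').hom ≫ f = pullback.snd _ _ ≫ hY.isoPullback.inv
  rw [← cancel_mono hY.isoPullback.hom, Category.assoc, sq.isoIsPullback_hom_snd _ _ hX']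
  simp

end Groth.Agent.H7Lim
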