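import Groth.Agent.H7Lim.Basic
import Groth.Prelude.Def_Red

/-!
# Morphisms of base changes in a cofiltered limit
-/

set_option autoImplicit false
set_option linter.style.haveILetI false
set_option backward.isDefEq.respectTransparency false
set_option backward.defeqAttrib.useBackward true

universe u

open CategoryTheory Limits AlgebraicGeometry MonoidalCategory CartesianMonoidalCategory MonObj

namespace Groth.Agent.H7Lim.OverStage

theorem bc_hom_ext {S S' : Scheme.{u}} (f : S' ⟶ S) {T : Over S'} {Y : Over S} {a b : T ⟶ Red.bc f Y}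
    (h : a.left ≫ pullback.fst Y.hom f = b.left ≫ pullback.fst Y.hom f) : a = b :=
  Over.OverMorphism.ext (pullback.hom_ext h ((Over.w a).trans (Over.w b).symm))

theorem map_left_fst {S S' : Scheme.{u}} (f : S' ⟶ S) {X Y : Over S} (u : X ⟶ Y) :
    ((Over.pullback f).map u).left ≫ pullback.fst Y.hom f = pullback.fst X.hom f ≫ u.left :=
  pullback.lift_fst _ _ _

/-- The identification of an iterated base change. -/
noncomputable abbrev compIso {S S' S'' : Scheme.{u}} {g : S'' ⟶ S'} {f : S' ⟶ S} {h : S'' ⟶ S} (w : g ≫ f = h)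
    (Z : Over S) : (Over.pullback g).obj (Red.bc f Z) ≅ Red.bc h Z :=
  ((Over.pullbackComp g f).app Z).symm ≪≫ eqToIso (congrArg (fun g => Red.bc g Z) w)

theorem compIso_hom_left_fst {S S' S'' : Scheme.{u}} {g : S'' ⟶ S'} {f : S' ⟶ S} {h : S'' ⟶ S} (w : g ≫ f = h)
    (Z : Over S) : (compIso w Z).hom.left ≫ pullback.fst Z.hom h =
      pullback.fst (Red.bc f Z).hom g ≫ pullback.fst Z.hom f := by
  subst w
  simp [compIso, Over.pullbackComp, conjugateIsoEquiv, conjugateEquiv, Over.mapPullbackAdj, Over.mapComp]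

section monoidal

variable {C E : Type*} [Category* C] [Category* E] [CartesianMonoidalCategory C]
  [CartesianMonoidalCategory E]

attribute [local instance] Functor.monObjObj in
/-- Natural transformations of product preserving functors respect monoid structures. -/
theorem isMonHom_app {F F' : C ⥤ E} [F.Monoidal] [F'.Monoidal] (α : F ⟶ F') (M : C) [MonObj M] :
    IsMonHom (α.app M) where
  one_hom := by
    simp only [Functor.obj.η_def, Category.assoc]
    rw [α.naturality, NatTrans.IsMonoidal.unit_assoc (τ := α)]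
  mul_hom := by
    simp only [Functor.obj.μ_def, Category.assoc]
    rw [α.naturality, NatTrans.IsMonoidal.tensor_assoc (τ := α)]

attribute [local instance] Functor.monObjObj in
/-- Natural transformations out of a composite of product preserving functors respect monoid structures. -/
theorem isMonHom_app₂ {C' : Type*} [Category* C'] [CartesianMonoidalCategory C'] {F : C ⥤ C'} {F' : C' ⥤ E}
    {G : C ⥤ E} [F.Monoidal] [F'.Monoidal] [G.Monoidal] (α : F ⋙ F' ⟶ G) (M : C) [MonObj M] :
    IsMonHom (M := F'.obj (F.obj M)) (N := G.obj M) (α.app M) := by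
  have h1 : (Functor.LaxMonoidal.ε F' ≫ F'.map (Functor.LaxMonoidal.ε F)) ≫ α.app (𝟙_ C) = Functor.LaxMonoidal.ε G :=
    NatTrans.IsMonoidal.unit (τ := α)
  have h2 : (Functor.LaxMonoidal.μ F' (F.obj M) (F.obj M) ≫ F'.map (Functor.LaxMonoidal.μ F M M)) ≫ α.app (M ⊗ M) =
      (α.app M ⊗ₘ α.app M) ≫ Functor.LaxMonoidal.μ G M M :=
    NatTrans.IsMonoidal.tensor (τ := α) M M
  have n1 : F'.map (F.map η[M]) ≫ α.app M = α.app (𝟙_ C) ≫ G.map η[M] := α.naturality η[M]
  have n2 : F'.map (F.map μ[M]) ≫ α.app M = α.app (M ⊗ M) ≫ G.map μ[M] := α.naturality μ[M]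
  constructor
  · simp only [Functor.obj.η_def, F'.map_comp, Category.assoc, n1]
    rw [← h1]
    simp only [Category.assoc]
  · simp only [Functor.obj.μ_def, F'.map_comp, Category.assoc, n2]
    rw [← Category.assoc (α.app M ⊗ₘ α.app M), ← h2]
    simp only [Category.assoc]

attribute [local instance] Functor.monObjObj in
theorem isMonHom_comp_iso {F : C ⥤ E} [F.Monoidal] {A B : C} [MonObj A] [MonObj B] (v : A ⟶ B)
    [IsMonHom (F.map v)] :
    F.map (η[A] ≫ v) = F.map η[B] ∧ F.map (μ[A] ≫ v) = F.map ((v ⊗ₘ v) ≫ μ[B]) := by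
  constructor
  · have h := IsMonHom.one_hom (F.map v)
    simp only [Functor.obj.η_def, Category.assoc, cancel_epi, ← F.map_comp] at h
    exact h
  · have h := IsMonHom.mul_hom (F.map v)
    simp only [Functor.obj.μ_def, Category.assoc, ← F.map_comp] at h
    rw [← Category.assoc (F.map v ⊗ₘ F.map v), Functor.LaxMonoidal.μ_natural, Category.assoc, cancel_epi,
      ← F.map_comp] at h
    exact h

attribute [local instance] Functor.monObjObj in
theorem isMonHom_map {F : C ⥤ E} [F.Monoidal] {A B : C} [MonObj A] [MonObj B] (v : A ⟶ B)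
    (h1 : F.map (η[A] ≫ v) = F.map η[B]) (h2 : F.map (μ[A] ≫ v) = F.map ((v ⊗ₘ v) ≫ μ[B])) :
    IsMonHom (F.map v) where
  one_hom := by
    simp only [Functor.obj.η_def, Category.assoc, ← F.map_comp, h1]
  mul_hom := by
    simp only [Functor.obj.μ_def, Category.assoc, ← F.map_comp, h2]
    rw [← Category.assoc (F.map v ⊗ₘ F.map v), Functor.LaxMonoidal.μ_natural, Category.assoc, F.map_comp]

end monoidal

theorem fst_eq {S S' S'' : Scheme.{u}} {g : S'' ⟶ S'} {f : S' ⟶ S} {h : S'' ⟶ S} (w : g ≫ f = h) (X : Over S)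
    (m : pullback X.hom h ⟶ pullback X.hom f) (h1 : m ≫ pullback.fst X.hom f = pullback.fst X.hom h)
    (h2 : m ≫ pullback.snd X.hom f = pullback.snd X.hom h ≫ g) :
    (compIso w X).hom.left ≫ m = pullback.fst (Red.bc f X).hom g := by
  apply pullback.hom_ext
  · rw [Category.assoc, h1]
    exact compIso_hom_left_fst w X
  · rw [Category.assoc, h2]
    exact (congrArg (· ≫ g) (Over.w (compIso w X).hom)).trans (pullback.condition).symm

theorem isMonHom_compIso {S S' S'' : Scheme.{u}} {g : S'' ⟶ S'} {f : S' ⟶ S} {h : S'' ⟶ S} (w : g ≫ f = h)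
    (G : Over S) [GrpObj G] : IsMonHom (compIso w G).hom := by
  subst w
  have h1 : (compIso (rfl : g ≫ f = _) G).hom = (Over.pullbackComp g f).inv.app G := by simp [compIso]
  rw [h1]
  exact isMonHom_app₂ (F := Over.pullback f) (F' := Over.pullback g) (Over.pullbackComp g f).inv G

/-- A morphism of base changes, seen as a morphism to the original target. -/
noncomputable abbrev toY {S S' : Scheme.{u}} (f : S' ⟶ S) {X Y : Over S} (u : Red.bc f X ⟶ Red.bc f Y) :
    pullback X.hom f ⟶ Y.left := u.left ≫ pullback.fst Y.hom f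

theorem map_eq_iff {S S' S'' : Scheme.{u}} {g : S'' ⟶ S'} {f : S' ⟶ S} {h : S'' ⟶ S} (w : g ≫ f = h) {X Y : Over S}
    (m : pullback X.hom h ⟶ pullback X.hom f) (h1 : m ≫ pullback.fst X.hom f = pullback.fst X.hom h)
    (h2 : m ≫ pullback.snd X.hom f = pullback.snd X.hom h ≫ g) (v : Red.bc f X ⟶ Red.bc f Y)
    (u : Red.bc h X ⟶ Red.bc h Y) :
    (Over.pullback g).map v = (compIso w X).hom ≫ u ≫ (compIso w Y).inv ↔ m ≫ toY f v = toY h u := by
  rw [← Category.assoc, Iso.eq_comp_inv]
  have hl : ((Over.pullback g).map v ≫ (compIso w Y).hom).left ≫ pullback.fst Y.hom h =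
      (compIso w X).hom.left ≫ (m ≫ toY f v) := by
    rw [Over.comp_left, Category.assoc, compIso_hom_left_fst, ← Category.assoc, map_left_fst, Category.assoc,
      ← fst_eq w X m h1 h2, Category.assoc]
  constructor
  · intro e
    rw [e, Over.comp_left, Category.assoc] at hl
    exact ((cancel_epi _).1 hl).symm
  · intro e
    apply bc_hom_ext
    rw [hl, e, Over.comp_left, Category.assoc]

variable {I : Type u} [Category.{u} I] [IsCofiltered I] {D : I ⥤ Scheme.{u}} {c : Cone D}
  [∀ (i i' : I) (f : i ⟶ i'), IsAffineHom (D.map f)]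

/-- A morphism of base changes to the limit comes from a stage. -/
theorem exists_hom (hc : IsLimit c) {j : I} {X Y : Over (D.obj j)} [CompactSpace X.left]
    [QuasiSeparatedSpace X.left] [LocallyOfFinitePresentation Y.hom]
    (u : Red.bc (c.π.app j) X ⟶ Red.bc (c.π.app j) Y) :
    ∃ (i : I) (f : i ⟶ j) (ui : Red.bc (D.map f) X ⟶ Red.bc (D.map f) Y),
      (Over.pullback (c.π.app i)).map ui = (compIso (c.w f) X).hom ≫ u ≫ (compIso (c.w f) Y).inv := by
  let a : pullback X.hom (c.π.app j) ⟶ Y.left := u.left ≫ pullback.fst Y.hom (c.π.app j)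
  have ha : a ≫ Y.hom = pullback.fst X.hom (c.π.app j) ≫ X.hom := by
    rw [Category.assoc, pullback.condition, pullback.condition, ← Category.assoc]
    exact congrArg (· ≫ c.π.app j) (Over.w u)
  let t : pbDiagram D j X.hom ⟶ (Functor.const (Over j)).obj (D.obj j) :=
    pbFst D j X.hom ≫ (Functor.const (Over j)).map X.hom
  obtain ⟨k, g, hg, hgY⟩ := Scheme.exists_π_app_comp_eq_of_locallyOfFinitePresentation
    (pbDiagram D j X.hom) t Y.hom (pbCone D c j X.hom) (isLimitPbCone D j X.hom hc) a (by
      ext m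
      simp [t, ha])
  have hg2 : g ≫ Y.hom = pullback.snd X.hom (D.map k.hom) ≫ D.map k.hom := by
    rw [hgY, ← pullback.condition]
    rfl
  refine ⟨k.left, k.hom, Over.homMk (pullback.lift g (pullback.snd X.hom (D.map k.hom)) hg2)
    (pullback.lift_snd _ _ _), ?_⟩
  rw [← Category.assoc, Iso.eq_comp_inv]
  apply bc_hom_ext
  rw [Over.comp_left, Over.comp_left, Category.assoc, Category.assoc, compIso_hom_left_fst,
    ← Category.assoc, map_left_fst, Category.assoc]
  refine (congrArg (pullback.fst _ _ ≫ ·) (pullback.lift_fst _ _ _)).trans ?_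
  show _ = (compIso (c.w k.hom) X).hom.left ≫ a
  rw [← hg, ← Category.assoc]
  congr 1
  refine (fst_eq (c.w k.hom) X _ ?_ ?_).symm <;> simp

/-- Morphisms of base changes equal in the limit are equal at a stage. -/
theorem exists_map_eq (hc : IsLimit c) {j : I} {X Y : Over (D.obj j)} [CompactSpace X.left]
    [QuasiSeparatedSpace X.left] [LocallyOfFiniteType Y.hom] {i : I} {f : i ⟶ j}
    (u₁ u₂ : Red.bc (D.map f) X ⟶ Red.bc (D.map f) Y)
    (h : (Over.pullback (c.π.app i)).map u₁ = (Over.pullback (c.π.app i)).map u₂) :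
    ∃ (i' : I) (g : i' ⟶ i), (Over.pullback (D.map g)).map u₁ = (Over.pullback (D.map g)).map u₂ := by
  let a := fun v : Red.bc (D.map f) X ⟶ Red.bc (D.map f) Y => v.left ≫ pullback.fst Y.hom (D.map f)
  have ha : ∀ v, a v ≫ Y.hom = pullback.fst X.hom (D.map f) ≫ X.hom := fun v => by
    rw [Category.assoc, pullback.condition, pullback.condition, ← Category.assoc]
    exact congrArg (· ≫ D.map f) (Over.w v)
  let t : pbDiagram D j X.hom ⟶ (Functor.const (Over j)).obj (D.obj j) :=
    pbFst D j X.hom ≫ (Functor.const (Over j)).map X.hom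
  let k : Over j := Over.mk f
  have hfst := fst_eq (c.w f) X ((pbCone D c j X.hom).π.app k) (by simp [k]) (by simp [k])
  have hab : (pbCone D c j X.hom).π.app k ≫ a u₁ = (pbCone D c j X.hom).π.app k ≫ a u₂ := by
    have e := congrArg (fun v => Over.Hom.left v ≫ pullback.fst (Red.bc (D.map f) Y).hom (c.π.app i) ≫
      pullback.fst Y.hom (D.map f)) h
    simp only [← Category.assoc, map_left_fst] at e
    simp only [Category.assoc, ← hfst] at e
    exact (cancel_epi (compIso (c.w f) X).hom.left).1 e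
  obtain ⟨m, hm, heq⟩ := Scheme.exists_hom_comp_eq_comp_of_locallyOfFiniteType
    (pbDiagram D j X.hom) t Y.hom (pbCone D c j X.hom) (isLimitPbCone D j X.hom hc) (i := k) (a u₁) (a u₂)
    (by rw [ha]; simp [t, k]) (by rw [ha]; simp [t, k]) hab
  refine ⟨m.left, hm.left, bc_hom_ext _ ?_⟩
  rw [map_left_fst, map_left_fst]
  refine pullback.hom_ext ?_ (by rw [Category.assoc, Category.assoc]; exact congrArg _ ((Over.w u₁).trans (Over.w u₂).symm))
  rw [Category.assoc, Category.assoc]
  have hw : D.map hm.left ≫ D.map f = D.map m.hom := by rw [← D.map_comp]; exact congrArg D.map (Over.w hm)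
  have hfst' := fst_eq hw X ((pbDiagram D j X.hom).map hm) (by simp [k]) (by simp [k])
  rw [← hfst', Category.assoc, Category.assoc]
  exact congrArg _ heq

omit [IsCofiltered I] [∀ (i i' : I) (f : i ⟶ i'), IsAffineHom (D.map f)] in
/-- The compatibility with a morphism in the limit passes to later stages. -/
theorem compat_later {j : I} {X Y : Over (D.obj j)} {i i' : I} (f : i ⟶ j) (g : i' ⟶ i)
    (u : Red.bc (c.π.app j) X ⟶ Red.bc (c.π.app j) Y) (ui : Red.bc (D.map f) X ⟶ Red.bc (D.map f) Y)
    (h : (Over.pullback (c.π.app i)).map ui = (compIso (c.w f) X).hom ≫ u ≫ (compIso (c.w f) Y).inv) :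
    (Over.pullback (c.π.app i')).map ((compIso (D.map_comp g f).symm X).inv ≫ (Over.pullback (D.map g)).map ui ≫
        (compIso (D.map_comp g f).symm Y).hom) =
      (compIso (c.w (g ≫ f)) X).hom ≫ u ≫ (compIso (c.w (g ≫ f)) Y).inv := by
  let hm : Over.mk (g ≫ f) ⟶ Over.mk f := Over.homMk g
  rw [map_eq_iff (c.w f) ((pbCone D c j X.hom).π.app (Over.mk f)) (by simp) (by simp)] at h
  rw [map_eq_iff (c.w (g ≫ f)) ((pbCone D c j X.hom).π.app (Over.mk (g ≫ f))) (by simp) (by simp), ← h,
    ← (map_eq_iff (D.map_comp g f).symm ((pbDiagram D j X.hom).map hm) (by simp [hm]) (by simp [hm]) ui _).1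
      (by simp)]
  rw [← Category.assoc]
  exact congrArg (· ≫ toY (D.map f) ui) ((pbCone D c j X.hom).w hm)

end Groth.Agent.H7Lim.OverStage
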