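import Groth.Agent.H17.FPUH

/-!
# Systems of finitely presented algebras indexed by finite presentations
-/

set_option autoImplicit false
universe u

open CategoryTheory CategoryTheory.Limits MvPolynomial

namespace Groth.Agent.H7Lim.Pres

open Groth.Agent.H17 Groth.Agent.H17.FPUH

variable {A B C : Type u} [CommRing A] [CommRing B] [Algebra A B] [CommRing C] [Algebra A C]

/-- A hom of algebras induces a hom of stages. -/
structure Le (g : B →ₐ[A] C) (i : Idx₀ A B) (j : Idx₀ A C) : Prop where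
  mem : ∀ b : Gen i, g b.1 ∈ j.1.1
  le_ker : rel i ≤ RingHom.ker ((Ideal.Quotient.mkₐ A (rel j)).comp
    (rename fun b : Gen i ↦ (⟨g b.1, mem b⟩ : Gen j)))

/-- The hom of stages. -/
noncomputable def hom {g : B →ₐ[A] C} {i : Idx₀ A B} {j : Idx₀ A C} (h : Le g i j) :
    Stage i →ₐ[A] Stage j :=
  Ideal.Quotient.liftₐ (rel i) ((Ideal.Quotient.mkₐ A (rel j)).comp
    (rename fun b : Gen i ↦ (⟨g b.1, h.mem b⟩ : Gen j))) fun _ hx ↦ h.le_ker hx

theorem hom_X {g : B →ₐ[A] C} {i : Idx₀ A B} {j : Idx₀ A C} (h : Le g i j) (b : Gen i) :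
    hom h (Ideal.Quotient.mk (rel i) (X b)) = Ideal.Quotient.mk (rel j) (X ⟨g b.1, h.mem b⟩) := by
  show Ideal.Quotient.mk (rel j) (rename _ (X b)) = _
  rw [rename_X]

theorem trans_X {i j : Idx₀ A B} (h : i ≤ j) (b : Gen i) :
    FPUH.trans h (Ideal.Quotient.mk (rel i) (X b)) = Ideal.Quotient.mk (rel j) (X (incl h b)) := by
  rw [trans_mk, rename_X]

theorem algHom_ext_stage {D : Type u} [CommRing D] [Algebra A D] {i : Idx₀ A B}
    {f g : Stage i →ₐ[A] D}
    (h : ∀ b : Gen i, f (Ideal.Quotient.mk (rel i) (X b)) = g (Ideal.Quotient.mk (rel i) (X b))) :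
    f = g :=
  Ideal.Quotient.algHom_ext A (MvPolynomial.algHom_ext fun b ↦ h b)

theorem toB_X (i : Idx₀ A B) (b : Gen i) : toB i (Ideal.Quotient.mk (rel i) (X b)) = b.1 := by
  rw [toB_mk]
  show π A B (rename Subtype.val (X b)) = b.1
  rw [rename_X]
  exact aeval_X id b.1

theorem toB_hom {g : B →ₐ[A] C} {i : Idx₀ A B} {j : Idx₀ A C} (h : Le g i j) (x : Stage i) :
    toB j (hom h x) = g (toB i x) := by
  refine congr($(algHom_ext_stage (f := (toB j).comp (hom h)) (g := g.comp (toB i)) fun b ↦ ?_) x)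
  simp only [AlgHom.comp_apply, hom_X, toB_X]

theorem hom_trans {g : B →ₐ[A] C} {i i' : Idx₀ A B} {j j' : Idx₀ A C} (hi : i ≤ i') (hj : j ≤ j')
    (h : Le g i j) (h' : Le g i' j') (x : Stage i) :
    hom h' (FPUH.trans hi x) = FPUH.trans hj (hom h x) := by
  refine congr($(algHom_ext_stage (f := (hom h').comp (FPUH.trans hi)) (g := (FPUH.trans hj).comp (hom h))
    fun b ↦ ?_) x)
  simp only [AlgHom.comp_apply, trans_X, hom_X, incl]

/-- The relation of being related by `g` is kept when the target grows. -/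
theorem Le.mono {g : B →ₐ[A] C} {i : Idx₀ A B} {j j' : Idx₀ A C} (hj : j ≤ j') (h : Le g i j) :
    Le g i j' where
  mem b := hj.1 (h.mem b)
  le_ker x hx := by
    have h0 := h.le_ker hx
    rw [RingHom.mem_ker, AlgHom.comp_apply, Ideal.Quotient.mkₐ_eq_mk] at h0 ⊢
    have e := congrArg (FPUH.trans hj) h0
    rw [map_zero, trans_mk, rename_rename] at e
    exact e

/-- Enlarging generators and relations. -/
theorem exists_ge [DecidableEq B] (i : Idx₀ A B) (E : Finset B) :
    ∀ (R : Finset (MvPolynomial {b : B // b ∈ i.1.1 ∪ E} A)),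
      (∀ r ∈ R, π A B (rename Subtype.val r) = 0) →
      ∃ i' : Idx₀ A B, i ≤ i' ∧ ∃ h : i'.1.1 = i.1.1 ∪ E,
        ∀ r ∈ R, rename (fun b ↦ (⟨b.1, h.symm.subset b.2⟩ : Gen i')) r ∈ rel i' := by
  classical
  intro R hR
  let i' : Idx₀ A B := ⟨(i.1.1 ∪ E, i.1.2 ∪ R.image (rename Subtype.val)), fun g hg ↦ by
    rcases Finset.mem_union.mp hg with hg | hg
    · exact ⟨range_mono Finset.subset_union_left (i.2 g hg).1, (i.2 g hg).2⟩
    · obtain ⟨r, hr, rfl⟩ := Finset.mem_image.mp hg
      exact ⟨⟨r, rfl⟩, hR r hr⟩⟩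
  refine ⟨i', ⟨Finset.subset_union_left, Finset.subset_union_left⟩, rfl, fun r hr ↦ ?_⟩
  refine Ideal.subset_span ⟨rename Subtype.val r,
    Finset.mem_union_right _ (Finset.mem_image_of_mem _ hr), ?_⟩
  show killCompl _ (rename Subtype.val r) = _
  rw [show (rename fun b : {b : B // b ∈ i.1.1 ∪ E} ↦ (⟨b.1, b.2⟩ : Gen i')) r = r from rename_id_apply r]
  exact killCompl_rename_app _ r

/-- Union of two presentations. -/
theorem exists_sup (i j : Idx₀ A B) : ∃ k, i ≤ k ∧ j ≤ k := by
  classical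
  refine ⟨⟨(i.1.1 ∪ j.1.1, i.1.2 ∪ j.1.2), fun g hg ↦ ?_⟩,
    ⟨Finset.subset_union_left, Finset.subset_union_left⟩,
    ⟨Finset.subset_union_right, Finset.subset_union_right⟩⟩
  rcases Finset.mem_union.mp hg with hg | hg
  · exact ⟨range_mono Finset.subset_union_left (i.2 g hg).1, (i.2 g hg).2⟩
  · exact ⟨range_mono Finset.subset_union_right (j.2 g hg).1, (j.2 g hg).2⟩

/-- Killing an element which is zero in the limit, with the same generators. -/
theorem exists_trans_eq_zero (i : Idx₀ A B) (K : Finset (Stage i)) (hK : ∀ x ∈ K, toB i x = 0) :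
    ∃ (i' : Idx₀ A B) (h : i ≤ i'), i'.1.1 = i.1.1 ∧ (∀ x ∈ K, FPUH.trans h x = 0) ∧
      ∀ (D : Type u) [CommRing D] [Algebra A D] (φ : Stage i →ₐ[A] D), (∀ x ∈ K, φ x = 0) →
        ∃ φ' : Stage i' →ₐ[A] D, φ'.comp (FPUH.trans h) = φ := by
  classical
  choose p hp using fun x : Stage i ↦ Ideal.Quotient.mk_surjective x
  let i' : Idx₀ A B := ⟨(i.1.1, i.1.2 ∪ K.image fun x ↦ rename Subtype.val (p x)), fun g hg ↦ by
    rcases Finset.mem_union.mp hg with hg | hg
    · exact i.2 g hg
    · obtain ⟨x, hx, rfl⟩ := Finset.mem_image.mp hg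
      refine ⟨⟨p x, rfl⟩, ?_⟩
      have := hK x hx
      rw [← hp x, toB_mk] at this
      exact this⟩
  have hi' : i ≤ i' := ⟨le_refl i.1.1, Finset.subset_union_left⟩
  refine ⟨i', hi', rfl, fun x hx ↦ ?_, fun D _ _ φ hφ ↦ ?_⟩
  · rw [← hp x, trans_mk, Ideal.Quotient.eq_zero_iff_mem]
    refine Ideal.subset_span ⟨_, Finset.mem_union_right _ (Finset.mem_image_of_mem _ hx), ?_⟩
    show killCompl _ (rename Subtype.val (p x)) = _
    rw [show incl hi' = (id : Gen i → Gen i) from rfl, rename_id_apply]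
    exact killCompl_rename_app _ _
  · have hle : rel i' ≤ RingHom.ker (φ.comp (Ideal.Quotient.mkₐ A (rel i))) := by
      refine Ideal.span_le.mpr ?_
      rintro _ ⟨g, hg, rfl⟩
      show φ (Ideal.Quotient.mk (rel i) (restr i g)) = 0
      rcases Finset.mem_union.mp hg with hg | hg
      · rw [(Ideal.Quotient.eq_zero_iff_mem (I := rel i)).mpr (Ideal.subset_span ⟨g, hg, rfl⟩), map_zero]
      · obtain ⟨x, hx, rfl⟩ := Finset.mem_image.mp hg
        rw [show restr i (rename Subtype.val (p x)) = p x from killCompl_rename_app _ _, hp x]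
        exact hφ x hx
    refine ⟨Ideal.Quotient.liftₐ (rel i') (φ.comp (Ideal.Quotient.mkₐ A (rel i))) (fun _ h ↦ hle h),
      algHom_ext_stage fun b ↦ ?_⟩
    rw [AlgHom.comp_apply, trans_X]
    rfl

/-- Kill the images of the relations so that `g` relates the stages. -/
theorem exists_le (g : B →ₐ[A] C) (i : Idx₀ A B) (j : Idx₀ A C) :
    ∃ j', j ≤ j' ∧ Le g i j' ∧ ∀ c : Gen j', c.1 ∈ j.1.1 ∨ ∃ b : Gen i, g b.1 = c.1 := by
  classical
  let F : Finset C := i.1.1.image g
  let f : Gen i → {c : C // c ∈ j.1.1 ∪ F} := fun b ↦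
    ⟨g b.1, Finset.mem_union_right _ (Finset.mem_image_of_mem _ b.2)⟩
  obtain ⟨j', hj', he, hR⟩ := exists_ge j F
    (i.1.2.image fun s ↦ rename f (restr i s)) fun r hr ↦ by
      obtain ⟨s, hs, rfl⟩ := Finset.mem_image.mp hr
      rw [rename_rename]
      have e : (π A C).comp (rename (Subtype.val ∘ f)) = g.comp (val' i) := by
        refine MvPolynomial.algHom_ext fun b ↦ ?_
        simp [π, f, val']
      refine (congr($e (restr i s))).trans ?_
      rw [AlgHom.comp_apply, val'_restr i hs, map_zero]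
  refine ⟨j', hj', ⟨fun b ↦ he.symm.subset (f b).2, Ideal.span_le.mpr ?_⟩, fun c ↦ ?_⟩
  swap
  · rcases Finset.mem_union.mp (he.subset c.2) with h | h
    · exact Or.inl h
    · obtain ⟨b, hb, e⟩ := Finset.mem_image.mp h
      exact Or.inr ⟨⟨b, hb⟩, e⟩
  rintro _ ⟨s, hs, rfl⟩
  have := hR _ (Finset.mem_image_of_mem _ hs)
  rw [rename_rename] at this
  exact Ideal.Quotient.eq_zero_iff_mem.mpr this

/-- A stage generated by elements satisfying a property closed under operations. -/
theorem surjective_algebraMap_stage (i : Idx₀ A B)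
    (h : ∀ b : Gen i, ∃ a, algebraMap A (Stage i) a = Ideal.Quotient.mk (rel i) (X b)) :
    Function.Surjective (algebraMap A (Stage i)) := by
  intro x
  obtain ⟨x, rfl⟩ := Ideal.Quotient.mk_surjective x
  induction x using MvPolynomial.induction_on with
  | C a => exact ⟨a, rfl⟩
  | add x y hx hy =>
    obtain ⟨a, ha⟩ := hx
    obtain ⟨b, hb⟩ := hy
    exact ⟨a + b, by rw [map_add, map_add, ha, hb]⟩
  | mul_X x e hx =>
    obtain ⟨a, ha⟩ := hx
    obtain ⟨b, hb⟩ := h e
    exact ⟨a * b, by rw [map_mul, map_mul, ha, hb]⟩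

/-- A hom of stages hitting all variables is surjective. -/
theorem surjective_hom {g : B →ₐ[A] C} {i : Idx₀ A B} {j : Idx₀ A C} (h : Le g i j)
    (hs : ∀ c : Gen j, ∃ b : Gen i, g b.1 = c.1) : Function.Surjective (hom h) := by
  intro x
  obtain ⟨x, rfl⟩ := Ideal.Quotient.mk_surjective x
  induction x using MvPolynomial.induction_on with
  | C a => exact ⟨algebraMap A _ a, (hom h).commutes a⟩
  | add x y hx hy =>
    obtain ⟨a, ha⟩ := hx
    obtain ⟨b, hb⟩ := hy
    exact ⟨a + b, by rw [map_add, map_add, ha, hb]⟩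
  | mul_X x e hx =>
    obtain ⟨a, ha⟩ := hx
    obtain ⟨b, hb⟩ := hs e
    refine ⟨a * Ideal.Quotient.mk (rel i) (X b), ?_⟩
    rw [map_mul, map_mul, ha, hom_X]
    congr 2
    exact congrArg X (Subtype.ext hb)

section system

variable {ι : Type u} [Preorder ι] (p : ι → Idx₀ A B) (hp : Monotone p)

/-- The system of stages along an index. -/
noncomputable def system : ι ⥤ Under (CommRingCat.of A) where
  obj i := Under.mk (CommRingCat.ofHom (algebraMap A (Stage (p i))))
  map {i j} h := Under.homMk (CommRingCat.ofHom (FPUH.trans (hp h.le)).toRingHom) (by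
    ext a; exact (FPUH.trans (hp h.le)).commutes a)
  map_id i := by ext x; exact trans_refl (p i) x
  map_comp {i j k} h h' := by ext x; exact (trans_trans (hp h.le) (hp h'.le) x).symm

/-- The maps to the algebra. -/
noncomputable def cocone : system p hp ⟶
    (Functor.const ι).obj (Under.mk (CommRingCat.ofHom (algebraMap A B))) where
  app i := Under.homMk (CommRingCat.ofHom (toB (p i)).toRingHom) (by
    ext a; exact (toB (p i)).commutes a)
  naturality i j h := by ext x; exact toB_trans (hp h.le) x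

/-- Cofinal systems of stages have the algebra as colimit. -/
theorem isColimit [IsDirectedOrder ι] [Nonempty ι] (hcof : ∀ i, ∃ k, i ≤ p k) :
    Nonempty (IsColimit (Cocone.mk _ (cocone p hp))) := by
  classical
  have hf : IsFiltered ι := inferInstance
  have : IsConnected ι := IsFiltered.isConnected _
  have : ReflectsColimitsOfShape ι (forget CommRingCat.{u}) :=
    reflectsColimitsOfShape_of_reflectsIsomorphisms
  refine ⟨isColimitOfReflects (Under.forget _) (isColimitOfReflects (forget CommRingCat) ?_)⟩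
  refine Types.FilteredColimit.isColimitOf' _ _ ?_ ?_
  · intro (b : B)
    obtain ⟨k, hk⟩ := hcof ⟨({b}, ∅), by simp⟩
    refine ⟨k, (Ideal.Quotient.mk (rel (p k)) (X ⟨b, hk.1 (Finset.mem_singleton_self b)⟩) :
      Stage (p k)), ?_⟩
    exact (toB_X (p k) ⟨b, hk.1 (Finset.mem_singleton_self b)⟩).symm
  · intro i (x : Stage (p i)) (y : Stage (p i)) (hxy : toB (p i) x = toB (p i) y)
    obtain ⟨q, hq, -, h0, -⟩ := exists_trans_eq_zero (p i) {x - y} (by simp [hxy])
    obtain ⟨k, hk⟩ := hcof q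
    obtain ⟨l, hil, hkl⟩ := exists_ge_ge i k
    refine ⟨l, homOfLE hil, ?_⟩
    show FPUH.trans (hp hil) x = FPUH.trans (hp hil) y
    rw [← sub_eq_zero, ← map_sub,
      ← trans_trans hq (hk.trans (hp hkl)), h0 _ (Finset.mem_singleton_self _), map_zero]

variable (q : ι → Idx₀ A C) (hq : Monotone q) (g : B →ₐ[A] C) (hg : ∀ i, Le g (p i) (q i))

/-- The hom of systems. -/
noncomputable def natHom : system p hp ⟶ system q hq where
  app i := Under.homMk (CommRingCat.ofHom (hom (hg i)).toRingHom) (by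
    ext a; exact (hom (hg i)).commutes a)
  naturality i j h := by ext x; exact hom_trans (hp h.le) (hq h.le) (hg i) (hg j) x

theorem natHom_cocone (i : ι) : ((natHom p hp q hq g hg).app i).right ≫ ((cocone q hq).app i).right =
    ((cocone p hp).app i).right ≫ CommRingCat.ofHom g.toRingHom := by
  ext x
  exact toB_hom (hg i) x

end system

end Groth.Agent.H7Lim.Pres
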