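import Mathlib
import Groth.Agent.H17.FPExt.Compact

/-!
# A property of schemes over `T` descending along thickenings, limits and decompositions holds at a point
-/

set_option autoImplicit false
set_option linter.style.haveILetI false
set_option backward.isDefEq.respectTransparency false

noncomputable section

universe u

open CategoryTheory Limits AlgebraicGeometry TopologicalSpace Opposite

namespace Groth.Agent.H7Lim.PropertyDescending

variable {R : Type u} [CommRing R]

/-- The localisation of a quotient attached to an ideal and a submonoid. -/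
abbrev Piece (p : Ideal R × Submonoid R) : Type u :=
  Localization p.2 ⧸ p.1.map (algebraMap R (Localization p.2))

theorem piece_zero (p : Ideal R × Submonoid R) {x : R} (hx : x ∈ p.1) : algebraMap R (Piece p) x = 0 := by
  rw [IsScalarTower.algebraMap_apply R (Localization p.2) (Piece p), Ideal.Quotient.algebraMap_eq,
    Ideal.Quotient.eq_zero_iff_mem]
  exact Ideal.mem_map_of_mem _ hx

theorem piece_unit (p : Ideal R × Submonoid R) {s : R} (hs : s ∈ p.2) : IsUnit (algebraMap R (Piece p) s) := by
  rw [IsScalarTower.algebraMap_apply R (Localization p.2) (Piece p)]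
  exact (IsLocalization.map_units (Localization p.2) ⟨s, hs⟩).map _

theorem exists_piece_lift (p : Ideal R × Submonoid R) {C : Type u} [CommRing C] [Algebra R C]
    (h0 : ∀ x ∈ p.1, algebraMap R C x = 0) (h1 : ∀ s ∈ p.2, IsUnit (algebraMap R C s)) :
    Nonempty (Piece p →ₐ[R] C) := by
  let g : Localization p.2 →ₐ[R] C := IsLocalization.liftAlgHom (f := Algebra.ofId R C) fun s => h1 s.1 s.2
  refine ⟨Ideal.Quotient.liftₐ _ g fun x hx => ?_⟩
  have hle : p.1.map (algebraMap R (Localization p.2)) ≤ RingHom.ker g.toRingHom := by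
    rw [Ideal.map_le_iff_le_comap]
    intro y hy
    show g (algebraMap R _ y) = 0
    rw [g.commutes]
    exact h0 y hy
  exact hle hx

theorem piece_hom_eq (p : Ideal R × Submonoid R) {C : Type u} [CommRing C] [Algebra R C]
    (f g : Piece p →ₐ[R] C) : f = g := by
  have h : f.comp (Ideal.Quotient.mkₐ R _) = g.comp (Ideal.Quotient.mkₐ R _) :=
    IsLocalization.algHom_ext p.2 (Subsingleton.elim _ _)
  exact Ideal.Quotient.algHom_ext R h

theorem piece_nontrivial_iff (p : Ideal R × Submonoid R) :
    Nontrivial (Piece p) ↔ Disjoint (p.2 : Set R) (p.1 : Set R) := by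
  rw [Ideal.Quotient.nontrivial_iff, ne_eq, ← ne_eq, IsLocalization.map_algebraMap_ne_top_iff_disjoint p.2 (Localization p.2)]

theorem exists_fraction (p : Ideal R × Submonoid R) (b : Piece p) :
    ∃ r, ∃ s ∈ p.2, b * algebraMap R (Piece p) s = algebraMap R (Piece p) r := by
  obtain ⟨x, rfl⟩ := Ideal.Quotient.mk_surjective b
  obtain ⟨⟨r, s⟩, h⟩ := IsLocalization.surj p.2 x
  exact ⟨r, s.1, s.2, congrArg (Ideal.Quotient.mk _) h⟩

/-- The transition maps. -/
def pieceMap {p q : Ideal R × Submonoid R} (h : p ≤ q) : Piece p →ₐ[R] Piece q :=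
  (exists_piece_lift p (fun _ hx => piece_zero q (h.1 hx)) fun _ hs => piece_unit q (h.2 hs)).some

variable {T : Scheme.{u}}

/-- The invariance under isomorphisms. -/
theorem of_isIso (P : ∀ ⦃T' : Scheme.{u}⦄, (T' ⟶ T) → Prop)
    (h1 : ∀ ⦃T' T'' : Scheme.{u}⦄ (a : T' ⟶ T) (t : T'' ⟶ T') [IsClosedImmersion t] [Surjective t]
      [CompactSpace T'] [QuasiSeparatedSpace T'] [CompactSpace T''] [QuasiSeparatedSpace T''], P (t ≫ a) ↔ P a)
    {T' T'' : Scheme.{u}} (a : T' ⟶ T) (t : T'' ⟶ T') [IsIso t]
    [CompactSpace T'] [QuasiSeparatedSpace T'] : P (t ≫ a) ↔ P a :=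
  haveI : CompactSpace T'' := QuasiCompact.compactSpace_of_compactSpace t
  haveI : QuasiSeparatedSpace T'' := quasiSeparatedSpace_of_quasiSeparated t
  h1 a t

/-- The map to `T` defined by a piece of an affine `T`-scheme. -/
def pieceHom (a : Spec (CommRingCat.of R) ⟶ T) {B : Type u} [CommRing B] [Algebra R B] :
    Spec (CommRingCat.of B) ⟶ T :=
  Spec.map (CommRingCat.ofHom (algebraMap R B)) ≫ a

theorem pieceHom_congr (P : ∀ ⦃T' : Scheme.{u}⦄, (T' ⟶ T) → Prop)
    (h1 : ∀ ⦃T' T'' : Scheme.{u}⦄ (a : T' ⟶ T) (t : T'' ⟶ T') [IsClosedImmersion t] [Surjective t]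
      [CompactSpace T'] [QuasiSeparatedSpace T'] [CompactSpace T''] [QuasiSeparatedSpace T''], P (t ≫ a) ↔ P a)
    (a : Spec (CommRingCat.of R) ⟶ T) {B C : Type u} [CommRing B] [CommRing C] [Algebra R B] [Algebra R C]
    (e : B ≃ₐ[R] C) : P (pieceHom a (B := B)) ↔ P (pieceHom a (B := C)) := by
  have : pieceHom a (B := C) = Spec.map e.toRingEquiv.toCommRingCatIso.hom ≫ pieceHom a (B := B) := by
    rw [pieceHom, pieceHom, ← Category.assoc, ← Spec.map_comp]
    congr 2
    exact CommRingCat.hom_ext (RingHom.ext fun r => (e.commutes r).symm)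
  rw [this, of_isIso P h1]

variable (P : ∀ ⦃T' : Scheme.{u}⦄, (T' ⟶ T) → Prop)
  (h1 : ∀ ⦃T' T'' : Scheme.{u}⦄ (a : T' ⟶ T) (t : T'' ⟶ T') [IsClosedImmersion t] [Surjective t]
    [CompactSpace T'] [QuasiSeparatedSpace T'] [CompactSpace T''] [QuasiSeparatedSpace T''], P (t ≫ a) ↔ P a)
  (h2 : ∀ ⦃I : Type u⦄ [SmallCategory I] [IsCofiltered I] (D : I ⥤ Over T) (c : Limits.Cone D) (_ : Limits.IsLimit c),
    (∀ (i j : I) (m : i ⟶ j), IsAffineHom (D.map m).left) →
    (∀ i, CompactSpace (D.obj i).left ∧ QuasiSeparatedSpace (D.obj i).left) →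
    (∀ i, P (D.obj i).hom) → P c.pt.hom)
  (h3 : ∀ ⦃T' Z V : Scheme.{u}⦄ (a : T' ⟶ T) [CompactSpace T'] [QuasiSeparatedSpace T'] (i : Z ⟶ T') [IsClosedImmersion i]
    (j : V ⟶ T') [IsOpenImmersion j] [CompactSpace V], Set.range j = (Set.range i)ᶜ → P a → P (j ≫ a) ∨ P (i ≫ a))

/-- The admissible pieces. -/
def Good (a : Spec (CommRingCat.of R) ⟶ T) (p : Ideal R × Submonoid R) : Prop :=
  Nontrivial (Piece p) ∧ P (pieceHom a (B := Piece p))

include h2 in
theorem good_union (a : Spec (CommRingCat.of R) ⟶ T) (ch : Set (Ideal R × Submonoid R))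
    (hch : IsChain (· ≤ ·) ch) (hne : ch.Nonempty) (hgood : ∀ p ∈ ch, Good P a p) :
    ∃ q, Good P a q ∧ ∀ p ∈ ch, p ≤ q := by
  haveI : Nonempty ↥ch := hne.to_subtype
  haveI : IsDirectedOrder ↥ch := ⟨fun p q => by
    rcases hch.total p.2 q.2 with h | h
    · exact ⟨q, h, le_rfl⟩
    · exact ⟨p, le_rfl, h⟩⟩
  let F : ↥ch ⥤ CommRingCat.{u} :=
    { obj := fun p => CommRingCat.of (Piece p.1)
      map := fun {p q} h => CommRingCat.ofHom (pieceMap (p := p.1) (q := q.1) (leOfHom h)).toRingHom
      map_id := fun p => CommRingCat.hom_ext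
        (congrArg AlgHom.toRingHom (piece_hom_eq _ (pieceMap (le_refl p.1)) (AlgHom.id R _)))
      map_comp := fun {p q r} h h' => CommRingCat.hom_ext
        (congrArg AlgHom.toRingHom (piece_hom_eq _ (pieceMap (leOfHom (h ≫ h')))
          ((pieceMap (leOfHom h')).comp (pieceMap (leOfHom h))))) }
  let q : Ideal R × Submonoid R := (⨆ p : ↥ch, p.1.1, ⨆ p : ↥ch, p.1.2)
  have hle : ∀ p : ↥ch, p.1 ≤ q := fun p =>
    ⟨le_iSup (fun p : ↥ch => p.1.1) p, le_iSup (fun p : ↥ch => p.1.2) p⟩
  have hd1 : Directed (· ≤ ·) fun p : ↥ch => p.1.1 := fun p p' =>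
    let ⟨r, hr, hr'⟩ := directed_of (· ≤ ·) p p'
    ⟨r, hr.1, hr'.1⟩
  have hd2 : Directed (· ≤ ·) fun p : ↥ch => p.1.2 := fun p p' =>
    let ⟨r, hr, hr'⟩ := directed_of (· ≤ ·) p p'
    ⟨r, hr.2, hr'.2⟩
  let cc : Cocone F :=
    { pt := CommRingCat.of (Piece q)
      ι := { app := fun p => CommRingCat.ofHom (pieceMap (hle p)).toRingHom
             naturality := fun p p' h => CommRingCat.hom_ext (congrArg AlgHom.toRingHom
               (piece_hom_eq _ ((pieceMap (hle p')).comp (pieceMap (leOfHom h))) (pieceMap (hle p)))) } }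
  let p₀ : ↥ch := Classical.arbitrary _
  have hcc : IsColimit cc := by
    refine Classical.choice ⟨?_⟩
    have key : ∀ s : Cocone F, ∀ p : ↥ch,
        (s.ι.app p).hom.comp (algebraMap R (Piece p.1)) = (s.ι.app p₀).hom.comp (algebraMap R (Piece p₀.1)) := by
      intro s p
      obtain ⟨r, hr, hr'⟩ := directed_of (· ≤ ·) p p₀
      rw [← s.w (homOfLE hr), ← s.w (homOfLE hr')]
      refine RingHom.ext fun x => ?_
      show (s.ι.app r).hom (pieceMap hr (algebraMap R _ x)) = (s.ι.app r).hom (pieceMap hr' (algebraMap R _ x))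
      rw [(pieceMap hr).commutes, (pieceMap hr').commutes]
    have lift : ∀ s : Cocone F, ∃ m : cc.pt ⟶ s.pt, m.hom.comp (algebraMap R (Piece q)) =
        (s.ι.app p₀).hom.comp (algebraMap R (Piece p₀.1)) := by
      intro s
      letI : Algebra R s.pt := ((s.ι.app p₀).hom.comp (algebraMap R (Piece p₀.1))).toAlgebra
      obtain ⟨m⟩ := exists_piece_lift q (C := (s.pt : Type u)) (fun x hx => by
          obtain ⟨p, hp⟩ := (Submodule.mem_iSup_of_directed _ hd1).1 hx
          show ((s.ι.app p₀).hom.comp (algebraMap R (Piece p₀.1))) x = 0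
          rw [← key s p]
          show (s.ι.app p).hom (algebraMap R (Piece p.1) x) = 0
          rw [piece_zero p.1 hp, map_zero])
        fun x hx => by
          obtain ⟨p, hp⟩ := (Submonoid.mem_iSup_of_directed hd2).1 hx
          show IsUnit (((s.ι.app p₀).hom.comp (algebraMap R (Piece p₀.1))) x)
          rw [← key s p]
          exact (piece_unit p.1 hp).map (s.ι.app p).hom
      exact ⟨CommRingCat.ofHom m.toRingHom, RingHom.ext m.commutes⟩
    choose m hm using lift
    refine { desc := m, fac := fun s p => ?_, uniq := fun s n hn => ?_ }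
    · letI : Algebra R s.pt := ((s.ι.app p₀).hom.comp (algebraMap R (Piece p₀.1))).toAlgebra
      let f : Piece p.1 →ₐ[R] (s.pt : Type u) :=
        ⟨(cc.ι.app p ≫ m s).hom, fun r => by
          show (m s).hom (pieceMap (hle p) (algebraMap R _ r)) = _
          rw [(pieceMap (hle p)).commutes]
          exact congr($(hm s) r)⟩
      let g : Piece p.1 →ₐ[R] (s.pt : Type u) := ⟨(s.ι.app p).hom, fun r => congr($(key s p) r)⟩
      exact CommRingCat.hom_ext (congrArg AlgHom.toRingHom (piece_hom_eq _ f g))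
    · letI : Algebra R s.pt := ((s.ι.app p₀).hom.comp (algebraMap R (Piece p₀.1))).toAlgebra
      let f : Piece q →ₐ[R] (s.pt : Type u) := ⟨n.hom, fun r => by
        have h := congr(($(hn p₀)).hom (algebraMap R _ r))
        refine Eq.trans ?_ h
        show n.hom _ = n.hom (pieceMap (hle p₀) _)
        rw [(pieceMap (hle p₀)).commutes]⟩
      let g : Piece q →ₐ[R] (s.pt : Type u) := ⟨(m s).hom, fun r => congr($(hm s) r)⟩
      exact CommRingCat.hom_ext (congrArg AlgHom.toRingHom (piece_hom_eq _ f g))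
  refine ⟨q, ⟨?_, ?_⟩, fun p hp => hle ⟨p, hp⟩⟩
  · rw [piece_nontrivial_iff, Set.disjoint_left]
    intro x hxS hxI
    obtain ⟨p, hp⟩ := (Submodule.mem_iSup_of_directed _ hd1).1 hxI
    obtain ⟨p', hp'⟩ := (Submonoid.mem_iSup_of_directed hd2).1 hxS
    obtain ⟨r, hr, hr'⟩ := directed_of (· ≤ ·) p p'
    exact Set.disjoint_left.1 ((piece_nontrivial_iff r.1).1 (hgood r.1 r.2).1) (hr'.2 hp') (hr.1 hp)
  · have hlim : IsLimit (Scheme.Spec.mapCone cc.op) := isLimitOfPreserves Scheme.Spec hcc.op
    let D : (↥ch)ᵒᵖ ⥤ Over T :=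
      { obj := fun p => Over.mk (pieceHom a (B := Piece p.unop.1))
        map := fun {p p'} h => Over.homMk (Spec.map (F.map h.unop)) (by
          show Spec.map _ ≫ Spec.map _ ≫ a = Spec.map _ ≫ a
          rw [← Category.assoc, ← Spec.map_comp]
          congr 2
          exact CommRingCat.hom_ext (RingHom.ext (pieceMap (leOfHom h.unop)).commutes))
        map_id := fun p => Over.OverMorphism.ext (by
          show Spec.map (F.map (𝟙 p.unop)) = 𝟙 _
          rw [F.map_id]; exact Spec.map_id _)
        map_comp := fun h h' => Over.OverMorphism.ext (by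
          show Spec.map (F.map (h'.unop ≫ h.unop)) = Spec.map _ ≫ Spec.map _
          rw [F.map_comp, Spec.map_comp]) }
    let c : Cone D :=
      { pt := Over.mk (pieceHom a (B := Piece q))
        π :=
          { app := fun p => Over.homMk (Spec.map (cc.ι.app p.unop)) (by
              show Spec.map _ ≫ Spec.map _ ≫ a = Spec.map _ ≫ a
              rw [← Category.assoc, ← Spec.map_comp]
              congr 2
              exact CommRingCat.hom_ext (RingHom.ext (pieceMap (hle p.unop)).commutes))
            naturality := fun p p' h => Over.OverMorphism.ext (by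
              show 𝟙 _ ≫ Spec.map _ = Spec.map _ ≫ Spec.map _
              rw [Category.id_comp, ← Spec.map_comp]
              exact congrArg Spec.map (cc.w h.unop).symm) } }
    let fc : ∀ s : Cone D, Cone (F.op ⋙ Scheme.Spec) := fun s =>
      { pt := s.pt.left
        π :=
          { app := fun p => (s.π.app p).left
            naturality := fun p p' h => (Category.id_comp _).trans (congrArg CommaMorphism.left (s.w h)).symm } }
    have hc : IsLimit c :=
      { lift := fun s => Over.homMk (hlim.lift (fc s)) (by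
          show hlim.lift (fc s) ≫ pieceHom a = s.pt.hom
          refine (congrArg (hlim.lift (fc s) ≫ ·) (Over.w (c.π.app (op p₀))).symm).trans ?_
          refine (Category.assoc _ _ _).symm.trans ?_
          refine (congrArg (· ≫ _) (hlim.fac (fc s) (op p₀))).trans ?_
          exact Over.w (s.π.app (op p₀)))
        fac := fun s p => Over.OverMorphism.ext (hlim.fac (fc s) p)
        uniq := fun s m hm => Over.OverMorphism.ext
          (hlim.uniq (fc s) m.left fun p => congrArg CommaMorphism.left (hm p)) }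
    exact h2 D c hc
      (fun p p' h => inferInstanceAs (IsAffineHom (Spec.map (F.map h.unop))))
      (fun p => ⟨inferInstanceAs (CompactSpace (Spec (CommRingCat.of (Piece p.unop.1)))),
        inferInstanceAs (QuasiSeparatedSpace (Spec (CommRingCat.of (Piece p.unop.1))))⟩)
      fun p => (hgood p.unop.1 p.unop.2).2

include h1 h3 in
theorem split (a : Spec (CommRingCat.of R) ⟶ T) {B : Type u} [CommRing B] [Algebra R B] [Nontrivial B]
    (hB : P (pieceHom a (B := B))) (b : B) (hu : ¬ IsUnit b) :
    (Nontrivial (B ⧸ Ideal.span {b}) ∧ P (pieceHom a (B := B ⧸ Ideal.span {b}))) ∨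
      (Nontrivial (Localization.Away b) ∧ P (pieceHom a (B := Localization.Away b))) := by
  have hnt : Nontrivial (B ⧸ Ideal.span {b}) :=
    Ideal.Quotient.nontrivial_iff.2 fun h => hu (Ideal.span_singleton_eq_top.1 h)
  let i := Spec.map (CommRingCat.ofHom (Ideal.Quotient.mk (Ideal.span {b})))
  haveI : IsClosedImmersion i := IsClosedImmersion.spec_of_surjective _ Ideal.Quotient.mk_surjective
  have hi : pieceHom a (B := B ⧸ Ideal.span {b}) = i ≫ pieceHom a (B := B) := by
    rw [pieceHom, pieceHom, ← Category.assoc, ← Spec.map_comp]; rfl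
  have hri : Set.range i = PrimeSpectrum.zeroLocus (Ideal.span {b} : Set B) := by
    conv_rhs => rw [← Ideal.mk_ker (I := Ideal.span {b})]
    exact range_comap_of_surjective _ _ Ideal.Quotient.mk_surjective
  by_cases hn : IsNilpotent b
  · haveI : Surjective i := ⟨fun x => by
      have hx : x ∈ PrimeSpectrum.zeroLocus (Ideal.span {b} : Set B) := fun y hy => by
        obtain ⟨c, rfl⟩ := Ideal.mem_span_singleton'.1 hy
        obtain ⟨k, hk⟩ := hn
        exact Ideal.mul_mem_left _ c (x.isPrime.mem_of_pow_mem k (by rw [hk]; exact zero_mem _))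
      rwa [← hri] at hx⟩
    exact Or.inl ⟨hnt, by rw [hi, h1]; exact hB⟩
  let j := Spec.map (CommRingCat.ofHom (algebraMap B (Localization.Away b)))
  haveI : IsOpenImmersion j := IsOpenImmersion.of_isLocalization b
  have hj : pieceHom a (B := Localization.Away b) = j ≫ pieceHom a (B := B) := by
    rw [pieceHom, pieceHom, ← Category.assoc, ← Spec.map_comp]
    congr 2
  have hrange : Set.range j = (Set.range i)ᶜ := by
    have e1 : Set.range j = (PrimeSpectrum.basicOpen b : Set (PrimeSpectrum B)) :=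
      PrimeSpectrum.localization_away_comap_range (Localization.Away b) b
    rw [e1, hri, PrimeSpectrum.basicOpen_eq_zeroLocus_compl, PrimeSpectrum.zeroLocus_span]
  rcases h3 (pieceHom a (B := B)) i j hrange hB with hP | hP
  · refine Or.inr ⟨nontrivial_of_ne 0 1 fun h => hn ?_, by rw [hj]; exact hP⟩
    obtain ⟨k, hk⟩ : (0 : B) ∈ Submonoid.powers b :=
      IsLocalization.subsingleton_iff.1 (subsingleton_of_zero_eq_one h : Subsingleton (Localization.Away b))
    exact ⟨k, hk⟩
  · exact Or.inl ⟨hnt, by rw [hi]; exact hP⟩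

include h1 in
theorem good_quot (a : Spec (CommRingCat.of R) ⟶ T) (m : Ideal R × Submonoid R) (f : R)
    (h : Nontrivial (Piece m ⧸ Ideal.span {algebraMap R (Piece m) f}) ∧
      P (pieceHom a (B := Piece m ⧸ Ideal.span {algebraMap R (Piece m) f}))) :
    Good P a (m.1 ⊔ Ideal.span {f}, m.2) := by
  let C := Piece m ⧸ Ideal.span {algebraMap R (Piece m) f}
  let n : Ideal R × Submonoid R := (m.1 ⊔ Ideal.span {f}, m.2)
  obtain ⟨g⟩ := exists_piece_lift n (C := C) (fun x hx => by
      have hle : n.1 ≤ RingHom.ker (algebraMap R C) :=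
        sup_le (fun y hy => by
          show algebraMap R C y = 0
          rw [IsScalarTower.algebraMap_apply R (Piece m) C, piece_zero m hy, map_zero])
          ((Ideal.span_singleton_le_iff_mem _).2 (by
            show algebraMap R C f = 0
            rw [IsScalarTower.algebraMap_apply R (Piece m) C, Ideal.Quotient.algebraMap_eq,
              Ideal.Quotient.eq_zero_iff_mem]
            exact Ideal.mem_span_singleton_self _))
      exact hle hx)
    fun s hs => by
      rw [IsScalarTower.algebraMap_apply R (Piece m) C]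
      exact (piece_unit m hs).map _
  have hmn : m ≤ n := ⟨le_sup_left, le_rfl⟩
  let g' : C →ₐ[R] Piece n := Ideal.Quotient.liftₐ _ (pieceMap hmn) fun x hx => by
    obtain ⟨c, rfl⟩ := Ideal.mem_span_singleton'.1 hx
    rw [map_mul, (pieceMap hmn).commutes, piece_zero n (Ideal.mem_sup_right (Ideal.mem_span_singleton_self f)),
      mul_zero]
  let e : C ≃ₐ[R] Piece n := AlgEquiv.ofAlgHom g' g (piece_hom_eq _ _ _)
    (Ideal.Quotient.algHom_ext R (@piece_hom_eq R _ m C _ _ _ _))
  haveI := h.1
  exact ⟨e.toEquiv.symm.nontrivial, (pieceHom_congr P h1 a e).1 h.2⟩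

include h1 in
theorem good_away (a : Spec (CommRingCat.of R) ⟶ T) (m : Ideal R × Submonoid R) (f : R)
    (h : Nontrivial (Localization.Away (algebraMap R (Piece m) f)) ∧
      P (pieceHom a (B := Localization.Away (algebraMap R (Piece m) f)))) :
    Good P a (m.1, m.2 ⊔ Submonoid.powers f) := by
  let C := Localization.Away (algebraMap R (Piece m) f)
  let n : Ideal R × Submonoid R := (m.1, m.2 ⊔ Submonoid.powers f)
  obtain ⟨g⟩ := exists_piece_lift n (C := C) (fun x hx => by
      rw [IsScalarTower.algebraMap_apply R (Piece m) C, piece_zero m hx, map_zero])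
    fun s hs => by
      have hle : n.2 ≤ (IsUnit.submonoid C).comap (algebraMap R C) :=
        sup_le (fun y hy => by
          show IsUnit (algebraMap R C y)
          rw [IsScalarTower.algebraMap_apply R (Piece m) C]
          exact (piece_unit m hy).map _)
          ((Submonoid.powers_le).2 (by
            show IsUnit (algebraMap R C f)
            rw [IsScalarTower.algebraMap_apply R (Piece m) C]
            exact IsLocalization.Away.algebraMap_isUnit _))
      exact hle hs
  have hmn : m ≤ n := ⟨le_rfl, le_sup_left⟩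
  let g' : C →ₐ[R] Piece n :=
    IsLocalization.liftAlgHom (M := Submonoid.powers (algebraMap R (Piece m) f)) (f := pieceMap hmn) fun y => by
      obtain ⟨k, hk⟩ := y.2
      rw [← hk]
      simp only [map_pow, AlgHom.commutes]
      exact (piece_unit n ((le_sup_right : Submonoid.powers f ≤ n.2) (Submonoid.mem_powers f))).pow k
  let e : C ≃ₐ[R] Piece n := AlgEquiv.ofAlgHom g' g (piece_hom_eq _ _ _)
    (IsLocalization.algHom_ext (Submonoid.powers (algebraMap R (Piece m) f)) (piece_hom_eq m _ _))
  haveI := h.1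
  exact ⟨e.toEquiv.symm.nontrivial, (pieceHom_congr P h1 a e).1 h.2⟩

include h1 h2 h3 in
theorem exists_field_of_affine (a : Spec (CommRingCat.of R) ⟶ T) [Nontrivial R] (ha : P a) :
    ∃ (K : Type u) (_ : Field K) (t : Spec (CommRingCat.of K) ⟶ T), P t := by
  have hbot : Good P a (⊥, ⊥) := by
    obtain ⟨f⟩ := exists_piece_lift ((⊥ : Ideal R), (⊥ : Submonoid R)) (C := R)
      (fun x hx => by rw [(Submodule.mem_bot R).1 hx]; simp) (fun s hs => by
        rw [Submonoid.mem_bot.1 hs]; simp)
    let e : R ≃ₐ[R] Piece ((⊥ : Ideal R), (⊥ : Submonoid R)) :=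
      AlgEquiv.ofAlgHom (Algebra.ofId R _) f (piece_hom_eq _ _ _) (Subsingleton.elim _ _)
    refine ⟨e.toEquiv.symm.nontrivial, (pieceHom_congr P h1 a e).1 ?_⟩
    rwa [pieceHom, show CommRingCat.ofHom (algebraMap R R) = 𝟙 (CommRingCat.of R) from rfl, Spec.map_id,
      Category.id_comp]
  obtain ⟨m, -, hm⟩ := zorn_le_nonempty₀ {p | Good P a p}
    (fun ch hch hchain y hy => good_union P h2 a ch hchain ⟨y, hy⟩ hch) _ hbot
  haveI : Nontrivial (Piece m) := hm.1.1
  have key : ∀ f : R, algebraMap R (Piece m) f = 0 ∨ IsUnit (algebraMap R (Piece m) f) := by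
    intro f
    by_cases hu : IsUnit (algebraMap R (Piece m) f)
    · exact Or.inr hu
    rcases split P h1 h3 a hm.1.2 _ hu with h | h
    · exact Or.inl (piece_zero m ((hm.2 (good_quot P h1 a m f h) ⟨le_sup_left, le_rfl⟩).1
        (Ideal.mem_sup_right (Ideal.mem_span_singleton_self f))))
    · exact Or.inr (piece_unit m ((hm.2 (good_away P h1 a m f h) ⟨le_rfl, le_sup_left⟩).2
        ((le_sup_right : Submonoid.powers f ≤ m.2 ⊔ Submonoid.powers f) (Submonoid.mem_powers f))))
  have hfield : IsField (Piece m) :=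
    { exists_pair_ne := ⟨0, 1, zero_ne_one⟩
      mul_comm := mul_comm
      mul_inv_cancel := fun {x} hx => by
        obtain ⟨r, s, hs, h⟩ := exists_fraction m x
        have hsu := piece_unit m hs
        have hx' : IsUnit x := by
          rcases key r with h0 | h0
          · exact absurd (hsu.mul_left_eq_zero.1 (h.trans h0)) hx
          · rw [← h] at h0
            exact (IsUnit.mul_iff.1 h0).1
        exact hx'.exists_right_inv }
  exact ⟨Piece m, hfield.toField, pieceHom a (B := Piece m), hm.1.2⟩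

include h1 h3 in
/-- An affine piece with the property. -/
theorem exists_affine_piece {T' : Scheme.{u}} [CompactSpace T'] [QuasiSeparatedSpace T'] [Nonempty T']
    (a : T' ⟶ T) (ha : P a) :
    ∃ (R : CommRingCat.{u}) (_ : Nontrivial R) (b : Spec R ⟶ T), P b := by
  classical
  obtain ⟨t, ht⟩ := H17.FPExt.exists_finite_cover (X := T')
  suffices H : ∀ n : ℕ, ∀ (T' : Scheme.{u}) [CompactSpace T'] [QuasiSeparatedSpace T'] [Nonempty T']
      (a : T' ⟶ T), P a → ∀ U : Fin n → T'.Opens, (∀ k, IsAffineOpen (U k)) → (∀ x, ∃ k, x ∈ U k) →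
      ∃ (R : CommRingCat.{u}) (_ : Nontrivial R) (b : Spec R ⟶ T), P b from
    H _ T' a ha (fun k => (t.equivFin.symm k).1.1) (fun k => (t.equivFin.symm k).1.2) fun x => by
      obtain ⟨U, hU, hx⟩ := ht x
      exact ⟨t.equivFin ⟨U, hU⟩, by simpa using hx⟩
  intro n
  induction n with
  | zero =>
    intro T' _ _ _ a _ U _ hcov
    obtain ⟨k, -⟩ := hcov (Classical.arbitrary T')
    exact k.elim0
  | succ n ih =>
    intro T' _ _ _ a ha U hU hcov
    by_cases hne : ∃ x, x ∈ U 0
    swap
    · exact ih T' a ha (fun k => U k.succ) (fun k => hU k.succ) fun x => by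
        obtain ⟨k, hk⟩ := hcov x
        induction k using Fin.cases with
        | zero => exact absurd ⟨x, hk⟩ hne
        | succ k => exact ⟨k, hk⟩
    let V : T'.Opens := U 0
    haveI : IsAffine (V : Scheme.{u}) := hU 0
    haveI : Nonempty (V : Scheme.{u}) := ⟨⟨_, hne.choose_spec⟩⟩
    have done : P (V.ι ≫ a) → ∃ (R : CommRingCat.{u}) (_ : Nontrivial R) (b : Spec R ⟶ T), P b := fun h => by
      refine ⟨Γ((V : Scheme.{u}), ⊤), ?_, (V : Scheme.{u}).isoSpec.inv ≫ V.ι ≫ a, (of_isIso P h1 _ _).2 h⟩
      haveI : Nonempty (Spec Γ((V : Scheme.{u}), ⊤)) :=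
        ⟨(V : Scheme.{u}).isoSpec.hom (Classical.arbitrary _)⟩
      exact PrimeSpectrum.nonempty_iff_nontrivial.1 ‹_›
    by_cases hall : ∀ x, x ∈ V
    · haveI : Surjective V.ι := ⟨fun x => ⟨⟨x, hall x⟩, rfl⟩⟩
      haveI : IsIso V.ι := isIso_of_isOpenImmersion_of_opensRange_eq_top V.ι
        (eq_top_iff.2 fun x _ => ⟨⟨x, hall x⟩, rfl⟩)
      exact done ((of_isIso P h1 a V.ι).2 ha)
    push Not at hall
    let Z : Closeds T' := ⟨(V : Set T')ᶜ, V.2.isClosed_compl⟩
    let J := Scheme.IdealSheafData.vanishingIdeal Z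
    have hr : Set.range J.subschemeι = (V : Set T')ᶜ := by
      rw [Scheme.IdealSheafData.range_subschemeι]; simp [J, Z]
    haveI : CompactSpace (V : Scheme.{u}) := inferInstance
    rcases h3 a J.subschemeι V.ι (by rw [hr, compl_compl, Scheme.Opens.range_ι]) ha with h | h
    · exact done h
    · obtain ⟨x, hx⟩ := hall
      obtain ⟨z, hz⟩ : x ∈ Set.range J.subschemeι := hr ▸ hx
      haveI : Nonempty J.subscheme := ⟨z⟩
      haveI : CompactSpace J.subscheme := QuasiCompact.compactSpace_of_compactSpace J.subschemeι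
      haveI : QuasiSeparatedSpace J.subscheme := quasiSeparatedSpace_of_quasiSeparated J.subschemeι
      refine ih J.subscheme (J.subschemeι ≫ a) h (fun k => J.subschemeι ⁻¹ᵁ U k.succ)
        (fun k => (hU k.succ).preimage J.subschemeι) fun y => ?_
      obtain ⟨k, hk⟩ := hcov (J.subschemeι y)
      induction k using Fin.cases with
      | zero => exact absurd hk (show J.subschemeι y ∈ (V : Set T')ᶜ from hr ▸ Set.mem_range_self y)
      | succ k => exact ⟨k, hk⟩

end Groth.Agent.H7Lim.PropertyDescending
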