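import Groth.Agent.H8Props.SpreadGeneric
import Groth.Agent.H7Lim.Basic
import Groth.Agent.H7Lim.Descend
import Groth.Agent.S9193
import Groth.Agent.S4807
import Mathlib.AlgebraicGeometry.Normalization
import Mathlib.AlgebraicGeometry.Noetherian
import Mathlib.RingTheory.Localization.Integral

/-!
Pseudo-finiteness (immersion into a finite scheme) can be checked on the local schemes of the base.
-/

set_option autoImplicit false
set_option linter.style.haveILetI false
set_option backward.isDefEq.respectTransparency false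
universe u

open CategoryTheory Limits AlgebraicGeometry

namespace Groth.Agent.H7Lim.PseudoFinite

open H8Props.SpreadGeneric

/-- A finite algebra over a localisation is generated by a finite algebra over the ring. -/
theorem exists_finite_closure {R Rp B : Type u} [CommRing R] [CommRing Rp] [CommRing B] [Algebra R Rp]
    [Algebra Rp B] [Algebra R B] [IsScalarTower R Rp B] (M : Submonoid R) [IsLocalization M Rp]
    [Module.Finite Rp B] :
    ∃ C : Subalgebra R B, Module.Finite R C ∧
      Subring.closure (Set.range (algebraMap Rp B) ∪ (C : Set B)) = ⊤ := by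
  classical
  obtain ⟨t, ht⟩ := Module.Finite.fg_top (R := Rp) (M := B)
  choose m hm using fun b : B => IsIntegral.exists_multiple_integral_of_isLocalization (R := R)
    M b (Algebra.IsIntegral.isIntegral (R := Rp) b)
  let T : Set B := (fun b => (m b : R) • b) '' ↑t
  have hint : ∀ x ∈ T, IsIntegral R x := by
    rintro _ ⟨b, -, rfl⟩
    exact hm b
  refine ⟨Algebra.adjoin R T,
    Module.Finite.iff_fg.mpr (fg_adjoin_of_finite (t.finite_toSet.image _) hint),
    eq_top_iff.mpr fun x hxtop => ?_⟩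
  clear hxtop
  have hx : x ∈ Submodule.span Rp (↑t : Set B) := ht ▸ Submodule.mem_top
  induction hx using Submodule.span_induction with
  | mem b hb =>
    obtain ⟨v, hv⟩ := isUnit_iff_exists_inv'.mp (IsLocalization.map_units Rp (m b))
    have h1 : b = algebraMap Rp B v * ((m b : R) • b) := by
      rw [Algebra.smul_def, IsScalarTower.algebraMap_apply R Rp B, ← mul_assoc, ← map_mul, hv,
        map_one, one_mul]
    rw [h1]
    exact mul_mem (Subring.subset_closure (Or.inl ⟨v, rfl⟩))
      (Subring.subset_closure (Or.inr (Algebra.subset_adjoin ⟨b, hb, rfl⟩)))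
  | zero => exact zero_mem _
  | add a b _ _ ha hb => exact add_mem ha hb
  | smul r a _ ha =>
    rw [Algebra.smul_def]
    exact mul_mem (Subring.subset_closure (Or.inl ⟨r, rfl⟩)) ha

theorem toSpecΓ_SpecMap_of_hom {A : CommRingCat.{u}} {Z : Scheme.{u}} (u : Z ⟶ Spec A) :
    Z.toSpecΓ ≫ Spec.map ((Scheme.ΓSpecIso A).inv ≫ u.appTop) = u := by
  rw [Spec.map_comp, ← Category.assoc, ← Scheme.toSpecΓ_naturality, Category.assoc,
    toSpecΓ_SpecMap_ΓSpecIso_inv, Category.comp_id]

variable {Y : Scheme.{u}}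

/-- A finite scheme over `Spec O_{Y,y}` embeds into one coming from an affine neighbourhood. -/
theorem exists_finite_stage (y : Y) (i₀ : AffNhds y) {Z : Scheme.{u}}
    (u : Z ⟶ (stageCone y).pt) [IsFinite u] :
    ∃ (Z₁ : Scheme.{u}) (q₁ : Z₁ ⟶ (stageFun y).obj i₀) (k : Z ⟶ pullback q₁ ((stageCone y).π.app i₀)),
      IsFinite q₁ ∧ IsClosedImmersion k ∧ k ≫ pullback.snd _ _ = u := by
  let R := Γ(Y, i₀.1.1)
  let Rp := Y.presheaf.stalk y
  let gm : R ⟶ Rp := Y.presheaf.germ i₀.1.1 y i₀.2
  haveI : IsAffine (stageCone y).pt := inferInstanceAs (IsAffine (Spec _))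
  haveI : IsAffine Z := isAffine_of_isAffineHom u
  let φ : Rp ⟶ Γ(Z, ⊤) := (Scheme.ΓSpecIso Rp).inv ≫ u.appTop
  have hφ : φ.hom.Finite := by
    refine RingHom.Finite.comp u.finite_appTop ?_
    exact RingHom.Finite.of_surjective _
      (ConcreteCategory.bijective_of_isIso (Scheme.ΓSpecIso Rp).inv).surjective
  letI : Algebra R Rp := TopCat.Presheaf.algebra_section_stalk Y.presheaf (⟨y, i₀.2⟩ : (i₀.1.1 : TopologicalSpace.Opens Y))
  haveI : IsLocalization.AtPrime Rp (i₀.1.2.primeIdealOf ⟨y, i₀.2⟩).asIdeal :=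
    i₀.1.2.isLocalization_stalk ⟨y, i₀.2⟩
  letI : Algebra Rp Γ(Z, ⊤) := φ.hom.toAlgebra
  letI : Algebra R Γ(Z, ⊤) := (φ.hom.comp gm.hom).toAlgebra
  haveI : IsScalarTower R Rp Γ(Z, ⊤) := IsScalarTower.of_algebraMap_eq fun _ => rfl
  haveI : Module.Finite Rp Γ(Z, ⊤) := hφ
  obtain ⟨C, hC, hCgen⟩ := exists_finite_closure (B := Γ(Z, ⊤)) (R := R) (Rp := Rp)
    (i₀.1.2.primeIdealOf ⟨y, i₀.2⟩).asIdeal.primeCompl
  let Cc : CommRingCat.{u} := CommRingCat.of C
  let s : R ⟶ Cc := CommRingCat.ofHom (R := R) (S := ↥C) (algebraMap R C)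
  let v : Cc ⟶ Γ(Z, ⊤) := CommRingCat.ofHom (R := ↥C) (S := Γ(Z, ⊤)) C.val.toRingHom
  have hsv : s ≫ v = gm ≫ φ := by ext; rfl
  let q₁ : Spec Cc ⟶ (stageFun y).obj i₀ := Spec.map s
  let b : Z ⟶ Spec Cc := Z.toSpecΓ ≫ Spec.map v
  have hu : Z.toSpecΓ ≫ Spec.map φ = u := toSpecΓ_SpecMap_of_hom (A := Rp) u
  have w : b ≫ q₁ = u ≫ (stageCone y).π.app i₀ := by
    calc b ≫ q₁ = Z.toSpecΓ ≫ Spec.map (s ≫ v) := by rw [Spec.map_comp, ← Category.assoc]
      _ = Z.toSpecΓ ≫ Spec.map (gm ≫ φ) := by rw [hsv]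
      _ = (Z.toSpecΓ ≫ Spec.map φ) ≫ Spec.map gm := by rw [Spec.map_comp, Category.assoc]
      _ = u ≫ Spec.map gm := by rw [hu]
      _ = u ≫ (stageCone y).π.app i₀ := rfl
  let k := pullback.lift b u w
  haveI hq₁ : IsFinite q₁ := (IsFinite.SpecMap_iff _).mpr (RingHom.finite_algebraMap.mpr hC)
  haveI : IsAffine ((stageFun y).obj i₀) := inferInstanceAs (IsAffine (Spec _))
  refine ⟨Spec Cc, q₁, k, hq₁, ?_, pullback.lift_snd _ _ _⟩
  refine IsClosedImmersion.of_surjective_of_isAffine k fun x => ?_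
  have hle : Subring.closure (Set.range (algebraMap Rp Γ(Z, ⊤)) ∪ (C : Set Γ(Z, ⊤))) ≤
      k.appTop.hom.range := by
    refine Subring.closure_le.mpr ?_
    rintro z (⟨r, rfl⟩ | hz)
    · refine ⟨(pullback.snd q₁ _).appTop ((Scheme.ΓSpecIso Rp).inv r), ?_⟩
      show k.appTop ((pullback.snd q₁ _).appTop _) = u.appTop ((Scheme.ΓSpecIso Rp).inv r)
      exact H7Lim.appTop_apply_of_comp (pullback.lift_snd _ _ _) _
    · refine ⟨(pullback.fst q₁ _).appTop ((Scheme.ΓSpecIso Cc).inv ⟨z, hz⟩), ?_⟩
      refine (H7Lim.appTop_apply_of_comp (pullback.lift_fst _ _ _) _).trans ?_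
      have : (Scheme.ΓSpecIso Cc).inv ≫ b.appTop = v := by
        simp only [b, Scheme.Hom.comp_appTop, Scheme.toSpecΓ_appTop]
        rw [← Scheme.ΓSpecIso_inv_naturality_assoc, Iso.inv_hom_id, Category.comp_id]
      exact congr($this ⟨z, hz⟩)
  exact hle (hCgen ▸ Subring.mem_top x)

variable {X : Scheme.{u}} (f : X ⟶ Y) [IsNoetherian Y] [LocallyOfFiniteType f] [QuasiCompact f]
  [QuasiSeparated f]

/-- Spreading a factorisation at `Spec O_{Y,y}` to a neighbourhood. -/
theorem exists_nhd_isImmersion_toNormalization (y : Y) {Z : Scheme.{u}}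
    (g : pullback f (Y.fromSpecStalk y) ⟶ Z) (u : Z ⟶ Spec (Y.presheaf.stalk y))
    [IsImmersion g] [IsFinite u] (hgu : g ≫ u = pullback.snd f (Y.fromSpecStalk y)) :
    ∃ i : AffNhds y, IsImmersion (pullback.snd f (toBase i)).toNormalization := by
  obtain ⟨i₀⟩ : Nonempty (AffNhds y) := IsCofiltered.nonempty
  haveI : IsFinite (show Z ⟶ (stageCone y).pt from u) := ‹IsFinite u›
  obtain ⟨Z₁, q₁, k, hq₁, hk, hku⟩ := exists_finite_stage y i₀ (show Z ⟶ (stageCone y).pt from u)
  haveI : IsOpenImmersion (toBase i₀) := i₀.1.2.isOpenImmersion_fromSpec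
  haveI : IsLocallyNoetherian ((stageFun y).obj i₀) := isLocallyNoetherian_of_isOpenImmersion (toBase i₀)
  haveI : IsAffine ((stageFun y).obj i₀) := inferInstanceAs (IsAffine (Spec _))
  haveI : LocallyOfFinitePresentation q₁ := H8Props.SpreadGeneric.locallyOfFinitePresentation_over_noetherian q₁
  let E := stageFun y
  let c := stageCone y
  let f₀ : pullback f (toBase i₀) ⟶ E.obj i₀ := pullback.snd f (toBase i₀)
  haveI : CompactSpace ↥(pullback f (toBase i₀)) := QuasiCompact.compactSpace_of_compactSpace f₀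
  haveI : QuasiSeparatedSpace ↥(pullback f (toBase i₀)) := quasiSeparatedSpace_of_quasiSeparated f₀
  -- the limit of the base changes
  let D := pbDiagram E i₀ f₀
  haveI hDaff : ∀ {a b : Over i₀} (φ : a ⟶ b), IsAffineHom (D.map φ) := fun φ =>
    MorphismProperty.of_isPullback (isPullback_pbDiagram_map E i₀ f₀ φ).flip inferInstance
  haveI : ∀ j : Over i₀, IsAffine (E.obj j.left) := fun j => inferInstanceAs (IsAffine (Spec _))
  haveI : ∀ j : Over i₀, CompactSpace ↥(D.obj j) := fun j =>
    QuasiCompact.compactSpace_of_compactSpace (pullback.snd f₀ (E.map j.hom))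
  haveI : ∀ j : Over i₀, QuasiSeparatedSpace ↥(D.obj j) := fun j =>
    quasiSeparatedSpace_of_quasiSeparated (pullback.snd f₀ (E.map j.hom))
  have hL : IsPullback (pullback.fst f₀ (c.π.app i₀) ≫ pullback.fst f (toBase i₀))
      (pullback.snd f₀ (c.π.app i₀)) f (Y.fromSpecStalk y) := by
    have := (IsPullback.of_hasPullback f₀ (c.π.app i₀)).paste_horiz
      (IsPullback.of_hasPullback f (toBase i₀))
    rwa [show c.π.app i₀ ≫ toBase i₀ = Y.fromSpecStalk y from cone_toBase i₀] at this
  obtain ⟨gL, hgL, himm⟩ : ∃ gL : pullback f₀ (c.π.app i₀) ⟶ Z,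
      gL ≫ (show Z ⟶ c.pt from u) = pullback.snd f₀ (c.π.app i₀) ∧ IsImmersion gL := by
    refine ⟨hL.isoPullback.hom ≫ g, ?_, ?_⟩
    · show (hL.isoPullback.hom ≫ g) ≫ u = _
      rw [Category.assoc, hgu]
      exact hL.isoPullback_hom_snd
    · exact MorphismProperty.comp_mem @IsImmersion _ _ inferInstance ‹IsImmersion g›
  let α : (pbCone E c i₀ f₀).pt ⟶ Z₁ := gL ≫ k ≫ pullback.fst q₁ (c.π.app i₀)
  have hα : α ≫ q₁ = pullback.snd f₀ (c.π.app i₀) ≫ c.π.app i₀ := by
    show (gL ≫ k ≫ pullback.fst q₁ (c.π.app i₀)) ≫ q₁ = _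
    simp only [Category.assoc]
    rw [pullback.condition, ← Category.assoc k, hku, ← Category.assoc gL, hgL]
  let t : D ⟶ (Functor.const (Over i₀)).obj (E.obj i₀) :=
    { app := fun j => pullback.snd f₀ (E.map j.hom) ≫ E.map j.hom
      naturality := fun a b φ => by
        simp only [D, pbDiagram_map, Functor.const_obj_map, Category.comp_id]
        rw [pullback.lift_snd_assoc, Category.assoc, ← E.map_comp, Over.w]
        exact (Category.comp_id _).symm }
  obtain ⟨j, αj, hαj, hαjt⟩ := Scheme.exists_π_app_comp_eq_of_locallyOfFinitePresentation D t q₁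
    (pbCone E c i₀ f₀) (isLimitPbCone E i₀ f₀ (isLimitStageCone y)) α (by
      ext j
      simp only [NatTrans.comp_app, Functor.const_map_app, t, pbCone_π_app]
      rw [pullback.lift_snd_assoc, Category.assoc, c.w, hα])
  let Yk := pullback q₁ (E.map j.hom)
  let q₂ : Yk ⟶ E.obj j.left := pullback.snd q₁ (E.map j.hom)
  let fj : pullback f₀ (E.map j.hom) ⟶ Yk := pullback.lift αj (pullback.snd f₀ (E.map j.hom)) hαjt
  have hfj : fj ≫ q₂ = pullback.snd f₀ (E.map j.hom) := pullback.lift_snd _ _ _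
  haveI : LocallyOfFiniteType (fj ≫ q₂) := by rw [hfj]; infer_instance
  haveI : LocallyOfFiniteType fj := locallyOfFiniteType_of_comp fj q₂
  haveI : CompactSpace ↥Yk := QuasiCompact.compactSpace_of_compactSpace q₂
  haveI : QuasiSeparatedSpace ↥Yk := quasiSeparatedSpace_of_quasiSeparated q₂
  haveI : CompactSpace ↥(pullback f₀ (E.map j.hom)) := inferInstanceAs (CompactSpace ↥(D.obj j))
  haveI : QuasiSeparatedSpace ↥(pullback f₀ (E.map j.hom)) :=
    inferInstanceAs (QuasiSeparatedSpace ↥(D.obj j))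
  let qY : pullback q₁ (c.π.app i₀) ⟶ Yk :=
    pullback.lift (pullback.fst q₁ _) (pullback.snd q₁ _ ≫ c.π.app j.left)
      (by rw [Category.assoc, c.w]; exact pullback.condition)
  have hY : IsPullback qY (pullback.snd q₁ (c.π.app i₀)) q₂ (c.π.app j.left) := by
    refine IsPullback.of_right ?_ (pullback.lift_snd _ _ _) (IsPullback.of_hasPullback q₁ (E.map j.hom))
    rw [show c.π.app j.left ≫ E.map j.hom = c.π.app i₀ from c.w j.hom, pullback.lift_fst]
    exact IsPullback.of_hasPullback q₁ (c.π.app i₀)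
  let qX : pullback f₀ (c.π.app i₀) ⟶ pullback f₀ (E.map j.hom) := (pbCone E c i₀ f₀).π.app j
  have hX₀ : IsPullback qX (pullback.snd f₀ (c.π.app i₀)) (pullback.snd f₀ (E.map j.hom))
      (c.π.app j.left) := by
    refine IsPullback.of_right ?_ (pullback.lift_snd _ _ _) (IsPullback.of_hasPullback f₀ (E.map j.hom))
    rw [show c.π.app j.left ≫ E.map j.hom = c.π.app i₀ from c.w j.hom,
      show qX ≫ pullback.fst f₀ (E.map j.hom) = pullback.fst f₀ (c.π.app i₀) from
        (pullback.lift_fst _ _ _).trans (Category.comp_id _)]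
    exact IsPullback.of_hasPullback f₀ (c.π.app i₀)
  let fL : pullback f₀ (c.π.app i₀) ⟶ pullback q₁ (c.π.app i₀) := gL ≫ k
  have hfL : fL ≫ pullback.snd q₁ (c.π.app i₀) = pullback.snd f₀ (c.π.app i₀) := by
    show (gL ≫ k) ≫ _ = _
    rw [Category.assoc, hku, hgL]
  have hX : IsPullback qX fL fj qY := by
    refine IsPullback.of_bot ?_ ?_ hY
    · rw [hfL, hfj]; exact hX₀
    · apply pullback.hom_ext
      · rw [Category.assoc, Category.assoc, pullback.lift_fst, pullback.lift_fst]
        exact hαj.trans (Category.assoc _ _ _).symm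
      · rw [Category.assoc, Category.assoc, pullback.lift_snd, pullback.lift_snd, ← Category.assoc fL, hfL]
        exact hX₀.w
  haveI : IsImmersion fL := by
    haveI := himm
    exact inferInstanceAs (IsImmersion (gL ≫ k))
  haveI : ∀ (a b : AffNhds y) (φ : a ⟶ b), IsAffineHom (E.map φ) := fun a b φ => inferInstance
  haveI : IsAffine (E.obj j.left) := inferInstanceAs (IsAffine (Spec _))
  obtain ⟨i, ψ, Xi, Yi, fi, gi, pY, pX, hYi, hXi, hfi⟩ := S9193.result E c (isLimitStageCone y)
    j.left fj q₂ fL (pullback.snd q₁ (c.π.app i₀)) qY qX hY hX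
  haveI : IsFinite q₂ := MorphismProperty.pullback_snd _ _ hq₁
  haveI : IsFinite gi := MorphismProperty.of_isPullback hYi inferInstance
  have hbig : IsPullback (pX ≫ pullback.fst f₀ (E.map j.hom) ≫ pullback.fst f (toBase i₀))
      (fi ≫ gi) f (toBase i) := by
    have h1 := hXi.paste_vert hYi
    rw [hfj] at h1
    have h2 := (h1.paste_horiz (IsPullback.of_hasPullback f₀ (E.map j.hom))).paste_horiz
      (IsPullback.of_hasPullback f (toBase i₀))
    rw [Category.assoc, Category.assoc (E.map ψ), map_toBase, map_toBase] at h2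
    exact h2
  refine ⟨i, ?_⟩
  haveI := hfi
  have hfac : pullback.snd f (toBase i) = (hbig.isoPullback.inv ≫ fi) ≫ gi := by
    rw [Category.assoc, hbig.isoPullback_inv_snd]
  haveI : IsImmersion ((pullback.snd f (toBase i)).toNormalization ≫
      (pullback.snd f (toBase i)).normalizationDesc (hbig.isoPullback.inv ≫ fi) gi hfac) := by
    rw [Scheme.Hom.toNormalization_normalizationDesc]
    infer_instance
  exact IsImmersion.of_comp _ ((pullback.snd f (toBase i)).normalizationDesc (hbig.isoPullback.inv ≫ fi) gi hfac)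

/-- The toNormalization map is an immersion if it is so after localising at each point of the base. -/
theorem isImmersion_toNormalization_of_stalk
    (h : ∀ y : Y, ∃ (Z : Scheme.{u}) (g : pullback f (Y.fromSpecStalk y) ⟶ Z)
      (u : Z ⟶ Spec (Y.presheaf.stalk y)),
      IsImmersion g ∧ IsFinite u ∧ g ≫ u = pullback.snd f (Y.fromSpecStalk y)) :
    IsImmersion f.toNormalization := by
  have hi : ∀ y : Y, ∃ i : AffNhds y, IsImmersion (pullback.snd f (toBase i)).toNormalization := by
    intro y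
    obtain ⟨Z, g, u, hg, hu, hgu⟩ := h y
    exact exists_nhd_isImmersion_toNormalization f y g u hgu
  choose i hi using hi
  haveI hopen : ∀ y, IsOpenImmersion (toBase (i y)) := fun y => (i y).1.2.isOpenImmersion_fromSpec
  let 𝒰 : Y.OpenCover := Scheme.Cover.mkOfCovers Y (fun y => (stageFun y).obj (i y))
    (fun y => toBase (i y))
    (fun x => ⟨x, by
      have : x ∈ Set.range (toBase (i x)) := by rw [range_toBase]; exact (i x).2
      exact this⟩)
    (fun y => hopen y)
  refine IsZariskiLocalAtTarget.of_openCover (P := @IsImmersion)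
    (𝒰.pullback₁ f.fromNormalization) fun y => ?_
  show IsImmersion (pullback.snd f.toNormalization (pullback.fst f.fromNormalization (toBase (i y))))
  have hsq : IsPullback (pullback.fst f (toBase (i y)))
      ((pullback.snd f (toBase (i y))).toNormalization ≫ f.normalizationPullback (toBase (i y)))
      f.toNormalization (pullback.fst f.fromNormalization (toBase (i y))) := by
    refine IsPullback.of_bot ?_ ?_ (IsPullback.of_hasPullback f.fromNormalization (toBase (i y)))
    · rw [Category.assoc, Scheme.Hom.normalizationPullback_snd,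
        Scheme.Hom.toNormalization_fromNormalization, Scheme.Hom.toNormalization_fromNormalization]
      exact IsPullback.of_hasPullback f (toBase (i y))
    · rw [Category.assoc, Scheme.Hom.toNormalization_normalizationPullback_fst]
  haveI := hi y
  rw [← hsq.isoPullback_inv_snd]
  infer_instance

end Groth.Agent.H7Lim.PseudoFinite
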