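import Groth.Agent.H7Lim.QuotStage

/-!
# Representability of quotients of group schemes in a cofiltered limit
-/

set_option autoImplicit false
set_option linter.style.haveILetI false
set_option backward.isDefEq.respectTransparency false
set_option backward.defeqAttrib.useBackward true

universe u

open CategoryTheory Limits AlgebraicGeometry MonoidalCategory CartesianMonoidalCategory MonObj

namespace Groth.Agent.H7Lim.OverStage

attribute [local instance] Functor.monObjObj in
theorem map_translate {C E : Type*} [Category* C] [Category* E] [CartesianMonoidalCategory C]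
    [CartesianMonoidalCategory E] (F : C ⥤ E) [F.Monoidal] {A B : C} [MonObj A] (v : B ⟶ A) :
    (F.obj A ◁ F.map v) ≫ μ[F.obj A] = Functor.LaxMonoidal.μ F A B ≫ F.map (A ◁ v ≫ μ[A]) := by
  rw [Functor.obj.μ_def, ← Category.assoc, Functor.LaxMonoidal.μ_natural_right, Category.assoc, F.map_comp]

theorem rep_translate_iff {S S' : Scheme.{u}} (f : S' ⟶ S) {G H : Over S} [GrpObj G] (v : H ⟶ G) :
    (∃ (Q : Over S') (p : Red.bc f G ⟶ Q), Flat p.left ∧ Surjective p.left ∧ LocallyOfFinitePresentation p.left ∧
        IsPullback ((Red.bc f G ◁ (Over.pullback f).map v) ≫ μ[Red.bc f G]) (fst (Red.bc f G) (Red.bc f H)) p p) ↔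
      Rep ((Over.pullback f).map (G ◁ v ≫ μ[G])) ((Over.pullback f).map (fst G H)) := by
  refine exists_congr fun Q => exists_congr fun p => ?_
  rw [show (Red.bc f G ◁ (Over.pullback f).map v) ≫ μ[Red.bc f G] = _ from map_translate (Over.pullback f) v]
  refine and_congr_right' (and_congr_right' (and_congr_right' ?_))
  let e := Functor.Monoidal.μIso (Over.pullback f) G H
  constructor <;> intro h
  · exact h.of_iso e (Iso.refl _) (Iso.refl _) (Iso.refl _) (by simp [e]) (by simp [e]) (by simp) (by simp)
  · exact h.of_iso e.symm (Iso.refl _) (Iso.refl _) (Iso.refl _) (by simp [e]) (by simp [e]) (by simp) (by simp)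

end Groth.Agent.H7Lim.OverStage
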