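import Groth.Agent.H7Lim.TorsorStage
import Groth.Agent.H13Flat.Scheme
import Groth.Agent.H27Perf.Cancel

/-!
# Representable quotients by flat equivalence relations in a cofiltered limit
-/

set_option autoImplicit false
set_option linter.style.haveILetI false
set_option maxHeartbeats 800000
set_option backward.isDefEq.respectTransparency false
set_option backward.defeqAttrib.useBackward true

universe u

open CategoryTheory Limits AlgebraicGeometry MonoidalCategory CartesianMonoidalCategory TopologicalSpace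

namespace Groth.Agent.H7Lim.OverStage

theorem map_map_compIso {S S' S'' : Scheme.{u}} {g : S'' ⟶ S'} {f : S' ⟶ S} {h : S'' ⟶ S} (w : g ≫ f = h)
    {A B : Over S} (v : A ⟶ B) : (Over.pullback g).map ((Over.pullback f).map v) ≫ (compIso w B).hom =
      (compIso w A).hom ≫ (Over.pullback h).map v := by
  apply bc_hom_ext
  rw [Over.comp_left, Over.comp_left, Category.assoc, Category.assoc, compIso_hom_left_fst, map_left_fst,
    ← Category.assoc, map_left_fst, Category.assoc, map_left_fst, ← Category.assoc, ← Category.assoc,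
    compIso_hom_left_fst]

theorem sq_trans {C : Type*} [Category* C] {A A' A'' B B' B'' : C} {u : A ⟶ B} {u' : A' ⟶ B'} {u'' : A'' ⟶ B''}
    {a : A ≅ A'} {b : B ≅ B'} {a' : A' ≅ A''} {b' : B' ≅ B''} (h : u ≫ b.hom = a.hom ≫ u')
    (h' : u' ≫ b'.hom = a'.hom ≫ u'') : u ≫ (b ≪≫ b').hom = (a ≪≫ a').hom ≫ u'' := by
  simp [reassoc_of% h, h']

theorem sq_symm {C : Type*} [Category* C] {A A' B B' : C} {u : A ⟶ B} {u' : A' ⟶ B'}
    {a : A ≅ A'} {b : B ≅ B'} (h : u ≫ b.hom = a.hom ≫ u') : u' ≫ b.symm.hom = a.symm.hom ≫ u := by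
  rw [Iso.symm_hom, Iso.symm_hom, Iso.comp_inv_eq, Category.assoc, h, Iso.inv_hom_id_assoc]

theorem universallyOpen_sqMap {X Y S : Scheme.{u}} (p : X ⟶ Y) (q : Y ⟶ S) [Flat p]
    [LocallyOfFinitePresentation p] : UniversallyOpen (H27Perf.sqMap p q) := by
  haveI : UniversallyOpen p := inferInstance
  exact MorphismProperty.pullbackMap (P := @UniversallyOpen) ‹_› ‹_› rfl rfl

/-- The target of a flat cover with quasi-compact self product is quasi-separated. -/
theorem quasiSeparated_of_cover {X Y S : Scheme.{u}} (p : X ⟶ Y) (q : Y ⟶ S) [Flat p]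
    [LocallyOfFinitePresentation p] [Surjective p] [QuasiSeparated (p ≫ q)]
    [QuasiCompact (pullback.fst p p ≫ p ≫ q)] : QuasiSeparated q := by
  let m := H27Perf.sqMap p q
  let Δ := pullback.diagonal q
  let κ := pullback.map p p (p ≫ q) (p ≫ q) (𝟙 X) (𝟙 X) q (Category.id_comp _).symm (Category.id_comp _).symm
  have hsq : IsPullback (pullback.fst p p ≫ p) κ Δ m := pullback_map_diagonal_isPullback p p q
  haveI : QuasiCompact (κ ≫ pullback.fst (p ≫ q) (p ≫ q) ≫ p ≫ q) := by
    rw [pullback.lift_fst_assoc, Category.comp_id]; infer_instance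
  haveI : QuasiSeparated (pullback.fst (p ≫ q) (p ≫ q) ≫ p ≫ q) := inferInstance
  haveI : QuasiCompact κ := QuasiCompact.of_comp κ (pullback.fst (p ≫ q) (p ≫ q) ≫ p ≫ q)
  haveI : UniversallyOpen m := universallyOpen_sqMap p q
  haveI : Surjective m := H27Perf.surjective_sqMap p q
  refine ⟨⟨fun V hV hVc => ?_⟩⟩
  have hch : ∀ v : V, ∃ W : (pullback (p ≫ q) (p ≫ q)).Opens, IsAffineOpen W ∧ v.1 ∈ m '' W ∧ m '' W ⊆ V := by
    rintro ⟨v, hv⟩
    obtain ⟨w, hw⟩ := m.surjective v
    obtain ⟨W, hW, hwW, hWle⟩ := exists_isAffineOpen_mem_and_subset (x := w)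
      (U := m ⁻¹ᵁ ⟨V, hV⟩) (show m w ∈ V from hw.symm ▸ hv)
    exact ⟨W, hW, ⟨w, hwW, hw⟩, by rintro _ ⟨w', hw', rfl⟩; exact hWle hw'⟩
  choose W hW hvW hWV using hch
  obtain ⟨t, ht⟩ := hVc.elim_finite_subcover (fun v : V => m '' (W v : Set _))
    (fun v => m.isOpenMap _ (W v).2) (fun v hv => Set.mem_iUnion.2 ⟨⟨v, hv⟩, hvW _⟩)
  have hc : IsCompact ((pullback.fst p p ≫ p) '' (κ ⁻¹' (⋃ v ∈ t, (W v : Set _)))) :=
    (κ.isCompact_preimage (U := ⟨_, isOpen_biUnion fun v _ => (W v).2⟩)
      (t.finite_toSet.isCompact_biUnion fun v _ => (hW v).isCompact)).image (pullback.fst p p ≫ p).continuous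
  convert hc using 1
  refine Set.Subset.antisymm (fun y hy => ?_) ?_
  · obtain ⟨v, hvt, w, hw, hwy⟩ : ∃ v ∈ t, ∃ w ∈ (W v : Set _), m w = Δ y := by
      obtain ⟨v, hvt, w, hw, hwy⟩ := Set.mem_iUnion₂.1 (ht hy)
      exact ⟨v, hvt, w, hw, hwy⟩
    obtain ⟨r, hr, hrw⟩ := Scheme.Pullback.exists_preimage_pullback (f := Δ) (g := m) y w hwy.symm
    refine ⟨hsq.isoPullback.inv r, ?_, ?_⟩
    · show κ (hsq.isoPullback.inv r) ∈ ⋃ v ∈ t, (W v : Set _)
      rw [← Scheme.Hom.comp_apply, hsq.isoPullback_inv_snd, hrw]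
      exact Set.mem_biUnion hvt hw
    · rw [← Scheme.Hom.comp_apply, hsq.isoPullback_inv_fst]
      exact hr
  · rintro _ ⟨r, hr, rfl⟩
    obtain ⟨v, -, hv⟩ := Set.mem_iUnion₂.1 hr
    show Δ ((pullback.fst p p ≫ p) r) ∈ V
    rw [← Scheme.Hom.comp_apply, hsq.w, Scheme.Hom.comp_apply]
    exact hWV v ⟨_, hv, rfl⟩

/-- The self product over the target, as a square over the base. -/
theorem isPullback_kp {S : Scheme.{u}} {X Y : Over S} (v : X ⟶ Y) : IsPullback (kp₁ v) (kp₂ v) v v :=
  IsPullback.of_map (Over.forget S) (Over.OverMorphism.ext pullback.condition)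
    (IsPullback.of_hasPullback v.left v.left)

theorem flat_map_left {S S' : Scheme.{u}} (f : S' ⟶ S) {X Y : Over S} (v : X ⟶ Y) [Flat v.left] :
    Flat ((Over.pullback f).map v).left :=
  MorphismProperty.of_isPullback (P := @Flat) (isPullback_map_left f v) ‹_›

theorem surjective_map_left {S S' : Scheme.{u}} (f : S' ⟶ S) {X Y : Over S} (v : X ⟶ Y) [Surjective v.left] :
    Surjective ((Over.pullback f).map v).left :=
  MorphismProperty.of_isPullback (P := @Surjective) (isPullback_map_left f v) ‹_›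

theorem lfp_map_left {S S' : Scheme.{u}} (f : S' ⟶ S) {X Y : Over S} (v : X ⟶ Y)
    [LocallyOfFinitePresentation v.left] : LocallyOfFinitePresentation ((Over.pullback f).map v).left :=
  MorphismProperty.of_isPullback (P := @LocallyOfFinitePresentation) (isPullback_map_left f v) ‹_›

theorem prop_map_left_later {S S' S'' : Scheme.{u}} {g : S'' ⟶ S'} {f : S' ⟶ S} {h : S'' ⟶ S} (w : g ≫ f = h)
    (P : MorphismProperty Scheme.{u}) [P.IsStableUnderBaseChange] {X Y : Over S} (v : X ⟶ Y)
    (e : P ((Over.pullback f).map v).left) : P ((Over.pullback h).map v).left := by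
  have h1 := MorphismProperty.of_isPullback (P := P) (isPullback_map_left g ((Over.pullback f).map v)) e
  have h2 : ((compIso w X).inv ≫ (Over.pullback g).map ((Over.pullback f).map v) ≫ (compIso w Y).hom).left =
      ((Over.pullback h).map v).left := by
    have h3 : (Over.pullback g).map ((Over.pullback f).map v) ≫ (compIso w Y).hom =
        (compIso w X).hom ≫ (Over.pullback h).map v := by
      exact map_map_compIso _ _
    rw [h3, Iso.inv_hom_id_assoc]
  rw [← h2, Over.comp_left, Over.comp_left]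
  exact (P.cancel_left_of_respectsIso _ _).2 ((P.cancel_right_of_respectsIso _ _).2 h1)

/-- The quotient of `X` by `R` is representable. -/
def Rep {T : Scheme.{u}} {X R : Over T} (s t : R ⟶ X) : Prop :=
  ∃ (Y : Over T) (p : X ⟶ Y), Flat p.left ∧ Surjective p.left ∧ LocallyOfFinitePresentation p.left ∧
    IsPullback s t p p

theorem rep_later {S S' S'' : Scheme.{u}} {g : S'' ⟶ S'} {f : S' ⟶ S} {h : S'' ⟶ S} (w : g ≫ f = h)
    {X R : Over S} {s t : R ⟶ X} (e : Rep ((Over.pullback f).map s) ((Over.pullback f).map t)) :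
    Rep ((Over.pullback h).map s) ((Over.pullback h).map t) := by
  obtain ⟨Y, p, hfl, hs, hp, hpb⟩ := e
  haveI := hfl; haveI := hs; haveI := hp
  haveI := flat_map_left g p
  haveI := surjective_map_left g p
  haveI := lfp_map_left g p
  have n : ∀ z : R ⟶ X, (Over.pullback g).map ((Over.pullback f).map z) ≫ (compIso w X).hom =
      (compIso w R).hom ≫ (Over.pullback h).map z := fun z => by
    exact map_map_compIso _ _
  refine ⟨(Over.pullback g).obj Y, (compIso w X).inv ≫ (Over.pullback g).map p, ?_, ?_, ?_, ?_⟩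
  · rw [Over.comp_left]; exact (MorphismProperty.cancel_left_of_respectsIso @Flat _ _).2 ‹_›
  · rw [Over.comp_left]; exact (MorphismProperty.cancel_left_of_respectsIso @Surjective _ _).2 ‹_›
  · rw [Over.comp_left]; exact (MorphismProperty.cancel_left_of_respectsIso @LocallyOfFinitePresentation _ _).2 ‹_›
  · exact ((Over.pullback g).map_isPullback hpb).of_iso (compIso w R) (compIso w X) (compIso w X) (Iso.refl _)
      (n s) (n t) (by simp) (by simp)

variable {I : Type u} [Category.{u} I] [IsCofiltered I] {D : I ⥤ Scheme.{u}} {c : Cone D}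
  [∀ (i i' : I) (f : i ⟶ i'), IsAffineHom (D.map f)]

theorem exists_prop_stage (hc : IsLimit c) {P : MorphismProperty Scheme.{u}} [P.IsStableUnderBaseChange]
    (hP : Descends P @LocallyOfFinitePresentation) {j : I} {X Y : Over (D.obj j)} [CompactSpace X.left]
    [QuasiSeparatedSpace X.left] [CompactSpace Y.left] [QuasiSeparatedSpace Y.left] (v : X ⟶ Y)
    [LocallyOfFinitePresentation v.left] (h : P ((Over.pullback (c.π.app j)).map v).left) :
    ∃ (i : I) (f : i ⟶ j), P ((Over.pullback (D.map f)).map v).left := by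
  obtain ⟨i, φ, Xi, Yi, fi, gi, pY, pX, hY, hX, hfi⟩ := exists_descend_square hc
    (P := P) (Q := @LocallyOfFinitePresentation) j v.left Y.hom
    hP (IsPullback.of_hasPullback Y.hom (c.π.app j)) (isPullback_map_left _ v) ‹_› h
  refine ⟨i, φ, ?_⟩
  let e := hY.isoPullback
  have hX' : IsPullback pX (fi ≫ e.hom) v.left (pullback.fst Y.hom (D.map φ)) :=
    hX.of_iso (Iso.refl _) (Iso.refl _) e (Iso.refl _) (by simp) (by simp) (by simp)
      (by simp only [Iso.refl_hom, Category.comp_id]; exact hY.isoPullback_hom_fst.symm)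
  have e2 : (hX'.isoIsPullback _ _ (isPullback_map_left (D.map φ) v)).hom ≫
      ((Over.pullback (D.map φ)).map v).left = fi ≫ e.hom := IsPullback.isoIsPullback_hom_snd _ _ _ _
  have h4 : P (fi ≫ e.hom) := (P.cancel_right_of_respectsIso _ _).2 hfi
  rw [← e2] at h4
  exact (P.cancel_left_of_respectsIso _ _).1 h4

theorem exists_surjective_stage (hc : IsLimit c) {j : I} {X Y : Over (D.obj j)} [CompactSpace Y.left]
    (v : X ⟶ Y) [Flat v.left] [LocallyOfFinitePresentation v.left]
    (h : Surjective ((Over.pullback (c.π.app j)).map v).left) :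
    ∃ (i : I) (f : i ⟶ j), Surjective ((Over.pullback (D.map f)).map v).left := by
  haveI : UniversallyOpen v.left := inferInstance
  let U : Y.left.Opens := ⟨Set.range v.left, v.left.isOpenMap.isOpen_range⟩
  let C := Scheme.IdealSheafData.vanishingIdeal (⟨(U : Set Y.left)ᶜ, U.2.isClosed_compl⟩ : Closeds Y.left)
  haveI : IsClosedImmersion C.subschemeι := IsClosedImmersion.instSubschemeι _
  haveI : CompactSpace C.subscheme := QuasiCompact.compactSpace_of_compactSpace C.subschemeι
  obtain ⟨i, f, hf⟩ := exists_isEmpty_pullback D j (C.subschemeι ≫ Y.hom) hc ⟨fun x => by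
    let a := C.subschemeι ≫ Y.hom
    let l : pullback a (c.π.app j) ⟶ pullback Y.hom (c.π.app j) := pullback.lift
      (pullback.fst a (c.π.app j) ≫ C.subschemeι) (pullback.snd a (c.π.app j))
      (by rw [Category.assoc]; exact pullback.condition)
    obtain ⟨z, hz⟩ := h.surj (l x)
    have h1 : C.subschemeι (pullback.fst a (c.π.app j) x) ∈ Set.range v.left := by
      refine ⟨pullback.fst X.hom (c.π.app j) z, ?_⟩
      have e1 := congrArg (fun m : _ ⟶ Y.left => m z) (map_left_fst (c.π.app j) v)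
      simp only [Scheme.Hom.comp_apply] at e1
      refine e1.symm.trans ?_
      refine (congrArg (pullback.fst Y.hom (c.π.app j)) hz).trans ?_
      rw [← Scheme.Hom.comp_apply, pullback.lift_fst, Scheme.Hom.comp_apply]
    have h2 : C.subschemeι (pullback.fst a (c.π.app j) x) ∈ Set.range C.subschemeι := ⟨_, rfl⟩
    rw [H17.range_vanishingIdeal_subschemeι] at h2
    exact h2 h1⟩
  refine ⟨i, f, ⟨fun y => ?_⟩⟩
  obtain ⟨x, hx⟩ : pullback.fst Y.hom (D.map f) y ∈ Set.range v.left := by
    by_contra hy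
    obtain ⟨t, ht⟩ : pullback.fst Y.hom (D.map f) y ∈ Set.range C.subschemeι := by
      rw [H17.range_vanishingIdeal_subschemeι]; exact hy
    obtain ⟨z, -, -⟩ := Scheme.Pullback.exists_preimage_pullback (f := C.subschemeι ≫ Y.hom) (g := D.map f) t
      (pullback.snd Y.hom (D.map f) y) (by
        rw [Scheme.Hom.comp_apply, ht, ← Scheme.Hom.comp_apply, pullback.condition, Scheme.Hom.comp_apply])
    exact hf.false z
  obtain ⟨z, -, hz⟩ := Scheme.Pullback.exists_preimage_pullback (f := v.left)
    (g := pullback.fst Y.hom (D.map f)) x y hx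
  have hsq := isPullback_map_left (D.map f) v
  refine ⟨hsq.isoPullback.inv z, ?_⟩
  have e1 := congrArg (fun m : _ ⟶ (Red.bc (D.map f) Y).left => m z) hsq.isoPullback_inv_snd
  simp only [Scheme.Hom.comp_apply] at e1
  exact e1.trans hz

/-- The flat cover and its target at a stage. -/
theorem exists_cover_stage (hc : IsLimit c) [∀ i, CompactSpace (D.obj i)] [∀ i, QuasiSeparatedSpace (D.obj i)]
    {j : I} {X : Over (D.obj j)} [LocallyOfFinitePresentation X.hom] [QuasiCompact X.hom] [QuasiSeparated X.hom]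
    {Y : Over c.pt} (p : Red.bc (c.π.app j) X ⟶ Y) [LocallyOfFinitePresentation Y.hom] [QuasiCompact Y.hom]
    [QuasiSeparated Y.hom] :
    ∃ (i : I) (h : i ⟶ j) (Q : Over (D.obj i)) (v : Red.bc (D.map h) X ⟶ Q) (e : Y ≅ Red.bc (c.π.app i) Q),
      LocallyOfFinitePresentation Q.hom ∧ QuasiCompact Q.hom ∧ QuasiSeparated Q.hom ∧
      (Over.pullback (c.π.app i)).map v = (compIso (c.w h) X).hom ≫ p ≫ e.hom := by
  obtain ⟨k₀, ⟨M₀⟩⟩ := FPDescent.exists_model hc Y.hom
  let k := IsCofiltered.min j k₀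
  let f₀ : k ⟶ j := IsCofiltered.minToLeft j k₀
  let M := M₀.shift (IsCofiltered.minToRight j k₀)
  let Y₀ : Over (D.obj k) := Over.mk M.p
  let e₀ : Y ≅ Red.bc (c.π.app k) Y₀ := Over.isoMk M.hpb.isoPullback M.hpb.isoPullback_hom_snd
  let Xk := Red.bc (D.map f₀) X
  haveI : LocallyOfFinitePresentation Y₀.hom := M.lfp
  haveI : QuasiCompact Xk.hom := MorphismProperty.pullback_snd _ _ ‹_›
  haveI : QuasiSeparated Xk.hom := MorphismProperty.pullback_snd _ _ ‹_›
  haveI := compactSpace_left Xk
  haveI := quasiSeparatedSpace_left Xk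
  obtain ⟨i, f, v, hv⟩ := exists_hom hc ((compIso (c.w f₀) X).hom ≫ p ≫ e₀.hom)
  let cI := compIso (D.map_comp f f₀).symm X
  refine ⟨i, f ≫ f₀, Red.bc (D.map f) Y₀, cI.inv ≫ v, e₀ ≪≫ (compIso (c.w f) Y₀).symm,
    MorphismProperty.pullback_snd _ _ M.lfp, MorphismProperty.pullback_snd _ _ M.qc,
    MorphismProperty.pullback_snd _ _ M.qs, ?_⟩
  have hco : (Over.pullback (c.π.app i)).map cI.inv ≫ (compIso (c.w f) Xk).hom ≫ (compIso (c.w f₀) X).hom =
      (compIso (c.w (f ≫ f₀)) X).hom := by
    apply bc_hom_ext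
    simp only [Over.comp_left, Category.assoc, compIso_hom_left_fst]
    rw [← Category.assoc (compIso (c.w f) Xk).hom.left, compIso_hom_left_fst, Category.assoc,
      ← compIso_hom_left_fst (D.map_comp f f₀).symm X, ← Category.assoc, map_left_fst, Category.assoc]
    congr 1
    rw [← Category.assoc, ← Over.comp_left, Iso.inv_hom_id, Over.id_left, Category.id_comp]
  rw [(Over.pullback (c.π.app i)).map_comp, hv, ← hco]
  simp only [Category.assoc, Iso.trans_hom, Iso.symm_hom]
  rfl

/-- Representability of a quotient descends to a stage. -/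
theorem rep_iff (hc : IsLimit c) [∀ i, CompactSpace (D.obj i)] [∀ i, QuasiSeparatedSpace (D.obj i)]
    {j : I} {X R : Over (D.obj j)} (s t : R ⟶ X) [LocallyOfFinitePresentation X.hom] [QuasiCompact X.hom]
    [QuasiSeparated X.hom] [LocallyOfFinitePresentation R.hom] [QuasiCompact R.hom] [QuasiSeparated R.hom] :
    Rep ((Over.pullback (c.π.app j)).map s) ((Over.pullback (c.π.app j)).map t) ↔
      ∃ (i : I) (f : i ⟶ j), Rep ((Over.pullback (D.map f)).map s) ((Over.pullback (D.map f)).map t) := by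
  refine ⟨fun hrep => ?_, fun ⟨i, f, h⟩ => rep_later (c.w f) h⟩
  obtain ⟨Y, p, hfl, hsur, hlfp, hpb⟩ := hrep
  haveI := hfl; haveI := hsur; haveI := hlfp
  -- finiteness of the quotient
  haveI : LocallyOfFinitePresentation (Red.bc (c.π.app j) X).hom := MorphismProperty.pullback_snd _ _ ‹_›
  haveI : QuasiCompact (Red.bc (c.π.app j) X).hom := MorphismProperty.pullback_snd _ _ ‹_›
  haveI : QuasiSeparated (Red.bc (c.π.app j) X).hom := MorphismProperty.pullback_snd _ _ ‹_›
  haveI : LocallyOfFinitePresentation (p.left ≫ Y.hom) := by rw [Over.w p]; infer_instance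
  haveI : QuasiCompact (p.left ≫ Y.hom) := by rw [Over.w p]; infer_instance
  haveI : QuasiSeparated (p.left ≫ Y.hom) := by rw [Over.w p]; infer_instance
  haveI : LocallyOfFinitePresentation Y.hom := H13Flat.lfp_of_flat_surjective p.left Y.hom
  haveI : QuasiCompact Y.hom := H27Perf.quasiCompact_of_comp_surjective p.left Y.hom
  haveI : QuasiCompact (pullback.fst p.left p.left ≫ p.left ≫ Y.hom) := by
    have h0 : IsPullback ((Over.pullback (c.π.app j)).map s).left ((Over.pullback (c.π.app j)).map t).left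
        p.left p.left := (Over.forget c.pt).map_isPullback hpb
    rw [← h0.isoPullback_inv_fst, Category.assoc, Over.w p, Over.w ((Over.pullback (c.π.app j)).map s)]
    haveI : QuasiCompact (Red.bc (c.π.app j) R).hom := MorphismProperty.pullback_snd _ _ ‹_›
    infer_instance
  haveI : QuasiSeparated Y.hom := quasiSeparated_of_cover p.left Y.hom
  obtain ⟨i, h, Q, v, e, _, _, _, hv⟩ := exists_cover_stage hc p
  let s' := (Over.pullback (D.map h)).map s
  let t' := (Over.pullback (D.map h)).map t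
  let Xi := Red.bc (D.map h) X
  let Ri := Red.bc (D.map h) R
  haveI : LocallyOfFinitePresentation Xi.hom := MorphismProperty.pullback_snd _ _ ‹_›
  haveI : QuasiCompact Xi.hom := MorphismProperty.pullback_snd _ _ ‹_›
  haveI : QuasiSeparated Xi.hom := MorphismProperty.pullback_snd _ _ ‹_›
  haveI : LocallyOfFinitePresentation Ri.hom := MorphismProperty.pullback_snd _ _ ‹_›
  haveI : QuasiCompact Ri.hom := MorphismProperty.pullback_snd _ _ ‹_›
  haveI : QuasiSeparated Ri.hom := MorphismProperty.pullback_snd _ _ ‹_›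
  haveI := compactSpace_left Xi
  haveI := quasiSeparatedSpace_left Xi
  haveI := compactSpace_left Ri
  haveI := quasiSeparatedSpace_left Ri
  haveI := compactSpace_left Q
  haveI := quasiSeparatedSpace_left Q
  haveI : LocallyOfFinitePresentation (v.left ≫ Q.hom) := by rw [Over.w v]; infer_instance
  haveI : LocallyOfFinitePresentation v.left := locallyOfFinitePresentation_of_comp v.left Q.hom
  have hprop : ∀ (P : MorphismProperty Scheme.{u}) [P.RespectsIso], P p.left →
      P ((Over.pullback (c.π.app i)).map v).left := by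
    intro P _ hP
    rw [hv, Over.comp_left, Over.comp_left]
    exact (P.cancel_left_of_respectsIso _ _).2 ((P.cancel_right_of_respectsIso _ _).2 hP)
  have hdf : Descends @Flat @LocallyOfFinitePresentation :=
    fun J _ _ E d hd _ a _ _ T b _ _ hb hb' => exists_descend hd descendsAffine_flat a b hb hb'
  obtain ⟨i₁, g₁, hg₁⟩ := exists_prop_stage hc hdf v (hprop @Flat hfl)
  -- the square commutes at a stage
  have hn : ∀ z : R ⟶ X, (Over.pullback (c.π.app i)).map ((Over.pullback (D.map h)).map z) ≫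
      (compIso (c.w h) X).hom = (compIso (c.w h) R).hom ≫ (Over.pullback (c.π.app j)).map z := fun z => by
    exact map_map_compIso _ _
  obtain ⟨i₂, g₂, hg₂⟩ := exists_map_eq₀ hc (s' ≫ v) (t' ≫ v) (by
    simp only [s', t', (Over.pullback (c.π.app i)).map_comp, hv, reassoc_of% hn, reassoc_of% hpb.w])
  obtain ⟨k, a₁, a₂, ha⟩ := IsCofiltered.cospan g₁ g₂
  let g := a₁ ≫ g₁
  let F := Over.pullback (D.map g)
  have hgeq : F.map (s' ≫ v) = F.map (t' ≫ v) :=
    map_eq_later (show D.map a₂ ≫ D.map g₂ = D.map g by rw [← D.map_comp, ← ha]) hg₂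
  have hflat : Flat (F.map v).left := prop_map_left_later (D.map_comp a₁ g₁).symm @Flat v hg₁
  haveI := hflat
  haveI := lfp_map_left (D.map g) v
  let Qk := F.obj Q
  haveI : QuasiCompact Qk.hom := MorphismProperty.pullback_snd _ _ ‹_›
  haveI : QuasiSeparated Qk.hom := MorphismProperty.pullback_snd _ _ ‹_›
  haveI := compactSpace_left Qk
  let cv := compIso (c.w g) (Red.bc (D.map h) X)
  have hFv : (Over.pullback (c.π.app k)).map (F.map v) ≫ (compIso (c.w g) Q).hom =
      cv.hom ≫ (Over.pullback (c.π.app i)).map v := by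
    exact map_map_compIso _ _
  obtain ⟨i₃, g₃, hg₃⟩ := exists_surjective_stage hc (F.map v)
    (by
      have h1 : Surjective (((Over.pullback (c.π.app k)).map (F.map v) ≫ (compIso (c.w g) Q).hom).left) := by
        rw [hFv, Over.comp_left]
        exact (MorphismProperty.cancel_left_of_respectsIso @Surjective _ _).2 (hprop @Surjective hsur)
      rw [Over.comp_left] at h1
      exact (MorphismProperty.cancel_right_of_respectsIso @Surjective _ _).1 h1)
  -- the comparison with the fibre product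
  let G := Over.pullback (D.map g₃)
  let Xl := G.obj (F.obj Xi)
  let Rl := G.obj (F.obj Ri)
  let vl := G.map (F.map v)
  let sl := G.map (F.map s')
  let tl := G.map (F.map t')
  have heq : sl ≫ vl = tl ≫ vl := by
    rw [← G.map_comp, ← F.map_comp, hgeq, F.map_comp, G.map_comp]
  have hK := isPullback_kp vl
  let w := hK.lift sl tl heq
  haveI : LocallyOfFinitePresentation Xl.hom :=
    MorphismProperty.pullback_snd _ _ (MorphismProperty.pullback_snd _ _ ‹LocallyOfFinitePresentation Xi.hom›)
  haveI : QuasiCompact Xl.hom :=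
    MorphismProperty.pullback_snd _ _ (MorphismProperty.pullback_snd _ _ ‹QuasiCompact Xi.hom›)
  haveI : QuasiSeparated Xl.hom :=
    MorphismProperty.pullback_snd _ _ (MorphismProperty.pullback_snd _ _ ‹QuasiSeparated Xi.hom›)
  haveI : LocallyOfFinitePresentation Rl.hom :=
    MorphismProperty.pullback_snd _ _ (MorphismProperty.pullback_snd _ _ ‹LocallyOfFinitePresentation Ri.hom›)
  haveI : QuasiCompact Rl.hom :=
    MorphismProperty.pullback_snd _ _ (MorphismProperty.pullback_snd _ _ ‹QuasiCompact Ri.hom›)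
  haveI : QuasiSeparated Rl.hom :=
    MorphismProperty.pullback_snd _ _ (MorphismProperty.pullback_snd _ _ ‹QuasiSeparated Ri.hom›)
  haveI : QuasiSeparated (G.obj Qk).hom := MorphismProperty.pullback_snd _ _ ‹QuasiSeparated Qk.hom›
  haveI : QuasiCompact (vl.left ≫ (G.obj Qk).hom) := by rw [Over.w vl]; infer_instance
  haveI : QuasiSeparated (vl.left ≫ (G.obj Qk).hom) := by rw [Over.w vl]; infer_instance
  haveI : QuasiCompact vl.left := QuasiCompact.of_comp vl.left (G.obj Qk).hom
  haveI : QuasiSeparated vl.left := QuasiSeparated.of_comp vl.left (G.obj Qk).hom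
  haveI : LocallyOfFinitePresentation vl.left := lfp_map_left (D.map g₃) (F.map v)
  haveI : QuasiCompact (kp vl).hom := inferInstanceAs (QuasiCompact (pullback.fst vl.left vl.left ≫ Xl.hom))
  haveI : QuasiSeparated (kp vl).hom := inferInstanceAs (QuasiSeparated (pullback.fst vl.left vl.left ≫ Xl.hom))
  haveI : LocallyOfFiniteType (kp vl).hom :=
    inferInstanceAs (LocallyOfFiniteType (pullback.fst vl.left vl.left ≫ Xl.hom))
  haveI := compactSpace_left (kp vl)
  haveI := quasiSeparatedSpace_left (kp vl)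
  haveI := compactSpace_left Rl
  haveI := quasiSeparatedSpace_left Rl
  haveI : LocallyOfFinitePresentation (w.left ≫ (kp vl).hom) := by rw [Over.w w]; infer_instance
  haveI : LocallyOfFinitePresentation w.left := locallyOfFinitePresentation_of_comp w.left (kp vl).hom
  -- the limit square
  let H := Over.pullback (c.π.app i₃)
  let φ : i₃ ⟶ i := g₃ ≫ g
  let cc : ∀ Z : Over (D.obj i), H.obj (G.obj (F.obj Z)) ≅ Red.bc (c.π.app i) Z := fun Z =>
    compIso (c.w g₃) (F.obj Z) ≪≫ compIso (c.w g) Z
  have hcc : ∀ {A B : Over (D.obj i)} (z : A ⟶ B), H.map (G.map (F.map z)) ≫ (cc B).hom =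
      (cc A).hom ≫ (Over.pullback (c.π.app i)).map z := by
    intro A B z
    exact sq_trans (map_map_compIso (c.w g₃) (F.map z)) (map_map_compIso (c.w g) z)
  have hlim : IsPullback (H.map sl) (H.map tl) (H.map vl) (H.map vl) := by
    refine hpb.of_iso ((cc Ri) ≪≫ compIso (c.w h) R).symm ((cc Xi) ≪≫ compIso (c.w h) X).symm
      ((cc Xi) ≪≫ compIso (c.w h) X).symm (e ≪≫ (cc Q).symm) ?_ ?_ ?_ ?_
    · exact sq_symm (sq_trans (hcc _) (hn s))
    · exact sq_symm (sq_trans (hcc _) (hn t))
    · simp only [Iso.trans_hom, Iso.symm_hom]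
      rw [← Category.assoc, Iso.comp_inv_eq, Category.assoc, hcc, hv, Iso.trans_inv]
      simp
    · simp only [Iso.trans_hom, Iso.symm_hom]
      rw [← Category.assoc, Iso.comp_inv_eq, Category.assoc, hcc, hv, Iso.trans_inv]
      simp
  have hiso : IsIso (H.map w).left := by
    refine (isIso_left_iff _).2 ?_
    have e1 : H.map w = (hlim.isoIsPullback _ _ (H.map_isPullback hK)).hom := by
      refine (H.map_isPullback hK).hom_ext ?_ ?_
      · rw [IsPullback.isoIsPullback_hom_fst, ← H.map_comp, hK.lift_fst]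
      · rw [IsPullback.isoIsPullback_hom_snd, ← H.map_comp, hK.lift_snd]
    rw [e1]; infer_instance
  obtain ⟨l, b, hb⟩ := exists_iso_stage hc w hiso
  let K := Over.pullback (D.map b)
  haveI : IsIso (K.map w) := (isIso_left_iff _).1 hb
  have hl : IsPullback (K.map sl) (K.map tl) (K.map vl) (K.map vl) :=
    (K.map_isPullback hK).of_iso (asIso (K.map w)).symm (Iso.refl _) (Iso.refl _) (Iso.refl _)
      (by rw [Iso.refl_hom, Category.comp_id, Iso.symm_hom, asIso_inv, IsIso.eq_inv_comp, ← K.map_comp, hK.lift_fst])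
      (by rw [Iso.refl_hom, Category.comp_id, Iso.symm_hom, asIso_inv, IsIso.eq_inv_comp, ← K.map_comp, hK.lift_snd])
      (by simp) (by simp)
  refine ⟨l, (b ≫ g₃ ≫ g) ≫ h, ?_⟩
  let d : ∀ Z : Over (D.obj j), K.obj (G.obj (F.obj (Red.bc (D.map h) Z))) ≅ Red.bc (D.map ((b ≫ g₃ ≫ g) ≫ h)) Z :=
    fun Z => compIso (D.map_comp b g₃).symm (F.obj (Red.bc (D.map h) Z)) ≪≫
      compIso (show D.map (b ≫ g₃) ≫ D.map g = D.map (b ≫ g₃ ≫ g) by rw [← D.map_comp, Category.assoc]) _ ≪≫
      compIso (D.map_comp (b ≫ g₃ ≫ g) h).symm Z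
  have hd : ∀ z : R ⟶ X, K.map (G.map (F.map ((Over.pullback (D.map h)).map z))) ≫ (d X).hom =
      (d R).hom ≫ (Over.pullback (D.map ((b ≫ g₃ ≫ g) ≫ h))).map z := by
    intro z
    exact sq_trans (map_map_compIso (D.map_comp b g₃).symm (F.map ((Over.pullback (D.map h)).map z)))
      (sq_trans (map_map_compIso _ ((Over.pullback (D.map h)).map z)) (map_map_compIso _ z))
  refine ⟨K.obj (G.obj Qk), (d X).inv ≫ K.map vl, ?_, ?_, ?_, ?_⟩
  · rw [Over.comp_left]
    haveI := flat_map_left (D.map g₃) (F.map v)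
    exact (MorphismProperty.cancel_left_of_respectsIso @Flat _ _).2 (flat_map_left (D.map b) vl)
  · rw [Over.comp_left]
    haveI := hg₃
    exact (MorphismProperty.cancel_left_of_respectsIso @Surjective _ _).2 (surjective_map_left (D.map b) vl)
  · rw [Over.comp_left]
    exact (MorphismProperty.cancel_left_of_respectsIso @LocallyOfFinitePresentation _ _).2 (lfp_map_left (D.map b) vl)
  · exact hl.of_iso (d R) (d X) (d X) (Iso.refl _) (hd s) (hd t) (by simp) (by simp)

end Groth.Agent.H7Lim.OverStage
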