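import Groth.Agent.H7Lim.DescendIso
import Groth.Agent.H7Lim.Sections
import Groth.Prelude.Def_CInt
import Mathlib.AlgebraicGeometry.Morphisms.SchemeTheoreticallyDominant
import Mathlib.AlgebraicGeometry.IdealSheaf.Subscheme
import Groth.Agent.H12AlgSp.LocPCancel
import Mathlib.AlgebraicGeometry.Noetherian
import Mathlib.AlgebraicGeometry.Morphisms.FinitePresentation

/-!
# Schematic density of an open descends along flat affine limits of Noetherian schemes
-/

set_option autoImplicit false
set_option linter.style.haveILetI false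
set_option backward.isDefEq.respectTransparency false
universe u

open CategoryTheory CategoryTheory.Limits AlgebraicGeometry TopologicalSpace Opposite

namespace Groth.Agent.H7Lim.SchDenseLimit

theorem isSchDense_iff {X : Scheme.{u}} (U : X.Opens) [QuasiCompact U.ι] :
    CInt.IsSchematicallyDense U ↔ IsSchemeTheoreticallyDominant U.ι := by
  have key : ∀ V : X.Opens, Function.Injective (U.ι.app V) ↔
      Function.Injective (X.presheaf.map (homOfLE (inf_le_left : V ⊓ U ≤ V)).op) := fun V => by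
    have h1 : U.ι ''ᵁ U.ι ⁻¹ᵁ V = V ⊓ U := by
      rw [Scheme.Hom.image_preimage_eq_opensRange_inf, Scheme.Opens.opensRange_ι, inf_comm]
    have h2 : U.ι.app V = X.presheaf.map (homOfLE (inf_le_left : V ⊓ U ≤ V)).op ≫
        X.presheaf.map (eqToHom h1).op := by
      rw [Scheme.Opens.ι_app, ← Functor.map_comp]
      rfl
    haveI : IsIso (X.presheaf.map (eqToHom h1).op) := inferInstance
    rw [h2]
    exact (ConcreteCategory.bijective_of_isIso (X.presheaf.map (eqToHom h1).op)).1.of_comp_iff _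
  refine ⟨fun h => ⟨?_⟩, fun h V => (key V).1 (U.ι.app_injective V)⟩
  refine Scheme.IdealSheafData.ext (funext fun V => ?_)
  rw [Scheme.Hom.ker_apply, Scheme.IdealSheafData.ideal_bot, Pi.bot_apply, ← RingHom.injective_iff_ker_eq_bot]
  exact (key V).2 (h V)

theorem isSTD_toImage {X Y : Scheme.{u}} (f : X ⟶ Y) [QuasiCompact f] :
    IsSchemeTheoreticallyDominant f.toImage := by
  refine ⟨Scheme.IdealSheafData.ext_of_iSup_eq_top
    (fun U : Y.affineOpens => ⟨f.imageι ⁻¹ᵁ U.1, U.2.preimage f.imageι⟩) ?_ fun U => ?_⟩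
  · rw [← Scheme.Hom.preimage_iSup, iSup_affineOpens_eq_top, Scheme.Hom.preimage_top]
  · rw [Scheme.Hom.ker_apply, Scheme.IdealSheafData.ideal_bot, Pi.bot_apply, ← RingHom.injective_iff_ker_eq_bot]
    exact f.toImage_app_injective U

variable {I : Type u} [SmallCategory I] [IsCofiltered I] {D : I ⥤ Scheme.{u}} {c : Cone D}

/-- Pullback of a schematically dense open by a flat morphism. -/
theorem isSTD_preimage {X Y : Scheme.{u}} (g : Y ⟶ X) [Flat g] (U : X.Opens) [QuasiCompact U.ι]
    [IsSchemeTheoreticallyDominant U.ι] : IsSchemeTheoreticallyDominant (g ⁻¹ᵁ U).ι := by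
  rw [← (isPullback_morphismRestrict g U).isoPullback_hom_snd]
  infer_instance

/-- **Schematic density is detected at a stage.** -/
theorem isSchDense_iff_exists_stage (hc : IsLimit c) [∀ (i j : I) (g : i ⟶ j), IsAffineHom (D.map g)]
    [∀ (i j : I) (g : i ⟶ j), Flat (D.map g)] [∀ i : I, IsNoetherian (D.obj i)] [IsNoetherian c.pt]
    (i₀ : I) (U₀ : (D.obj i₀).Opens) :
    CInt.IsSchematicallyDense ((c.π.app i₀) ⁻¹ᵁ U₀) ↔
      ∃ (i : I) (g : i ⟶ i₀), CInt.IsSchematicallyDense ((D.map g) ⁻¹ᵁ U₀) := by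
  haveI hqc : ∀ (j : I) (W : (D.obj j).Opens), QuasiCompact W.ι := fun j W => inferInstance
  haveI : IsLocallyNoetherian c.pt := inferInstance
  haveI : IsLocallyNoetherian (((Functor.const I).obj c.pt).obj i₀) :=
    inferInstanceAs (IsLocallyNoetherian c.pt)
  haveI : QuasiCompact ((c.π.app i₀) ⁻¹ᵁ U₀).ι := inferInstance
  haveI hflat : ∀ i, Flat (c.π.app i) := fun i => flat_π_app hc i fun _ _ => inferInstance
  rw [isSchDense_iff]
  constructor
  · intro h
    let Z := U₀.ι.image
    let ι := U₀.ι.imageι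
    haveI : IsSchemeTheoreticallyDominant U₀.ι.toImage := isSTD_toImage _
    -- the closed subscheme becomes everything over the limit
    have key : ∀ {Y : Scheme.{u}} (g : Y ⟶ D.obj i₀) [Flat g],
        ∃ u : (g ⁻¹ᵁ U₀ : Scheme.{u}) ⟶ pullback ι g,
          IsSchemeTheoreticallyDominant u ∧ u ≫ pullback.snd ι g = (g ⁻¹ᵁ U₀).ι := fun {Y} g _ => by
      let u : (g ⁻¹ᵁ U₀ : Scheme.{u}) ⟶ pullback ι g :=
        pullback.lift ((g ∣_ U₀) ≫ U₀.ι.toImage) (g ⁻¹ᵁ U₀).ι
          (by rw [Category.assoc, Scheme.Hom.toImage_imageι, morphismRestrict_ι])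
      have hu : IsPullback u (g ∣_ U₀) (pullback.fst ι g) U₀.ι.toImage :=
        IsPullback.of_right (h₁₂ := pullback.snd ι g) (h₂₂ := ι) (v₁₃ := g)
          (by rw [pullback.lift_snd, Scheme.Hom.toImage_imageι]; exact (isPullback_morphismRestrict g U₀).flip)
          (pullback.lift_fst _ _ _) (IsPullback.of_hasPullback ι g).flip
      haveI : Flat (pullback.fst ι g) := MorphismProperty.pullback_fst _ _ inferInstance
      refine ⟨u, ?_, pullback.lift_snd _ _ _⟩
      rw [← hu.flip.isoPullback_hom_snd]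
      infer_instance
    obtain ⟨u, hu, hus⟩ := key (c.π.app i₀)
    haveI : IsIso (pullback.snd ι (c.π.app i₀)) := by
      rw [IsClosedImmersion.isIso_iff_ker_eq_bot]
      refine le_bot_iff.mp ((u.le_ker_comp (pullback.snd ι (c.π.app i₀))).trans ?_)
      rw [hus, ((c.π.app i₀) ⁻¹ᵁ U₀).ι.ker_eq_bot]
    haveI : LocallyOfFinitePresentation ι :=
      H12AlgSp.lfp_of_lft_of_isLocallyNoetherian ι
    haveI : CompactSpace Z := QuasiCompact.compactSpace_of_compactSpace ι
    haveI : QuasiSeparatedSpace Z := quasiSeparatedSpace_of_quasiSeparated ι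
    obtain ⟨j, φ, hj⟩ := descends_isIso I D c hc i₀ ι inferInstance ‹_›
    refine ⟨j, φ, (isSchDense_iff _).2 ?_⟩
    haveI : IsIso (pullback.snd ι (D.map φ)) := hj
    obtain ⟨u', hu', hus'⟩ := key (D.map φ)
    rw [← hus']
    infer_instance
  · rintro ⟨i, g, h⟩
    haveI := (isSchDense_iff _).1 h
    have := isSTD_preimage (c.π.app i) (D.map g ⁻¹ᵁ U₀)
    rwa [← Scheme.Hom.comp_preimage, c.w] at this

end Groth.Agent.H7Lim.SchDenseLimit
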