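import Groth.Agent.S2534
import Groth.Agent.S2502
import Groth.Agent.S4625
import Groth.Agent.S1326
import Groth.Agent.S4953
import Groth.Agent.H06SecComp.Generic
import Groth.Agent.H06EGA9.FibreMap
import Groth.Agent.H17.Fibre
import Groth.Agent.H24Algz.NisCover
import Groth.Prelude.Def_Mor2
import Mathlib.AlgebraicGeometry.Morphisms.QuasiFinite

/-!
# Opens with geometrically connected fibres through a finite locally free quasi-section
-/

set_option autoImplicit false
set_option linter.style.haveILetI false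
set_option backward.isDefEq.respectTransparency false

universe u

open CategoryTheory Limits AlgebraicGeometry TopologicalSpace Topology IsLocalRing

namespace Groth.Agent.H7Lim.SectionConn

theorem geometricallyConnected_id (K : Type u) [Field K] :
    GeometricallyConnected (𝟙 (Spec (CommRingCat.of K))) := by
  refine ⟨fun L _ a Z fst snd h => ?_⟩
  haveI : IsIso snd := MorphismProperty.of_isPullback (P := MorphismProperty.isomorphisms Scheme) h
    (MorphismProperty.isomorphisms.infer_property _)
  exact (Scheme.Hom.homeomorph snd).symm.surjective.connectedSpace (Scheme.Hom.homeomorph snd).symm.continuous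

/-- The step over a field. -/
theorem field_step {k K : Type u} [Field k] [Field K] [Algebra k K] [Module.Finite k K] {F F' : Scheme.{u}}
    (a : F ⟶ Spec (CommRingCat.of k)) [LocallyOfFiniteType a] (b : F' ⟶ Spec (CommRingCat.of K)) (π : F' ⟶ F)
    (hsq : IsPullback π b a (Spec.map (CommRingCat.ofHom (algebraMap k K))))
    (σ : Spec (CommRingCat.of K) ⟶ F') (hσ : σ ≫ b = 𝟙 _) (x : F)
    (hx : ∀ w : F', π w = x → w ∈ connectedComponent (σ (closedPoint K))) :
    π ⁻¹' connectedComponent x = connectedComponent (σ (closedPoint K)) ∧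
      ∀ {C : Scheme.{u}} (j : C ⟶ F) [IsOpenImmersion j], Set.range j = connectedComponent x →
        GeometricallyConnected (j ≫ a) := by
  let φ : Spec (CommRingCat.of K) ⟶ Spec (CommRingCat.of k) := Spec.map (CommRingCat.ofHom (algebraMap k K))
  haveI : IsFinite φ := (IsFinite.SpecMap_iff _).2 (RingHom.finite_algebraMap.2 ‹_›)
  haveI : Flat φ := (HasRingHomProperty.Spec_iff (P := @Flat)).mpr (RingHom.flat_algebraMap_iff.mpr inferInstance)
  haveI : Surjective φ := ⟨fun y => ⟨closedPoint K, Subsingleton.elim (α := PrimeSpectrum k) _ _⟩⟩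
  haveI : IsFinite π := MorphismProperty.of_isPullback hsq.flip ‹IsFinite φ›
  haveI : Flat π := MorphismProperty.of_isPullback hsq.flip ‹Flat φ›
  haveI hπ : Surjective π := MorphismProperty.of_isPullback hsq.flip ‹Surjective φ›
  haveI : IsLocallyNoetherian F := LocallyOfFiniteType.isLocallyNoetherian a
  set p := σ (closedPoint K)
  have hW : π ⁻¹' connectedComponent x = connectedComponent p := by
    refine Set.Subset.antisymm (fun w hw => ?_) (fun w hw => ?_)
    · have himg := S2534.result π π.isClosedMap (Flat.generalizingMap π) w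
      obtain ⟨w₀, hw₀, hπw₀⟩ : x ∈ π.base '' connectedComponent w := by
        rw [himg, ← connectedComponent_eq (show π w ∈ connectedComponent x from hw)]
        exact mem_connectedComponent
      rw [connectedComponent_eq (hx w₀ hπw₀), ← connectedComponent_eq hw₀]
      exact mem_connectedComponent
    · obtain ⟨w₀, hw₀⟩ := hπ.surj x
      exact (isPreconnected_connectedComponent.image π π.continuous.continuousOn).subset_connectedComponent
        ⟨w₀, hx w₀ hw₀, hw₀⟩ ⟨w, hw, rfl⟩
  refine ⟨hW, fun {C} j _ hj => ?_⟩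
  let j' := pullback.fst π j
  have hP : IsPullback (pullback.snd π j) (j' ≫ b) (j ≫ a) φ :=
    (IsPullback.of_hasPullback π j).flip.paste_vert hsq
  have hrange : Set.range j' = connectedComponent p := by
    rw [Scheme.Pullback.range_fst, hj, hW]
  haveI : ConnectedSpace ↥(pullback π j) := by
    have h : _root_.IsConnected (Set.range j') := hrange ▸ isConnected_connectedComponent
    haveI := isConnected_iff_connectedSpace.1 h
    exact j'.isEmbedding.toHomeomorph.symm.surjective.connectedSpace j'.isEmbedding.toHomeomorph.symm.continuous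
  have hσr : Set.range σ ⊆ Set.range j' := by
    rintro _ ⟨t, rfl⟩
    rw [hrange, show t = closedPoint K from Subsingleton.elim (α := PrimeSpectrum K) _ _]
    exact mem_connectedComponent
  let σ' := IsOpenImmersion.lift j' σ hσr
  haveI : GeometricallyConnected (σ' ≫ j' ≫ b) := by
    rw [← Category.assoc, IsOpenImmersion.lift_fac, hσ]
    exact geometricallyConnected_id K
  haveI := S2502.result σ' (j' ≫ b)
  refine (S4625.result (K := K) (j ≫ a)).2 ?_
  have : hP.isoPullback.inv ≫ (j' ≫ b) = FBase.bcStr (j ≫ a) K := hP.isoPullback_inv_snd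
  rw [← this]
  exact (MorphismProperty.cancel_left_of_respectsIso (P := @GeometricallyConnected) _ _).2 ‹_›

theorem exists_fibre_square' {X Y Z : Scheme.{u}} (f : X ⟶ Y) (g : Z ⟶ Y) (y : Y) (z : Z) (hz : g z = y) :
    ∃ (α : Y.residueField y ⟶ Z.residueField z) (π : (pullback.snd f g).fiber z ⟶ f.fiber y),
      IsPullback π ((pullback.snd f g).fiberToSpecResidueField z) (f.fiberToSpecResidueField y) (Spec.map α) ∧
      π ≫ f.fiberι y = (pullback.snd f g).fiberι z ≫ pullback.fst f g ∧
      ((g.residueFieldMap z).hom.Finite → α.hom.Finite) := by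
  subst hz
  refine ⟨g.residueFieldMap z, pullback.lift ((pullback.snd f g).fiberι z ≫ pullback.fst f g)
    ((pullback.snd f g).fiberToSpecResidueField z ≫ Spec.map (g.residueFieldMap z)) ?_, ?_, pullback.lift_fst _ _ _, id⟩
  · rw [Category.assoc, Category.assoc, Scheme.Hom.SpecMap_residueFieldMap_fromSpecResidueField,
      pullback.condition, ← Category.assoc, ← Category.assoc]
    exact congrArg (· ≫ g) pullback.condition
  · refine IsPullback.of_right (h₁₂ := f.fiberι (g z)) (h₂₂ := Y.fromSpecResidueField (g z)) (v₁₃ := f) ?_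
      (pullback.lift_snd _ _ _) (IsPullback.of_hasPullback _ _)
    rw [show (pullback.lift _ _ _ : (pullback.snd f g).fiber z ⟶ f.fiber (g z)) ≫ f.fiberι (g z) = _ from
      pullback.lift_fst _ _ _, Scheme.Hom.SpecMap_residueFieldMap_fromSpecResidueField]
    exact (IsPullback.of_hasPullback _ (Z.fromSpecResidueField z)).paste_horiz (IsPullback.of_hasPullback f g)

theorem exists_fibre_square {X Y Z : Scheme.{u}} (f : X ⟶ Y) (g : Z ⟶ Y) (y : Y) (z : Z) (hz : g z = y) :
    ∃ (α : Y.residueField y ⟶ Z.residueField z) (π : (pullback.snd f g).fiber z ⟶ f.fiber y),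
      IsPullback π ((pullback.snd f g).fiberToSpecResidueField z) (f.fiberToSpecResidueField y) (Spec.map α) :=
  let ⟨α, π, h, _⟩ := exists_fibre_square' f g y z hz
  ⟨α, π, h⟩

section Global

variable {X Y Z : Scheme.{u}} (f : X ⟶ Y) (g : Z ⟶ Y) (t : Z ⟶ pullback f g)

/-- The points over the image of `g` all whose preimages lie in the section components. -/
def good : Set X :=
  {x | f x ∈ Set.range g ∧ ∀ w : ↥(pullback f g), pullback.fst f g w = x →
    w ∈ MoreMor.sectionComponents (pullback.snd f g) t}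

variable {f g t} [LocallyOfFiniteType f] [IsFinite g]

theorem fibre_step (ht : t ≫ pullback.snd f g = 𝟙 Z) (y : Y) (z : Z) (hz : g z = y) (v : f.fiber y)
    (hv : f.fiberι y v ∈ good f g t) :
    (∀ w : ↥(pullback f g), pullback.snd f g w = z → (w ∈ MoreMor.sectionComponents (pullback.snd f g) t ↔
        ∃ v' ∈ connectedComponent v, f.fiberι y v' = pullback.fst f g w)) ∧
      ∀ {C : Scheme.{u}} (j : C ⟶ f.fiber y) [IsOpenImmersion j], Set.range j = connectedComponent v →
        GeometricallyConnected (j ≫ f.fiberToSpecResidueField y) := by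
  subst hz
  let q := pullback.snd f g
  let α := g.residueFieldMap z
  letI : Algebra (Y.residueField (g z)) (Z.residueField z) := α.hom.toAlgebra
  haveI : Module.Finite (Y.residueField (g z)) (Z.residueField z) := by
    have : IsLocallyArtinian (g.fiber (g z)) := inferInstance
    exact H17.finite_residueFieldMap g z (isClosed_discrete _)
  let π : q.fiber z ⟶ f.fiber (g z) :=
    pullback.lift (q.fiberι z ≫ pullback.fst f g) (q.fiberToSpecResidueField z ≫ Spec.map α) (by
      rw [Category.assoc, Category.assoc, Scheme.Hom.SpecMap_residueFieldMap_fromSpecResidueField,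
        pullback.condition, ← Category.assoc, ← Category.assoc]
      exact congrArg (· ≫ g) pullback.condition)
  have hπι : π ≫ f.fiberι (g z) = q.fiberι z ≫ pullback.fst f g := pullback.lift_fst _ _ _
  have hsq : IsPullback π (q.fiberToSpecResidueField z) (f.fiberToSpecResidueField (g z)) (Spec.map α) := by
    refine IsPullback.of_right (h₁₂ := f.fiberι (g z)) (h₂₂ := Y.fromSpecResidueField (g z)) (v₁₃ := f) ?_
      (pullback.lift_snd _ _ _) (IsPullback.of_hasPullback _ _)
    rw [hπι, Scheme.Hom.SpecMap_residueFieldMap_fromSpecResidueField]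
    exact (IsPullback.of_hasPullback q (Z.fromSpecResidueField z)).paste_horiz (IsPullback.of_hasPullback f g)
  let σ : Spec (Z.residueField z) ⟶ q.fiber z :=
    pullback.lift (Z.fromSpecResidueField z ≫ t) (𝟙 _) (by rw [Category.assoc, ht, Category.comp_id, Category.id_comp])
  have hσ : σ ≫ q.fiberToSpecResidueField z = 𝟙 _ := pullback.lift_snd _ _ _
  have hσpt : q.fiberι z (σ (closedPoint (Z.residueField z))) = t z := by
    rw [← Scheme.Hom.comp_apply, show σ ≫ q.fiberι z = Z.fromSpecResidueField z ≫ t from pullback.lift_fst _ _ _,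
      Scheme.Hom.comp_apply]
    exact congrArg t (Scheme.fromSpecResidueField_apply z _)
  have hmem : ∀ u : q.fiber z, q.fiberι z u ∈ MoreMor.sectionComponents q t ↔
      u ∈ connectedComponent (σ (closedPoint (Z.residueField z))) := by
    intro u
    have hu : q (q.fiberι z u) = z := by
      have : q.fiberι z u ∈ q ⁻¹' {z} := q.range_fiberι z ▸ Set.mem_range_self u
      exact this
    show _ ∈ connectedComponentIn (q ⁻¹' {q (q.fiberι z u)}) (t (q (q.fiberι z u))) ↔ _
    rw [hu, ← hσpt, ← q.range_fiberι z, ← Set.image_univ,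
      ← H06SecComp.image_connectedComponentIn_of_isEmbedding (q.fiberι z).isEmbedding (Set.mem_univ _),
      connectedComponentIn_univ, (q.fiberι z).isEmbedding.injective.mem_set_image]
  haveI : LocallyOfFiniteType (f.fiberToSpecResidueField (g z)) := H8Props.FieldDim.locallyOfFiniteType_fiberToSpec f _
  obtain ⟨h1, h2⟩ := field_step (k := Y.residueField (g z)) (K := Z.residueField z)
    (f.fiberToSpecResidueField (g z)) (q.fiberToSpecResidueField z) π hsq σ hσ v (fun u hu => (hmem u).1
      (hv.2 _ (by rw [← Scheme.Hom.comp_apply, ← hπι, Scheme.Hom.comp_apply, hu])))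
  refine ⟨fun w hw => ?_, h2⟩
  obtain ⟨u, rfl⟩ : w ∈ Set.range (q.fiberι z) := (q.range_fiberι z).ge hw
  refine (hmem u).trans ((Set.ext_iff.1 h1 u).symm.trans ?_)
  rw [Set.mem_preimage, ← Scheme.Hom.comp_apply, ← hπι, Scheme.Hom.comp_apply]
  exact ⟨fun h => ⟨_, h, rfl⟩, fun ⟨v', hv', e⟩ => (f.fiberι (g z)).isEmbedding.injective e ▸ hv'⟩

theorem fibre_good_eq (ht : t ≫ pullback.snd f g = 𝟙 Z) (y : Y) (v : f.fiber y)
    (hv : f.fiberι y v ∈ good f g t) : f.fiberι y ⁻¹' good f g t = connectedComponent v := by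
  have hfy : ∀ v' : f.fiber y, f (f.fiberι y v') = y := fun v' => by
    have : f.fiberι y v' ∈ f ⁻¹' {y} := f.range_fiberι y ▸ Set.mem_range_self v'
    exact this
  obtain ⟨z, hz⟩ := hfy v ▸ hv.1
  refine Set.Subset.antisymm (fun v' hv' => ?_) (fun v' hv' => ⟨?_, fun w hw => ?_⟩)
  · obtain ⟨w, hw, hwz⟩ := Scheme.Pullback.exists_preimage_pullback (f := f) (g := g) (f.fiberι y v') z
      ((hfy v').trans hz.symm)
    obtain ⟨v'', h1, h2⟩ := ((fibre_step ht y z hz v hv).1 w hwz).1 (hv'.2 w hw)
    exact (f.fiberι y).isEmbedding.injective (h2.trans hw) ▸ h1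
  · exact (hfy v').symm ▸ ⟨z, hz⟩
  · have hz' : g (pullback.snd f g w) = y := by
      rw [← Scheme.Hom.comp_apply, ← pullback.condition, Scheme.Hom.comp_apply, hw]
      exact hfy v'
    exact ((fibre_step ht y _ hz' v hv).1 w rfl).2 ⟨v', hv', hw.symm⟩

end Global

theorem isCompact_inf_preimage {X Y : Scheme.{u}} (f : X ⟶ Y) [QuasiCompact f] [QuasiSeparated f] {O : X.Opens}
    (h : IsLocallyConstructible (O : Set X)) {V : Y.Opens} (hV : IsAffineOpen V) :
    IsCompact ((O ⊓ f ⁻¹ᵁ V : X.Opens) : Set X) := by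
  haveI : IsAffine V := hV
  haveI : CompactSpace (f ⁻¹ᵁ V).toScheme := QuasiCompact.compactSpace_of_compactSpace (f ∣_ V)
  haveI : QuasiSeparatedSpace (f ⁻¹ᵁ V).toScheme := quasiSeparatedSpace_of_quasiSeparated (f ∣_ V)
  have h3 := (H24Algz.isCompact_of_isConstructible
    (h.preimage_of_isOpenEmbedding (f ⁻¹ᵁ V).ι.isOpenEmbedding).isConstructible).image (f ⁻¹ᵁ V).ι.continuous
  rwa [Set.image_preimage_eq_inter_range, Scheme.Opens.range_ι] at h3

theorem range_of_isPullback {P A B C : Scheme.{u}} {a : P ⟶ A} {b : P ⟶ B} {c : A ⟶ C} {d : B ⟶ C}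
    (h : IsPullback a b c d) : Set.range b = d ⁻¹' Set.range c := by
  rw [← h.isoPullback_hom_snd, Scheme.Hom.comp_base, TopCat.coe_comp,
    h.isoPullback.hom.surjective.range_comp, Scheme.Pullback.range_snd]

/-- An open with geometrically connected fibres through a given geometrically connected fibre. -/
theorem exists_open_geometricallyConnected_fibres {X Y Z : Scheme.{u}} (f : X ⟶ Y) [Flat f]
    [LocallyOfFinitePresentation f] [QuasiCompact f] [QuasiSeparated f] [GeometricallyReduced f]
    (g : Z ⟶ Y) (hg : Mor2.IsFinLocFree g) (σ : Z ⟶ X) (hσ : σ ≫ f = g) (y : Y) (hZy : y ∈ Set.range ⇑g)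
    (hXy : GeometricallyConnected (f.fiberToSpecResidueField y)) :
    ∃ U : X.Opens, IsCompact (U : Set ↑X) ∧ f ⁻¹' {y} ⊆ (U : Set ↑X) ∧
      (∀ y' : Y, (∃ x ∈ U, f x = y') → GeometricallyConnected ((U.ι ≫ f).fiberToSpecResidueField y')) ∧
      ∃ V : Y.Opens, IsAffineOpen V ∧ U ≤ f ⁻¹ᵁ V := by
  obtain ⟨hgf, hgfl, hglfp⟩ := hg
  haveI := hgf
  haveI := hgfl
  haveI := hglfp
  let t : Z ⟶ pullback f g := pullback.lift σ (𝟙 Z) (by rw [hσ, Category.id_comp])
  have ht : t ≫ pullback.snd f g = 𝟙 Z := pullback.lift_snd _ _ _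
  let q := pullback.snd f g
  let p := pullback.fst f g
  let W := MoreMor.sectionComponents q t
  have hWo : IsOpen W := by
    rw [isOpen_iff_forall_mem_open]
    intro w hw
    refine ⟨interior W, interior_subset, isOpen_interior, S4953.result q t ht (q w) ?_ hw⟩
    intro x' _
    haveI : GeometricallyReduced q := MorphismProperty.pullback_snd _ _ ‹_›
    intro K _ _ u _
    haveI : IsReduced (FBase.bc (q.fiberToSpecResidueField (q w)) K) :=
      (MorphismProperty.pullback_snd (P := @GeometricallyReduced) q _ ‹_›).geometrically_isReduced _ _ _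
        (IsPullback.of_hasPullback _ _)
    exact inferInstance
  have hWc : IsLocallyConstructible W := S1326.result q t ht
  haveI : UniversallyOpen g := inferInstance
  have hgo : IsOpen (Set.range g) := g.isOpenMap.isOpen_range
  have hgood : good f g t = (f ⁻¹' Set.range g) ∩ (p '' Wᶜ)ᶜ := by
    ext x
    exact ⟨fun ⟨h1, h2⟩ => ⟨h1, fun ⟨w, hw, e⟩ => hw (h2 w e)⟩,
      fun ⟨h1, h2⟩ => ⟨h1, fun w e => by_contra fun hw => h2 ⟨w, hw, e⟩⟩⟩
  haveI : IsFinite p := MorphismProperty.pullback_fst _ _ ‹_›
  have hopen : IsOpen (good f g t) := by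
    rw [hgood]
    exact (hgo.preimage f.continuous).inter (p.isClosedMap _ hWo.isClosed_compl).isOpen_compl
  have hcons : IsLocallyConstructible (good f g t) := by
    haveI : LocallyOfFinitePresentation p := MorphismProperty.pullback_fst _ _ ‹_›
    rw [hgood]
    rw [← Scheme.Pullback.range_fst f g, ← Set.image_univ]
    exact (p.isLocallyConstructible_image .univ).inter
      (H7Lim.isLocallyConstructible_compl (p.isLocallyConstructible_image (H7Lim.isLocallyConstructible_compl hWc)))
  obtain ⟨_, ⟨V', hV, rfl⟩, hyV, -⟩ :=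
    Y.isBasis_affineOpens.exists_subset_of_mem_open (Set.mem_univ y) isOpen_univ
  let V : Y.Opens := V'
  haveI : IsAffine V := hV
  let G : X.Opens := ⟨good f g t, hopen⟩
  have hfib : f ⁻¹' {y} ⊆ good f g t := by
    intro x hx
    refine ⟨(show f x = y from hx).symm ▸ hZy, fun w hw => ?_⟩
    have hgw : g (q w) = y := by
      rw [← Scheme.Hom.comp_apply, ← pullback.condition, Scheme.Hom.comp_apply, hw]
      exact hx
    obtain ⟨α, π, hsq⟩ := exists_fibre_square f g y (q w) hgw
    haveI : ConnectedSpace ↥(q.fiber (q w)) := hXy.geometrically_connectedSpace (Spec.map α) _ _ hsq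
    show w ∈ connectedComponentIn (q ⁻¹' {q w}) (t (q w))
    have hpre : _root_.IsPreconnected (q ⁻¹' {q w}) :=
      q.range_fiberι (q w) ▸ (isPreconnected_range (q.fiberι (q w)).continuous)
    refine hpre.subset_connectedComponentIn ?_ subset_rfl rfl
    show q (t (q w)) = q w
    rw [← Scheme.Hom.comp_apply, ht]
    rfl
  refine ⟨G ⊓ f ⁻¹ᵁ V, ?_, fun x hx => ⟨hfib hx, show f x ∈ V from (show f x = y from hx).symm ▸ hyV⟩, ?_,
    V, hV, inf_le_right⟩
  · exact isCompact_inf_preimage f (O := G) hcons hV
  · rintro y' ⟨x, hx, rfl⟩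
    obtain ⟨v, hv⟩ : ∃ v, f.fiberι (f x) v = x := ⟨f.asFiber x, f.fiberι_asFiber x⟩
    have hxg : f.fiberι (f x) v ∈ good f g t := hv.symm ▸ hx.1
    obtain ⟨z, hz⟩ := hx.1.1
    let U : X.Opens := G ⊓ f ⁻¹ᵁ V
    let j : (U.ι ≫ f).fiber (f x) ⟶ f.fiber (f x) := H06EGA9.fibMap U.ι f (f x)
    have hj := H06EGA9.isPullback_fibMap U.ι f (f x)
    haveI : IsOpenImmersion j := MorphismProperty.of_isPullback hj (inferInstanceAs (IsOpenImmersion U.ι))
    have hjr : Set.range j = connectedComponent v := by
      rw [← fibre_good_eq ht (f x) v hxg]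
      refine (range_of_isPullback hj).trans ?_
      rw [Scheme.Opens.range_ι]
      ext v'
      refine ⟨fun h => h.1, fun h => ⟨h, ?_⟩⟩
      have : f.fiberι (f x) v' ∈ f ⁻¹' {f x} := f.range_fiberι _ ▸ Set.mem_range_self v'
      show f (f.fiberι (f x) v') ∈ V
      rw [show f (f.fiberι (f x) v') = f x from this]
      exact hx.2
    have := (fibre_step ht (f x) z hz v hxg).2 j hjr
    rwa [show j ≫ f.fiberToSpecResidueField (f x) = (U.ι ≫ f).fiberToSpecResidueField (f x) from
      pullback.lift_snd _ _ _] at this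

end Groth.Agent.H7Lim.SectionConn
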