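import Groth.Agent.H25Gor.BaseChange
import Groth.Agent.H22Alg.NormalProd
import Groth.Agent.H06Red.Scheme
import Groth.Agent.H19Grp.AlgClosedGeom
import Groth.Agent.H06EGA12.GeomNormalOpen
import Groth.Agent.S2539
import Groth.Agent.S4627
import Groth.Agent.S4642
import Groth.Prelude.Def_Dual3

/-!
# Geometric fibres which are integral normal Gorenstein surfaces
-/

set_option autoImplicit false
set_option linter.style.haveILetI false
set_option backward.isDefEq.respectTransparency false

universe u

open CategoryTheory Limits AlgebraicGeometry TopologicalSpace IsLocalRing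

namespace Groth.Agent.H7Lim.SurfaceFibre

/-- Integral, normal, two dimensional, Gorenstein. -/
def Good (P : Scheme.{u}) : Prop :=
  IsIntegral P ∧ Pi1.IsNormalScheme P ∧ topologicalKrullDim ↥P = 2 ∧
    ∀ x : ↥P, LocCoh.IsGorensteinLocalRing (P.presheaf.stalk x)

theorem good_congr {P Q : Scheme.{u}} (e : P ≅ Q) : Good P ↔ Good Q := by
  suffices ∀ {P Q : Scheme.{u}} (e : P ≅ Q), Good Q → Good P from ⟨this e.symm, this e⟩
  intro P Q e ⟨h1, h2, h3, h4⟩
  haveI := h1
  haveI : Nonempty P := ⟨e.inv.base (Classical.arbitrary Q)⟩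
  exact ⟨isIntegral_of_isOpenImmersion e.hom, H22Alg.NormalProd.isNormalScheme_of_isOpenImmersion e.hom h2,
    (IsHomeomorph.topologicalKrullDim_eq _ (Scheme.Hom.homeomorph e.hom).isHomeomorph).trans h3,
    fun x => H25Gor.gor_stalk_of_iso e x (h4 _)⟩

/-- The conditions on a fibre over its residue field. -/
def GoodOver {k : Type u} [Field k] {P : Scheme.{u}} (p : P ⟶ Spec (CommRingCat.of k)) : Prop :=
  GeometricallyIntegral p ∧
    (∀ x : P, ∀ (K : Type u) [Field K] [Algebra k K], Module.Finite k K → ∀ x' : ↥(FBase.bc p K),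
      (FBase.bcπ p K).base x' = x →
        IsDomain ((FBase.bc p K).presheaf.stalk x') ∧ IsIntegrallyClosed ((FBase.bc p K).presheaf.stalk x')) ∧
    topologicalKrullDim ↥P = 2 ∧ ∀ x : P, LocCoh.IsGorensteinLocalRing (P.presheaf.stalk x)

theorem good_bc_iff {k K : Type u} [Field k] [Field K] [IsAlgClosed K] [Algebra k K] {P : Scheme.{u}}
    (p : P ⟶ Spec (CommRingCat.of k)) [LocallyOfFinitePresentation p] :
    Good (FBase.bc p K) ↔ GoodOver p := by
  let φ : Spec (CommRingCat.of K) ⟶ Spec (CommRingCat.of k) := Spec.map (CommRingCat.ofHom (algebraMap k K))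
  haveI : Flat φ := (HasRingHomProperty.Spec_iff (P := @Flat)).mpr (RingHom.flat_algebraMap_iff.mpr inferInstance)
  haveI : Surjective φ := ⟨fun y => ⟨closedPoint K, Subsingleton.elim (α := PrimeSpectrum k) _ _⟩⟩
  haveI : IsLocallyNoetherian P := LocallyOfFiniteType.isLocallyNoetherian p
  have H : IsPullback (FBase.bcπ p K) (FBase.bcStr p K) p φ := IsPullback.of_hasPullback p φ
  have hπ : Surjective (FBase.bcπ p K) := MorphismProperty.of_isPullback H.flip ‹Surjective φ›
  have hdim : topologicalKrullDim ↥(FBase.bc p K) = topologicalKrullDim ↥P := S4642.result p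
  have hgor : (∀ x : ↥(FBase.bc p K), LocCoh.IsGorensteinLocalRing ((FBase.bc p K).presheaf.stalk x)) ↔
      ∀ x : P, LocCoh.IsGorensteinLocalRing (P.presheaf.stalk x) :=
    ⟨fun h x => by
      obtain ⟨z, rfl⟩ := hπ.surj x
      exact (H25Gor.gor_stalk_iff_baseChange H z (Or.inr inferInstance)).1 (h z),
    fun h z => (H25Gor.gor_stalk_iff_baseChange H z (Or.inr inferInstance)).2 (h _)⟩
  unfold Good GoodOver
  rw [hdim, hgor]
  refine ⟨fun ⟨h1, h2, h3⟩ => ⟨?_, fun x K' _ _ _ x' _ => ?_, h3⟩, fun ⟨h1, h2, h3⟩ => ⟨?_, fun z => ?_, h3⟩⟩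
  · haveI : IsIntegral (FBase.bc p K) := h1
    haveI := H19Grp.geometricallyIrreducible_of_irreducibleSpace (FBase.bcStr p K)
    haveI := H06Red.geometricallyReduced_of_perfectField (FBase.bcStr p K)
    exact (S4627.result (K := K) p).2
      (GeometricallyIntegral.of_geometricallyReduced_of_geometricallyIrreducible (FBase.bcStr p K))
  · let j : K' →ₐ[k] K := IsAlgClosed.lift
    let sj : Spec (CommRingCat.of K) ⟶ Spec (CommRingCat.of K') := Spec.map (CommRingCat.ofHom j.toRingHom)
    let φ' : Spec (CommRingCat.of K') ⟶ Spec (CommRingCat.of k) := Spec.map (CommRingCat.ofHom (algebraMap k K'))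
    have hsj : sj ≫ φ' = φ := by
      show Spec.map _ ≫ Spec.map _ = Spec.map _
      rw [← Spec.map_comp, ← CommRingCat.ofHom_comp]
      exact congrArg (fun r => Spec.map (CommRingCat.ofHom r)) j.comp_algebraMap
    haveI : Flat sj := by
      letI := j.toRingHom.toAlgebra
      exact (HasRingHomProperty.Spec_iff (P := @Flat)).mpr (RingHom.flat_algebraMap_iff.mpr inferInstance)
    haveI : Surjective sj := ⟨fun y => ⟨closedPoint K, Subsingleton.elim (α := PrimeSpectrum K') _ _⟩⟩
    let r : pullback p φ ⟶ pullback p φ' :=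
      pullback.lift (pullback.fst p φ) (pullback.snd p φ ≫ sj) (by rw [Category.assoc, hsj, pullback.condition])
    have hr : IsPullback r (pullback.snd p φ) (pullback.snd p φ') sj := by
      refine IsPullback.of_right (h₁₂ := pullback.fst p φ') (h₂₂ := φ') (v₁₃ := p) ?_
        (pullback.lift_snd _ _ _) (IsPullback.of_hasPullback _ _)
      rw [pullback.lift_fst, hsj]
      exact IsPullback.of_hasPullback _ _
    haveI : Flat r := MorphismProperty.of_isPullback hr.flip ‹Flat sj›
    haveI : Surjective r := MorphismProperty.of_isPullback hr.flip ‹Surjective sj›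
    exact S2539.result (X := pullback p φ) r h2 x'
  · exact h1.geometrically_isIntegral φ _ _ H
  · obtain ⟨hR, hS⟩ := (H06EGA12.geomNormal_iff_finite p ((FBase.bcπ p K).base z)).1 (h2 _)
    exact (H06EGA12.geomNormal_iff p _).2 ⟨(H06EGA12.geomHasRk_iff p _ 1).2 hR, hS⟩ K z rfl

/-- The good points of the base. -/
def goodSet {X Y : Scheme.{u}} (f : X ⟶ Y) : Set Y :=
  {y | GoodOver (k := IsLocalRing.ResidueField (Y.presheaf.stalk y)) (f.fiberToSpecResidueField y)}

theorem good_pullback_field_iff {X Y : Scheme.{u}} (f : X ⟶ Y) [LocallyOfFinitePresentation f]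
    {k₀ k : Type u} [Field k₀] [Field k] [IsAlgClosed k] (g : Spec (CommRingCat.of k₀) ⟶ Y)
    (α : CommRingCat.of k₀ ⟶ CommRingCat.of k) :
    Good (pullback f (Spec.map α ≫ g)) ↔ GoodOver (pullback.snd f g) := by
  letI : Algebra k₀ k := α.hom.toAlgebra
  haveI : LocallyOfFinitePresentation (pullback.snd f g) := MorphismProperty.pullback_snd _ _ ‹_›
  exact (good_congr (pullbackLeftPullbackSndIso f g (Spec.map α)).symm).trans
    (good_bc_iff (K := k) (pullback.snd f g))

/-- A geometric fibre is good exactly when its image is a good point. -/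
theorem good_pullback_iff {X Y : Scheme.{u}} (f : X ⟶ Y) [LocallyOfFinitePresentation f] (k : Type u) [Field k]
    [IsAlgClosed k] (σ : Spec (CommRingCat.of k) ⟶ Y) :
    Good (pullback f σ) ↔ σ (closedPoint k) ∈ goodSet f := by
  obtain ⟨y, α, hσ⟩ : ∃ (y : Y) (α : Y.residueField y ⟶ CommRingCat.of k),
      σ = Spec.map α ≫ Y.fromSpecResidueField y :=
    ⟨_, _, ((Scheme.SpecToEquivOfField k Y).symm_apply_apply σ).symm⟩
  subst hσ
  have hy : (Spec.map α ≫ Y.fromSpecResidueField y) (closedPoint k) = y :=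
    (Scheme.Hom.comp_apply _ _ _).trans (Scheme.fromSpecResidueField_apply y _)
  rw [hy]
  exact good_pullback_field_iff f (k₀ := IsLocalRing.ResidueField (Y.presheaf.stalk y))
    (Y.fromSpecResidueField y) α

end Groth.Agent.H7Lim.SurfaceFibre
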