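import Groth.Agent.H7Lim.SurfaceFibre
import Groth.Agent.H7Lim.ConstrStage
import Groth.Agent.H16Derived.BaseChange.Model
import Groth.Agent.H8Props.FibreDimApprox
import Groth.Agent.S2553
import Groth.Agent.S5933
import Groth.Agent.S13624

/-!
# Noetherian models of families of integral normal Gorenstein surfaces
-/

set_option autoImplicit false
set_option linter.style.haveILetI false
set_option backward.isDefEq.respectTransparency false

universe u

open CategoryTheory Limits AlgebraicGeometry TopologicalSpace Topology IsLocalRing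

namespace Groth.Agent.H7Lim.SurfaceModel

open SurfaceFibre

theorem isConstructible_goodSet {X Y : Scheme.{u}} (f : X ⟶ Y) [IsNoetherian Y] [IsProper f] [Flat f]
    [LocallyOfFinitePresentation f] : IsConstructible (goodSet f) := by
  have hopen : ∀ U : Set Y, IsOpen U → IsConstructible U := fun U hU =>
    (show IsRetrocompact U from fun _ _ _ => NoetherianSpace.isCompact _).isConstructible hU
  exact (hopen _ (S2553.result f)).inter ((hopen _ (S5933.result f)).inter
    ((H8Props.FibreDimApprox.isConstructible_dim_fiber_eq f 2).inter (hopen _ (S13624.result X Y f))))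

theorem exists_model (R : Type u) [CommRing R] (X : Scheme.{u}) (f : X ⟶ Spec (CommRingCat.of R))
    [IsProper f] [Flat f] [LocallyOfFinitePresentation f]
    (hfib : ∀ (k : Type u) [Field k] [IsAlgClosed k] (σ : Spec (CommRingCat.of k) ⟶ Spec (CommRingCat.of R)),
      Good (pullback f σ)) :
    ∃ (R₀ : CommRingCat.{u}) (φ : R₀ ⟶ CommRingCat.of R) (X₀ : Scheme.{u}) (f₀ : X₀ ⟶ Spec R₀) (g : X ⟶ X₀),
      IsNoetherianRing ↥R₀ ∧ IsPullback g f f₀ (Spec.map φ) ∧
      IsProper f₀ ∧ Flat f₀ ∧ LocallyOfFinitePresentation f₀ ∧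
      ∀ (k : Type u) [Field k] [IsAlgClosed k] (σ : Spec (CommRingCat.of k) ⟶ Spec R₀), Good (pullback f₀ σ) := by
  obtain ⟨A, X₀, f₀, g, hA, _, _, _, hsq⟩ := H16Derived.BaseChange.exists_proper_flat_model f
  haveI : IsNoetherianRing A := Algebra.FiniteType.isNoetherianRing ℤ _
  haveI : IsNoetherian (Spec (CommRingCat.of A)) := inferInstance
  have hgood : ∀ p : PrimeSpectrum R, PrimeSpectrum.comap A.val.toRingHom p ∈ goodSet f₀ := by
    intro p
    let k := AlgebraicClosure p.asIdeal.ResidueField
    let σ : Spec (CommRingCat.of k) ⟶ Spec (CommRingCat.of R) := Spec.map (CommRingCat.ofHom (algebraMap R k))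
    have hp : σ (closedPoint k) = p := by
      refine PrimeSpectrum.ext ?_
      show (IsLocalRing.maximalIdeal k).comap (algebraMap R k) = p.asIdeal
      rw [IsScalarTower.algebraMap_eq R p.asIdeal.ResidueField k, ← Ideal.comap_comap]
      rw [IsLocalRing.maximalIdeal_eq_bot,
        Ideal.comap_bot_of_injective (algebraMap p.asIdeal.ResidueField k) (RingHom.injective _),
        ← RingHom.ker_eq_comap_bot]
      exact p.asIdeal.ker_algebraMap_residueField
    have h1 := hfib k σ
    rw [good_congr ((IsPullback.of_hasPullback f σ).paste_horiz hsq).isoPullback] at h1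
    have h2 := (good_pullback_iff f₀ k (σ ≫ Spec.map (CommRingCat.ofHom A.val.toRingHom))).1 h1
    rw [Scheme.Hom.comp_apply, hp] at h2
    exact h2
  obtain ⟨A', hle, hA', hE⟩ :=
    ConstrStage.exists_fg_le_comap_mem A (A.fg_iff_finiteType.2 hA) (isConstructible_goodSet f₀) hgood
  let h : Spec (CommRingCat.of A') ⟶ Spec (CommRingCat.of A) :=
    Spec.map (CommRingCat.ofHom (Subalgebra.inclusion hle).toRingHom)
  let g' : X ⟶ pullback f₀ h := pullback.lift g (f ≫ Spec.map (CommRingCat.ofHom A'.val.toRingHom))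
    (by rw [Category.assoc, hsq.w, ← Spec.map_comp]; rfl)
  refine ⟨CommRingCat.of A', CommRingCat.ofHom A'.val.toRingHom, pullback f₀ h, pullback.snd f₀ h, g', ?_, ?_,
    MorphismProperty.pullback_snd _ _ ‹_›, MorphismProperty.pullback_snd _ _ ‹_›,
    MorphismProperty.pullback_snd _ _ ‹_›, fun k _ _ σ => ?_⟩
  · haveI := A'.fg_iff_finiteType.1 hA'
    exact Algebra.FiniteType.isNoetherianRing ℤ A'
  · refine IsPullback.of_right (h₁₂ := pullback.fst f₀ h) (h₂₂ := h) (v₁₃ := f₀) ?_
      (pullback.lift_snd _ _ _) (IsPullback.of_hasPullback _ _)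
    rw [pullback.lift_fst, ← Spec.map_comp]
    exact hsq
  · rw [good_congr (pullbackLeftPullbackSndIso f₀ h σ), good_pullback_iff, Scheme.Hom.comp_apply]
    exact hE _

end Groth.Agent.H7Lim.SurfaceModel
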