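import Groth.Agent.H7Lim.DescendSyntomic
import Groth.Agent.H7Lim.FinitelyPresentable
import Groth.Agent.H9CI.SyntomicScheme
import Groth.Agent.H02CA.ColimTensor

/-!
# Syntomic algebras descend along directed colimits of rings
-/

set_option autoImplicit false
set_option backward.isDefEq.respectTransparency false
set_option backward.defeqAttrib.useBackward true
set_option linter.style.haveILetI false

universe u

open CategoryTheory Limits AlgebraicGeometry TensorProduct Opposite

namespace Groth.Agent.H7Lim.SyntomicColim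

/-- The base change of `Spec C` to `Spec S` is syntomic iff the tensor product is. -/
theorem syn_snd_iff {R : CommRingCat.{u}} (C : Type u) [CommRing C] [Algebra R C] (S : Type u) [CommRing S]
    [Algebra R S] :
    syn (pullback.snd (Spec.map (CommRingCat.ofHom (algebraMap R C)))
      (Spec.map (CommRingCat.ofHom (algebraMap R S)))) ↔ Synt.IsSyntomic S (S ⊗[R] C) := by
  have h : IsPullback
      (Spec.map (CommRingCat.ofHom (Algebra.TensorProduct.includeRight : C →ₐ[R] S ⊗[R] C).toRingHom))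
      (Spec.map (CommRingCat.ofHom (algebraMap S (S ⊗[R] C))))
      (Spec.map (CommRingCat.ofHom (algebraMap R C))) (Spec.map (CommRingCat.ofHom (algebraMap R S))) :=
    (isPullback_SpecMap_of_isPushout _ _ _ _ (CommRingCat.isPushout_tensorProduct R S C).flip)
  rw [← prop_iff_of_isPullback (P := syn) h]
  exact (H9CI.isSyntomicMor_Spec_iff _).trans H9CI.syntomicHom_algebraMap

variable {R : Type u} [CommRing R]

/-- If the base change to a directed colimit is syntomic, so is the base change to some stage. -/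
theorem exists_stage {J : Type u} [Preorder J] [IsDirected J (· ≤ ·)] [Nonempty J]
    {F : J ⥤ Under (CommRingCat.of R)} (c : Cocone F) (hc : IsColimit c)
    (C : Type u) [CommRing C] [Algebra R C] [Algebra.FinitePresentation R C]
    (h : letI := c.pt.hom.hom.toAlgebra; Synt.IsSyntomic c.pt.right (c.pt.right ⊗[R] C)) :
    ∃ j : J, letI := (F.obj j).hom.hom.toAlgebra;
      Synt.IsSyntomic (F.obj j).right ((F.obj j).right ⊗[R] C) := by
  let E : Jᵒᵖ ⥤ Scheme.{u} := (F ⋙ Under.forget _).op ⋙ Scheme.Spec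
  let d : Cone E := Scheme.Spec.mapCone ((Under.forget _).mapCocone c).op
  have hd : IsLimit d :=
    isLimitOfPreserves Scheme.Spec (isColimitOfPreserves (Under.forget _) hc).op
  haveI : ∀ j, IsAffine (E.obj j) := fun j => inferInstanceAs (IsAffine (Spec _))
  haveI : ∀ (i j : Jᵒᵖ) (f : i ⟶ j), IsAffineHom (E.map f) := fun i j f => isAffineHom_of_isAffine _
  let f := Spec.map (CommRingCat.ofHom (algebraMap R C))
  let t : ∀ j : Jᵒᵖ, E.obj j ⟶ Spec (CommRingCat.of R) := fun j => Spec.map (F.obj j.unop).hom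
  haveI : LocallyOfFinitePresentation f := by
    rw [HasRingHomProperty.Spec_iff (P := @LocallyOfFinitePresentation)]
    exact RingHom.finitePresentation_algebraMap.2 ‹_›
  let e : Jᵒᵖ := op (Classical.arbitrary J)
  let a := pullback.snd f (t e)
  haveI : IsAffine (pullback f (t e)) := inferInstance
  haveI : CompactSpace (E.obj e) := inferInstance
  haveI : QuasiSeparatedSpace (E.obj e) := inferInstance
  have hpb : ∀ {B : Scheme.{u}} (b : B ⟶ E.obj e) (b' : B ⟶ Spec (CommRingCat.of R)), b ≫ t e = b' →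
      (syn (pullback.snd a b) ↔ syn (pullback.snd f b')) := by
    intro B b b' hb
    subst hb
    exact prop_iff_of_isPullback (P := syn)
      ((IsPullback.of_hasPullback a b).paste_horiz (IsPullback.of_hasPullback f (t e)))
  have hlim : syn (pullback.snd a (d.π.app e)) := by
    letI := c.pt.hom.hom.toAlgebra
    refine (hpb _ (Spec.map (CommRingCat.ofHom (algebraMap R c.pt.right))) ?_).2
      ((syn_snd_iff (R := CommRingCat.of R) C c.pt.right).2 h)
    show Spec.map (c.ι.app e.unop).right ≫ Spec.map (F.obj e.unop).hom = Spec.map c.pt.hom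
    rw [← Spec.map_comp, Under.w]
    rfl
  obtain ⟨k, φ, hk⟩ := descends_syntomic Jᵒᵖ E d hd e a
    (show LocallyOfFinitePresentation (pullback.snd f (t e)) from inferInstance) hlim
  refine ⟨k.unop, ?_⟩
  letI := (F.obj k.unop).hom.hom.toAlgebra
  refine (syn_snd_iff (R := CommRingCat.of R) C (F.obj k.unop).right).1 ((hpb _ _ ?_).1 hk)
  show Spec.map (F.map φ.unop).right ≫ Spec.map (F.obj e.unop).hom = Spec.map (F.obj k.unop).hom
  rw [← Spec.map_comp, Under.w]

theorem transfer (B : Type u) [CommRing B] (C : Type u) [CommRing C] [Algebra R C] (i₁ i₂ : Algebra R B)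
    (h : ∀ r, (letI := i₁; algebraMap R B r) = (letI := i₂; algebraMap R B r))
    (hs : letI := i₁; Synt.IsSyntomic B (B ⊗[R] C)) : letI := i₂; Synt.IsSyntomic B (B ⊗[R] C) := by
  obtain rfl := Algebra.algebra_ext i₁ i₂ h
  exact hs

/-- Syntomicity over an object of the under category made from an algebra. -/
theorem syntomic_mk'_iff (B : Type u) [CommRing B] [inst : Algebra R B] (C : Type u) [CommRing C] [Algebra R C] :
    (letI : Algebra R B := ((CommRingCat.ofHom (algebraMap R B)).hom).toAlgebra; Synt.IsSyntomic B (B ⊗[R] C)) ↔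
      Synt.IsSyntomic B (B ⊗[R] C) :=
  ⟨fun h => transfer B C ((CommRingCat.ofHom (algebraMap R B)).hom).toAlgebra inst (fun _ => rfl) h,
    fun h => transfer B C inst ((CommRingCat.ofHom (algebraMap R B)).hom).toAlgebra (fun _ => rfl) h⟩

variable {ι : Type u} {A₀ : Type u} [CommRing A₀] {G : ι → Type u} [∀ i, CommRing (G i)]
  [∀ i, Algebra A₀ (G i)] {A : Type u} [CommRing A] [Algebra A₀ A] {g : ∀ i, G i →ₐ[A₀] A}

/-- A map from a quotient of a polynomial ring by finitely many equations lifts to a stage. -/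
theorem exists_algHom_lift (hG : H02CA.ColimTensor.Approx g G A (fun i ↦ g i) (fun φ ↦ φ.1))
    {n : ℕ} (J : Ideal (MvPolynomial (Fin n) A₀)) (hJ : J.FG)
    (q : (MvPolynomial (Fin n) A₀ ⧸ J) →ₐ[A₀] A) :
    ∃ i, Nonempty ((MvPolynomial (Fin n) A₀ ⧸ J) →ₐ[A₀] G i) := by
  obtain ⟨s, hs⟩ := hJ
  obtain ⟨i₀⟩ := hG.ne
  obtain ⟨i, -, x, hx⟩ := hG.exists_lift (fun _ => 0) i₀ Finset.univ
    (fun t : Fin n => q (Ideal.Quotient.mk J (MvPolynomial.X t)))
  have hcomp : ∀ p, g i (MvPolynomial.aeval x p) = q (Ideal.Quotient.mk J p) := by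
    intro p
    show (g i).comp (MvPolynomial.aeval x) p = q.comp (Ideal.Quotient.mkₐ A₀ J) p
    exact AlgHom.congr_fun (MvPolynomial.algHom_ext fun t => by simp [hx t (Finset.mem_univ t)]) p
  obtain ⟨j, φ, hφ⟩ := hG.exists_eq i s (fun p => MvPolynomial.aeval x p) (fun _ => 0) fun p hp => by
    have hpJ : p ∈ J := hs ▸ Ideal.subset_span hp
    rw [hcomp, Ideal.Quotient.eq_zero_iff_mem.2 hpJ, map_zero, map_zero]
  have hle : J ≤ RingHom.ker (φ.1.comp (MvPolynomial.aeval x)) := by
    rw [← hs, Ideal.span_le]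
    intro p hp
    exact (hφ p hp).trans (map_zero φ.1)
  exact ⟨j, ⟨Ideal.Quotient.liftₐ J (φ.1.comp (MvPolynomial.aeval x)) fun p hp => hle hp⟩⟩

/-- If the base change to the colimit of an approximation is syntomic, so is the base change to
some member. -/
theorem exists_index (hG : H02CA.ColimTensor.Approx g G A (fun i ↦ g i) (fun φ ↦ φ.1))
    (C : Type u) [CommRing C] [Algebra A₀ C] [Algebra.FinitePresentation A₀ C]
    (h : Synt.IsSyntomic A (A ⊗[A₀] C)) : ∃ i, Synt.IsSyntomic (G i) (G i ⊗[A₀] C) := by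
  classical
  obtain ⟨s, hs⟩ := exists_stage (adjoinCocone A₀ A) (adjoinIsColimit A₀ A) C
    ((syntomic_mk'_iff A C).2 h)
  let P : Type u := Algebra.adjoin A₀ (s : Set A)
  haveI : Algebra.FiniteType A₀ P := (Algebra.adjoin A₀ (s : Set A)).fg_iff_finiteType.1 ⟨s, rfl⟩
  obtain ⟨n, π, hπ⟩ := Algebra.FiniteType.iff_quotient_mvPolynomial''.1
    (inferInstance : Algebra.FiniteType A₀ P)
  obtain ⟨J, hJ⟩ := exists_stage (quotCocone π) (quotIsColimit π hπ) C
    ((syntomic_mk'_iff P C).2 ((syntomic_mk'_iff P C).1 hs))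
  let q : (MvPolynomial (Fin n) A₀ ⧸ J.1) →ₐ[A₀] A :=
    (Algebra.adjoin A₀ (s : Set A)).val.comp (Ideal.Quotient.liftₐ J.1 π fun p hp => J.2.2 hp)
  obtain ⟨i, ⟨ψ⟩⟩ := exists_algHom_lift hG J.1 J.2.1 q
  refine ⟨i, ?_⟩
  letI := ψ.toRingHom.toAlgebra
  haveI : IsScalarTower A₀ (MvPolynomial (Fin n) A₀ ⧸ J.1) (G i) :=
    IsScalarTower.of_algHom ψ
  have hJ' : Synt.IsSyntomic (MvPolynomial (Fin n) A₀ ⧸ J.1) ((MvPolynomial (Fin n) A₀ ⧸ J.1) ⊗[A₀] C) :=
    (syntomic_mk'_iff (MvPolynomial (Fin n) A₀ ⧸ J.1) C).1 hJ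
  exact H9Synt.isSyntomic_of_algEquiv (Algebra.TensorProduct.cancelBaseChange A₀ (MvPolynomial (Fin n) A₀ ⧸ J.1) (G i) (G i) C)
    (H9CI.isSyntomic_baseChange (G i) hJ')

/-- Tensoring an approximation with an algebra gives an approximation. -/
theorem approx_tensor (hG : H02CA.ColimTensor.Approx g G A (fun i ↦ g i) (fun φ ↦ φ.1))
    (B₀ : Type u) [CommRing B₀] [Algebra A₀ B₀] :
    H02CA.ColimTensor.Approx (fun i => Algebra.TensorProduct.map (AlgHom.id B₀ B₀) (g i))
      (fun i => B₀ ⊗[A₀] G i) (B₀ ⊗[A₀] A) (fun i => Algebra.TensorProduct.map (AlgHom.id B₀ B₀) (g i))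
      (fun φ => φ.1) := by
  have hL := H02CA.ColimTensor.Approx.lTensor (R := A₀) (g := g) (fun i => (g i).toLinearMap)
    (fun φ => φ.1.toLinearMap) hG B₀
  have hv : ∀ i (x : B₀ ⊗[A₀] G i),
      Algebra.TensorProduct.map (AlgHom.id B₀ B₀) (g i) x = (g i).toLinearMap.lTensor B₀ x := by
    intro i x
    induction x using TensorProduct.induction_on with
    | zero => simp
    | tmul b a => simp
    | add a b ha hb => rw [map_add, map_add, ha, hb]
  let res : ∀ {i j}, H02CA.ColimTensor.Hom g i j →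
      H02CA.ColimTensor.Hom (fun i => Algebra.TensorProduct.map (AlgHom.id B₀ B₀) (g i)) i j :=
    fun {i j} φ => ⟨Algebra.TensorProduct.map (AlgHom.id B₀ B₀) φ.1, by
      show (Algebra.TensorProduct.map (AlgHom.id B₀ B₀) (g j)).comp
        (Algebra.TensorProduct.map (AlgHom.id B₀ B₀) φ.1) = Algebra.TensorProduct.map (AlgHom.id B₀ B₀) (g i)
      rw [← Algebra.TensorProduct.map_comp, φ.2]
      rfl⟩
  have hl : ∀ {i j} (φ : H02CA.ColimTensor.Hom g i j) (x : B₀ ⊗[A₀] G i),
      (res φ).1 x = φ.1.toLinearMap.lTensor B₀ x := by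
    intro i j φ x
    show Algebra.TensorProduct.map (AlgHom.id B₀ B₀) φ.1 x = _
    induction x using TensorProduct.induction_on with
    | zero => simp
    | tmul b a => simp
    | add a b ha hb => rw [map_add, map_add, ha, hb]
  exact
    { compat := fun φ x => AlgHom.congr_fun φ.2 x
      comp := fun _ _ _ => rfl
      dir := fun i j => by
        obtain ⟨k, ⟨a⟩, ⟨b⟩⟩ := hG.dir i j
        exact ⟨k, ⟨res a⟩, ⟨res b⟩⟩
      ne := hG.ne
      surj := fun y => by
        obtain ⟨i, x, hx⟩ := hL.surj y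
        exact ⟨i, x, (hv i x).trans hx⟩
      eq := fun i x y hxy => by
        obtain ⟨j, φ, hφ⟩ := hL.eq i x y (by rw [← hv, ← hv]; exact hxy)
        exact ⟨j, res φ, by rw [hl, hl]; exact hφ⟩ }

end Groth.Agent.H7Lim.SyntomicColim
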