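import Groth.Agent.H7Lim.Thickening

/-!
# Induction along thickenings

A property of schemes over `B` that climbs along first order thickenings and descends to a finite type
stage holds for `B` as soon as it holds for a closed subscheme with the same underlying space.
-/

set_option autoImplicit false
set_option backward.isDefEq.respectTransparency false
set_option backward.defeqAttrib.useBackward true

universe u

open AlgebraicGeometry CategoryTheory Limits TopologicalSpace

namespace Groth.Agent.H7Lim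

variable {B : Scheme.{u}} (P : ∀ ⦃X : Scheme.{u}⦄, (X ⟶ B) → Prop)

/-- `P` climbs along first order thickenings of closed subschemes of `B` with the same underlying space. -/
def ClimbsSqZero : Prop :=
  ∀ ⦃X X' : Scheme.{u}⦄ (t : X ⟶ X') (q : X' ⟶ B), IsClosedImmersion t → IsClosedImmersion q →
    Function.Surjective t → Function.Surjective q →
    (∀ (W : X'.Opens) (a b : Γ(X', W)), t.app W a = 0 → t.app W b = 0 → a * b = 0) → P (t ≫ q) → P q

theorem ClimbsSqZero.of_pow_eq_bot (hP : ClimbsSqZero P) :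
    ∀ (n : ℕ) {X X' : Scheme.{u}} (t : X ⟶ X') (q : X' ⟶ B) [IsClosedImmersion t] [IsClosedImmersion q]
      (_ : Function.Surjective t) (_ : Function.Surjective q) (_ : powSheaf t.ker (2 ^ n) = ⊥),
      P (t ≫ q) → P q := by
  intro n
  induction n with
  | zero =>
    intro X X' t q _ _ ht hq hn hPt
    have hker : t.ker = ⊥ := by
      ext U : 2
      have := congrFun (congrArg Scheme.IdealSheafData.ideal hn) U
      simpa [powSheaf] using this
    refine hP t q inferInstance inferInstance ht hq (sq_zero_of_locally t fun W y hy => ?_) hPt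
    obtain ⟨U, hU, hyU, hUW⟩ := exists_isAffineOpen_mem_and_subset hy
    refine ⟨U, hUW, hyU, fun a b ha _ => ?_⟩
    have ha' : a ∈ t.ker.ideal ⟨U, hU⟩ := by rw [Scheme.Hom.ker_apply]; exact ha
    rw [hker, Scheme.IdealSheafData.ideal_bot] at ha'
    rw [show a = 0 from ha', zero_mul]
  | succ n ih =>
    intro X X' t q _ _ ht hq hn hPt
    obtain ⟨L, hL⟩ : ∃ L, L = powSheaf t.ker 2 := ⟨_, rfl⟩
    have hle : L ≤ t.ker := by
      rw [hL]; exact fun U => Ideal.pow_le_self two_ne_zero
    have hLU : ∀ U, L.ideal U = t.ker.ideal U ^ 2 := fun U => by rw [hL]; rfl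
    obtain ⟨t', hfac⟩ : ∃ t' : X ⟶ L.subscheme, t' ≫ L.subschemeι = t :=
      ⟨IsClosedImmersion.lift L.subschemeι t (le_of_eq_of_le L.ker_subschemeι hle),
        IsClosedImmersion.lift_fac _ _ _⟩
    haveI : IsClosedImmersion (t' ≫ L.subschemeι) := hfac.symm ▸ inferInstance
    haveI : IsClosedImmersion t' := IsClosedImmersion.of_comp_isClosedImmersion _ L.subschemeι
    have hιsurj : Function.Surjective L.subschemeι := fun y => by
      obtain ⟨x, rfl⟩ := ht y
      exact ⟨t' x, congrArg (fun φ => φ x) hfac⟩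
    have ht' : Function.Surjective t' := fun y => by
      obtain ⟨x, hx⟩ := ht (L.subschemeι y)
      refine ⟨x, L.subschemeι.isClosedEmbedding.injective ?_⟩
      exact (congrArg (fun φ => φ x) hfac).trans hx
    have hιq : Function.Surjective (L.subschemeι ≫ q) := fun b => by
      obtain ⟨y, rfl⟩ := hq b
      obtain ⟨z, rfl⟩ := hιsurj y
      exact ⟨z, rfl⟩
    have hstep : P (L.subschemeι ≫ q) := by
      suffices hloc : ∀ (W : L.subscheme.Opens), ∀ y ∈ W, ∃ B' ≤ W, y ∈ B' ∧
          ∀ a b : Γ(L.subscheme, B'), t'.app B' a = 0 → t'.app B' b = 0 → a * b = 0 from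
        hP t' (L.subschemeι ≫ q) inferInstance inferInstance ht' hιq (sq_zero_of_locally t' hloc)
          (by rw [← Category.assoc, hfac]; exact hPt)
      intro W y hy
      obtain ⟨W', hW', hWW'⟩ := L.subschemeι.isClosedEmbedding.isInducing.isOpen_iff.1 W.2
      have hy' : L.subschemeι y ∈ (⟨W', hW'⟩ : X'.Opens) := by
        have hy'' : y ∈ L.subschemeι ⁻¹' W' := hWW'.symm ▸ hy
        exact hy''
      obtain ⟨U, hU, hyU, hUW⟩ := exists_isAffineOpen_mem_and_subset hy'
      refine ⟨L.subschemeι ⁻¹ᵁ U, fun z hz => ?_, hyU, fun a b ha hb => ?_⟩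
      · show z ∈ W.carrier
        rw [← hWW']; exact hUW hz
      obtain ⟨α, rfl⟩ := L.subschemeι.app_surjective U hU a
      obtain ⟨β, rfl⟩ := L.subschemeι.app_surjective U hU b
      have key : ∀ γ : Γ(X', U), t'.app _ (L.subschemeι.app U γ) = 0 → γ ∈ t.ker.ideal ⟨U, hU⟩ := by
        intro γ hγ
        rw [Scheme.Hom.ker_apply, RingHom.mem_ker]
        have h2 := Scheme.Hom.congr_app hfac.symm U
        rw [h2]
        simp [hγ]
      have : α * β ∈ L.ideal ⟨U, hU⟩ := by
        rw [hLU, sq]; exact Ideal.mul_mem_mul (key α ha) (key β hb)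
      rw [← Scheme.IdealSheafData.ker_subschemeι_app] at this
      rw [← map_mul]; exact this
    refine ih L.subschemeι q hιsurj hq ?_ hstep
    rw [Scheme.IdealSheafData.ker_subschemeι]
    refine Eq.trans ?_ hn
    ext U : 2
    simp only [hL, powSheaf, ← pow_mul]
    rw [pow_succ']

/-- The general induction: from a homeomorphic closed subscheme to the ambient scheme. -/
theorem ClimbsSqZero.of_surjective_closedImmersion [CompactSpace B] [QuasiSeparatedSpace B]
    (hP : ClimbsSqZero P) (hiso : ∀ ⦃X Y : Scheme.{u}⦄ (e : X ⟶ Y) (q : Y ⟶ B), IsIso e → P (e ≫ q) → P q)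
    {Z : Scheme.{u}} (i : Z ⟶ B) [IsClosedImmersion i] (hi : Function.Surjective i)
    (hlim : P i.ker.subschemeι → ∃ J : FTIdeal i.ker, P J.1.subschemeι) (hPi : P i) : P (𝟙 B) := by
  have h1 : P i.ker.subschemeι :=
    hiso i.toImage _ inferInstance (by
      have h2 : i.toImage ≫ i.ker.subschemeι = i := i.toImage_imageι
      rw [h2]; exact hPi)
  obtain ⟨⟨J, hJle, hJfg⟩, hJ⟩ := hlim h1
  have hnil : ∀ U : B.affineOpens, J.ideal U ≤ nilradical _ := by
    intro U a ha
    rw [mem_nilradical, Scheme.isNilpotent_iff_basicOpen_eq_bot_of_isCompact U.2.isCompact]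
    refine preimage_injective i hi ?_
    have ha' := hJle U ha
    rw [Scheme.Hom.ker_apply] at ha'
    rw [Scheme.preimage_basicOpen, show i.app U a = 0 from ha', Scheme.basicOpen_zero]
    rfl
  have hpow : ∀ U : B.affineOpens, ∃ n, J.ideal U ^ n = ⊥ := fun U => by
    obtain ⟨n, hn⟩ := (Ideal.FG.isNilpotent_iff_le_nilradical (hJfg U)).2 (hnil U)
    exact ⟨n, hn⟩
  choose n hn using hpow
  obtain ⟨S, hS, hSeq⟩ := isCompact_iff_finite_and_eq_biUnion_affineOpens.1
    (show IsCompact ((⊤ : B.Opens) : Set B) from isCompact_univ)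
  let m := ∑ U ∈ hS.toFinset, n U
  have hιsurj : Function.Surjective J.subschemeι := fun y => by
    obtain ⟨x, rfl⟩ := hi y
    have hfac : i.toImage ≫ Scheme.IdealSheafData.inclusion hJle ≫ J.subschemeι = i := by
      rw [Scheme.IdealSheafData.inclusion_subschemeι]
      exact i.toImage_imageι
    exact ⟨(i.toImage ≫ Scheme.IdealSheafData.inclusion hJle) x,
      congrArg (fun φ => φ x) ((Category.assoc _ _ _).trans hfac)⟩
  refine hP.of_pow_eq_bot P m J.subschemeι (𝟙 B) hιsurj Function.surjective_id ?_ (by rw [Category.comp_id]; exact hJ)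
  rw [Scheme.IdealSheafData.ker_subschemeι]
  refine Scheme.IdealSheafData.ext_of_iSup_eq_top (fun U : S => U.1)
    (by rw [iSup_subtype']at hSeq; exact hSeq.symm) fun U => ?_
  have hle : n U.1 ≤ 2 ^ m :=
    (Finset.single_le_sum (f := n) (fun _ _ => Nat.zero_le _) (hS.mem_toFinset.2 U.2)).trans
      (Nat.lt_two_pow_self).le
  refine le_bot_iff.1 ?_
  exact (Ideal.pow_le_pow_right hle).trans (hn U.1).le

end Groth.Agent.H7Lim
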