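import Groth.Agent.H7Lim.ThickeningInd
import Mathlib.AlgebraicGeometry.QuasiAffine

/-!
# A thickening of a quasi-affine scheme is quasi-affine

For a first order thickening a power of every global section whose non-vanishing locus is affine lifts.
-/

set_option autoImplicit false
set_option backward.isDefEq.respectTransparency false
set_option backward.defeqAttrib.useBackward true

universe u

open AlgebraicGeometry CategoryTheory Limits TopologicalSpace

namespace Groth.Agent.H7Lim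

theorem pow_sub_pow_of_sq_zero {R : Type*} [CommRing R] (a b : R) (h : (a - b) * (a - b) = 0) (K : ℕ) :
    a ^ (K + 1) - b ^ (K + 1) = ((K + 1 : ℕ) : R) * a ^ K * (a - b) := by
  induction K with
  | zero => simp
  | succ K ih =>
    push_cast at ih ⊢
    rw [pow_succ a (K + 1), pow_succ b (K + 1), pow_succ a K]
    linear_combination (b : R) * ih - ((K : R) + 1) * a ^ K * h + (pow_succ a K) * 0

variable {X X' : Scheme.{u}} (t : X ⟶ X') [IsClosedImmersion t]
  (hsq : ∀ (W : X'.Opens) (a b : Γ(X', W)), t.app W a = 0 → t.app W b = 0 → a * b = 0)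

include hsq in
/-- A power of a global section with affine non-vanishing locus lifts along a first order thickening. -/
theorem exists_lift_pow [CompactSpace X'] [QuasiSeparatedSpace X'] (ht : Function.Surjective t)
    (g : Γ(X, ⊤)) (hg : IsAffineOpen (X.basicOpen g)) :
    ∃ (K : ℕ) (F : Γ(X', ⊤)), t.appTop F = g ^ (K + 1) := by
  classical
  have hhomeo : IsHomeomorph t := isHomeomorph_iff_isEmbedding_surjective.2 ⟨t.isClosedEmbedding.isEmbedding, ht⟩
  let U' : X'.Opens := ⟨t '' (X.basicOpen g : Set X), hhomeo.isOpenMap _ (X.basicOpen g).2⟩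
  have hU'pre : t ⁻¹ᵁ U' = X.basicOpen g :=
    SetLike.coe_injective (Set.preimage_image_eq _ t.isClosedEmbedding.injective)
  have hU' : IsAffineOpen U' := by
    haveI : IsAffine (t ⁻¹ᵁ U').toScheme := hU'pre ▸ hg
    haveI : IsClosedImmersion (t ∣_ U') := MorphismProperty.of_isPullback
      (isPullback_morphismRestrict t U').flip inferInstance
    exact isAffine_of_surjective_closedImmersion (t ∣_ U') (fun y => by
      obtain ⟨x, hx⟩ := ht y.1
      refine ⟨⟨x, show t x ∈ U' from hx ▸ y.2⟩, Subtype.ext ?_⟩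
      exact (morphismRestrict_base_coe t U' _).trans hx)
  let φ : ∀ W : X'.Opens, Γ(X, ⊤) →+* Γ(X, t ⁻¹ᵁ W) := fun W => rs le_top
  have hlift : ∀ {V : X'.Opens} {a : Γ(X', V)} {b : Γ(X, ⊤)} (_ : t.app V a = φ V b) {W : X'.Opens}
      (h : W ≤ V), t.app W (rs h a) = φ W b := by
    intro V a b hab W h
    rw [app_rs, hab]
    exact rs_rs _ _ b
  have hkres : ∀ {W V : X'.Opens} (h : W ≤ V) {a : Γ(X', V)}, t.app V a = 0 → t.app W (rs h a) = 0 := by
    intro W V h a ha
    rw [app_rs, ha, map_zero]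
  obtain ⟨S, hS, hSeq⟩ := isCompact_iff_finite_and_eq_biUnion_affineOpens.1
    (show IsCompact ((⊤ : X'.Opens) : Set X') from isCompact_univ)
  haveI : Fintype S := hS.fintype
  let U : S → X'.Opens := fun i => i.1.1
  have hU : ∀ i, IsAffineOpen (U i) := fun i => i.1.2
  have hcover : (⊤ : X'.Opens) ≤ iSup U := by
    rw [iSup_subtype'] at hSeq
    exact hSeq.le
  obtain ⟨H, hH⟩ := t.app_surjective U' hU' (φ U' g)
  choose h₀ hh₀ using fun i => t.app_surjective (U i) (hU i) (φ (U i) g)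
  have hUG : ∀ i, X'.basicOpen (h₀ i) = U i ⊓ U' := by
    intro i
    apply preimage_injective t ht
    rw [Scheme.preimage_basicOpen, hh₀]
    refine (X.basicOpen_res g (homOfLE le_top).op).trans ?_
    rw [← hU'pre]; rfl
  -- extend the difference with the lift on `U'` to `U i`
  have hext : ∀ i, ∃ n : ℕ, ∀ N, n ≤ N → ∃ d : Γ(X', U i), t.app _ d = 0 ∧
      rs inf_le_left d = rs inf_le_left (h₀ i ^ N) *
        (rs (inf_le_left : U i ⊓ U' ≤ U i) (h₀ i) - rs inf_le_right H) := by
    intro i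
    let e₀ : Γ(X', U i ⊓ U') := rs inf_le_left (h₀ i) - rs inf_le_right H
    have he₀ : t.app _ e₀ = 0 := by rw [map_sub, hlift (hh₀ i), hlift hH, sub_self]
    let h1 : U i ⊓ U' ≤ X'.basicOpen (h₀ i) := (hUG i).ge
    let h2 : X'.basicOpen (h₀ i) ≤ U i ⊓ U' := (hUG i).le
    have hloc' := (hU i).isLocalization_basicOpen (h₀ i)
    have hmem : rs h2 e₀ ∈ (t.ker.ideal ⟨U i, hU i⟩).map (rs (X'.basicOpen_le (h₀ i))) := by
      have := t.ker.map_ideal_basicOpen ⟨U i, hU i⟩ (h₀ i)
      change (t.ker.ideal ⟨U i, hU i⟩).map (rs (X'.basicOpen_le (h₀ i))) = _ at this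
      rw [this, Scheme.Hom.ker_apply]
      exact hkres h2 he₀
    obtain ⟨⟨⟨d, hd⟩, ⟨_, n, rfl⟩⟩, hdn⟩ := (IsLocalization.mem_map_algebraMap_iff
      (Submonoid.powers (h₀ i)) Γ(X', X'.basicOpen (h₀ i))).1 hmem
    refine ⟨n, fun N hN => ⟨h₀ i ^ (N - n) * d, ?_, ?_⟩⟩
    · rw [Scheme.Hom.ker_apply] at hd
      rw [map_mul, show t.app _ d = 0 from hd, mul_zero]
    · replace hdn : rs h2 e₀ * rs (X'.basicOpen_le (h₀ i)) (h₀ i ^ n) =
          rs (X'.basicOpen_le (h₀ i)) d := hdn
      have := congrArg (rs h1) hdn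
      rw [map_mul, rs_rs, rs_rs, rs_rs] at this
      rw [map_mul, ← this]
      conv_rhs => rw [← Nat.sub_add_cancel hN, pow_add, map_mul]
      have hcc : rs (le_refl (U i ⊓ U')) e₀ = e₀ := by simp [rs]
      rw [hcc]
      simp only [e₀]
      ring
  choose n hn using hext
  let N := ∑ i, n i
  choose d hd0 hd using fun i => hn i N (Finset.single_le_sum (f := n) (fun _ _ => Nat.zero_le _) (Finset.mem_univ i))
  let e : ∀ i j, Γ(X', U i ⊓ U j) := fun i j =>
    rs inf_le_left (d i) - rs inf_le_right (d j) -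
      rs inf_le_left (h₀ i ^ N) * (rs inf_le_left (h₀ i) - rs inf_le_right (h₀ j))
  have he : ∀ i j, ∃ m : ℕ, ∀ M, m ≤ M → rs inf_le_left (h₀ i ^ M) * e i j = 0 := by
    intro i j
    let G' : Γ(X', U i ⊓ U j) := rs inf_le_left (h₀ i)
    have hb : X'.basicOpen G' ≤ U' := by
      show X'.basicOpen (X'.presheaf.map (homOfLE (inf_le_left : U i ⊓ U j ≤ U i)).op (h₀ i)) ≤ _
      rw [Scheme.basicOpen_res, hUG]
      exact inf_le_right.trans inf_le_right
    have hbi : X'.basicOpen G' ≤ U i := (X'.basicOpen_le _).trans inf_le_left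
    have hbj : X'.basicOpen G' ≤ U j := (X'.basicOpen_le _).trans inf_le_right
    have hzero : rs (X'.basicOpen_le G') (e i j) = 0 := by
      have h1 := congrArg (rs (le_inf hbi hb)) (hd i)
      have h2 := congrArg (rs (le_inf hbj hb)) (hd j)
      simp only [map_mul, map_sub, rs_rs] at h1 h2
      simp only [e, map_sub, map_mul, rs_rs]
      rw [h1, h2]
      have h3 := mul_eq_of_app_eq t hsq (W := X'.basicOpen G') (a := rs hbj (h₀ j ^ N))
        (b := rs hbi (h₀ i ^ N)) (c := rs hbj (h₀ j) - rs hb H)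
        (by rw [hlift (b := g ^ N) (by rw [map_pow, map_pow, hh₀]), hlift (b := g ^ N) (by rw [map_pow, map_pow, hh₀])])
        (by rw [map_sub, hlift (hh₀ j), hlift hH, sub_self])
      linear_combination -h3
    have hcpt : IsCompact ((U i ⊓ U j : X'.Opens) : Set X') :=
      QuasiSeparatedSpace.inter_isCompact _ _ (U i).2 (hU i).isCompact (U j).2 (hU j).isCompact
    have hloc' := isLocalization_basicOpen_of_qcqs hcpt
      (isQuasiSeparated_univ.of_subset (Set.subset_univ _)) G'
    obtain ⟨⟨_, m, rfl⟩, hm⟩ :=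
      (IsLocalization.map_eq_zero_iff (Submonoid.powers G') Γ(X', X'.basicOpen G') (e i j)).1 hzero
    refine ⟨m, fun M hM => ?_⟩
    rw [← Nat.sub_add_cancel hM, pow_add, map_mul, mul_assoc, map_pow _ (h₀ i) m, hm, mul_zero]
  choose m hm using he
  let M := ∑ i, ∑ j, m i j
  have hM : ∀ i j, m i j ≤ M := fun i j =>
    (Finset.single_le_sum (f := fun j => m i j) (fun _ _ => Nat.zero_le _) (Finset.mem_univ j)).trans
      (Finset.single_le_sum (f := fun i => ∑ j, m i j) (fun _ _ => Nat.zero_le _) (Finset.mem_univ i))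
  obtain ⟨K, hK⟩ : ∃ K, K = N + M := ⟨_, rfl⟩
  let τ : ∀ i, Γ(X', U i) := fun i =>
    h₀ i ^ (K + 1) - ((K + 1 : ℕ) : Γ(X', U i)) * (h₀ i ^ M * d i)
  have hτ : ∀ i, t.app _ (τ i) = φ (U i) (g ^ (K + 1)) := by
    intro i
    simp only [τ, map_sub, map_mul, map_pow, hd0, hh₀, mul_zero, sub_zero]
  have hcompat : ∀ i j, rs (inf_le_left : U i ⊓ U j ≤ U i) (τ i) = rs inf_le_right (τ j) := by
    intro i j
    have hc0 : t.app (U i ⊓ U j) (rs inf_le_left (h₀ i) - rs inf_le_right (h₀ j)) = 0 := by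
      rw [map_sub, hlift (hh₀ i), hlift (hh₀ j), sub_self]
    have h1 := mul_eq_of_app_eq t hsq (W := U i ⊓ U j)
      (a := rs inf_le_right (h₀ j ^ M)) (b := rs inf_le_left (h₀ i ^ M))
      (c := rs inf_le_right (d j))
      (by rw [hlift (b := g ^ M) (by rw [map_pow, map_pow, hh₀]), hlift (b := g ^ M) (by rw [map_pow, map_pow, hh₀])])
      (hkres _ (hd0 j))
    have h2 := hm i j M (hM i j)
    have h3 := pow_sub_pow_of_sq_zero (rs (inf_le_left : U i ⊓ U j ≤ U i) (h₀ i))
      (rs inf_le_right (h₀ j)) (hsq _ _ _ hc0 hc0) K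
    simp only [e, map_mul, map_pow, map_sub] at h1 h2
    simp only [τ, map_sub, map_mul, map_pow, map_natCast]
    subst hK
    rw [pow_add _ N M] at h3
    linear_combination h3 - ((N + M + 1 : ℕ) : Γ(X', U i ⊓ U j)) * h2 + ((N + M + 1 : ℕ) : Γ(X', U i ⊓ U j)) * h1
  obtain ⟨F, hF, -⟩ := X'.sheaf.existsUnique_gluing' U ⊤ (fun i => homOfLE le_top) hcover τ
    (fun i j => hcompat i j)
  refine ⟨K, F, X.sheaf.eq_of_locally_eq' (fun i => t ⁻¹ᵁ U i) ⊤ (fun i => homOfLE le_top) ?_ _ _ fun i => ?_⟩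
  · intro x _
    obtain ⟨i, hi⟩ := Opens.mem_iSup.1 (hcover (show t x ∈ (⊤ : X'.Opens) from trivial))
    exact Opens.mem_iSup.2 ⟨i, hi⟩
  · show rs le_top (t.app ⊤ F) = φ (U i) (g ^ (K + 1))
    rw [← hτ i]
    have := congrArg (t.app (U i)) (hF i)
    refine Eq.trans ?_ this
    exact (app_rs t le_top F).symm

include hsq in
/-- A first order thickening of a quasi-affine scheme is quasi-affine. -/
theorem isQuasiAffine_of_sq_zero [X.IsQuasiAffine] (ht : Function.Surjective t) : X'.IsQuasiAffine := by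
  have hhomeo : IsHomeomorph t := isHomeomorph_iff_isEmbedding_surjective.2 ⟨t.isClosedEmbedding.isEmbedding, ht⟩
  haveI : CompactSpace X' := ⟨by rw [← ht.range_eq]; exact isCompact_range t.continuous⟩
  haveI : QuasiSeparatedSpace X' := hhomeo.homeomorph.symm.isOpenEmbedding.quasiSeparatedSpace
  refine Scheme.IsQuasiAffine.of_forall_exists_mem_basicOpen X' fun y => ?_
  obtain ⟨x, rfl⟩ := ht y
  obtain ⟨_, ⟨_, ⟨g, hg, rfl⟩, rfl⟩, hxg, -⟩ :=
    (Scheme.IsQuasiAffine.isBasis_basicOpen X).exists_subset_of_mem_open (Set.mem_univ x) isOpen_univ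
  obtain ⟨K, F, hF⟩ := exists_lift_pow t hsq ht g hg
  have hpre : t ⁻¹ᵁ X'.basicOpen F = X.basicOpen g := by
    rw [Scheme.preimage_basicOpen_top, hF, Scheme.basicOpen_pow _ _ (K.succ_pos)]
  refine ⟨F, ?_, show x ∈ t ⁻¹ᵁ X'.basicOpen F by rw [hpre]; exact hxg⟩
  haveI : IsAffine (t ⁻¹ᵁ X'.basicOpen F).toScheme := hpre ▸ hg
  haveI : IsClosedImmersion (t ∣_ X'.basicOpen F) := MorphismProperty.of_isPullback
    (isPullback_morphismRestrict t (X'.basicOpen F)).flip inferInstance
  exact isAffine_of_surjective_closedImmersion (t ∣_ X'.basicOpen F) (fun z => by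
    obtain ⟨x', hx'⟩ := ht z.1
    refine ⟨⟨x', show t x' ∈ X'.basicOpen F from hx' ▸ z.2⟩, Subtype.ext ?_⟩
    exact (morphismRestrict_base_coe t _ _).trans hx')

/-- A scheme receiving a surjective closed immersion from a quasi-affine scheme is quasi-affine. -/
theorem isQuasiAffine_of_surjective_closedImmersion {Z Y : Scheme.{u}} (i : Z ⟶ Y) [IsClosedImmersion i]
    [Z.IsQuasiAffine] (hi : Function.Surjective i) : Y.IsQuasiAffine := by
  have hhomeo : IsHomeomorph i := isHomeomorph_iff_isEmbedding_surjective.2 ⟨i.isClosedEmbedding.isEmbedding, hi⟩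
  haveI : CompactSpace Y := ⟨by rw [← hi.range_eq]; exact isCompact_range i.continuous⟩
  haveI : QuasiSeparatedSpace Y := hhomeo.homeomorph.symm.isOpenEmbedding.quasiSeparatedSpace
  have hP : ClimbsSqZero (B := Y) (fun X _ => X.IsQuasiAffine) := by
    intro X X' t _ _ _ ht _ hsq h
    haveI : X.IsQuasiAffine := h
    exact isQuasiAffine_of_sq_zero t hsq ht
  refine hP.of_surjective_closedImmersion _ (fun X Z' e _ he h => ?_) i hi (fun h => ?_) ‹_›
  · haveI : X.IsQuasiAffine := h
    haveI := he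
    exact Scheme.IsQuasiAffine.of_isAffineHom (inv e)
  · haveI : (ftCone i.ker).pt.IsQuasiAffine := h
    haveI : ∀ {j k} (f : j ⟶ k), IsAffineHom ((ftSystem i.ker).map f) := fun {j k} f =>
      haveI := isClosedImmersion_ftSystem_map i.ker f; inferInstance
    haveI : ∀ J, CompactSpace ((ftSystem i.ker).obj J) := fun J =>
      QuasiCompact.compactSpace_of_compactSpace J.unop.1.subschemeι
    haveI : ∀ J, QuasiSeparatedSpace ((ftSystem i.ker).obj J) := fun J =>
      quasiSeparatedSpace_of_quasiSeparated J.unop.1.subschemeι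
    obtain ⟨J, hJ⟩ := Scheme.exists_isQuasiAffine_of_isLimit (ftSystem i.ker) (ftCone i.ker) (isLimitFtCone i.ker)
    exact ⟨J.unop, hJ⟩

end Groth.Agent.H7Lim
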