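import Groth.Agent.H7Lim.GrpPropStage
import Groth.Agent.H7Lim.FPDescent.Exists
import Groth.Agent.H7Lim.DescendIso
import Groth.Agent.H7Lim.DescendFlat
import Groth.Agent.H17.Reduced

/-!
# Torsors in a cofiltered limit
-/

set_option autoImplicit false
set_option linter.style.haveILetI false
set_option maxHeartbeats 400000
set_option backward.isDefEq.respectTransparency false
set_option backward.defeqAttrib.useBackward true

universe u

open CategoryTheory Limits AlgebraicGeometry MonoidalCategory CartesianMonoidalCategory MonObj TopologicalSpace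

namespace Groth.Agent.H7Lim.OverStage

theorem isIso_left_iff {S : Scheme.{u}} {A B : Over S} (v : A ⟶ B) : IsIso v.left ↔ IsIso v := by
  refine ⟨fun h => ?_, fun h => (Over.forget S).map_isIso v⟩
  haveI : IsIso ((Over.forget S).map v) := h
  exact isIso_of_reflects_iso v (Over.forget S)

theorem lift_map_eq {C E : Type*} [Category* C] [Category* E] [CartesianMonoidalCategory C]
    [CartesianMonoidalCategory E] (F : C ⥤ E) [F.Monoidal] {A B : C} (a : A ⊗ B ⟶ B) :
    lift (Functor.LaxMonoidal.μ F A B ≫ F.map a) (snd (F.obj A) (F.obj B)) =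
      Functor.LaxMonoidal.μ F A B ≫ F.map (lift a (snd A B)) ≫ Functor.OplaxMonoidal.δ F B B := by
  apply CartesianMonoidalCategory.hom_ext
  · simp
  · simp

theorem isIso_lift_map_iff {S S' : Scheme.{u}} (f : S' ⟶ S) {A B : Over S} (a : A ⊗ B ⟶ B) :
    IsIso (lift (Functor.LaxMonoidal.μ (Over.pullback f) A B ≫ (Over.pullback f).map a)
      (snd (Red.bc f A) (Red.bc f B))) ↔ IsIso ((Over.pullback f).map (lift a (snd A B))).left := by
  rw [lift_map_eq, isIso_comp_left_iff, isIso_comp_right_iff]
  exact (isIso_left_iff _).symm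

theorem isPullback_map_left {S S' : Scheme.{u}} (f : S' ⟶ S) {X Y : Over S} (v : X ⟶ Y) :
    IsPullback (pullback.fst X.hom f) ((Over.pullback f).map v).left v.left (pullback.fst Y.hom f) := by
  refine IsPullback.of_bot ?_ (map_left_fst f v).symm (IsPullback.of_hasPullback Y.hom f)
  have h1 : ((Over.pullback f).map v).left ≫ pullback.snd Y.hom f = pullback.snd X.hom f :=
    Over.w ((Over.pullback f).map v)
  rw [h1, Over.w v]
  exact IsPullback.of_hasPullback X.hom f

theorem isIso_map_left_later {S S' S'' : Scheme.{u}} {g : S'' ⟶ S'} {f : S' ⟶ S} {h : S'' ⟶ S} (w : g ≫ f = h)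
    {X Y : Over S} (v : X ⟶ Y) (e : IsIso ((Over.pullback f).map v).left) :
    IsIso ((Over.pullback h).map v).left := by
  haveI : IsIso ((Over.pullback f).map v) := (isIso_left_iff _).1 e
  have : IsIso ((Over.pullback g).map ((Over.pullback f).map v) ≫ (compIso w Y).hom) := inferInstance
  have h2 : (Over.pullback g).map ((Over.pullback f).map v) ≫ (compIso w Y).hom =
      (compIso w X).hom ≫ (Over.pullback h).map v := by
    apply bc_hom_ext
    rw [Over.comp_left, Over.comp_left, Category.assoc, Category.assoc, compIso_hom_left_fst, map_left_fst,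
      ← Category.assoc, map_left_fst, Category.assoc, map_left_fst, ← Category.assoc, ← Category.assoc,
      compIso_hom_left_fst]
  rw [h2, isIso_comp_left_iff] at this
  exact (isIso_left_iff _).2 this

/-- The covering condition for the fppf topology. -/
def Cov {T : Scheme.{u}} (X : Over T) : Prop :=
  ∃ (Z : Scheme.{u}) (v : Z ⟶ T) (w : Z ⟶ X.left), w ≫ X.hom = v ∧
    Flat v ∧ Surjective v ∧ LocallyOfFinitePresentation v ∧ QuasiCompact v ∧ QuasiSeparated v

theorem cov_later {S S' S'' : Scheme.{u}} {g : S'' ⟶ S'} {f : S' ⟶ S} {h : S'' ⟶ S} (w₀ : g ≫ f = h) {X : Over S}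
    (hc : Cov (Red.bc f X)) : Cov (Red.bc h X) := by
  obtain ⟨Z, v, w, hw, hfl, hs, hp, hq, hqs⟩ := hc
  have e : (pullback.fst v g ≫ w ≫ pullback.fst X.hom f) ≫ X.hom = pullback.snd v g ≫ h := by
    rw [Category.assoc, Category.assoc, pullback.condition, ← Category.assoc w,
      show w ≫ pullback.snd X.hom f = v from hw, ← Category.assoc, pullback.condition, Category.assoc, w₀]
  exact ⟨pullback v g, pullback.snd v g, pullback.lift _ _ e, pullback.lift_snd _ _ _,
    MorphismProperty.pullback_snd _ _ hfl, MorphismProperty.pullback_snd _ _ hs,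
    MorphismProperty.pullback_snd _ _ hp, MorphismProperty.pullback_snd _ _ hq,
    MorphismProperty.pullback_snd _ _ hqs⟩

variable {I : Type u} [Category.{u} I] [IsCofiltered I] {D : I ⥤ Scheme.{u}} {c : Cone D}
  [∀ (i i' : I) (f : i ⟶ i'), IsAffineHom (D.map f)]

theorem exists_iso_stage (hc : IsLimit c) {j : I} {X Y : Over (D.obj j)} [CompactSpace X.left]
    [QuasiSeparatedSpace X.left] [CompactSpace Y.left] [QuasiSeparatedSpace Y.left] (v : X ⟶ Y)
    [LocallyOfFinitePresentation v.left] (h : IsIso ((Over.pullback (c.π.app j)).map v).left) :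
    ∃ (i : I) (f : i ⟶ j), IsIso ((Over.pullback (D.map f)).map v).left := by
  obtain ⟨i, φ, Xi, Yi, fi, gi, pY, pX, hY, hX, hfi⟩ := exists_descend_square hc
    (P := MorphismProperty.isomorphisms Scheme.{u}) (Q := @LocallyOfFinitePresentation) j v.left Y.hom
    descends_isIso (IsPullback.of_hasPullback Y.hom (c.π.app j)) (isPullback_map_left _ v) ‹_› h
  refine ⟨i, φ, ?_⟩
  let e := hY.isoPullback
  have hX' : IsPullback pX (fi ≫ e.hom) v.left (pullback.fst Y.hom (D.map φ)) :=
    hX.of_iso (Iso.refl _) (Iso.refl _) e (Iso.refl _) (by simp) (by simp) (by simp)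
      (by simp only [Iso.refl_hom, Category.comp_id]; exact hY.isoPullback_hom_fst.symm)
  have h2 := hX'.isoIsPullback _ _ (isPullback_map_left (D.map φ) v)
  have e2 : (hX'.isoIsPullback _ _ (isPullback_map_left (D.map φ) v)).hom ≫
      ((Over.pullback (D.map φ)).map v).left = fi ≫ e.hom := IsPullback.isoIsPullback_hom_snd _ _ _ _
  haveI : IsIso fi := hfi
  haveI : IsIso (fi ≫ e.hom) := inferInstance
  rw [← e2] at this
  exact (isIso_comp_left_iff _ _).1 this

/-- A flat cover in the limit comes from a stage. -/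
theorem exists_cov_stage (hc : IsLimit c) [∀ i, CompactSpace (D.obj i)] [∀ i, QuasiSeparatedSpace (D.obj i)]
    {j : I} (X : Over (D.obj j)) [LocallyOfFinitePresentation X.hom] (h : Cov (Red.bc (c.π.app j) X)) :
    ∃ (i : I) (f : i ⟶ j), Cov (Red.bc (D.map f) X) := by
  obtain ⟨Z, v, w, hw, hfl, hs, hp, hq, hqs⟩ := h
  obtain ⟨k₀, ⟨M₀⟩⟩ := FPDescent.exists_model hc v
  let k := IsCofiltered.min j k₀
  let f₀ : k ⟶ j := IsCofiltered.minToLeft j k₀
  let M := M₀.shift (IsCofiltered.minToRight j k₀)
  haveI : QuasiCompact (Over.mk M.p).hom := M.qc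
  haveI : QuasiSeparated (Over.mk M.p).hom := M.qs
  haveI := compactSpace_left (Over.mk M.p)
  haveI := quasiSeparatedSpace_left (Over.mk M.p)
  haveI : CompactSpace M.P := ‹CompactSpace (Over.mk M.p).left›
  haveI : QuasiSeparatedSpace M.P := ‹QuasiSeparatedSpace (Over.mk M.p).left›
  obtain ⟨k₁, a, ha⟩ := exists_factor_stage hc k M.p (M.p ≫ D.map f₀) X.hom
    ⟨M.hpb.isoPullback.inv ≫ w ≫ pullback.fst X.hom (c.π.app j), by
      rw [Category.assoc, Category.assoc, pullback.condition, ← Category.assoc w,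
        show w ≫ pullback.snd X.hom (c.π.app j) = v from hw, ← Category.assoc M.hpb.isoPullback.inv,
        M.hpb.isoPullback_inv_snd, ← Category.assoc (pullback.fst M.p _), pullback.condition, Category.assoc, c.w]⟩
  haveI : LocallyOfFinitePresentation M.p := M.lfp
  obtain ⟨k₂, b, hb⟩ := exists_descend hc (P := @Flat) (Q := @LocallyOfFinitePresentation) descendsAffine_flat
    k M.p M.lfp (by rw [← M.hpb.isoPullback_inv_snd]; exact MorphismProperty.comp_mem _ _ _ inferInstance hfl)
  -- the image of the flat model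
  let p₂ := pullback.snd M.p (D.map b)
  haveI : Flat p₂ := hb
  haveI : UniversallyOpen p₂ := inferInstance
  let U : (D.obj k₂).Opens := ⟨Set.range p₂, p₂.isOpenMap.isOpen_range⟩
  let C := Scheme.IdealSheafData.vanishingIdeal (⟨(U : Set (D.obj k₂))ᶜ, U.2.isClosed_compl⟩ : Closeds (D.obj k₂))
  haveI : IsClosedImmersion C.subschemeι := IsClosedImmersion.instSubschemeι _
  haveI : CompactSpace C.subscheme := QuasiCompact.compactSpace_of_compactSpace C.subschemeι
  obtain ⟨k₃, d, hd⟩ := exists_isEmpty_pullback D k₂ C.subschemeι hc ⟨fun x => by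
    obtain ⟨z, hz⟩ := hs.surj (pullback.snd C.subschemeι (c.π.app k₂) x)
    have h1 : C.subschemeι (pullback.fst C.subschemeι (c.π.app k₂) x) ∈ (U : Set (D.obj k₂)) := by
      rw [← Scheme.Hom.comp_apply, pullback.condition, Scheme.Hom.comp_apply, ← hz]
      refine ⟨pullback.lift M.g (v ≫ c.π.app k₂) (by rw [Category.assoc, c.w, M.hpb.w]) z, ?_⟩
      rw [← Scheme.Hom.comp_apply, pullback.lift_snd, Scheme.Hom.comp_apply]
      rfl
    have h2 : C.subschemeι (pullback.fst C.subschemeι (c.π.app k₂) x) ∈ Set.range C.subschemeι := ⟨_, rfl⟩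
    rw [H17.range_vanishingIdeal_subschemeι] at h2
    exact h2 h1⟩
  obtain ⟨i, α, β, hαβ⟩ := IsCofiltered.cospan a (d ≫ b)
  obtain ⟨s, hs'⟩ := ha α
  let vi := pullback.snd M.p (D.map (α ≫ a))
  have hfac : D.map (β ≫ d) ≫ D.map b = D.map (α ≫ a) := by rw [← D.map_comp, hαβ, Category.assoc]
  have hp₂ : IsPullback (pullback.lift (pullback.fst M.p (D.map (α ≫ a))) (vi ≫ D.map (β ≫ d))
      (by rw [Category.assoc, hfac, pullback.condition])) vi p₂ (D.map (β ≫ d)) := by
    refine IsPullback.of_right (h₁₂ := pullback.fst M.p (D.map b)) (h₂₂ := D.map b) (v₁₃ := M.p) ?_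
      (pullback.lift_snd _ _ _) (IsPullback.of_hasPullback _ _)
    rw [pullback.lift_fst, hfac]
    exact IsPullback.of_hasPullback _ _
  have hflat : Flat vi := MorphismProperty.of_isPullback hp₂ hb
  have hsurj : Surjective vi := by
    refine ⟨fun y => ?_⟩
    have hy : D.map (β ≫ d) y ∈ (U : Set (D.obj k₂)) := by
      by_contra hy
      rw [D.map_comp, Scheme.Hom.comp_apply] at hy
      obtain ⟨t, ht⟩ : D.map d (D.map β y) ∈ Set.range C.subschemeι := by
        rw [H17.range_vanishingIdeal_subschemeι]; exact hy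
      obtain ⟨z, -, -⟩ := Scheme.Pullback.exists_preimage_pullback (f := C.subschemeι) (g := D.map d) t _ ht
      exact hd.false z
    obtain ⟨t, ht⟩ := hy
    obtain ⟨z, -, hz⟩ := Scheme.Pullback.exists_preimage_pullback (f := p₂) (g := D.map (β ≫ d)) t y ht
    refine ⟨hp₂.isoPullback.inv z, ?_⟩
    rw [← Scheme.Hom.comp_apply, hp₂.isoPullback_inv_snd]
    exact hz
  have e : s ≫ X.hom = vi ≫ D.map ((α ≫ a) ≫ f₀) := by
    rw [hs', ← Category.assoc, pullback.condition, Category.assoc, ← D.map_comp]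
  exact ⟨i, (α ≫ a) ≫ f₀, pullback M.p (D.map (α ≫ a)), vi, pullback.lift s vi e, pullback.lift_snd _ _ _,
    hflat, hsurj, MorphismProperty.pullback_snd _ _ M.lfp, MorphismProperty.pullback_snd _ _ M.qc,
    MorphismProperty.pullback_snd _ _ M.qs⟩

/-- Torsors descend to a stage. -/
theorem torsor_iff (hc : IsLimit c) [∀ i, CompactSpace (D.obj i)] [∀ i, QuasiSeparatedSpace (D.obj i)]
    {j : I} {G X : Over (D.obj j)} (a : G ⊗ X ⟶ X) [LocallyOfFinitePresentation G.hom] [QuasiCompact G.hom]
    [QuasiSeparated G.hom] [LocallyOfFinitePresentation X.hom] [QuasiCompact X.hom] [QuasiSeparated X.hom] :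
    (IsIso (lift (Functor.LaxMonoidal.μ (Over.pullback (c.π.app j)) G X ≫ (Over.pullback (c.π.app j)).map a)
        (snd (Red.bc (c.π.app j) G) (Red.bc (c.π.app j) X))) ∧ Cov (Red.bc (c.π.app j) X)) ↔
      ∃ (i : I) (f : i ⟶ j),
        IsIso (lift (Functor.LaxMonoidal.μ (Over.pullback (D.map f)) G X ≫ (Over.pullback (D.map f)).map a)
          (snd (Red.bc (D.map f) G) (Red.bc (D.map f) X))) ∧ Cov (Red.bc (D.map f) X) := by
  constructor
  · rintro ⟨h1, h2⟩
    haveI := compactSpace_tensor G X
    haveI := quasiSeparatedSpace_tensor G X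
    haveI := compactSpace_tensor X X
    haveI := quasiSeparatedSpace_tensor X X
    let v := lift a (snd G X)
    haveI : LocallyOfFinitePresentation (G ⊗ X).hom := by
      show LocallyOfFinitePresentation (pullback.fst G.hom X.hom ≫ G.hom)
      infer_instance
    haveI : LocallyOfFiniteType (X ⊗ X).hom := by
      show LocallyOfFiniteType (pullback.fst X.hom X.hom ≫ X.hom)
      infer_instance
    haveI : LocallyOfFinitePresentation (v.left ≫ (X ⊗ X).hom) := by rw [Over.w v]; infer_instance
    haveI : LocallyOfFinitePresentation v.left := locallyOfFinitePresentation_of_comp v.left (X ⊗ X).hom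
    obtain ⟨i₁, f₁, hf₁⟩ := exists_iso_stage hc v ((isIso_lift_map_iff _ a).1 h1)
    obtain ⟨i₂, f₂, hf₂⟩ := exists_cov_stage hc X h2
    obtain ⟨i, α, β, hαβ⟩ := IsCofiltered.cospan f₁ f₂
    refine ⟨i, α ≫ f₁, (isIso_lift_map_iff _ a).2 (isIso_map_left_later (D.map_comp α f₁).symm v hf₁),
      cov_later (g := D.map β) ?_ hf₂⟩
    rw [← D.map_comp, hαβ]
  · rintro ⟨i, f, h1, h2⟩
    exact ⟨(isIso_lift_map_iff _ a).2 (isIso_map_left_later (c.w f) _ ((isIso_lift_map_iff _ a).1 h1)),
      cov_later (c.w f) h2⟩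

end Groth.Agent.H7Lim.OverStage
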